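import Mathlib.RingTheory.Henselian
import Mathlib.RingTheory.Etale.StandardEtale
import Mathlib.RingTheory.Unramified.LocalStructure
import Mathlib.RingTheory.LocalRing.ResidueField.Basic
import Groth.Prelude.Def_EssEt
import Groth.Agent.S2782

set_option autoImplicit false

namespace Groth.Agent.H14

universe u

open Polynomial IsLocalRing

theorem exists_lift_of_standardEtalePresentation {A S B : Type u} [CommRing A] [CommRing S]
    [Algebra A S] [CommRing B] [HenselianLocalRing B] [Algebra A B]
    (P : StandardEtalePresentation A S) (ρ : S →ₐ[A] ResidueField B) :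
    ∃ φ : S →ₐ[A] B, ∀ s, residue B (φ s) = ρ s := by
  have hmap : P.P.HasMap (ρ P.x) := P.hasMap.map ρ
  have hder : IsUnit (aeval (ρ P.x) (derivative P.f)) := hmap.isUnit_derivative_f
  have hH := ((HenselianLocalRing.TFAE B).out 0 1).mp ‹HenselianLocalRing B›
  obtain ⟨b, hb1, hb2⟩ := hH (P.f.map (algebraMap A B)) (P.monic_f.map _) (ρ P.x)
    (by rw [aeval_map_algebraMap]; exact hmap.1)
    (by rw [derivative_map, aeval_map_algebraMap]; exact hder.ne_zero)
  have hres : ∀ p : A[X], residue B (aeval b p) = aeval (ρ P.x) p := by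
    intro p
    have := aeval_algHom_apply (IsScalarTower.toAlgHom A B (ResidueField B)) b p
    simp only [IsScalarTower.coe_toAlgHom', ResidueField.algebraMap_eq] at this
    rw [← this, hb2]
  have hb : P.P.HasMap b := by
    refine ⟨?_, ?_⟩
    · have : aeval b P.f = eval b (P.f.map (algebraMap A B)) := by
        rw [eval_map_algebraMap]
      rw [this]; exact hb1
    · have h1 : residue B (aeval b P.g) ≠ 0 := by rw [hres]; exact hmap.2.ne_zero
      by_contra hnu
      exact h1 ((residue_eq_zero_iff _).mpr ((mem_maximalIdeal _).mpr hnu))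
  refine ⟨(P.P.lift b hb).comp P.equivRing.toAlgHom, ?_⟩
  have key : (IsScalarTower.toAlgHom A B (ResidueField B)).comp
      ((P.P.lift b hb).comp P.equivRing.toAlgHom) = ρ := by
    apply P.hom_ext
    change residue B ((P.P.lift b hb) (P.equivRing P.x)) = ρ P.x
    rw [P.equivRing_x, StandardEtalePair.lift_X]
    exact hb2
  intro s
  have := DFunLike.congr_fun key s
  simpa only [AlgHom.comp_apply, IsScalarTower.coe_toAlgHom', ResidueField.algebraMap_eq]
    using this

theorem exists_lift_of_etale {A C B : Type u} [CommRing A] [CommRing C] [Algebra A C]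
    [Algebra.Etale A C] [CommRing B] [HenselianLocalRing B] [Algebra A B]
    (ρ : C →ₐ[A] ResidueField B) :
    ∃ φ : C →ₐ[A] B, ∀ c, residue B (φ c) = ρ c := by
  have hprime : (RingHom.ker ρ.toRingHom).IsPrime := RingHom.ker_isPrime ρ.toRingHom
  obtain ⟨f, hf, hstd⟩ := Algebra.IsEtaleAt.exists_isStandardEtale (R := A) (RingHom.ker ρ.toRingHom)
  have hfu : ∀ y : Submonoid.powers f, IsUnit (ρ y) := by
    rintro ⟨_, n, rfl⟩
    rw [map_pow]
    apply IsUnit.pow
    rw [isUnit_iff_ne_zero]
    exact fun h => hf h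
  let ρf : Localization.Away f →ₐ[A] ResidueField B :=
    IsLocalization.liftAlgHom (M := Submonoid.powers f) (f := ρ) hfu
  obtain ⟨φf, hφf⟩ := exists_lift_of_standardEtalePresentation
    hstd.nonempty_standardEtalePresentation.some ρf
  refine ⟨φf.comp (IsScalarTower.toAlgHom A C (Localization.Away f)), fun c => ?_⟩
  rw [AlgHom.comp_apply, hφf]
  simp [ρf]

theorem exists_lift_localization {A C B : Type u} [CommRing A] [CommRing C] [Algebra A C]
    [Algebra.Etale A C] [CommRing B] [HenselianLocalRing B] [Algebra A B]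
    (ρ : C →ₐ[A] ResidueField B) (q : Ideal C) [q.IsPrime]
    (hq : ∀ c, ρ c = 0 ↔ c ∈ q) :
    ∃ φ : Localization.AtPrime q →ₐ[A] B,
      ∀ c : C, residue B (φ (algebraMap C (Localization.AtPrime q) c)) = ρ c := by
  obtain ⟨φ₀, hφ₀⟩ := exists_lift_of_etale ρ
  have hu : ∀ y : q.primeCompl, IsUnit (φ₀ y) := by
    rintro ⟨y, hy⟩
    by_contra hnu
    have : residue B (φ₀ y) = 0 := (residue_eq_zero_iff _).mpr ((mem_maximalIdeal _).mpr hnu)
    rw [hφ₀, hq] at this
    exact hy this
  refine ⟨IsLocalization.liftAlgHom (M := q.primeCompl) (f := φ₀) hu, fun c => ?_⟩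
  rw [IsLocalization.liftAlgHom_apply, IsLocalization.lift_eq]
  exact hφ₀ c

theorem existsUnique_localHom_of_essentiallyEtale (A A' : Type u) [CommRing A] [IsLocalRing A]
    [CommRing A'] [IsLocalRing A'] [Algebra A A'] [IsLocalHom (algebraMap A A')]
    (hA' : EGA4loc.IsEssentiallyEtale A A')
    (B : Type u) [CommRing B] [HenselianLocalRing B]
    (ψ : A →+* B) [IsLocalHom ψ]
    (α : ResidueField A' →+* ResidueField B)
    (hα : α.comp (ResidueField.map (algebraMap A A')) = ResidueField.map ψ) :
    ∃! ψ' : A' →+* B, IsLocalHom ψ' ∧ ψ'.comp (algebraMap A A') = ψ ∧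
      ∀ x : A', residue B (ψ' x) = α (residue A' x) := by
  letI algB : Algebra A B := ψ.toAlgebra
  obtain ⟨hfe, heft⟩ := Groth.Agent.S2782.instances_of_isEssentiallyEtale hA'
  obtain ⟨C, _, _, q, _, hC, hqA, ⟨e⟩⟩ := hA'
  let ρ₀ : C →+* ResidueField B :=
    α.comp ((residue A').comp
      ((e.symm : Localization.AtPrime q →+* A').comp (algebraMap C (Localization.AtPrime q))))
  have hρ₀ : ∀ a : A, ρ₀ (algebraMap A C a) = algebraMap A (ResidueField B) a := by
    intro a
    simp only [ρ₀, RingHom.comp_apply]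
    rw [← IsScalarTower.algebraMap_apply A C (Localization.AtPrime q)]
    have h1 : (e.symm : Localization.AtPrime q →+* A') (algebraMap A _ a) = algebraMap A A' a :=
      e.symm.commutes a
    rw [h1]
    have h2 := congrArg (fun f => f (residue A a)) hα
    simp only [RingHom.comp_apply, ResidueField.map_residue] at h2
    rw [h2, IsScalarTower.algebraMap_apply A B (ResidueField B), ResidueField.algebraMap_eq]
    rfl
  let ρ : C →ₐ[A] ResidueField B := { ρ₀ with commutes' := hρ₀ }
  have hq : ∀ c, ρ c = 0 ↔ c ∈ q := by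
    intro c
    change α (residue A' (e.symm (algebraMap C _ c))) = 0 ↔ _
    rw [map_eq_zero_iff α α.injective, residue_eq_zero_iff,
      ← IsLocalization.AtPrime.to_map_mem_maximal_iff (Localization.AtPrime q) q c,
      mem_maximalIdeal, mem_maximalIdeal, mem_nonunits_iff, mem_nonunits_iff]
    exact not_congr (isUnit_map_iff e.symm _)
  obtain ⟨φ, hφ⟩ := exists_lift_localization ρ q hq
  let ψ'₀ : A' →ₐ[A] B := φ.comp e.toAlgHom
  have hres : ∀ x : A', residue B (ψ'₀ x) = α (residue A' x) := by
    have h2 : ((residue B).comp (φ : Localization.AtPrime q →+* B)) =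
        (α.comp ((residue A').comp (e.symm : Localization.AtPrime q →+* A'))) := by
      apply IsLocalization.ringHom_ext q.primeCompl
      ext c
      exact hφ c
    intro x
    have h3 := congrArg (fun f => f (e x)) h2
    simp only [RingHom.comp_apply] at h3
    have h4 : (e.symm : Localization.AtPrime q →+* A') (e x) = x := e.symm_apply_apply x
    rw [h4] at h3
    exact h3
  refine ⟨ψ'₀.toRingHom, ⟨?_, ?_, hres⟩, ?_⟩
  · constructor
    intro x hx
    have h1 : residue B (ψ'₀ x) ≠ 0 := by
      intro h0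
      rw [residue_eq_zero_iff, mem_maximalIdeal, mem_nonunits_iff] at h0
      exact h0 hx
    rw [hres] at h1
    have h3 : residue A' x ≠ 0 := fun h => h1 (by rw [h, map_zero])
    by_contra hnu
    exact h3 ((residue_eq_zero_iff _).mpr ((mem_maximalIdeal _).mpr hnu))
  · ext a
    exact ψ'₀.commutes a
  · rintro ψ'' ⟨hloc, hcomp, hres''⟩
    let ψ''ₐ : A' →ₐ[A] B :=
      { ψ'' with commutes' := fun a => congrArg (fun f => f a) hcomp }
    have : ψ''ₐ = ψ'₀ :=
      Groth.Agent.S2782.algHom_eq_of_residue_eq ψ''ₐ ψ'₀ (fun x => by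
        rw [hres]; exact hres'' x)
    ext x
    exact DFunLike.congr_fun this x

end Groth.Agent.H14
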