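import Mathlib
import Groth.Agent.H79.RegCM

/-!
# Parameters with the annihilator condition (Popescu / Stacks 07F-type lemma)

* `exists_good`: in a Noetherian ring, if `a` is a nonzerodivisor modulo `J` after localizing at the
  prime `q`, then some `t ∉ q` makes `Ann(t a) = Ann((t a)^2)` modulo `J`.
* `regular_mod_pows`: in a regular local ring with generators `g` of the maximal ideal, `g i` is a
  nonzerodivisor modulo `(g_0^e, …, g_{i-1}^e)`.
* `main`: the existence of parameters with the annihilator condition.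
-/

set_option autoImplicit false
universe u

namespace Groth.Agent.H14.AnnParams

open IsLocalRing

section colon

variable {Λ : Type u} [CommRing Λ]

/-- The colon ideal `(J : c)`. -/
def colon (J : Ideal Λ) (c : Λ) : Ideal Λ where
  carrier := {y | c * y ∈ J}
  add_mem' := by
    intro x y hx hy
    show c * (x + y) ∈ J
    rw [mul_add]
    exact J.add_mem hx hy
  zero_mem' := by
    show c * 0 ∈ J
    rw [mul_zero]
    exact J.zero_mem
  smul_mem' := by
    intro r x hx
    show c * (r • x) ∈ J
    rw [smul_eq_mul, mul_left_comm]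
    exact J.mul_mem_left r hx

theorem mem_colon {J : Ideal Λ} {c y : Λ} : y ∈ colon J c ↔ c * y ∈ J := Iff.rfl

/-- The ascending chain `(J : c^k)`. -/
def colonPow (J : Ideal Λ) (c : Λ) : ℕ →o Ideal Λ where
  toFun k := colon J (c ^ k)
  monotone' := by
    apply monotone_nat_of_le_succ
    intro k y hy
    show c ^ (k + 1) * y ∈ J
    rw [pow_succ', mul_assoc]
    exact J.mul_mem_left c hy

theorem exists_good [IsNoetherianRing Λ] (q : Ideal Λ) [q.IsPrime] (J : Ideal Λ) (a : Λ)
    (hreg : ∀ y : Localization.AtPrime q,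
      algebraMap Λ (Localization.AtPrime q) a * y ∈ J.map (algebraMap Λ (Localization.AtPrime q)) →
        y ∈ J.map (algebraMap Λ (Localization.AtPrime q))) :
    ∃ t : Λ, t ∉ q ∧ ∀ y : Λ, (t * a) ^ 2 * y ∈ J → (t * a) * y ∈ J := by
  classical
  have hpow : ∀ (m : ℕ) (z : Localization.AtPrime q),
      algebraMap Λ (Localization.AtPrime q) a ^ m * z ∈ J.map (algebraMap Λ (Localization.AtPrime q)) →
        z ∈ J.map (algebraMap Λ (Localization.AtPrime q)) := by
    intro m
    induction m with
    | zero => intro z hz; simpa using hz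
    | succ m ih =>
      intro z hz
      rw [pow_succ', mul_assoc] at hz
      exact ih z (hreg _ hz)
  have h1 : ∀ (m : ℕ) (y : Λ), a ^ m * y ∈ J → ∃ s : Λ, s ∉ q ∧ s * y ∈ J := by
    intro m y hy
    have h2 : algebraMap Λ (Localization.AtPrime q) y ∈
        J.map (algebraMap Λ (Localization.AtPrime q)) := by
      apply hpow m
      rw [← map_pow, ← map_mul]
      exact Ideal.mem_map_of_mem _ hy
    rw [IsLocalization.mem_map_algebraMap_iff q.primeCompl (Localization.AtPrime q)] at h2
    obtain ⟨⟨j, s⟩, hjs⟩ := h2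
    rw [← map_mul] at hjs
    obtain ⟨c, hc⟩ := (IsLocalization.eq_iff_exists q.primeCompl (Localization.AtPrime q)).mp hjs
    refine ⟨c * s, q.primeCompl.mul_mem c.2 s.2, ?_⟩
    have h3 : (c : Λ) * s * y = c * j := by
      rw [← hc]; ring
    rw [h3]
    exact J.mul_mem_left _ j.2
  obtain ⟨m, hm⟩ := monotone_stabilizes_iff_noetherian.mpr inferInstance (colonPow J a)
  obtain ⟨S, hS⟩ : (colon J (a ^ m)).FG := IsNoetherian.noetherian _
  have h3 : ∀ y ∈ S, ∃ s : Λ, s ∉ q ∧ s * y ∈ J := fun y hy => h1 m y (by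
    have : y ∈ colon J (a ^ m) := hS ▸ Ideal.subset_span hy
    exact this)
  choose! σ hσq hσJ using h3
  have hsq : (∏ y ∈ S, σ y) ∉ q := by
    intro hmem
    obtain ⟨y, hy, hyq⟩ := (Ideal.IsPrime.prod_mem_iff).mp hmem
    exact hσq y hy hyq
  have hsK : ∀ y ∈ colon J (a ^ m), (∏ y ∈ S, σ y) * y ∈ J := by
    intro y hy
    rw [← hS] at hy
    refine Submodule.span_induction (p := fun y _ => (∏ y ∈ S, σ y) * y ∈ J) ?_ ?_ ?_ ?_ hy
    · intro y hy
      obtain ⟨c, hc⟩ := Finset.dvd_prod_of_mem σ hy
      rw [hc, mul_comm (σ y) c, mul_assoc]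
      exact J.mul_mem_left c (hσJ y hy)
    · simp
    · intro x y _ _ hx hy
      rw [mul_add]
      exact J.add_mem hx hy
    · intro r x _ hx
      rw [smul_eq_mul, mul_left_comm]
      exact J.mul_mem_left r hx
  set s := ∏ y ∈ S, σ y with hs
  obtain ⟨l, hl⟩ := monotone_stabilizes_iff_noetherian.mpr inferInstance (colonPow J s)
  refine ⟨s ^ l, fun h => hsq (Ideal.IsPrime.mem_of_pow_mem inferInstance l h), ?_⟩
  intro x hx
  have e1 : a ^ 2 * x ∈ colon J (s ^ (2 * l)) := by
    show s ^ (2 * l) * (a ^ 2 * x) ∈ J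
    have h : s ^ (2 * l) * (a ^ 2 * x) = (s ^ l * a) ^ 2 * x := by ring
    rw [h]; exact hx
  have e2 : a ^ 2 * x ∈ colon J (s ^ l) := by
    have h := hl (2 * l) (by omega)
    change a ^ 2 * x ∈ colonPow J s l
    rw [h]; exact e1
  have e3 : s ^ l * x ∈ colon J (a ^ 2) := by
    show a ^ 2 * (s ^ l * x) ∈ J
    have h : a ^ 2 * (s ^ l * x) = s ^ l * (a ^ 2 * x) := by ring
    rw [h]; exact e2
  have e4 : s ^ l * x ∈ colon J (a ^ m) := by
    have hmono := (colonPow J a).monotone (le_max_right m 2)
    have h := hm (max m 2) (le_max_left m 2)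
    have h5 : s ^ l * x ∈ colonPow J a (max m 2) := hmono e3
    rw [← h] at h5; exact h5
  have e5 : s * (s ^ l * x) ∈ J := hsK _ e4
  have e6 : x ∈ colon J (s ^ (l + 1)) := by
    show s ^ (l + 1) * x ∈ J
    have h : s ^ (l + 1) * x = s * (s ^ l * x) := by ring
    rw [h]; exact e5
  have e7 : x ∈ colon J (s ^ l) := by
    have h := hl (l + 1) (by omega)
    change x ∈ colonPow J s l
    rw [h]; exact e6
  have h : s ^ l * a * x = a * (s ^ l * x) := by ring
  rw [h]; exact J.mul_mem_left a e7

end colon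


section regular

theorem exists_fin_generators (R : Type u) [CommRing R] [IsRegularLocalRing R] (d : ℕ)
    (hd : ringKrullDim R = d) :
    ∃ g : Fin d → R, Ideal.span (Set.range g) = maximalIdeal R := by
  obtain ⟨k, y, hk, hy⟩ := Groth.Agent.H23.exists_extension (R := R) (r := 0)
    (fun i => i.elim0) (linearIndependent_empty_type)
  have h1 : (maximalIdeal R).spanFinrank = k := by
    rw [IsLocalRing.spanFinrank_maximalIdeal_eq_finrank_cotangentSpace, ← hk, zero_add]
  have h2 : ((k : ℕ) : WithBot ℕ∞) = (d : WithBot ℕ∞) := by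
    rw [← hd, ← IsRegularLocalRing.spanFinrank_maximalIdeal, h1]
  have h3 : k = d := by exact_mod_cast h2
  subst h3
  refine ⟨fun j => (y j : R), Eq.symm (hy.trans ?_)⟩
  congr 1
  ext z
  simp

theorem regular_mod_pows (R : Type u) [CommRing R] [IsRegularLocalRing R] (d : ℕ)
    (hd : ringKrullDim R = d) (g : Fin d → R) (hg : Ideal.span (Set.range g) = maximalIdeal R)
    (e : ℕ) (he : 0 < e) (i : Fin d) (y : R)
    (hy : g i * y ∈ Ideal.span (Set.range fun j : {j : Fin d // (j : ℕ) < (i : ℕ)} => g j ^ e)) :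
    y ∈ Ideal.span (Set.range fun j : {j : Fin d // (j : ℕ) < (i : ℕ)} => g j ^ e) := by
  classical
  have hCM := Groth.Agent.H79.RegCM.isCM_of_sop R d hd g hg
  have hgm : ∀ j, g j ∈ maximalIdeal R := fun j => hg ▸ Ideal.subset_span ⟨j, rfl⟩
  set F : Fin d → R := fun j => if (j : ℕ) < (i : ℕ) then g j ^ e else g j with hF
  have hreg := Groth.Agent.H79.RegCM.isWeaklyRegular_of_radical hCM hd (List.ofFn F)
    List.length_ofFn (by
      intro x hx
      rw [List.mem_ofFn] at hx
      obtain ⟨j, rfl⟩ := hx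
      simp only [hF]
      split_ifs
      · exact Ideal.pow_mem_of_mem _ (hgm j) e he
      · exact hgm j) (by
      rw [← hg, Ideal.span_le]
      rintro _ ⟨j, rfl⟩
      by_cases hj : (j : ℕ) < (i : ℕ)
      · refine ⟨e, Ideal.subset_span ?_⟩
        show g j ^ e ∈ List.ofFn F
        rw [List.mem_ofFn]
        exact ⟨j, if_pos hj⟩
      · refine ⟨1, Ideal.subset_span ?_⟩
        show g j ^ 1 ∈ List.ofFn F
        rw [List.mem_ofFn, pow_one]
        exact ⟨j, if_neg hj⟩)
  rw [Groth.Agent.H9.isWeaklyRegular_ring_iff] at hreg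
  have hi : (i : ℕ) < (List.ofFn F).length := by simp
  have h1 := hreg i hi y
  have h2 : (List.ofFn F)[(i : ℕ)] = g i := by
    rw [List.getElem_ofFn]
    exact if_neg (lt_irrefl _)
  have h3 : Ideal.ofList ((List.ofFn F).take i) =
      Ideal.span (Set.range fun j : {j : Fin d // (j : ℕ) < (i : ℕ)} => g j ^ e) := by
    show Ideal.span {x | x ∈ (List.ofFn F).take i} = _
    congr 1
    ext x
    simp only [Set.mem_ofPred_eq, Set.mem_range, List.mem_take_iff_getElem]
    constructor
    · rintro ⟨k, hk, rfl⟩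
      have hk1 : k < (i : ℕ) := lt_of_lt_of_le hk (min_le_left _ _)
      have hk2 : k < d := lt_trans hk1 i.2
      refine ⟨⟨⟨k, hk2⟩, hk1⟩, ?_⟩
      rw [List.getElem_ofFn]
      exact (if_pos hk1).symm
    · rintro ⟨⟨j, hj⟩, rfl⟩
      refine ⟨j, by simp [hj], ?_⟩
      rw [List.getElem_ofFn]
      exact if_pos hj
  rw [h2, h3] at h1
  exact h1 hy

end regular

section main

theorem main {Λ : Type u} [CommRing Λ] [IsNoetherianRing Λ] (I q : Ideal Λ) [q.IsPrime]
    (n e d : ℕ) (hn : 0 < n) (he : 0 < e)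
    (hpow : (q ^ n).map (algebraMap Λ (Localization.AtPrime q)) ≤
      I.map (algebraMap Λ (Localization.AtPrime q)))
    [IsRegularLocalRing (Localization.AtPrime q)]
    (hd : ringKrullDim (Localization.AtPrime q) = d) :
    ∃ π : Fin d → Λ,
      Ideal.span (Set.range fun i => algebraMap Λ (Localization.AtPrime q) (π i)) =
        q.map (algebraMap Λ (Localization.AtPrime q)) ∧
      (∀ i, π i ^ n ∈ I) ∧
      ∀ (i : Fin d) (y : Λ),
        π i ^ 2 * y ∈ Ideal.span (Set.range fun j : {j : Fin d // (j : ℕ) < (i : ℕ)} => π j ^ e) →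
        π i * y ∈ Ideal.span (Set.range fun j : {j : Fin d // (j : ℕ) < (i : ℕ)} => π j ^ e) := by
  classical
  have hmax : q.map (algebraMap Λ (Localization.AtPrime q)) =
      maximalIdeal (Localization.AtPrime q) := Localization.AtPrime.map_eq_maximalIdeal
  obtain ⟨g, hg⟩ := exists_fin_generators (Localization.AtPrime q) d hd
  have h0 : ∀ i, ∃ a : Λ, a ∈ q ∧ ∃ u : Localization.AtPrime q, IsUnit u ∧
      algebraMap Λ (Localization.AtPrime q) a = u * g i := by
    intro i
    have h : g i ∈ q.map (algebraMap Λ (Localization.AtPrime q)) := by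
      rw [hmax, ← hg]; exact Ideal.subset_span ⟨i, rfl⟩
    rw [IsLocalization.mem_map_algebraMap_iff q.primeCompl (Localization.AtPrime q)] at h
    obtain ⟨⟨a, s⟩, has⟩ := h
    exact ⟨a, a.2, algebraMap Λ _ s, IsLocalization.map_units _ s, by rw [mul_comm]; exact has.symm⟩
  choose a haq u hu hau using h0
  have h1 : ∀ i, ∃ s : Λ, s ∉ q ∧ (s * a i) ^ n ∈ I := by
    intro i
    have h : algebraMap Λ (Localization.AtPrime q) (a i ^ n) ∈
        I.map (algebraMap Λ (Localization.AtPrime q)) :=
      hpow (Ideal.mem_map_of_mem _ (Ideal.pow_mem_pow (haq i) n))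
    rw [IsLocalization.mem_map_algebraMap_iff q.primeCompl (Localization.AtPrime q)] at h
    obtain ⟨⟨j, s⟩, hjs⟩ := h
    rw [← map_mul] at hjs
    obtain ⟨c, hc⟩ := (IsLocalization.eq_iff_exists q.primeCompl (Localization.AtPrime q)).mp hjs
    refine ⟨c * s, q.primeCompl.mul_mem c.2 s.2, ?_⟩
    obtain ⟨n', rfl⟩ : ∃ n', n = n' + 1 := ⟨n - 1, by omega⟩
    have h2 : ((c : Λ) * s * a i) ^ (n' + 1) =
        ((c : Λ) * s) ^ n' * s ^ 0 * ((c : Λ) * (a i ^ (n' + 1) * s)) := by ring
    rw [h2, hc]
    exact I.mul_mem_left _ (I.mul_mem_left _ j.2)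
  choose s₁ hs₁q hs₁I using h1
  -- generation is insensitive to unit multiples
  have F1 : ∀ t : Fin d → Λ, (∀ i, t i ∉ q) →
      Ideal.span (Set.range fun i => algebraMap Λ (Localization.AtPrime q) (t i * (s₁ i * a i))) =
        maximalIdeal (Localization.AtPrime q) := by
    intro t ht
    have hw : ∀ i, ∃ w : Localization.AtPrime q, IsUnit w ∧
        algebraMap Λ (Localization.AtPrime q) (t i * (s₁ i * a i)) = w * g i := by
      intro i
      refine ⟨algebraMap Λ _ (t i) * algebraMap Λ _ (s₁ i) * u i, ?_, ?_⟩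
      · exact ((IsLocalization.map_units _ (⟨t i, ht i⟩ : q.primeCompl)).mul
          (IsLocalization.map_units _ (⟨s₁ i, hs₁q i⟩ : q.primeCompl))).mul (hu i)
      · rw [map_mul, map_mul, hau i]; ring
    choose w hwu hw using hw
    rw [← hg]
    apply le_antisymm
    · rw [Ideal.span_le]
      rintro _ ⟨i, rfl⟩
      show algebraMap Λ (Localization.AtPrime q) (t i * (s₁ i * a i)) ∈ _
      rw [hw i]
      exact Ideal.mul_mem_left _ _ (Ideal.subset_span ⟨i, rfl⟩)
    · rw [Ideal.span_le]
      rintro _ ⟨i, rfl⟩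
      obtain ⟨w', hw'⟩ := (hwu i).exists_left_inv
      have h : g i = w' * algebraMap Λ (Localization.AtPrime q) (t i * (s₁ i * a i)) := by
        rw [hw i, ← mul_assoc, hw', one_mul]
      show g i ∈ _
      rw [h]
      exact Ideal.mul_mem_left _ _ (Ideal.subset_span ⟨i, rfl⟩)
  have key : ∀ k : ℕ, k ≤ d → ∃ t : Fin d → Λ, (∀ i, t i ∉ q) ∧ ∀ i : Fin d, (i : ℕ) < k →
      ∀ y : Λ, (t i * (s₁ i * a i)) ^ 2 * y ∈ Ideal.span (Set.range
          fun j : {j : Fin d // (j : ℕ) < (i : ℕ)} => (t j * (s₁ j * a j)) ^ e) →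
        (t i * (s₁ i * a i)) * y ∈ Ideal.span (Set.range
          fun j : {j : Fin d // (j : ℕ) < (i : ℕ)} => (t j * (s₁ j * a j)) ^ e) := by
    intro k
    induction k with
    | zero =>
      intro _
      exact ⟨fun _ => 1, fun _ h => (Ideal.IsPrime.ne_top inferInstance)
        ((Ideal.eq_top_iff_one q).mpr h), fun i hi => absurd hi (Nat.not_lt_zero _)⟩
    | succ k ih =>
      intro hk
      obtain ⟨t, htq, ht⟩ := ih (by omega)
      have hkd : k < d := by omega
      have hreg : ∀ y : Localization.AtPrime q,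
          algebraMap Λ (Localization.AtPrime q) (t ⟨k, hkd⟩ * (s₁ ⟨k, hkd⟩ * a ⟨k, hkd⟩)) * y ∈
            (Ideal.span (Set.range fun j : {j : Fin d // (j : ℕ) < k} =>
              (t j * (s₁ j * a j)) ^ e)).map (algebraMap Λ (Localization.AtPrime q)) →
          y ∈ (Ideal.span (Set.range fun j : {j : Fin d // (j : ℕ) < k} =>
              (t j * (s₁ j * a j)) ^ e)).map (algebraMap Λ (Localization.AtPrime q)) := by
        have hJmap : (Ideal.span (Set.range fun j : {j : Fin d // (j : ℕ) < k} =>
              (t j * (s₁ j * a j)) ^ e)).map (algebraMap Λ (Localization.AtPrime q)) =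
            Ideal.span (Set.range fun j : {j : Fin d // (j : ℕ) < k} =>
              (algebraMap Λ (Localization.AtPrime q) (t j * (s₁ j * a j))) ^ e) := by
          rw [Ideal.map_span, ← Set.range_comp]
          congr 2
          ext j
          simp only [Function.comp_apply, map_pow]
        intro y hy
        rw [hJmap] at hy ⊢
        exact regular_mod_pows (Localization.AtPrime q) d hd
          (fun i => algebraMap Λ (Localization.AtPrime q) (t i * (s₁ i * a i))) (F1 t htq) e he
          ⟨k, hkd⟩ y hy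
      obtain ⟨t', ht'q, ht'⟩ := exists_good q _ _ hreg
      refine ⟨Function.update t ⟨k, hkd⟩ (t' * t ⟨k, hkd⟩), ?_, ?_⟩
      · intro i
        by_cases h : i = ⟨k, hkd⟩
        · subst h
          rw [Function.update_self]
          exact fun hm => (Ideal.IsPrime.mem_or_mem inferInstance hm).elim ht'q (htq _)
        · rw [Function.update_of_ne h]
          exact htq i
      · intro i hi y
        have hJeq : (fun j : {j : Fin d // (j : ℕ) < (i : ℕ)} =>
            (Function.update t ⟨k, hkd⟩ (t' * t ⟨k, hkd⟩) j * (s₁ j * a j)) ^ e) =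
            fun j : {j : Fin d // (j : ℕ) < (i : ℕ)} => (t j * (s₁ j * a j)) ^ e := by
          funext j
          have hne : (j : Fin d) ≠ ⟨k, hkd⟩ := by
            intro h
            have h' := congrArg Fin.val h
            have := j.2
            simp only at h'
            omega
          rw [Function.update_of_ne hne]
        rw [hJeq]
        by_cases h : i = ⟨k, hkd⟩
        · subst h
          rw [Function.update_self, mul_assoc]
          exact ht' y
        · rw [Function.update_of_ne h]
          refine ht i ?_ y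
          have : (i : ℕ) ≠ k := fun h' => h (Fin.ext h')
          omega
  obtain ⟨t, htq, ht⟩ := key d le_rfl
  refine ⟨fun i => t i * (s₁ i * a i), ?_, ?_, ?_⟩
  · rw [hmax]; exact F1 t htq
  · intro i
    show (t i * (s₁ i * a i)) ^ n ∈ I
    rw [mul_pow]
    exact I.mul_mem_left _ (hs₁I i)
  · intro i y
    exact ht i i.2 y

end main

end Groth.Agent.H14.AnnParams
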