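import Mathlib

set_option autoImplicit false

namespace Groth.Agent.H14.H1Residue

universe u

open IsLocalRing TensorProduct

variable (A : Type u) [CommRing A] [IsLocalRing A]

/-- The residue field as an extension of itself with extension ring `A`. -/
noncomputable abbrev extRes : Algebra.Extension.{u} A (ResidueField A) where
  Ring := A
  σ x := (residue_surjective x).choose
  algebraMap_σ x := (residue_surjective x).choose_spec

theorem extRes_ker : (extRes A).ker = maximalIdeal A := ker_residue

theorem h1 : (extRes A).ker ≤ (maximalIdeal A).comap (AlgHom.id A A) :=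
  fun _ hy => (extRes_ker A).le hy

theorem h2 : maximalIdeal A ≤ ((extRes A).ker).comap (AlgHom.id A A) :=
  fun _ hy => (extRes_ker A).ge hy

noncomputable def toMax : (extRes A).ker.Cotangent →ₗ[A] (maximalIdeal A).Cotangent :=
  Ideal.mapCotangent (extRes A).ker (maximalIdeal A) (AlgHom.id A A) (h1 A)

noncomputable def ofMax : (maximalIdeal A).Cotangent →ₗ[A] (extRes A).ker.Cotangent :=
  Ideal.mapCotangent (maximalIdeal A) (extRes A).ker (AlgHom.id A A) (h2 A)

theorem ofMax_toMax (x : (extRes A).ker.Cotangent) : ofMax A (toMax A x) = x := by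
  obtain ⟨y, rfl⟩ := Ideal.toCotangent_surjective _ x
  rfl

theorem toMax_ofMax (x : (maximalIdeal A).Cotangent) : toMax A (ofMax A x) = x := by
  obtain ⟨y, rfl⟩ := Ideal.toCotangent_surjective _ x
  rfl

/-- The cotangent space of `extRes` is the cotangent space of the local ring. -/
noncomputable def cotEquivA : (extRes A).Cotangent ≃ₗ[A] (maximalIdeal A).Cotangent where
  toFun x := toMax A x.val
  invFun y := Algebra.Extension.Cotangent.of (ofMax A y)
  map_add' x y := by
    rw [Algebra.Extension.Cotangent.val_add, map_add]
  map_smul' a x := by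
    have h1 : (a • x).val = a • x.val := Algebra.Extension.Cotangent.val_smul' (P := extRes A) a x
    rw [h1, map_smul]
    rfl
  left_inv x := by
    apply Algebra.Extension.Cotangent.ext
    exact ofMax_toMax A x.val
  right_inv y := toMax_ofMax A y

noncomputable def cotEquiv : (extRes A).Cotangent ≃ₗ[ResidueField A] CotangentSpace A :=
  LinearEquiv.extendScalarsOfSurjective residue_surjective (cotEquivA A)

noncomputable def h1Equiv : Algebra.H1Cotangent A (ResidueField A) ≃ₗ[ResidueField A] CotangentSpace A :=
  (extRes A).h1CotangentEquivCotangent ≪≫ₗ cotEquiv A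

end Groth.Agent.H14.H1Residue
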