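import Mathlib
import Groth.Prelude.Def_CAlgX

set_option autoImplicit false

namespace Groth.Agent.H14

universe u

open Algebra

section

variable {A B : Type u} [CommRing A] [CommRing B] [Algebra A B]

/-- The adic lifting property, for a surjection with square-zero kernel. -/
theorem adic_lift_of_surjective {𝔫 : Ideal B} (h : CAlgX.IsAdicFormallySmooth A B 𝔫)
    {E C : Type u} [CommRing E] [CommRing C] [Algebra A E] [Algebra A C] (π : E →ₐ[A] C)
    (hπ : Function.Surjective π) (hker : (RingHom.ker π) ^ 2 = ⊥) (ψ : B →ₐ[A] C)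
    (hψ : ∃ k : ℕ, ∀ x ∈ 𝔫 ^ k, ψ x = 0) : ∃ χ : B →ₐ[A] E, π.comp χ = ψ := by
  let e : (E ⧸ RingHom.ker π) ≃ₐ[A] C := Ideal.quotientKerAlgEquivOfSurjective hπ
  obtain ⟨k, hk⟩ := hψ
  obtain ⟨χ, hχ⟩ := h E (RingHom.ker π) hker (e.symm.toAlgHom.comp ψ) ⟨k, fun x hx => by
    rw [AlgHom.comp_apply, hk x hx, map_zero]⟩
  refine ⟨χ, ?_⟩
  apply AlgHom.ext
  intro b
  have h1 := AlgHom.congr_fun hχ b
  rw [AlgHom.comp_apply, AlgHom.comp_apply] at h1
  have h2 : e (Ideal.Quotient.mkₐ A (RingHom.ker π) (χ b)) = π (χ b) := rfl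
  rw [AlgHom.comp_apply, ← h2, h1]
  exact e.apply_symm_apply _

variable {K : Type u} [CommRing K] [Algebra A K] [Algebra B K] [IsScalarTower A B K]

/-- If `B` is adically formally smooth over `A` and `K` is a `B`-algebra killed by a power of the
ideal of definition, then `H¹(L_{K/A}) → H¹(L_{K/B})` is injective. -/
theorem h1Cotangent_map_injective_of_isAdicFormallySmooth {𝔫 : Ideal B}
    (h : CAlgX.IsAdicFormallySmooth A B 𝔫)
    (h𝔫 : ∃ k : ℕ, ∀ x ∈ 𝔫 ^ k, algebraMap B K x = 0) :
    Function.Injective (Algebra.H1Cotangent.map A B K K) := by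
  let P₁ : Extension A K := (Generators.self A K).toExtension
  let P₂ : Extension B K := (Generators.self B K).toExtension
  let f : P₁.Hom P₂ := (Generators.defaultHom (Generators.self A K) (Generators.self B K)).toExtensionHom
  -- the infinitesimal extension
  let π : P₁.infinitesimal.Ring →ₐ[A] K := IsScalarTower.toAlgHom A P₁.infinitesimal.Ring K
  have hπ : Function.Surjective π := P₁.infinitesimal.algebraMap_surjective
  have hker : (RingHom.ker π) ^ 2 = ⊥ := by
    have h1 : RingHom.ker π = P₁.infinitesimal.ker := rfl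
    rw [h1, Extension.ker_infinitesimal]
    exact Ideal.cotangentIdeal_square _
  obtain ⟨χ, hχ⟩ := adic_lift_of_surjective h π hπ hker (IsScalarTower.toAlgHom A B K) h𝔫
  -- extend to `P₂.Ring = B[K]`
  let q : P₁.Ring →+* P₁.infinitesimal.Ring := Ideal.Quotient.mk (P₁.ker ^ 2)
  let χ' : P₂.Ring →+* P₁.infinitesimal.Ring :=
    MvPolynomial.eval₂Hom (χ : B →+* P₁.infinitesimal.Ring) (fun k : K => q (MvPolynomial.X k))
  have hχ'C : ∀ b : B, χ' (MvPolynomial.C b) = χ b := fun b => MvPolynomial.eval₂Hom_C _ _ b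
  have hχ'X : ∀ k : K, χ' (MvPolynomial.X k) = q (MvPolynomial.X k) :=
    fun k => MvPolynomial.eval₂Hom_X' _ _ k
  -- (1) `χ' ∘ f = q`
  let F : MvPolynomial K A →+* MvPolynomial K B := f.toRingHom
  let Q : MvPolynomial K A →+* P₁.infinitesimal.Ring := q
  let X' : MvPolynomial K B →+* P₁.infinitesimal.Ring := χ'
  let Pi0 : P₁.infinitesimal.Ring →+* K := π
  let G : MvPolynomial K B →+* K := algebraMap P₂.Ring K
  have hX'C : ∀ b : B, X' (MvPolynomial.C b) = χ b := hχ'C
  have hX'X : ∀ k : K, X' (MvPolynomial.X k) = Q (MvPolynomial.X k) := hχ'X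
  have hFC : ∀ a : A, F (MvPolynomial.C a) = MvPolynomial.C (algebraMap A B a) :=
    fun a => f.toRingHom_algebraMap a
  have hFX : ∀ k : K, F (MvPolynomial.X k) = MvPolynomial.X k := by
    intro k
    have : F (MvPolynomial.X k) =
      MvPolynomial.aeval ((Generators.self A K).defaultHom (Generators.self B K)).val
        (MvPolynomial.X k : MvPolynomial K A) := rfl
    rw [this, MvPolynomial.aeval_X]
    rfl
  have hQC : ∀ a : A, Q (MvPolynomial.C a) = algebraMap A P₁.infinitesimal.Ring a := fun a => rfl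
  have h1' : ∀ x : MvPolynomial K A, X' (F x) = Q x := by
    intro x
    induction x using MvPolynomial.induction_on with
    | C a => rw [hFC, hX'C, AlgHom.commutes, hQC]
    | add x y hx hy => rw [map_add, map_add, map_add, hx, hy]
    | mul_X x k hx => rw [map_mul, map_mul, map_mul, hx, hFX, hX'X]
  have h1 : ∀ x : P₁.Ring, χ' (f.toRingHom x) = q x := h1'
  -- (2) `π ∘ χ' = algebraMap`
  have hGC : ∀ b : B, G (MvPolynomial.C b) = algebraMap B K b := by
    intro b
    have e2 : G (MvPolynomial.C b) =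
      MvPolynomial.aeval (Generators.self B K).val (MvPolynomial.C b : MvPolynomial K B) := rfl
    rw [e2, MvPolynomial.aeval_C]
  have hGX : ∀ k : K, G (MvPolynomial.X k) = k := by
    intro k
    have e2 : G (MvPolynomial.X k) =
      MvPolynomial.aeval (Generators.self B K).val (MvPolynomial.X k : MvPolynomial K B) := rfl
    rw [e2, MvPolynomial.aeval_X]
    rfl
  have hPQX : ∀ k : K, Pi0 (Q (MvPolynomial.X k)) = k := by
    intro k
    have e3 : Pi0 (Q (MvPolynomial.X k)) =
      MvPolynomial.aeval (Generators.self A K).val (MvPolynomial.X k : MvPolynomial K A) := rfl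
    rw [e3, MvPolynomial.aeval_X]
    rfl
  have hPχ : ∀ b : B, Pi0 (χ b) = algebraMap B K b := by
    intro b
    have e1 := AlgHom.congr_fun hχ b
    rw [AlgHom.comp_apply] at e1
    exact e1
  have h2' : ∀ y : MvPolynomial K B, Pi0 (X' y) = G y := by
    intro y
    induction y using MvPolynomial.induction_on with
    | C b => rw [hX'C, hPχ, hGC]
    | add x y hx hy => rw [map_add, map_add, map_add, hx, hy]
    | mul_X x k hx => rw [map_mul, map_mul, map_mul, hx, hX'X, hPQX, hGX]
  have h2 : ∀ y : P₂.Ring, π (χ' y) = algebraMap P₂.Ring K y := h2'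
  -- injectivity of the map of cotangent spaces
  have hinj : Function.Injective (Extension.Cotangent.map f) := by
    rw [injective_iff_map_eq_zero]
    intro c hc
    obtain ⟨x, rfl⟩ := Extension.Cotangent.mk_surjective c
    rw [Extension.Cotangent.map_mk, Extension.Cotangent.mk_eq_zero_iff] at hc
    rw [Extension.Cotangent.mk_eq_zero_iff]
    have h3 : χ' (f.toRingHom x.1) = 0 := by
      have h4 : χ' (f.toRingHom x.1) ∈ (RingHom.ker π) ^ 2 := by
        have h5 : (P₂.ker ^ 2).map χ' ≤ (RingHom.ker π) ^ 2 := by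
          rw [Ideal.map_pow]
          apply Ideal.pow_right_mono
          rw [Ideal.map_le_iff_le_comap]
          intro y hy
          rw [Ideal.mem_comap, RingHom.mem_ker]
          exact (h2 y).trans hy
        exact h5 (Ideal.mem_map_of_mem χ' hc)
      rw [hker, Ideal.mem_bot] at h4
      exact h4
    rw [h1] at h3
    exact Ideal.Quotient.eq_zero_iff_mem.mp h3
  intro a b hab
  apply Extension.h1Cotangentι_injective
  apply hinj
  have := congrArg Extension.h1Cotangentι hab
  exact this

end

end Groth.Agent.H14
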