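import Mathlib.RingTheory.Smooth.Basic
import Mathlib.RingTheory.Etale.Basic
import Mathlib.RingTheory.Kaehler.JacobiZariski
import Mathlib.Algebra.Exact.Basic

set_option autoImplicit false

namespace Groth.Agent.H14

universe u

open scoped TensorProduct
open KaehlerDifferential

variable {A P B : Type u} [CommRing A] [CommRing P] [CommRing B]
  [Algebra A P] [Algebra P B] [Algebra A B] [IsScalarTower A P B]

/-- If `B` is formally smooth over `A` and `B ⊗[P] Ω[P⁄A] → Ω[B⁄A]` is injective, then
`H¹(L_{B/P}) = 0`. -/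
theorem subsingleton_h1Cotangent_of_injective [Algebra.FormallySmooth A B]
    (hinj : Function.Injective (mapBaseChange A P B)) :
    Subsingleton (Algebra.H1Cotangent P B) := by
  have h1 := Algebra.H1Cotangent.exact_map_δ A P B
  have h2 := Algebra.H1Cotangent.exact_δ_mapBaseChange A P B
  refine ⟨fun x y => ?_⟩
  have hδ : ∀ w, Algebra.H1Cotangent.δ A P B w = 0 := by
    intro w
    apply hinj
    rw [map_zero]
    exact (h2 _).mpr ⟨w, rfl⟩
  obtain ⟨x', rfl⟩ := (h1 x).mp (hδ x)
  obtain ⟨y', rfl⟩ := (h1 y).mp (hδ y)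
  rw [Subsingleton.elim x' y']

/-- If `H¹(L_{B/P}) = 0` then `B ⊗[P] Ω[P⁄A] → Ω[B⁄A]` is injective. -/
theorem injective_mapBaseChange_of_subsingleton [Subsingleton (Algebra.H1Cotangent P B)] :
    Function.Injective (mapBaseChange A P B) := by
  have h2 := Algebra.H1Cotangent.exact_δ_mapBaseChange A P B
  rw [injective_iff_map_eq_zero]
  intro x hx
  obtain ⟨w, rfl⟩ := (h2 x).mp hx
  rw [Subsingleton.elim w 0, map_zero]

theorem formallyEtale_of_bijective_mapBaseChange [Algebra.FormallySmooth A B]
    (h : Function.Bijective (mapBaseChange A P B)) : Algebra.FormallyEtale P B := by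
  have hΩ : Subsingleton (Ω[B⁄P]) := by
    have hex := KaehlerDifferential.exact_mapBaseChange_map A P B
    have hms := KaehlerDifferential.map_surjective A P B
    refine ⟨fun x y => ?_⟩
    obtain ⟨x', rfl⟩ := hms x
    obtain ⟨y', rfl⟩ := hms y
    obtain ⟨x'', rfl⟩ := h.2 x'
    obtain ⟨y'', rfl⟩ := h.2 y'
    rw [(hex _).mpr ⟨x'', rfl⟩, (hex _).mpr ⟨y'', rfl⟩]
  have hH1 := subsingleton_h1Cotangent_of_injective h.1
  haveI : Algebra.FormallySmooth P B := by
    rw [Algebra.formallySmooth_iff]
    exact ⟨inferInstance, hH1⟩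
  haveI : Algebra.FormallyUnramified P B := ⟨hΩ⟩
  exact Algebra.FormallyEtale.of_formallyUnramified_and_formallySmooth

theorem bijective_mapBaseChange_of_formallyEtale [Algebra.FormallyEtale P B] :
    Function.Bijective (mapBaseChange A P B) := by
  refine ⟨injective_mapBaseChange_of_subsingleton, ?_⟩
  have hex := KaehlerDifferential.exact_mapBaseChange_map A P B
  intro x
  exact (hex x).mp (Subsingleton.elim _ _)

theorem exists_retraction_of_formallySmooth [Algebra.FormallySmooth P B] :
    ∃ r : Ω[B⁄A] →ₗ[B] B ⊗[P] Ω[P⁄A], r ∘ₗ mapBaseChange A P B = LinearMap.id := by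
  have hex := KaehlerDifferential.exact_mapBaseChange_map A P B
  have hms := KaehlerDifferential.map_surjective A P B
  obtain ⟨l, hl⟩ := Module.projective_lifting_property (KaehlerDifferential.map A P B B)
    LinearMap.id hms
  exact ((hex.split_tfae'.out 0 1 rfl rfl).mp
    ⟨injective_mapBaseChange_of_subsingleton, l, hl⟩).2

theorem formallySmooth_of_retraction [Algebra.FormallySmooth A B]
    (r : Ω[B⁄A] →ₗ[B] B ⊗[P] Ω[P⁄A]) (hr : r ∘ₗ mapBaseChange A P B = LinearMap.id) :
    Algebra.FormallySmooth P B := by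
  have hex := KaehlerDifferential.exact_mapBaseChange_map A P B
  have hms := KaehlerDifferential.map_surjective A P B
  have hinj : Function.Injective (mapBaseChange A P B) := by
    intro x y hxy
    have := congrArg r hxy
    rwa [← LinearMap.comp_apply, ← LinearMap.comp_apply, hr] at this
  obtain ⟨-, l, hl⟩ := (hex.split_tfae'.out 1 0 rfl rfl).mp ⟨hms, r, hr⟩
  have hproj : Module.Projective B (Ω[B⁄P]) :=
    Module.Projective.of_split l (KaehlerDifferential.map A P B B) hl
  rw [Algebra.formallySmooth_iff]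
  exact ⟨hproj, subsingleton_h1Cotangent_of_injective hinj⟩

end Groth.Agent.H14
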