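import Groth.Agent.H14.JacCrit
import Groth.Agent.H14.JZ
import Groth.Agent.S5014

set_option autoImplicit false
universe u

namespace Groth.Agent.H14.AdaptedCoords

open IsLocalRing KaehlerDifferential TensorProduct
open Groth.Agent.H14.LocalKaehler

/-- For a surjection `P → S` of formally smooth `R`-algebras with `P` local and kernel `I`:
if `x ∈ I` has `1 ⊗ dx = 0` in `κ ⊗ Ω[P/R]` then `x ∈ m I`. -/
theorem mem_mul_of_Φ_eq_zero (R P S : Type u) [CommRing R] [CommRing P] [IsLocalRing P]
    [CommRing S] [Algebra R P] [Algebra R S] [Algebra P S] [IsScalarTower R P S]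
    [Algebra.FormallySmooth R P] [Algebra.FormallySmooth R S]
    (hsurj : Function.Surjective (algebraMap P S))
    (hle : RingHom.ker (algebraMap P S) ≤ maximalIdeal P) (x : P)
    (hx : x ∈ RingHom.ker (algebraMap P S)) (h0 : Φ R x = 0) :
    x ∈ maximalIdeal P * RingHom.ker (algebraMap P S) := by
  obtain ⟨l, hl⟩ := (Algebra.FormallySmooth.iff_split_injection (R := R) (P := P) (A := S)
    hsurj).mp inferInstance
  let l' : Ω[P⁄R] →ₗ[P] (RingHom.ker (algebraMap P S)).Cotangent :=
    l ∘ₗ (TensorProduct.mk P S Ω[P⁄R] 1)
  have hl' : ∀ y : RingHom.ker (algebraMap P S),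
      l' (D R P y) = (RingHom.ker (algebraMap P S)).toCotangent y := by
    intro y
    have := LinearMap.congr_fun hl ((RingHom.ker (algebraMap P S)).toCotangent y)
    rw [LinearMap.comp_apply, kerCotangentToTensor_toCotangent] at this
    simpa [l'] using this
  have h1 : (1 : ResidueField P) ⊗ₜ[P] (RingHom.ker (algebraMap P S)).toCotangent ⟨x, hx⟩ = 0 := by
    have := congrArg (LinearMap.lTensor (ResidueField P) l') h0
    have h' := hl' ⟨x, hx⟩
    simp only [Φ, LinearMap.lTensor_tmul, map_zero] at this
    rw [← h']
    exact this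
  have hmem : (RingHom.ker (algebraMap P S)).toCotangent ⟨x, hx⟩ ∈ maximalIdeal P • (⊤ : Submodule P (RingHom.ker (algebraMap P S)).Cotangent) := by
    rw [← LinearMap.ker_tensorProductMk]
    exact h1
  have htop : (⊤ : Submodule P (RingHom.ker (algebraMap P S)).Cotangent) = Submodule.map (RingHom.ker (algebraMap P S)).toCotangent ⊤ := by
    rw [Submodule.map_top, LinearMap.range_eq_top.mpr (RingHom.ker (algebraMap P S)).toCotangent_surjective]
  rw [htop, ← Submodule.map_smul''] at hmem
  obtain ⟨y, hy, hyx⟩ := hmem
  have h2 : ((y : P) - x) ∈ (RingHom.ker (algebraMap P S)) ^ 2 := (Ideal.toCotangent_eq _).mp hyx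
  have h3 : (y : P) ∈ maximalIdeal P * (RingHom.ker (algebraMap P S)) := by
    have := (Submodule.mem_smul_top_iff (maximalIdeal P) (RingHom.ker (algebraMap P S)) y).mp hy
    simpa using this
  have h4 : (RingHom.ker (algebraMap P S)) ^ 2 ≤ maximalIdeal P * (RingHom.ker (algebraMap P S)) := by
    rw [pow_two]; exact Ideal.mul_mono_left hle
  have : x = y - (y - x) := by ring
  rw [this]
  exact Ideal.sub_mem _ h3 (h4 h2)

lemma one_tmul_smul' {P : Type*} [CommRing P] [IsLocalRing P] {Q : Type*} [AddCommGroup Q]
    [Module P Q] (a : P) (y : Q) :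
    (1 : ResidueField P) ⊗ₜ[P] (a • y) = residue P a • ((1 : ResidueField P) ⊗ₜ[P] y) := by
  rw [← TensorProduct.smul_tmul, TensorProduct.smul_tmul', Algebra.smul_def, mul_one, smul_eq_mul,
    mul_one]
  rfl

/-- Minimal generators of the kernel of a surjection of formally smooth algebras have
linearly independent differentials in `κ ⊗ Ω[P/R]`. -/
theorem linearIndependent_Φ (R P S : Type u) [CommRing R] [CommRing P] [IsLocalRing P]
    [CommRing S] [Algebra R P] [Algebra R S] [Algebra P S] [IsScalarTower R P S]
    [Algebra.FormallySmooth R P] [Algebra.FormallySmooth R S]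
    (hsurj : Function.Surjective (algebraMap P S))
    (hle : RingHom.ker (algebraMap P S) ≤ maximalIdeal P) {ι : Type*} (g : ι → P)
    (hg : ∀ i, g i ∈ RingHom.ker (algebraMap P S))
    (hmin : LinearIndependent (ResidueField P) (fun i => (1 : ResidueField P) ⊗ₜ[P]
      (⟨g i, hg i⟩ : RingHom.ker (algebraMap P S)))) :
    LinearIndependent (ResidueField P) (fun i => Φ R (g i)) := by
  rw [linearIndependent_iff'] at hmin ⊢
  intro s c hc i hi
  choose a ha using fun j => residue_surjective (R := P) (c j)
  have hxI : (∑ j ∈ s, a j * g j) ∈ RingHom.ker (algebraMap P S) :=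
    Ideal.sum_mem _ fun j _ => Ideal.mul_mem_left _ _ (hg j)
  have hΦ : Φ R (∑ j ∈ s, a j * g j) = 0 := by
    rw [Φ_sum, ← hc]
    refine Finset.sum_congr rfl fun j _ => ?_
    rw [Φ_mul_of_mem R (a j) (hle (hg j)), ha]
  have hx := mem_mul_of_Φ_eq_zero R P S hsurj hle _ hxI hΦ
  have h1 : (1 : ResidueField P) ⊗ₜ[P]
      (⟨∑ j ∈ s, a j * g j, hxI⟩ : RingHom.ker (algebraMap P S)) = 0 := by
    have : (⟨∑ j ∈ s, a j * g j, hxI⟩ : RingHom.ker (algebraMap P S)) ∈
        maximalIdeal P • (⊤ : Submodule P (RingHom.ker (algebraMap P S))) := by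
      rw [Submodule.mem_smul_top_iff]
      simpa using hx
    rw [← LinearMap.ker_tensorProductMk] at this
    exact this
  have h2 : ∑ j ∈ s, c j • ((1 : ResidueField P) ⊗ₜ[P]
      (⟨g j, hg j⟩ : RingHom.ker (algebraMap P S))) = 0 := by
    rw [← h1]
    have : (⟨∑ j ∈ s, a j * g j, hxI⟩ : RingHom.ker (algebraMap P S)) =
        ∑ j ∈ s, a j • (⟨g j, hg j⟩ : RingHom.ker (algebraMap P S)) := by
      ext
      simp
    rw [this, TensorProduct.tmul_sum]
    refine Finset.sum_congr rfl fun j _ => ?_
    rw [← ha j, one_tmul_smul']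
  exact hmin s c h2 i hi

/-- Version with a named kernel. -/
theorem linearIndependent_Φ' (R P S : Type u) [CommRing R] [CommRing P] [IsLocalRing P]
    [CommRing S] [Algebra R P] [Algebra R S] [Algebra P S] [IsScalarTower R P S]
    [Algebra.FormallySmooth R P] [Algebra.FormallySmooth R S]
    (hsurj : Function.Surjective (algebraMap P S)) (I : Ideal P)
    (hI : RingHom.ker (algebraMap P S) = I)
    (hle : I ≤ maximalIdeal P) {ι : Type*} (g : ι → P)
    (hg : ∀ i, g i ∈ I)
    (hmin : LinearIndependent (ResidueField P) (fun i => (1 : ResidueField P) ⊗ₜ[P]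
      (⟨g i, hg i⟩ : I))) :
    LinearIndependent (ResidueField P) (fun i => Φ R (g i)) := by
  subst hI
  exact linearIndependent_Φ R P S hsurj hle g hg hmin

/-- `κ(q) ⊗_{B_q} J B_q ≅ κ(q) ⊗_B J` (dimension count). -/
theorem finrank_fibre_ideal (B : Type u) [CommRing B] (J : Ideal B) (q : Ideal B) [q.IsPrime] :
    Module.finrank q.ResidueField (q.ResidueField ⊗[Localization.AtPrime q]
      ↥(J.map (algebraMap B (Localization.AtPrime q)))) =
    Module.finrank q.ResidueField (q.ResidueField ⊗[B] J) := by
  have h := Ideal.localized'_eq_map (Localization.AtPrime q) q.primeCompl J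
  rw [← h]
  have hbc : IsBaseChange (Localization.AtPrime q)
      (Submodule.toLocalized' (Localization.AtPrime q) q.primeCompl
        (Algebra.linearMap B (Localization.AtPrime q)) J) :=
    IsLocalizedModule.isBaseChange q.primeCompl (Localization.AtPrime q) _
  let e1 : q.ResidueField ⊗[Localization.AtPrime q]
        ↥(Submodule.localized' (Localization.AtPrime q) q.primeCompl
          (Algebra.linearMap B (Localization.AtPrime q)) J) ≃ₗ[q.ResidueField]
      q.ResidueField ⊗[B] J :=
    AlgebraTensorModule.congr (LinearEquiv.refl q.ResidueField q.ResidueField) hbc.equiv.symm ≪≫ₗ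
      AlgebraTensorModule.cancelBaseChange B (Localization.AtPrime q) q.ResidueField
        q.ResidueField J
  exact e1.finrank_eq

/-- Minimal generators of `J B_q` give a linearly independent family in `κ ⊗ J B_q`. -/
theorem linearIndependent_of_minimal (B : Type u) [CommRing B] (J : Ideal B) (q : Ideal B)
    [q.IsPrime] (r : ℕ) (g : Fin r → B) (hg : ∀ i, g i ∈ J)
    (hgen : J.map (algebraMap B (Localization.AtPrime q)) =
      Ideal.span (Set.range fun i => algebraMap B (Localization.AtPrime q) (g i)))
    (hmin : r = Module.finrank q.ResidueField (q.ResidueField ⊗[B] J)) :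
    LinearIndependent q.ResidueField (fun i : Fin r =>
      (1 : q.ResidueField) ⊗ₜ[Localization.AtPrime q]
        (⟨algebraMap B (Localization.AtPrime q) (g i), Ideal.mem_map_of_mem _ (hg i)⟩ :
          J.map (algebraMap B (Localization.AtPrime q)))) := by
  apply linearIndependent_of_top_le_span_of_card_eq_finrank
  · -- spanning
    have h1 : Submodule.span (Localization.AtPrime q) (Set.range fun i : Fin r =>
        (⟨algebraMap B (Localization.AtPrime q) (g i), Ideal.mem_map_of_mem _ (hg i)⟩ :
          J.map (algebraMap B (Localization.AtPrime q)))) = ⊤ := by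
      apply Submodule.map_injective_of_injective
        (f := (J.map (algebraMap B (Localization.AtPrime q))).subtype) (Submodule.injective_subtype _)
      rw [Submodule.map_span, Submodule.map_top, Submodule.range_subtype, ← Set.range_comp]
      exact hgen.symm
    rw [top_le_iff, ← Submodule.restrictScalars_eq_top_iff (Localization.AtPrime q),
      Submodule.restrictScalars_span (Localization.AtPrime q) q.ResidueField
        Ideal.Quotient.mk_surjective]
    have h2 := congrArg (Submodule.map (TensorProduct.mk (Localization.AtPrime q) q.ResidueField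
      (J.map (algebraMap B (Localization.AtPrime q))) 1)) h1
    rw [Submodule.map_span, Submodule.map_top, LinearMap.range_eq_top.mpr
      (TensorProduct.mk_surjective _ _ _ (IsLocalRing.residue_surjective
        (R := Localization.AtPrime q))), ← Set.range_comp] at h2
    exact h2
  · rw [Fintype.card_fin, finrank_fibre_ideal]
    exact hmin

/-- `B_q / J B_q ≅ (B/J)_Q` is formally smooth when `B/J` is smooth at `Q`. -/
theorem formallySmooth_quotient (A B : Type u) [CommRing A] [CommRing B] [Algebra A B]
    (J : Ideal B) (q : Ideal B) [q.IsPrime] (Q : Ideal (B ⧸ J)) [Q.IsPrime]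
    (hQ : Q.comap (Ideal.Quotient.mk J) = q) [Algebra.IsSmoothAt A Q] :
    Algebra.FormallySmooth A
      (Localization.AtPrime q ⧸ J.map (algebraMap B (Localization.AtPrime q))) := by
  have hM : Algebra.algebraMapSubmonoid (B ⧸ J) q.primeCompl = Q.primeCompl := by
    ext x
    constructor
    · rintro ⟨y, hy, rfl⟩
      intro hmem
      apply hy
      rw [← hQ]
      exact hmem
    · intro hx
      obtain ⟨y, rfl⟩ := Ideal.Quotient.mk_surjective x
      refine ⟨y, ?_, rfl⟩
      intro hy
      apply hx
      rw [← hQ] at hy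
      exact hy
  haveI : IsLocalization Q.primeCompl
      (Localization.AtPrime q ⧸ J.map (algebraMap B (Localization.AtPrime q))) := by
    rw [← hM]
    infer_instance
  haveI : IsScalarTower A (B ⧸ J)
      (Localization.AtPrime q ⧸ J.map (algebraMap B (Localization.AtPrime q))) :=
    IsScalarTower.of_algebraMap_eq fun a => by
      rw [IsScalarTower.algebraMap_apply A B (B ⧸ J),
        ← IsScalarTower.algebraMap_apply B (B ⧸ J)
          (Localization.AtPrime q ⧸ J.map (algebraMap B (Localization.AtPrime q))),
        IsScalarTower.algebraMap_apply B (Localization.AtPrime q)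
          (Localization.AtPrime q ⧸ J.map (algebraMap B (Localization.AtPrime q))),
        ← IsScalarTower.algebraMap_apply A B (Localization.AtPrime q),
        ← IsScalarTower.algebraMap_apply A (Localization.AtPrime q)
          (Localization.AtPrime q ⧸ J.map (algebraMap B (Localization.AtPrime q)))]
  let e := IsLocalization.algEquiv Q.primeCompl (Localization.AtPrime Q)
    (Localization.AtPrime q ⧸ J.map (algebraMap B (Localization.AtPrime q)))
  haveI : Algebra.FormallySmooth A (Localization.AtPrime Q) := ‹Algebra.IsSmoothAt A Q›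
  exact Algebra.FormallySmooth.of_equiv (e.restrictScalars A)

/-- Extend a linearly independent family `1 ⊗ d(g i)` to a basis of `κ ⊗ Ω[B_q/A]` by
differentials of elements of `B`. -/
theorem exists_basis_extension (A B : Type u) [CommRing A] [CommRing B] [Algebra A B]
    (q : Ideal B) [q.IsPrime]
    [Module.Finite (Localization.AtPrime q) Ω[Localization.AtPrime q⁄A]] (r : ℕ) (g : Fin r → B)
    (hli : LinearIndependent q.ResidueField
      (fun i => Φ A (algebraMap B (Localization.AtPrime q) (g i)))) :
    ∃ (m : ℕ) (b : Fin m → B),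
      LinearIndependent q.ResidueField (fun s : Fin r ⊕ Fin m =>
        Φ A (algebraMap B (Localization.AtPrime q) (Sum.elim g b s))) ∧
      Submodule.span q.ResidueField (Set.range fun s : Fin r ⊕ Fin m =>
        Φ A (algebraMap B (Localization.AtPrime q) (Sum.elim g b s))) = ⊤ := by
  classical
  set M' : Submodule q.ResidueField
      (q.ResidueField ⊗[Localization.AtPrime q] Ω[Localization.AtPrime q⁄A]) :=
    Submodule.span q.ResidueField
      (Set.range fun i => Φ A (algebraMap B (Localization.AtPrime q) (g i))) with hM'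
  let v : B → (q.ResidueField ⊗[Localization.AtPrime q] Ω[Localization.AtPrime q⁄A]) ⧸ M' :=
    fun b => M'.mkQ (Φ A (algebraMap B (Localization.AtPrime q) b))
  have hv : Submodule.span q.ResidueField (Set.range v) = ⊤ := by
    have h1 := Groth.Agent.H14.JacCrit.span_Φ_algebraMap A B q
    have h2 := congrArg (Submodule.map M'.mkQ) h1
    rw [Submodule.map_span, Submodule.map_top, Submodule.range_mkQ, ← Set.range_comp] at h2
    exact h2
  obtain ⟨κ', a, -, hsp, hli'⟩ := exists_linearIndependent' q.ResidueField v
  rw [hv] at hsp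
  let bas := Module.Basis.mk hli' hsp.ge
  haveI : Finite κ' := Module.Finite.finite_basis bas
  let e := Finite.equivFin κ'
  refine ⟨Nat.card κ', fun j => a (e.symm j), ?_, ?_⟩
  · have hf : LinearIndependent q.ResidueField (fun i : Fin r =>
        (⟨Φ A (algebraMap B (Localization.AtPrime q) (g i)),
          Submodule.subset_span ⟨i, rfl⟩⟩ : M')) :=
      LinearIndependent.of_comp M'.subtype hli
    have hg' : LinearIndependent q.ResidueField
        (Submodule.Quotient.mk (p := M') ∘ fun j : Fin (Nat.card κ') =>
          Φ A (algebraMap B (Localization.AtPrime q) (a (e.symm j)))) :=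
      hli'.comp e.symm e.symm.injective
    have := LinearIndependent.sumElim_of_quotient hf _ hg'
    have heq : (fun s : Fin r ⊕ Fin (Nat.card κ') =>
        Φ A (algebraMap B (Localization.AtPrime q) (Sum.elim g (fun j => a (e.symm j)) s))) =
        Sum.elim (fun i : Fin r => ((⟨Φ A (algebraMap B (Localization.AtPrime q) (g i)),
          Submodule.subset_span ⟨i, rfl⟩⟩ : M') : q.ResidueField ⊗[Localization.AtPrime q]
            Ω[Localization.AtPrime q⁄A]))
          (fun j : Fin (Nat.card κ') =>
            Φ A (algebraMap B (Localization.AtPrime q) (a (e.symm j)))) := by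
      funext s
      cases s <;> rfl
    rw [heq]
    exact this
  · have hN : Submodule.map M'.mkQ (Submodule.span q.ResidueField
        (Set.range fun j : Fin (Nat.card κ') =>
          Φ A (algebraMap B (Localization.AtPrime q) (a (e.symm j))))) = ⊤ := by
      rw [Submodule.map_span, ← Set.range_comp, ← hsp]
      congr 1
      exact e.symm.surjective.range_comp (v ∘ a)
    have hsup := Submodule.comap_map_mkQ M' (Submodule.span q.ResidueField
        (Set.range fun j : Fin (Nat.card κ') =>
          Φ A (algebraMap B (Localization.AtPrime q) (a (e.symm j)))))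
    rw [hN, Submodule.comap_top] at hsup
    rw [eq_top_iff, hsup]
    refine sup_le ?_ ?_
    · refine Submodule.span_mono ?_
      rintro _ ⟨i, rfl⟩
      exact ⟨Sum.inl i, rfl⟩
    · refine Submodule.span_mono ?_
      rintro _ ⟨j, rfl⟩
      exact ⟨Sum.inr j, rfl⟩

/-- A basis of `κ ⊗ Ω[T/A]` of the form `1 ⊗ d(G s)` lifts to a basis `d(G s)` of `Ω[T/A]`
when the latter is finite flat. -/
theorem basis_of_Φ_basis (A T : Type u) [CommRing A] [CommRing T] [IsLocalRing T] [Algebra A T]
    [Module.Finite T Ω[T⁄A]] [Module.Flat T Ω[T⁄A]] {ι : Type} (G : ι → T)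
    (hli : LinearIndependent (ResidueField T) (fun s => Φ A (G s)))
    (hsp : Submodule.span (ResidueField T) (Set.range fun s => Φ A (G s)) = ⊤) :
    LinearIndependent T (fun s => D A T (G s)) ∧
      Submodule.span T (Set.range fun s => D A T (G s)) = ⊤ :=
  ⟨Module.IsLocalRing.linearIndependent_of_flat (fun s => D A T (G s)) hli,
    (span_Φ_eq_top_iff G).mp hsp⟩

/-- If the `d(Xₛ)` form a basis of `Ω[T/A]` and `T` is formally smooth over `A`, then `T` is
formally étale over `A[Xₛ]`. -/
theorem formallyEtale_of_basis (A T : Type u) [CommRing A] [CommRing T] [Algebra A T]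
    (σ : Type) [Algebra (MvPolynomial σ A) T] [IsScalarTower A (MvPolynomial σ A) T]
    [Algebra.FormallySmooth A T]
    (hli : LinearIndependent T
      (fun s : σ => D A T (algebraMap (MvPolynomial σ A) T (MvPolynomial.X s))))
    (hsp : Submodule.span T (Set.range
      fun s : σ => D A T (algebraMap (MvPolynomial σ A) T (MvPolynomial.X s))) = ⊤) :
    Algebra.FormallyEtale (MvPolynomial σ A) T := by
  apply Groth.Agent.H14.formallyEtale_of_bijective_mapBaseChange (A := A)
  rw [Groth.Agent.S5014.bijective_iff_basis ((mvPolynomialBasis A σ).baseChange T)]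
  have h1 : ∀ s : σ, mapBaseChange A (MvPolynomial σ A) T
      (((mvPolynomialBasis A σ).baseChange T) s) =
      D A T (algebraMap (MvPolynomial σ A) T (MvPolynomial.X s)) := by
    intro s
    rw [Module.Basis.baseChange_apply, mvPolynomialBasis_apply, mapBaseChange_tmul, one_smul,
      map_D]
  simp only [h1]
  exact ⟨hli, hsp⟩

/-- If `x/1 ∈ G B_q` then `u x ∈ G` for some `u ∉ q`. -/
theorem exists_mul_mem (B : Type u) [CommRing B] (q : Ideal B) [q.IsPrime] (G : Ideal B) (x : B)
    (hx : algebraMap B (Localization.AtPrime q) x ∈ G.map (algebraMap B (Localization.AtPrime q))) :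
    ∃ u : B, u ∉ q ∧ u * x ∈ G := by
  rw [IsLocalization.mem_map_algebraMap_iff q.primeCompl] at hx
  obtain ⟨⟨a, s⟩, h⟩ := hx
  rw [← map_mul, IsLocalization.eq_iff_exists q.primeCompl] at h
  obtain ⟨c, hc⟩ := h
  refine ⟨c * s, q.primeCompl.mul_mem c.2 s.2, ?_⟩
  have : (c : B) * s * x = c * (a : B) := by
    rw [← hc]; ring
  rw [this]
  exact Ideal.mul_mem_left _ _ a.2

end Groth.Agent.H14.AdaptedCoords
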