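import Mathlib
import Groth.Agent.H10.SolAll
import Groth.Agent.H25.GeomRed
import Groth.Agent.H29.RedModP
import Groth.Agent.S14457

set_option autoImplicit false
set_option maxHeartbeats 400000
set_option linter.style.haveILetI false
set_option linter.unusedSectionVars false
set_option linter.unusedVariables false

/-! Generic lemmas towards the general form of Abhyankar's lemma (`EtAlg.abhyankar_lemma`). -/

namespace Groth.Agent.H14.AbhGen1

universe u

open IsLocalRing TensorProduct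

section Gen

variable {C W Mf F : Type*} [CommRing C] [CommRing W] [IsDomain W] [IsLocalRing W]
  [IsNoetherianRing W] [Field Mf] [Algebra W Mf] [CommRing F]

/-- Generic surjectivity statement: a ring `C` mapping to a DVR-like `W`, with a principal ideal
`(ϖ)` such that `C/(ϖ)` is von Neumann regular, and generating the fraction field. Then `ϖ`
generates the maximal ideal of `W` and the residue field of `W` is a quotient of `C/(ϖ)`. -/
theorem gen_main (hWM : Function.Injective (algebraMap W Mf))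
    (hF : ∀ x : F, ∃ y : F, x * (1 - x * y) = 0)
    (μ : C →+* W) (θ : C →+* F) (hθ : Function.Surjective θ) (ϖ : C)
    (hker : RingHom.ker θ = Ideal.span {ϖ})
    (h0 : μ ϖ ≠ 0) (hnu : ¬ IsUnit (μ ϖ))
    (hgen : ∀ w : W, algebraMap W Mf w ∈
      Subfield.closure (Set.range ((algebraMap W Mf).comp μ))) :
    maximalIdeal W = Ideal.span {μ ϖ} ∧
      ∃ φ : F →+* ResidueField W, (∀ c, φ (θ c) = residue W (μ c)) ∧ Function.Surjective φ := by
  classical
  let q : Ideal C := (maximalIdeal W).comap μ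
  haveI : q.IsPrime := Ideal.comap_isPrime _ _
  have hqϖ : ϖ ∈ q := by
    show μ ϖ ∈ maximalIdeal W
    exact (mem_maximalIdeal _).mpr hnu
  have hunits : ∀ y : q.primeCompl, IsUnit (μ y) := by
    intro y
    by_contra hy
    exact y.2 (show μ y ∈ maximalIdeal W from (mem_maximalIdeal _).mpr hy)
  let μS : Localization.AtPrime q →+* W :=
    IsLocalization.lift (M := q.primeCompl) (g := μ) hunits
  have hμS : ∀ t, μS (algebraMap C (Localization.AtPrime q) t) = μ t :=
    fun t => IsLocalization.lift_eq _ t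
  have hμSloc : ∀ s, IsUnit (μS s) → IsUnit s := by
    intro y hy
    obtain ⟨⟨b, s⟩, rfl⟩ := IsLocalization.mk'_surjective q.primeCompl y
    have h1 : μS (IsLocalization.mk' _ b s) * μ s = μ b := by
      rw [← hμS (s : C), ← map_mul, IsLocalization.mk'_spec, hμS]
    have hb : IsUnit (μ b) := by rw [← h1]; exact hy.mul (hunits s)
    have hbn : b ∈ q.primeCompl := fun hbn => ((mem_maximalIdeal _).mp hbn) hb
    exact (IsLocalization.AtPrime.isUnit_mk'_iff (Localization.AtPrime q) q b s).mpr hbn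
  have hexists : ∀ t ∈ q, ∃ s, s ∉ q ∧ s * t ∈ Ideal.span {ϖ} := by
    intro t ht
    obtain ⟨x, hx⟩ := hF (θ t)
    obtain ⟨y, rfl⟩ := hθ x
    refine ⟨1 - t * y, fun hs => ?_, ?_⟩
    · have h1 : (1 : C) = (1 - t * y) + t * y := by ring
      have : (1 : C) ∈ q := by
        rw [h1]; exact q.add_mem hs (q.mul_mem_right _ ht)
      exact (Ideal.IsPrime.ne_top inferInstance) ((Ideal.eq_top_iff_one q).mpr this)
    · rw [← hker, RingHom.mem_ker, map_mul, map_sub, map_one, map_mul, mul_comm]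
      exact hx
  obtain ⟨ϖS, hϖS⟩ : ∃ ϖS : Localization.AtPrime q,
      ϖS = algebraMap C (Localization.AtPrime q) ϖ := ⟨_, rfl⟩
  have hmS : maximalIdeal (Localization.AtPrime q) = Ideal.span {ϖS} := by
    apply le_antisymm
    · intro x hx
      obtain ⟨⟨t, s'⟩, rfl⟩ := IsLocalization.mk'_surjective q.primeCompl x
      have htq : t ∈ q := (IsLocalization.AtPrime.mk'_mem_maximal_iff
        (Localization.AtPrime q) q t s').mp hx
      obtain ⟨s, hsq, hst⟩ := hexists t htq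
      obtain ⟨t', ht'⟩ := Ideal.mem_span_singleton'.mp hst
      have hu : IsUnit (algebraMap C (Localization.AtPrime q) s) :=
        IsLocalization.map_units (Localization.AtPrime q) (⟨s, hsq⟩ : q.primeCompl)
      have hu' : IsUnit (algebraMap C (Localization.AtPrime q) s') :=
        IsLocalization.map_units (Localization.AtPrime q) s'
      obtain ⟨u, hu⟩ := hu
      obtain ⟨u', hu'⟩ := hu'
      rw [Ideal.mem_span_singleton]
      refine ⟨algebraMap _ _ t' * ↑u⁻¹ * ↑u'⁻¹, ?_⟩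
      have h1 : IsLocalization.mk' (Localization.AtPrime q) t s' * ↑u' =
          algebraMap _ _ t := by rw [hu']; exact IsLocalization.mk'_spec _ t s'
      have h2 : algebraMap C (Localization.AtPrime q) t * ↑u =
          algebraMap _ _ t' * ϖS := by
        rw [hu, hϖS, ← map_mul, ← map_mul, mul_comm t s, ht']
      calc IsLocalization.mk' (Localization.AtPrime q) t s'
          = (IsLocalization.mk' (Localization.AtPrime q) t s' * ↑u') * ↑u'⁻¹ := by
            rw [mul_assoc, Units.mul_inv, mul_one]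
        _ = (algebraMap _ _ t * ↑u) * ↑u⁻¹ * ↑u'⁻¹ := by
            rw [h1, mul_assoc (algebraMap _ _ t), Units.mul_inv, mul_one]
        _ = ϖS * (algebraMap _ _ t' * ↑u⁻¹ * ↑u'⁻¹) := by rw [h2]; ring
    · rw [Ideal.span_singleton_le_iff_mem, hϖS]
      exact (IsLocalization.AtPrime.to_map_mem_maximal_iff (Localization.AtPrime q) q _).mpr hqϖ
  have hμSϖ : μS ϖS = μ ϖ := by rw [hϖS, hμS]
  have hg : ¬ IsUnit (μS ϖS) := by rw [hμSϖ]; exact hnu
  have hg0 : μS ϖS ≠ 0 := by rw [hμSϖ]; exact h0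
  have hsurj : Function.Surjective μS := by
    refine Groth.Agent.H10.SolAll.surjective_of_cond_of_closure (F := Mf) hWM μS hμSloc
      (Groth.Agent.H10.SolAll.cond_quotient_ker ϖS hmS μS hg hg0) ?_
    intro w
    refine Subfield.closure_mono ?_ (hgen w)
    rintro x ⟨c, rfl⟩
    refine ⟨algebraMap C (Localization.AtPrime q) c, ?_⟩
    show algebraMap W Mf (μS (algebraMap C _ c)) = _
    rw [hμS]; rfl
  have hpart1 : maximalIdeal W = Ideal.span {μ ϖ} := by
    apply le_antisymm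
    · intro w hw
      obtain ⟨s, rfl⟩ := hsurj w
      have hsnu : ¬ IsUnit s := fun hs => ((mem_maximalIdeal _).mp hw) (hs.map μS)
      have hsm : s ∈ maximalIdeal (Localization.AtPrime q) := (mem_maximalIdeal _).mpr hsnu
      rw [hmS] at hsm
      obtain ⟨s', hs'⟩ := Ideal.mem_span_singleton'.mp hsm
      rw [← hs', map_mul, hμSϖ]
      exact Ideal.mul_mem_left _ _ (Ideal.mem_span_singleton_self _)
    · rw [Ideal.span_singleton_le_iff_mem]
      exact (mem_maximalIdeal _).mpr hnu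
  have hkerle : RingHom.ker θ ≤ RingHom.ker ((residue W).comp μ) := by
    rw [hker, Ideal.span_singleton_le_iff_mem, RingHom.mem_ker]
    show residue W (μ ϖ) = 0
    exact (residue_eq_zero_iff _).mpr ((mem_maximalIdeal _).mpr hnu)
  let φ : F →+* ResidueField W :=
    RingHom.liftOfSurjective θ hθ ⟨(residue W).comp μ, hkerle⟩
  have hφ : ∀ c, φ (θ c) = residue W (μ c) := fun c =>
    RingHom.liftOfSurjective_comp_apply θ hθ ⟨(residue W).comp μ, hkerle⟩ c
  refine ⟨hpart1, φ, hφ, ?_⟩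
  intro wbar
  obtain ⟨w, rfl⟩ := residue_surjective wbar
  obtain ⟨s, rfl⟩ := hsurj w
  obtain ⟨⟨c, s'⟩, rfl⟩ := IsLocalization.mk'_surjective q.primeCompl s
  have h1 : μS (IsLocalization.mk' _ c s') * μ s' = μ c := by
    rw [← hμS (s' : C), ← map_mul, IsLocalization.mk'_spec, hμS]
  obtain ⟨x, hx⟩ := hF (θ s')
  obtain ⟨y, rfl⟩ := hθ x
  have h2 := congrArg φ hx
  rw [map_mul, map_sub, map_one, map_mul, map_zero] at h2
  have h3 : φ (θ s') ≠ 0 := by
    rw [hφ]
    intro h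
    have h4 := (residue_eq_zero_iff _).mp h
    exact ((mem_maximalIdeal _).mp h4) (hunits s')
  have h4 : φ (θ s') * φ (θ y) = 1 := by
    rcases mul_eq_zero.mp h2 with h | h
    · exact absurd h h3
    · exact (sub_eq_zero.mp h).symm
  refine ⟨θ c * θ y, ?_⟩
  rw [map_mul, hφ c, ← h1, map_mul, ← hφ (s' : C), mul_assoc, h4, mul_one]

end Gen

section Descent

/-- Geometric reducedness passes to a residue field quotient of a von Neumann regular ring. -/
theorem isReduced_tensor_of_surj {k : Type*} [Field k] {F κ Ω : Type*} [CommRing F] [Field κ]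
    [Algebra k F] [Algebra k κ] [CommRing Ω] [Algebra k Ω]
    (hF : ∀ x : F, ∃ y : F, x * (1 - x * y) = 0) (φ : F →ₐ[k] κ) (hφ : Function.Surjective φ)
    [IsReduced (Ω ⊗[k] F)] : IsReduced (Ω ⊗[k] κ) := by
  let Φ : Ω ⊗[k] F →ₐ[k] Ω ⊗[k] κ := Algebra.TensorProduct.map (AlgHom.id k Ω) φ
  have hΦsurj : Function.Surjective Φ :=
    Algebra.TensorProduct.map_surjective _ _ Function.surjective_id hφ
  have hkerΦ : RingHom.ker Φ =
      (RingHom.ker φ).map (Algebra.TensorProduct.includeRight : F →ₐ[k] Ω ⊗[k] F) :=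
    Algebra.TensorProduct.lTensor_ker φ hφ
  have hΦs : ∀ s : F, Φ ((1 : Ω) ⊗ₜ[k] s) = (1 : Ω) ⊗ₜ[k] φ s := by
    intro s
    simp [Φ]
  have hkey : ∀ z : Ω ⊗[k] F, Φ z = 0 → ∃ s : F, φ s ≠ 0 ∧ ((1 : Ω) ⊗ₜ[k] s) * z = 0 := by
    intro z hz
    have hz' : z ∈ (RingHom.ker φ).map
        (Algebra.TensorProduct.includeRight : F →ₐ[k] Ω ⊗[k] F) := by
      rw [← hkerΦ]; exact hz
    clear hz
    rw [Ideal.map] at hz'
    induction hz' using Submodule.span_induction with
    | mem x hx =>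
      obtain ⟨p, hp, rfl⟩ := hx
      obtain ⟨y, hy⟩ := hF p
      have hp0 : φ p = 0 := hp
      refine ⟨1 - p * y, ?_, ?_⟩
      · rw [map_sub, map_one, map_mul, hp0, zero_mul, sub_zero]; exact one_ne_zero
      · show ((1 : Ω) ⊗ₜ[k] (1 - p * y)) * ((1 : Ω) ⊗ₜ[k] p) = 0
        rw [Algebra.TensorProduct.tmul_mul_tmul, mul_one, mul_comm, hy, tmul_zero]
    | zero => exact ⟨1, by rw [map_one]; exact one_ne_zero, mul_zero _⟩
    | add z₁ z₂ _ _ ih₁ ih₂ =>
      obtain ⟨s₁, hs₁, h₁⟩ := ih₁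
      obtain ⟨s₂, hs₂, h₂⟩ := ih₂
      refine ⟨s₁ * s₂, by rw [map_mul]; exact mul_ne_zero hs₁ hs₂, ?_⟩
      have hmul : ((1 : Ω) ⊗ₜ[k] (s₁ * s₂)) = ((1 : Ω) ⊗ₜ[k] s₁) * ((1 : Ω) ⊗ₜ[k] s₂) := by
        rw [Algebra.TensorProduct.tmul_mul_tmul, mul_one]
      rw [hmul, mul_add]
      have e1 : ((1 : Ω) ⊗ₜ[k] s₁) * ((1 : Ω) ⊗ₜ[k] s₂) * z₁ = 0 := by
        rw [mul_comm ((1 : Ω) ⊗ₜ[k] s₁), mul_assoc, h₁, mul_zero]
      have e2 : ((1 : Ω) ⊗ₜ[k] s₁) * ((1 : Ω) ⊗ₜ[k] s₂) * z₂ = 0 := by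
        rw [mul_assoc, h₂, mul_zero]
      rw [e1, e2, add_zero]
    | smul a z _ ih =>
      obtain ⟨s, hs, h⟩ := ih
      refine ⟨s, hs, ?_⟩
      rw [smul_eq_mul, mul_left_comm, h, mul_zero]
  refine ⟨fun x hx => ?_⟩
  obtain ⟨n, hn⟩ := hx
  obtain ⟨xt, rfl⟩ := hΦsurj x
  have hn1 : Φ (xt ^ (n + 1)) = 0 := by rw [map_pow, pow_succ, hn, zero_mul]
  obtain ⟨s, hs, hsz⟩ := hkey _ hn1
  have h1 : (((1 : Ω) ⊗ₜ[k] s) * xt) ^ (n + 1) = 0 := by
    rw [mul_pow, pow_succ ((1 : Ω) ⊗ₜ[k] s) n, mul_assoc, hsz, mul_zero]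
  have h2 : ((1 : Ω) ⊗ₜ[k] s) * xt = 0 := IsReduced.eq_zero _ ⟨n + 1, h1⟩
  have h3 : ((1 : Ω) ⊗ₜ[k] φ s) * Φ xt = 0 := by
    have h4 := congrArg Φ h2
    rw [map_mul, map_zero, hΦs] at h4
    exact h4
  have hu : IsUnit ((1 : Ω) ⊗ₜ[k] φ s) := by
    have h5 : IsUnit (φ s) := IsUnit.mk0 _ hs
    exact h5.map (Algebra.TensorProduct.includeRight : κ →ₐ[k] Ω ⊗[k] κ)
  exact (hu.mul_right_eq_zero).mp h3

end Descent

section Etale

open Polynomial

/-- Etale algebras over a `k`-algebra `R` with `R ⊗ Ω` reduced stay reduced after tensoring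
with `Ω`. -/
theorem isReduced_tensor_of_etale {k : Type u} [Field k] {R : Type u} [CommRing R] [Algebra k R]
    (Ω : Type u) [Field Ω] [Algebra k Ω] [IsReduced (R ⊗[k] Ω)] (E : Type u) [CommRing E]
    [Algebra R E] [Algebra k E] [IsScalarTower k R E] [Algebra.Etale R E] :
    IsReduced (Ω ⊗[k] E) := by
  haveI : Algebra.Etale (R ⊗[k] Ω) ((R ⊗[k] Ω) ⊗[R] E) := inferInstance
  haveI : IsReduced ((R ⊗[k] Ω) ⊗[R] E) :=
    Groth.Agent.H29.RedModP.isReduced_of_smooth (R ⊗[k] Ω) _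
  let e1 : Ω ⊗[k] E ≃ₐ[k] E ⊗[k] Ω := Algebra.TensorProduct.comm k Ω _
  let e2 : E ⊗[R] (R ⊗[k] Ω) ≃ₐ[R] E ⊗[k] Ω :=
    Algebra.TensorProduct.cancelBaseChange k R R E Ω
  let e3 : E ⊗[R] (R ⊗[k] Ω) ≃ₐ[R] (R ⊗[k] Ω) ⊗[R] E :=
    Algebra.TensorProduct.comm R _ _
  exact isReduced_of_injective
    ((e3.toRingEquiv.toRingHom.comp e2.symm.toRingEquiv.toRingHom).comp e1.toRingEquiv.toRingHom)
    ((e3.injective.comp e2.symm.injective).comp e1.injective)

/-- Kummer algebras `R[X]/(X^e - c)` with `e c` invertible over a `k`-algebra `R` with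
`R ⊗ Ω` reduced stay reduced after tensoring with `Ω`. -/
theorem isReduced_tensor_adjoinRoot {k : Type u} [Field k] {R : Type u} [CommRing R] [Algebra k R]
    (Ω : Type u) [Field Ω] [Algebra k Ω] [IsReduced (R ⊗[k] Ω)] (c : R) (e : ℕ) (he : 1 ≤ e)
    (hu : IsUnit ((e : R) * c)) :
    IsReduced (Ω ⊗[k] AdjoinRoot ((X : R[X]) ^ e - C c)) := by
  haveI : Algebra.Etale R (AdjoinRoot ((X : R[X]) ^ e - C c)) :=
    (Groth.Agent.S14457.result R c e he).mpr (Or.inr hu)
  exact isReduced_tensor_of_etale (R := R) Ω (AdjoinRoot ((X : R[X]) ^ e - C c))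

/-- The fibre ring base changed to `Ω` is reduced. -/
theorem isReduced_fibre_tensor (A : Type u) [CommRing A] (kA kV kB Ω : Type u) [Field kA]
    [Field kV] [Field kB] [Field Ω]
    [Algebra A kA] [Algebra A kV] [Algebra A kB] [Algebra kA kB] [IsScalarTower A kA kB]
    [Algebra kV Ω] [Algebra A Ω] [IsScalarTower A kV Ω] [Algebra kA Ω] [IsScalarTower A kA Ω]
    (hsurj : Function.Surjective (algebraMap A kA))
    [IsReduced (Ω ⊗[kA] kB)] : IsReduced ((kV ⊗[A] kB) ⊗[kV] Ω) := by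
  haveI : TensorProduct.CompatibleSMul A kA Ω kB := ⟨fun c x y => by
    obtain ⟨a, rfl⟩ := hsurj c
    rw [algebraMap_smul, algebraMap_smul, TensorProduct.smul_tmul]⟩
  let e1 : (kV ⊗[A] kB) ⊗[kV] Ω ≃ₐ[kV] Ω ⊗[kV] (kV ⊗[A] kB) :=
    Algebra.TensorProduct.comm kV _ _
  let e2 : Ω ⊗[kV] (kV ⊗[A] kB) ≃ₐ[kV] Ω ⊗[A] kB :=
    Algebra.TensorProduct.cancelBaseChange A kV kV Ω kB
  let e3 : Ω ⊗[A] kB ≃ₐ[A] Ω ⊗[kA] kB :=
    Algebra.TensorProduct.equivOfCompatibleSMul kA A A Ω kB
  exact isReduced_of_injective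
    ((e3.toRingEquiv.toRingHom.comp e2.toRingEquiv.toRingHom).comp e1.toRingEquiv.toRingHom)
    ((e3.injective.comp e2.injective).comp e1.injective)

/-- In characteristic zero every reduced algebra is geometrically reduced. -/
theorem forall_isReduced_of_charZero {k S : Type u} [Field k] [CharZero k] [CommRing S]
    [Algebra k S] [IsReduced S] :
    ∀ (K : Type u) [Field K] [Algebra k K], IsReduced (K ⊗[k] S) := by
  have h := (Groth.Agent.H25.GeomRed.tfae_geometricallyReduced (k := k) (S := S)).out 0 2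
  apply h.mp
  intro k' _ _ _ _
  haveI : Algebra.IsSeparable k k' := Algebra.IsAlgebraic.isSeparable_of_perfectField
  exact Groth.Agent.H25.GeomRed.isReduced_tensor_of_isSeparable k' S

theorem forall_isReduced_of_geomReduced {k S : Type u} [Field k] [CommRing S]
    [Algebra k S] [Algebra.IsGeometricallyReduced k S] :
    ∀ (K : Type u) [Field K] [Algebra k K], IsReduced (K ⊗[k] S) := by
  have h := (Groth.Agent.H25.GeomRed.tfae_geometricallyReduced (k := k) (S := S)).out 1 2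
  exact h.mp inferInstance

end Etale

section Kernel

open Polynomial

variable {T F₀ : Type*} [CommRing T] [CommRing F₀] (θ₀ : T →+* F₀)

/-- The quotient `T[X]/(X^e - c, b' - X t'^d)` maps onto `F₀[X]/(X^e - c̄)` with kernel `(t')`,
where `F₀ = T/(t', b')`. -/
theorem exists_thetaC (hθ₀ : Function.Surjective θ₀)
    (t' b' c : T) (hker : RingHom.ker θ₀ = Ideal.span {t', b'}) (e d : ℕ) (hd : d ≠ 0) :
    ∃ θC : (T[X] ⧸ (Ideal.span {(X : T[X]) ^ e - C c, C b' - X * C t' ^ d} : Ideal T[X])) →+*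
        AdjoinRoot ((X : F₀[X]) ^ e - C (θ₀ c)),
      Function.Surjective θC ∧
      RingHom.ker θC = Ideal.span {Ideal.Quotient.mk _ (C t')} ∧
      (∀ z : T, θC (Ideal.Quotient.mk _ (C z)) = AdjoinRoot.of _ (θ₀ z)) := by
  obtain ⟨gt, hgt⟩ : ∃ gt : T[X], gt = (X : T[X]) ^ e - C c := ⟨_, rfl⟩
  obtain ⟨rt, hrt⟩ : ∃ rt : T[X], rt = C b' - X * C t' ^ d := ⟨_, rfl⟩
  obtain ⟨g, hg⟩ : ∃ g : F₀[X], g = (X : F₀[X]) ^ e - C (θ₀ c) := ⟨_, rfl⟩
  rw [← hgt, ← hrt, ← hg]
  have ht0 : θ₀ t' = 0 := by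
    have : t' ∈ RingHom.ker θ₀ := by rw [hker]; exact Ideal.subset_span (by simp)
    exact this
  have hb0 : θ₀ b' = 0 := by
    have : b' ∈ RingHom.ker θ₀ := by rw [hker]; exact Ideal.subset_span (by simp)
    exact this
  let θ₁ : T[X] →+* AdjoinRoot g := (AdjoinRoot.mk g).comp (Polynomial.mapRingHom θ₀)
  have hθ₁ : ∀ p, θ₁ p = AdjoinRoot.mk g (p.map θ₀) := fun p => rfl
  have hmapg : gt.map θ₀ = g := by
    rw [hgt, hg, Polynomial.map_sub, Polynomial.map_pow, Polynomial.map_X, Polynomial.map_C]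
  have hθg : θ₁ gt = 0 := by rw [hθ₁, hmapg, AdjoinRoot.mk_self]
  have hθr : θ₁ rt = 0 := by
    rw [hθ₁, hrt, Polynomial.map_sub, Polynomial.map_mul, Polynomial.map_pow, Polynomial.map_X,
      Polynomial.map_C, Polynomial.map_C, ht0, hb0, map_zero, zero_pow hd, mul_zero, sub_zero,
      map_zero]
  have hIle : (Ideal.span {gt, rt} : Ideal T[X]) ≤ RingHom.ker θ₁ := by
    rw [Ideal.span_le]
    intro p hp
    rcases hp with hp | hp
    · rw [hp]; exact hθg
    · rw [Set.mem_singleton_iff] at hp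
      rw [hp]; exact hθr
  let θC : (T[X] ⧸ (Ideal.span {gt, rt} : Ideal T[X])) →+* AdjoinRoot g :=
    Ideal.Quotient.lift _ θ₁ (fun p hp => hIle hp)
  have hθC : ∀ p, θC (Ideal.Quotient.mk _ p) = θ₁ p := fun p => rfl
  have hθ₁surj : Function.Surjective θ₁ :=
    AdjoinRoot.mk_surjective.comp (Polynomial.map_surjective θ₀ hθ₀)
  refine ⟨θC, ?_, ?_, ?_⟩
  · intro x
    obtain ⟨p, rfl⟩ := hθ₁surj x
    exact ⟨Ideal.Quotient.mk _ p, rfl⟩
  · apply le_antisymm
    · intro x hx
      obtain ⟨p, rfl⟩ := Ideal.Quotient.mk_surjective x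
      rw [RingHom.mem_ker, hθC, hθ₁, AdjoinRoot.mk_eq_zero] at hx
      obtain ⟨h, hh⟩ := hx
      obtain ⟨ht, rfl⟩ := Polynomial.map_surjective θ₀ hθ₀ h
      have h1 : (p - gt * ht).map θ₀ = 0 := by
        rw [Polynomial.map_sub, Polynomial.map_mul, hmapg, hh, sub_self]
      have h2 : p - gt * ht ∈ RingHom.ker (Polynomial.mapRingHom θ₀) := h1
      rw [Polynomial.ker_mapRingHom, hker, Ideal.map_span] at h2
      have h3 : Ideal.Quotient.mk (Ideal.span {gt, rt} : Ideal T[X]) (p - gt * ht) ∈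
          Ideal.span {Ideal.Quotient.mk (Ideal.span {gt, rt} : Ideal T[X]) (C t')} := by
        have h4 : Ideal.span ((C : T →+* T[X]) '' {t', b'}) ≤
            (Ideal.span {Ideal.Quotient.mk (Ideal.span {gt, rt} : Ideal T[X]) (C t')}).comap
              (Ideal.Quotient.mk (Ideal.span {gt, rt} : Ideal T[X])) := by
          rw [Ideal.span_le]
          rintro _ ⟨z, hz, rfl⟩
          rcases hz with hz | hz
          · rw [hz]
            exact Ideal.mem_span_singleton_self _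
          · rw [Set.mem_singleton_iff] at hz
            rw [hz]
            show Ideal.Quotient.mk (Ideal.span {gt, rt} : Ideal T[X]) (C b') ∈
              Ideal.span {Ideal.Quotient.mk (Ideal.span {gt, rt} : Ideal T[X]) (C t')}
            have h5 : Ideal.Quotient.mk (Ideal.span {gt, rt} : Ideal T[X]) (C b') =
                Ideal.Quotient.mk _ (X * C t' ^ d) := by
              rw [Ideal.Quotient.eq, ← hrt]
              exact Ideal.subset_span (by simp)
            rw [h5, map_mul, map_pow]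
            exact Ideal.mul_mem_left _ _
              (Ideal.pow_mem_of_mem _ (Ideal.mem_span_singleton_self _) d
                (Nat.pos_of_ne_zero hd))
        exact h4 h2
      have h6 : Ideal.Quotient.mk (Ideal.span {gt, rt} : Ideal T[X]) p =
          Ideal.Quotient.mk _ (p - gt * ht) := by
        rw [eq_comm, Ideal.Quotient.eq]
        have : p - gt * ht - p = -(gt * ht) := by ring
        rw [this]
        exact neg_mem (Ideal.mul_mem_right _ _ (Ideal.subset_span (by simp)))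
      rw [h6]
      exact h3
    · rw [Ideal.span_singleton_le_iff_mem, RingHom.mem_ker, hθC, hθ₁, Polynomial.map_C, ht0,
        map_zero, map_zero]
  · intro z
    rw [hθC, hθ₁, Polynomial.map_C, AdjoinRoot.mk_C]

end Kernel

end Groth.Agent.H14.AbhGen1
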