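import Mathlib
import Groth.Agent.H14.AbhGen1
import Groth.Agent.H78.ValExt

set_option autoImplicit false
set_option maxHeartbeats 1000000
set_option linter.style.haveILetI false
set_option linter.unusedSectionVars false
set_option linter.unusedVariables false

/-! The general form of Abhyankar's lemma for abstract discrete valuation rings. -/

namespace Groth.Agent.H14.AbhGen2

universe u

open IsLocalRing TensorProduct Polynomial Groth.Agent.H14.AbhGen1

section Main

variable (A : Type u) {B : Type u} [CommRing A] [IsDomain A] [IsDiscreteValuationRing A]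
  [CommRing B] [IsDomain B] [IsDiscreteValuationRing B] [Algebra A B]
  [IsLocalHom (algebraMap A B)]
  (V W : Type u) [CommRing V] [IsDomain V] [IsDiscreteValuationRing V]
  [CommRing W] [IsDomain W] [IsDiscreteValuationRing W]
  [Algebra A V] [IsLocalHom (algebraMap A V)]
  [Algebra B W] [IsLocalHom (algebraMap B W)] [Algebra A W] [Algebra V W]
  [IsLocalHom (algebraMap V W)]
  [IsScalarTower A B W] [IsScalarTower A V W]
  (Mf : Type u) [Field Mf] [Algebra W Mf] [IsFractionRing W Mf]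

/-- Abhyankar's lemma, abstract form: `A → B` tamely ramified of index `e` with geometrically
reduced residue extension, `V` a DVR over `A` with finite residue extension and ramification index
divisible by `e`, `W` a DVR dominating `B` and `V` with fraction field generated by them. Then
`V → W` is weakly unramified with geometrically reduced residue field extension. -/
theorem core
    (hAB : Function.Injective (algebraMap A B)) (hAV : Function.Injective (algebraMap A V))
    (hBW : Function.Injective (algebraMap B W)) (hVW : Function.Injective (algebraMap V W))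
    [Module.Finite (ResidueField A) (ResidueField V)]
    (hgr : ∀ (K : Type u) [Field K] [Algebra (ResidueField A) K],
      IsReduced (K ⊗[ResidueField A] ResidueField B))
    (heu : Ideal.ramificationIdx' (maximalIdeal A) (maximalIdeal B) ≠ 0 →
      IsUnit ((Ideal.ramificationIdx' (maximalIdeal A) (maximalIdeal B) : ℕ) : A))
    (hdvd : Ideal.ramificationIdx' (maximalIdeal A) (maximalIdeal B) ∣
      Ideal.ramificationIdx' (maximalIdeal A) (maximalIdeal V))
    (hgen : ∀ z : Mf, z ∈ Subfield.closure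
      (Set.range ((algebraMap W Mf).comp (algebraMap B W)) ∪
        Set.range ((algebraMap W Mf).comp (algebraMap V W)))) :
    (maximalIdeal V).map (algebraMap V W) = maximalIdeal W ∧
      Algebra.IsGeometricallyReduced (ResidueField V) (ResidueField W) := by
  classical
  obtain ⟨πA, hπA⟩ := IsDiscreteValuationRing.exists_irreducible A
  obtain ⟨πB, hπB⟩ := IsDiscreteValuationRing.exists_irreducible B
  obtain ⟨t, ht⟩ := IsDiscreteValuationRing.exists_irreducible V
  obtain ⟨ω, hω⟩ := IsDiscreteValuationRing.exists_irreducible W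
  have hπAB0 : algebraMap A B πA ≠ 0 := fun h => hπA.ne_zero (hAB (by rw [h, map_zero]))
  have hπAV0 : algebraMap A V πA ≠ 0 := fun h => hπA.ne_zero (hAV (by rw [h, map_zero]))
  obtain ⟨e, uB0, huB0⟩ := IsDiscreteValuationRing.associated_pow_irreducible hπAB0 hπB
  obtain ⟨e₁, u10, hu10⟩ := IsDiscreteValuationRing.associated_pow_irreducible hπAV0 ht
  obtain ⟨uB, huB⟩ : ∃ uB : Bˣ, uB = uB0⁻¹ := ⟨_, rfl⟩
  obtain ⟨u₁, hu₁⟩ : ∃ u₁ : Vˣ, u₁ = u10⁻¹ := ⟨_, rfl⟩
  have hB : algebraMap A B πA = ↑uB * πB ^ e := by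
    rw [huB, ← huB0, mul_comm (algebraMap A B πA), ← mul_assoc, Units.inv_mul, one_mul]
  have hV1 : algebraMap A V πA = ↑u₁ * t ^ e₁ := by
    rw [hu₁, ← hu10, mul_comm (algebraMap A V πA), ← mul_assoc, Units.inv_mul, one_mul]
  have he : Ideal.ramificationIdx' (maximalIdeal A) (maximalIdeal B) = e :=
    Groth.Agent.H78.ValExt.ram_eq πA hπA.maximalIdeal_eq πB hπB.maximalIdeal_eq hπB.ne_zero
      uB e hB
  have he₁ : Ideal.ramificationIdx' (maximalIdeal A) (maximalIdeal V) = e₁ :=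
    Groth.Agent.H78.ValExt.ram_eq πA hπA.maximalIdeal_eq t ht.maximalIdeal_eq ht.ne_zero
      u₁ e₁ hV1
  rw [he] at heu hdvd
  rw [he₁] at hdvd
  obtain ⟨d, rfl⟩ := hdvd
  have he0 : e ≠ 0 := by
    rintro rfl
    rw [pow_zero, mul_one] at hB
    exact hπA.not_isUnit (isUnit_of_map_unit (algebraMap A B) πA (by rw [hB]; exact uB.isUnit))
  replace heu := heu he0
  have hd0 : d ≠ 0 := by
    rintro rfl
    rw [mul_zero, pow_zero, mul_one] at hV1
    exact hπA.not_isUnit (isUnit_of_map_unit (algebraMap A V) πA (by rw [hV1]; exact u₁.isUnit))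
  -- elements of `W`
  obtain ⟨b, hb⟩ : ∃ b : W, b = algebraMap B W πB := ⟨_, rfl⟩
  obtain ⟨τ, hτ⟩ : ∃ τ : W, τ = algebraMap V W t := ⟨_, rfl⟩
  have hb0 : b ≠ 0 := by
    rw [hb]; exact fun h => hπB.ne_zero (hBW (by rw [h, map_zero]))
  have hτ0 : τ ≠ 0 := by
    rw [hτ]; exact fun h => ht.ne_zero (hVW (by rw [h, map_zero]))
  have hτnu : ¬ IsUnit τ := by
    rw [hτ]; exact fun h => ht.not_isUnit (isUnit_of_map_unit (algebraMap V W) t h)
  obtain ⟨UB, hUB⟩ : ∃ UB : Wˣ, (UB : W) = algebraMap B W uB :=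
    ⟨Units.map (algebraMap B W : B →* W) uB, rfl⟩
  obtain ⟨U₁, hU₁⟩ : ∃ U₁ : Wˣ, (U₁ : W) = algebraMap V W u₁ :=
    ⟨Units.map (algebraMap V W : V →* W) u₁, rfl⟩
  have hW1 : (UB : W) * b ^ e = U₁ * τ ^ (e * d) := by
    rw [hUB, hU₁, hb, hτ, ← map_pow, ← map_pow, ← map_mul, ← map_mul, ← hB, ← hV1,
      ← IsScalarTower.algebraMap_apply, ← IsScalarTower.algebraMap_apply]
  obtain ⟨m, β0, hβ0⟩ := IsDiscreteValuationRing.associated_pow_irreducible hb0 hω
  obtain ⟨n, γ0, hγ0⟩ := IsDiscreteValuationRing.associated_pow_irreducible hτ0 hω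
  have hbω : b = ↑β0⁻¹ * ω ^ m := by
    rw [← hβ0, mul_comm b, ← mul_assoc, Units.inv_mul, one_mul]
  have hτω : τ = ↑γ0⁻¹ * ω ^ n := by
    rw [← hγ0, mul_comm τ, ← mul_assoc, Units.inv_mul, one_mul]
  have hme : m * e = n * (e * d) := by
    refine IsDiscreteValuationRing.unit_mul_pow_congr_pow hω hω (UB * β0⁻¹ ^ e)
      (U₁ * γ0⁻¹ ^ (e * d)) _ _ ?_
    simp only [Units.val_mul, Units.val_pow_eq_pow_val]
    calc (UB : W) * (↑β0⁻¹ : W) ^ e * ω ^ (m * e) = ↑UB * (↑β0⁻¹ * ω ^ m) ^ e := by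
          rw [mul_pow, ← pow_mul, mul_assoc]
      _ = ↑U₁ * (↑γ0⁻¹ * ω ^ n) ^ (e * d) := by rw [← hbω, ← hτω, hW1]
      _ = ↑U₁ * (↑γ0⁻¹ : W) ^ (e * d) * ω ^ (n * (e * d)) := by
          rw [mul_pow, ← pow_mul, mul_assoc]
  have hmn : m = n * d := by
    have h1 : m * e = (n * d) * e := by rw [hme]; ring
    exact Nat.eq_of_mul_eq_mul_right (Nat.pos_of_ne_zero he0) h1
  obtain ⟨y, hy⟩ : ∃ y : W, y = ↑β0⁻¹ * (γ0 : W) ^ d := ⟨_, rfl⟩
  have hyb : b = y * τ ^ d := by
    have h1 : (γ0 : W) ^ d * (↑γ0⁻¹ : W) ^ d = 1 := by rw [← mul_pow, Units.mul_inv, one_pow]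
    calc b = ↑β0⁻¹ * ω ^ m := hbω
      _ = ↑β0⁻¹ * ((γ0 : W) ^ d * (↑γ0⁻¹ : W) ^ d) * ω ^ (n * d) := by rw [h1, mul_one, hmn]
      _ = ↑β0⁻¹ * (γ0 : W) ^ d * (↑γ0⁻¹ * ω ^ n) ^ d := by rw [mul_pow, ← pow_mul]; ring
      _ = y * τ ^ d := by rw [← hy, ← hτω]
  have hye : (UB : W) * y ^ e = U₁ := by
    have h1 : (UB : W) * y ^ e * τ ^ (e * d) = U₁ * τ ^ (e * d) := by
      rw [← hW1, hyb, mul_pow, ← pow_mul, mul_assoc, mul_comm d e]
    exact mul_right_cancel₀ (pow_ne_zero _ hτ0) h1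
  -- the tensor product
  obtain ⟨c, hc⟩ : ∃ c : V ⊗[A] B, c = (u₁ : V) ⊗ₜ[A] ((uB⁻¹ : Bˣ) : B) := ⟨_, rfl⟩
  have hcu : IsUnit c := by
    refine IsUnit.of_mul_eq_one (((u₁⁻¹ : Vˣ) : V) ⊗ₜ[A] (uB : B)) ?_
    rw [hc, Algebra.TensorProduct.tmul_mul_tmul, Units.mul_inv, Units.inv_mul]
    exact Algebra.TensorProduct.one_def.symm
  let μ₀ : V ⊗[A] B →ₐ[A] W :=
    Algebra.TensorProduct.productMap (IsScalarTower.toAlgHom A V W) (IsScalarTower.toAlgHom A B W)
  have hμ₀ : ∀ (v : V) (x : B), μ₀ (v ⊗ₜ x) = algebraMap V W v * algebraMap B W x := by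
    intro v x; simp [μ₀]
  obtain ⟨t', ht'⟩ : ∃ t' : V ⊗[A] B, t' = t ⊗ₜ[A] (1 : B) := ⟨_, rfl⟩
  obtain ⟨b', hb'⟩ : ∃ b' : V ⊗[A] B, b' = (1 : V) ⊗ₜ[A] πB := ⟨_, rfl⟩
  have hμt : μ₀ t' = τ := by rw [ht', hμ₀, map_one, mul_one, hτ]
  have hμb : μ₀ b' = b := by rw [hb', hμ₀, map_one, one_mul, hb]
  have hμc : μ₀ c * UB = U₁ := by
    rw [hc, hμ₀, hUB, hU₁, mul_assoc, ← map_mul, Units.inv_mul, map_one, mul_one]
  have hyc : y ^ e = μ₀ c := by
    have h1 : (UB : W) * y ^ e = UB * μ₀ c := by rw [hye, ← hμc, mul_comm]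
    exact mul_left_cancel₀ UB.ne_zero h1
  let μ₁ : (V ⊗[A] B)[X] →+* W := Polynomial.eval₂RingHom (μ₀ : V ⊗[A] B →+* W) y
  have hμ₁C : ∀ z, μ₁ (C z) = μ₀ z := fun z => by simp [μ₁]
  have hμ₁X : μ₁ X = y := by simp [μ₁]
  -- the fibre
  let θ₀ : V ⊗[A] B →ₐ[A] ResidueField V ⊗[A] ResidueField B :=
    Algebra.TensorProduct.map (IsScalarTower.toAlgHom A V (ResidueField V))
      (IsScalarTower.toAlgHom A B (ResidueField B))
  have hθ₀surj : Function.Surjective (θ₀ : V ⊗[A] B →+* ResidueField V ⊗[A] ResidueField B) :=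
    Algebra.TensorProduct.map_surjective _ _ residue_surjective residue_surjective
  have hθ₀ : ∀ (v : V) (x : B), θ₀ (v ⊗ₜ x) = residue V v ⊗ₜ residue B x := fun v x => rfl
  have hkerθ₀ : RingHom.ker (θ₀ : V ⊗[A] B →+* ResidueField V ⊗[A] ResidueField B) =
      Ideal.span {t', b'} := by
    have hkV : RingHom.ker (IsScalarTower.toAlgHom A V (ResidueField V)) = maximalIdeal V := by
      ext x; rw [RingHom.mem_ker]; exact residue_eq_zero_iff x
    have hkB : RingHom.ker (IsScalarTower.toAlgHom A B (ResidueField B)) = maximalIdeal B := by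
      ext x; rw [RingHom.mem_ker]; exact residue_eq_zero_iff x
    rw [← AlgHom.ker_coe]
    show RingHom.ker (Algebra.TensorProduct.map (IsScalarTower.toAlgHom A V (ResidueField V))
      (IsScalarTower.toAlgHom A B (ResidueField B))) = _
    rw [Algebra.TensorProduct.map_ker _ _ residue_surjective residue_surjective, hkV, hkB,
      ht.maximalIdeal_eq, hπB.maximalIdeal_eq, Ideal.map_span, Ideal.map_span,
      Set.image_singleton, Set.image_singleton, ht', hb', Ideal.span_insert]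
    rfl
  obtain ⟨g, hg⟩ : ∃ g : (ResidueField V ⊗[A] ResidueField B)[X],
      g = (X : (ResidueField V ⊗[A] ResidueField B)[X]) ^ e -
        C ((θ₀ : V ⊗[A] B →+* ResidueField V ⊗[A] ResidueField B) c) := ⟨_, rfl⟩
  obtain ⟨I, hI⟩ : ∃ I : Ideal (V ⊗[A] B)[X],
      I = Ideal.span {(X : (V ⊗[A] B)[X]) ^ e - C c, C b' - X * C t' ^ d} := ⟨_, rfl⟩
  have key := exists_thetaC (θ₀ : V ⊗[A] B →+* ResidueField V ⊗[A] ResidueField B) hθ₀surj
    t' b' c hkerθ₀ e d hd0
  rw [← hg, ← hI] at key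
  obtain ⟨θC, hθCsurj, hθCker, hθCC⟩ := key
  have hIle : I ≤ RingHom.ker μ₁ := by
    rw [hI, Ideal.span_le]
    intro p hp
    rcases hp with hp | hp
    · rw [hp, SetLike.mem_coe, RingHom.mem_ker, map_sub, map_pow, hμ₁X, hμ₁C, hyc, sub_self]
    · rw [Set.mem_singleton_iff] at hp
      rw [hp, SetLike.mem_coe, RingHom.mem_ker, map_sub, map_mul, map_pow, hμ₁X, hμ₁C, hμ₁C,
        hμb, hμt, hyb, sub_self]
  let μC : (V ⊗[A] B)[X] ⧸ I →+* W := Ideal.Quotient.lift I μ₁ (fun p hp => hIle hp)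
  have hμC : ∀ p, μC (Ideal.Quotient.mk I p) = μ₁ p := fun p => rfl
  -- properties of the fibre ring
  have hunit : IsUnit (((e : ℕ) : ResidueField V ⊗[A] ResidueField B) *
      (θ₀ : V ⊗[A] B →+* ResidueField V ⊗[A] ResidueField B) c) := by
    refine IsUnit.mul ?_ (hcu.map _)
    have h1 : ((e : ℕ) : ResidueField V ⊗[A] ResidueField B) =
        algebraMap A (ResidueField V ⊗[A] ResidueField B) ((e : ℕ) : A) := by rw [map_natCast]
    rw [h1]; exact heu.map _
  haveI : IsReduced (AlgebraicClosure (ResidueField V) ⊗[ResidueField A] ResidueField B) :=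
    hgr (AlgebraicClosure (ResidueField V))
  haveI : IsReduced ((ResidueField V ⊗[A] ResidueField B) ⊗[ResidueField V]
      AlgebraicClosure (ResidueField V)) :=
    isReduced_fibre_tensor A (ResidueField A) (ResidueField V) (ResidueField B)
      (AlgebraicClosure (ResidueField V)) residue_surjective
  haveI hΩF : IsReduced (AlgebraicClosure (ResidueField V) ⊗[ResidueField V] AdjoinRoot g) := by
    rw [hg]
    exact isReduced_tensor_adjoinRoot (k := ResidueField V) (AlgebraicClosure (ResidueField V)) _ e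
      (Nat.one_le_iff_ne_zero.mpr he0) hunit
  haveI : IsReduced (AdjoinRoot g) :=
    isReduced_of_injective
      (Algebra.TensorProduct.includeRight : AdjoinRoot g →ₐ[ResidueField V]
        AlgebraicClosure (ResidueField V) ⊗[ResidueField V] AdjoinRoot g)
      (Algebra.TensorProduct.includeRight_injective
        (algebraMap (ResidueField V) (AlgebraicClosure (ResidueField V))).injective)
  haveI : Module.Finite A (ResidueField V) :=
    Module.Finite.trans (ResidueField A) (ResidueField V)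
  haveI : IsArtinianRing (ResidueField B ⊗[A] ResidueField V) :=
    IsArtinianRing.of_finite (ResidueField B) _
  haveI : IsArtinianRing (ResidueField V ⊗[A] ResidueField B) :=
    (Algebra.TensorProduct.comm A (ResidueField B) (ResidueField V)).toRingEquiv.isArtinianRing
  have hgmonic : g.Monic := by rw [hg]; exact Polynomial.monic_X_pow_sub_C _ he0
  haveI : Module.Finite (ResidueField V ⊗[A] ResidueField B) (AdjoinRoot g) :=
    hgmonic.finite_adjoinRoot
  haveI : IsArtinianRing (AdjoinRoot g) :=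
    IsArtinianRing.of_finite (ResidueField V ⊗[A] ResidueField B) (AdjoinRoot g)
  have hVNR : ∀ x : AdjoinRoot g, ∃ y : AdjoinRoot g, x * (1 - x * y) = 0 := fun x =>
    Groth.Agent.H10.SolAll.exists_mul_one_sub_eq_zero x
  -- apply the generic statement
  have h0 : μC (Ideal.Quotient.mk I (C t')) ≠ 0 := by rw [hμC, hμ₁C, hμt]; exact hτ0
  have hnu : ¬ IsUnit (μC (Ideal.Quotient.mk I (C t'))) := by rw [hμC, hμ₁C, hμt]; exact hτnu
  have hgen' : ∀ w : W, algebraMap W Mf w ∈
      Subfield.closure (Set.range ((algebraMap W Mf).comp μC)) := by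
    intro w
    refine Subfield.closure_mono ?_ (hgen _)
    rintro x (⟨x, rfl⟩ | ⟨v, rfl⟩)
    · refine ⟨Ideal.Quotient.mk I (C ((1 : V) ⊗ₜ[A] x)), ?_⟩
      show algebraMap W Mf (μC (Ideal.Quotient.mk I (C ((1 : V) ⊗ₜ[A] x)))) = _
      rw [hμC, hμ₁C, hμ₀, map_one, one_mul]; rfl
    · refine ⟨Ideal.Quotient.mk I (C (v ⊗ₜ[A] (1 : B))), ?_⟩
      show algebraMap W Mf (μC (Ideal.Quotient.mk I (C (v ⊗ₜ[A] (1 : B))))) = _
      rw [hμC, hμ₁C, hμ₀, map_one, mul_one]; rfl
  obtain ⟨hmax, φ, hφ, hφsurj⟩ := gen_main (Mf := Mf) (IsFractionRing.injective W Mf) hVNR μC θC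
    hθCsurj (Ideal.Quotient.mk I (C t')) hθCker h0 hnu hgen'
  have hτmax : maximalIdeal W = Ideal.span {τ} := by rw [hmax, hμC, hμ₁C, hμt]
  refine ⟨?_, ?_⟩
  · rw [ht.maximalIdeal_eq, Ideal.map_span, Set.image_singleton, ← hτ, hτmax]
  · rw [Algebra.isGeometricallyReduced_field_iff]
    have hcomm : ∀ r : ResidueField V, φ (algebraMap (ResidueField V) (AdjoinRoot g) r) =
        algebraMap (ResidueField V) (ResidueField W) r := by
      intro r
      obtain ⟨v, rfl⟩ := residue_surjective r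
      have h1 : algebraMap (ResidueField V) (AdjoinRoot g) (residue V v) =
          θC (Ideal.Quotient.mk I (C (v ⊗ₜ[A] (1 : B)))) := by
        rw [hθCC]
        show AdjoinRoot.of g (algebraMap (ResidueField V) (ResidueField V ⊗[A] ResidueField B)
          (residue V v)) = _
        rw [Algebra.TensorProduct.algebraMap_apply]
        congr 1
      rw [h1, hφ, hμC, hμ₁C, hμ₀, map_one, mul_one]
      rfl
    let φa : AdjoinRoot g →ₐ[ResidueField V] ResidueField W := { φ with commutes' := hcomm }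
    exact isReduced_tensor_of_surj (Ω := AlgebraicClosure (ResidueField V)) hVNR φa hφsurj

end Main

end Groth.Agent.H14.AbhGen2
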