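import Groth.Agent.H14.KaehlerGen
import Groth.Agent.H14.AdaptedCoords
import Groth.Prelude.Def_RegImm

set_option autoImplicit false
universe u

namespace Groth.Agent.H14.RelGCIJac

open IsLocalRing KaehlerDifferential TensorProduct MvPolynomial

/-- If a maximal minor of the Jacobian matrix is a unit at `q`, then `R[x]/(F)` is smooth at `q`. -/
theorem isSmoothAt_of_minor (R : Type u) [CommRing R] (n c : ℕ)
    (F : Fin c → MvPolynomial (Fin n) R)
    (q : Ideal (MvPolynomial (Fin n) R ⧸ Ideal.span (Set.range F))) [q.IsPrime]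
    (I : Fin c ↪ Fin n)
    (h : Ideal.Quotient.mk (Ideal.span (Set.range F))
        (Matrix.det (Matrix.of fun j i => MvPolynomial.pderiv (I i) (F j))) ∉ q) :
    Algebra.IsSmoothAt R q := by
  classical
  let P0 : Algebra.PreSubmersivePresentation R
      (MvPolynomial (Fin n) R ⧸ Ideal.span (Set.range F)) (Fin n) (Fin c) :=
    Algebra.PreSubmersivePresentation.naive (v := F) I I.injective
  have hjac : P0.jacobian = Ideal.Quotient.mk (Ideal.span (Set.range F))
        (Matrix.det (Matrix.of fun j i => MvPolynomial.pderiv (I i) (F j))) := by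
    rw [P0.jacobian_eq_jacobiMatrix_det]
    have : P0.jacobiMatrix = (Matrix.of fun j i => MvPolynomial.pderiv (I i) (F j)).transpose := by
      ext i j
      simp [P0]
    rw [this, Matrix.det_transpose]
    rfl
  rw [← hjac] at h
  let Q : Algebra.SubmersivePresentation
      (MvPolynomial (Fin n) R ⧸ Ideal.span (Set.range F))
      (Localization.Away P0.jacobian) Unit Unit :=
    Algebra.SubmersivePresentation.localizationAway (Localization.Away P0.jacobian) P0.jacobian
  let PQ : Algebra.SubmersivePresentation R (Localization.Away P0.jacobian)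
      (Unit ⊕ Fin n) (Unit ⊕ Fin c) :=
    { toPreSubmersivePresentation := Q.toPreSubmersivePresentation.comp P0
      jacobian_isUnit := by
        rw [Algebra.PreSubmersivePresentation.comp_jacobian_eq_jacobian_smul_jacobian,
          Algebra.smul_def]
        exact (IsLocalization.map_units _
          (⟨P0.jacobian, 1, by simp⟩ : Submonoid.powers P0.jacobian)).mul Q.jacobian_isUnit }
  haveI : Algebra.IsStandardSmooth R (Localization.Away P0.jacobian) := PQ.isStandardSmooth
  haveI : Algebra.FinitePresentation R (MvPolynomial (Fin n) R ⧸ Ideal.span (Set.range F)) :=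
    P0.toPresentation.finitePresentation_of_isFinite
  have hsub := (Algebra.basicOpen_subset_smoothLocus_iff (R := R)
    (A := MvPolynomial (Fin n) R ⧸ Ideal.span (Set.range F)) (f := P0.jacobian)).mpr inferInstance
  exact hsub (show (⟨q, inferInstance⟩ : PrimeSpectrum _) ∈ PrimeSpectrum.basicOpen P0.jacobian from h)

theorem exists_embedding_det_ne_zero {K : Type*} [Field K] (c n : ℕ)
    (M : Matrix (Fin c) (Fin n) K) (h : LinearIndependent K M.row) :
    ∃ I : Fin c ↪ Fin n, (M.submatrix id I).det ≠ 0 := by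
  classical
  have hrank : M.rank = c := by
    rw [Matrix.rank_eq_finrank_span_row, finrank_span_eq_card h, Fintype.card_fin]
  have hcols : Submodule.span K (Set.range M.col) = ⊤ := by
    apply Submodule.eq_top_of_finrank_eq
    rw [← Matrix.rank_eq_finrank_span_cols, hrank]
    simp
  obtain ⟨κ', a, ha, hsp, hli⟩ := exists_linearIndependent' K M.col
  rw [hcols] at hsp
  let b := Module.Basis.mk hli hsp.ge
  haveI : Finite κ' := Module.Finite.finite_basis b
  have hcard : Nat.card κ' = c := by
    rw [← Module.finrank_eq_nat_card_basis b]; simp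
  let e := Finite.equivFinOfCardEq hcard
  refine ⟨⟨a ∘ e.symm, ha.comp e.symm.injective⟩, ?_⟩
  have hli2 : LinearIndependent K (M.submatrix id (a ∘ e.symm)).col := by
    have : (M.submatrix id (a ∘ e.symm)).col = (M.col ∘ a) ∘ e.symm := by
      ext i j
      rfl
    rw [this]
    exact hli.comp e.symm e.symm.injective
  have := Matrix.linearIndependent_cols_iff_isUnit.mp hli2
  exact ((Matrix.isUnit_iff_isUnit_det _).mp this).ne_zero

/-- Each irreducible component of `k[x₁..xₙ]/(G₁..G_c)` has dimension at least `n - c`. -/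
theorem le_dim_quot_add (k : Type u) [Field k] (n c : ℕ) (B : Type u) [CommRing B] [Algebra k B]
    (π : MvPolynomial (Fin n) k →ₐ[k] B) (hπ : Function.Surjective π)
    (G : Fin c → MvPolynomial (Fin n) k)
    (hker : RingHom.ker π.toRingHom = Ideal.span (Set.range G)) (q0 : Ideal B)
    (hq0 : q0 ∈ minimalPrimes B) :
    (n : WithBot ℕ∞) ≤ ringKrullDim (B ⧸ q0) + c := by
  classical
  haveI : q0.IsPrime := hq0.1.1
  set 𝔓 : Ideal (MvPolynomial (Fin n) k) := q0.comap π.toRingHom with h𝔓
  have h1 : 𝔓 ∈ (Ideal.span (Set.range G)).minimalPrimes := by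
    rw [← hker, RingHom.ker_eq_comap_bot, Ideal.comap_minimalPrimes_eq_of_surjective hπ]
    exact ⟨q0, hq0, rfl⟩
  have h2 : 𝔓.height ≤ c := by
    have hs : (Set.range G) = ((Finset.univ.image G : Finset _) : Set _) := by simp
    rw [hs] at h1
    refine (Ideal.height_le_card_of_mem_minimalPrimes_span_finset h1).trans ?_
    exact_mod_cast (Finset.card_image_le.trans (by simp))
  have h3 : ringKrullDim (MvPolynomial (Fin n) k ⧸ 𝔓) = ringKrullDim (B ⧸ q0) := by
    apply ringKrullDim_eq_of_ringEquiv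
    exact RingEquiv.ofBijective (Ideal.quotientMap q0 π.toRingHom le_rfl)
      ⟨Ideal.quotientMap_injective, Ideal.quotientMap_surjective hπ⟩
  obtain ⟨t, ht⟩ := Groth.Agent.H14.EtaleDim.exists_trdeg_eq k (MvPolynomial (Fin n) k) 𝔓
  have h4 := Groth.Agent.H14.EtaleDim2.mvPolynomial_dim_add_trdeg k n 𝔓 t ht
  have h5 := Groth.Agent.S2141.dim_quot_eq_trdeg k (MvPolynomial (Fin n) k) 𝔓 t ht
  rw [IsLocalization.AtPrime.ringKrullDim_eq_height 𝔓 (Localization.AtPrime 𝔓)] at h4
  rw [← h3, h5, ← h4, add_comm]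
  gcongr
  exact_mod_cast h2

/-- Presentation of the fibre `κ(p) ⊗ R[x]/(F)` as `κ(p)[x]/(F̄)`. -/
theorem exists_fibre_presentation (R : Type u) [CommRing R] (n c : ℕ)
    (F : Fin c → MvPolynomial (Fin n) R) (k : Type u) [Field k] [Algebra R k] :
    ∃ π : MvPolynomial (Fin n) k →ₐ[k]
        k ⊗[R] (MvPolynomial (Fin n) R ⧸ Ideal.span (Set.range F)),
      Function.Surjective π ∧ RingHom.ker π.toRingHom =
        Ideal.span (Set.range fun j => MvPolynomial.map (algebraMap R k) (F j)) := by
  let f : k ⊗[R] MvPolynomial (Fin n) R →ₐ[k]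
      k ⊗[R] (MvPolynomial (Fin n) R ⧸ Ideal.span (Set.range F)) :=
    Algebra.TensorProduct.map (AlgHom.id k k) (Ideal.Quotient.mkₐ R (Ideal.span (Set.range F)))
  have hf : Function.Surjective f :=
    Algebra.TensorProduct.map_surjective (AlgHom.id k k)
      (Ideal.Quotient.mkₐ R (Ideal.span (Set.range F))) Function.surjective_id
      (Ideal.Quotient.mkₐ_surjective R _)
  have hkf : RingHom.ker f.toRingHom = (Ideal.span (Set.range F)).map
      (Algebra.TensorProduct.includeRight : MvPolynomial (Fin n) R →ₐ[R]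
        k ⊗[R] MvPolynomial (Fin n) R) := by
    have := Algebra.TensorProduct.lTensor_ker (A := k)
      (Ideal.Quotient.mkₐ R (Ideal.span (Set.range F))) (Ideal.Quotient.mkₐ_surjective R _)
    have hk : RingHom.ker (Ideal.Quotient.mkₐ R (Ideal.span (Set.range F))) =
        Ideal.span (Set.range F) := by
      ext x
      simp [RingHom.mem_ker, Ideal.Quotient.eq_zero_iff_mem]
    rw [hk] at this
    rw [← this]
    rfl
  let e : k ⊗[R] MvPolynomial (Fin n) R ≃ₐ[k] MvPolynomial (Fin n) k :=
    MvPolynomial.algebraTensorAlgEquiv R k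
  refine ⟨f.comp e.symm.toAlgHom, hf.comp e.symm.surjective, ?_⟩
  have h1 : RingHom.ker (f.comp e.symm.toAlgHom).toRingHom =
      (RingHom.ker f.toRingHom).comap e.toRingEquiv.symm := by
    ext x
    simp [RingHom.mem_ker]
  rw [h1, Ideal.comap_symm, hkf, Ideal.map_span, Ideal.map_span, ← Set.range_comp,
    ← Set.range_comp]
  congr 2
  funext j
  simp [e]

/-- If `B = k[x₁..xₙ]/(G₁..G_c)` has dimension `n - c` then it is equidimensional. -/
theorem localDim_of_presentation (k : Type u) [Field k] (n c : ℕ) (B : Type u) [CommRing B]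
    [Algebra k B] [Algebra.FiniteType k B]
    (π : MvPolynomial (Fin n) k →ₐ[k] B) (hπ : Function.Surjective π)
    (G : Fin c → MvPolynomial (Fin n) k)
    (hker : RingHom.ker π.toRingHom = Ideal.span (Set.range G))
    (hdim : ringKrullDim B = ((n - c : ℕ) : WithBot ℕ∞)) (Q : Ideal B) [Q.IsPrime] :
    FlatMor.localDim (PrimeSpectrum B) ⟨Q, inferInstance⟩ = ((n - c : ℕ) : WithBot ℕ∞) := by
  refine le_antisymm ?_ ?_
  · rw [← hdim]
    exact Groth.Agent.H14.EtaleDim.localDim_le_ringKrullDim B ⟨Q, inferInstance⟩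
  · obtain ⟨q0, hq0, hq0Q⟩ := Ideal.exists_minimalPrimes_le (I := ⊥) (J := Q) bot_le
    haveI : q0.IsPrime := hq0.1.1
    have h1 := le_dim_quot_add k n c B π hπ G hker q0 hq0
    rw [Groth.Agent.H9.LocalDimField.localDim_eq_iSup k]
    refine le_trans ?_ (le_iSup (fun q0 : {q0 : PrimeSpectrum B //
        q0.asIdeal ∈ minimalPrimes B ∧ q0 ≤ ⟨Q, inferInstance⟩} =>
      ringKrullDim (B ⧸ q0.1.asIdeal)) ⟨⟨q0, inferInstance⟩, hq0, hq0Q⟩)
    obtain ⟨t, ht⟩ := Groth.Agent.H14.EtaleDim.exists_trdeg_eq k B q0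
    have h5 := Groth.Agent.S2141.dim_quot_eq_trdeg k B q0 t ht
    rw [h5] at h1 ⊢
    have h6 : n ≤ t + c := by exact_mod_cast h1
    have h7 : n - c ≤ t := by omega
    exact_mod_cast h7

/-- The fibres of a relative global complete intersection are equidimensional of dimension
`n - c`. -/
theorem localDim_fibre (R : Type u) [CommRing R] (n c : ℕ) (F : Fin c → MvPolynomial (Fin n) R)
    (hF : Synt.IsRelGCI R n c F) (p : Ideal R) [p.IsPrime]
    (Q : Ideal (p.ResidueField ⊗[R] (MvPolynomial (Fin n) R ⧸ Ideal.span (Set.range F))))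
    [Q.IsPrime] :
    c ≤ n ∧ FlatMor.localDim
      (PrimeSpectrum (p.ResidueField ⊗[R] (MvPolynomial (Fin n) R ⧸ Ideal.span (Set.range F))))
        ⟨Q, inferInstance⟩ = ((n - c : ℕ) : WithBot ℕ∞) := by
  haveI : Nontrivial (p.ResidueField ⊗[R]
      (MvPolynomial (Fin n) R ⧸ Ideal.span (Set.range F))) := by
    by_contra h
    rw [not_nontrivial_iff_subsingleton] at h
    exact ‹Q.IsPrime›.ne_top (Subsingleton.elim _ _)
  obtain ⟨hcn, hdim⟩ := hF ⟨p, inferInstance⟩ inferInstance
  obtain ⟨π, hπ, hker⟩ := exists_fibre_presentation R n c F p.ResidueField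
  refine ⟨hcn, ?_⟩
  haveI hft : Algebra.FiniteType p.ResidueField
      (p.ResidueField ⊗[R] (MvPolynomial (Fin n) R ⧸ Ideal.span (Set.range F))) := inferInstance
  have h0 := @localDim_of_presentation p.ResidueField _ n c
    (p.ResidueField ⊗[R] (MvPolynomial (Fin n) R ⧸ Ideal.span (Set.range F))) _ _ hft
  have h1 := h0 π hπ
  have h2 := h1 _ hker
  have h3 := h2 hdim
  have h4 := @h3 Q ‹Q.IsPrime›
  exact h4

/-- The kernel of `S ⊗ Ω[P/R] → Ω[S/R]` for `S = P/(F)` is spanned by the `1 ⊗ dF_j`. -/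
theorem ker_mapBaseChange_eq_span (R : Type u) [CommRing R] (n c : ℕ)
    (F : Fin c → MvPolynomial (Fin n) R) :
    LinearMap.ker (mapBaseChange R (MvPolynomial (Fin n) R)
        (MvPolynomial (Fin n) R ⧸ Ideal.span (Set.range F))) =
      Submodule.span (MvPolynomial (Fin n) R ⧸ Ideal.span (Set.range F))
        (Set.range fun j => (1 : MvPolynomial (Fin n) R ⧸ Ideal.span (Set.range F))
          ⊗ₜ[MvPolynomial (Fin n) R] D R (MvPolynomial (Fin n) R) (F j)) := by
  apply le_antisymm
  · intro y hy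
    have hex := KaehlerDifferential.exact_kerCotangentToTensor_mapBaseChange R
      (MvPolynomial (Fin n) R) (MvPolynomial (Fin n) R ⧸ Ideal.span (Set.range F))
      Ideal.Quotient.mk_surjective
    obtain ⟨c', rfl⟩ := (hex y).mp hy
    obtain ⟨⟨x, hx⟩, rfl⟩ := Ideal.toCotangent_surjective _ c'
    rw [kerCotangentToTensor_toCotangent]
    have hx' : x ∈ Ideal.span (Set.range F) := by
      rwa [Ideal.Quotient.algebraMap_eq, Ideal.mk_ker] at hx
    obtain ⟨a, rfl⟩ := (Ideal.mem_span_range_iff_exists_fun).mp hx'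
    simp only [map_sum, Derivation.leibniz, tmul_sum, tmul_add]
    refine Submodule.sum_mem _ fun j _ => ?_
    have h1 : (1 : MvPolynomial (Fin n) R ⧸ Ideal.span (Set.range F)) ⊗ₜ[MvPolynomial (Fin n) R]
        (a j • D R (MvPolynomial (Fin n) R) (F j)) =
        Ideal.Quotient.mk (Ideal.span (Set.range F)) (a j) •
          ((1 : MvPolynomial (Fin n) R ⧸ Ideal.span (Set.range F)) ⊗ₜ[MvPolynomial (Fin n) R]
            D R (MvPolynomial (Fin n) R) (F j)) := by
      rw [← TensorProduct.smul_tmul, TensorProduct.smul_tmul']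
      congr 1
    have h2 : (1 : MvPolynomial (Fin n) R ⧸ Ideal.span (Set.range F)) ⊗ₜ[MvPolynomial (Fin n) R]
        (F j • D R (MvPolynomial (Fin n) R) (a j)) = 0 := by
      have h0 : F j • (1 : MvPolynomial (Fin n) R ⧸ Ideal.span (Set.range F)) = 0 := by
        refine (Algebra.smul_def (F j)
          (1 : MvPolynomial (Fin n) R ⧸ Ideal.span (Set.range F))).trans ?_
        rw [mul_one, Ideal.Quotient.algebraMap_eq]
        exact Ideal.Quotient.eq_zero_iff_mem.mpr (Ideal.subset_span (Set.mem_range_self j))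
      rw [← TensorProduct.smul_tmul, h0, zero_tmul]
    rw [h1, h2, add_zero]
    exact Submodule.smul_mem _ _ (Submodule.subset_span ⟨j, rfl⟩)
  · rw [Submodule.span_le]
    rintro _ ⟨j, rfl⟩
    simp only [SetLike.mem_coe, LinearMap.mem_ker, mapBaseChange_tmul, map_D]
    rw [Ideal.Quotient.algebraMap_eq,
      Ideal.Quotient.eq_zero_iff_mem.mpr (Ideal.subset_span (Set.mem_range_self j)), map_zero,
      smul_zero]

section

variable (R : Type u) [CommRing R] (n c : ℕ) (F : Fin c → MvPolynomial (Fin n) R)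

local notation "P" => MvPolynomial (Fin n) R
local notation "S" => MvPolynomial (Fin n) R ⧸ Ideal.span (Set.range F)

/-- If `κ(q) ⊗ Ω[S/R]` has dimension `n - c`, some maximal minor of the Jacobian is nonzero at
`q`. -/
theorem exists_minor_of_finrank (q : Ideal S) [q.IsPrime] (hcn : c ≤ n)
    (hrank : Module.finrank q.ResidueField (q.ResidueField ⊗[S] Ω[S⁄R]) = n - c) :
    ∃ I : Fin c ↪ Fin n, Ideal.Quotient.mk (Ideal.span (Set.range F))
      (Matrix.det (Matrix.of fun j i => MvPolynomial.pderiv (I i) (F j))) ∉ q := by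
  classical
  let v : Fin c → S ⊗[P] Ω[P⁄R] := fun j => 1 ⊗ₜ D R P (F j)
  let f : (Fin c → S) →ₗ[S] S ⊗[P] Ω[P⁄R] := Fintype.linearCombination S v
  let g : S ⊗[P] Ω[P⁄R] →ₗ[S] Ω[S⁄R] := mapBaseChange R P S
  have hfg : Function.Exact f g := by
    rw [LinearMap.exact_iff]
    rw [ker_mapBaseChange_eq_span, Fintype.range_linearCombination]
  have hg : Function.Surjective g :=
    mapBaseChange_surjective R P S Ideal.Quotient.mk_surjective
  have hex : Function.Exact (f.baseChange q.ResidueField) (g.baseChange q.ResidueField) :=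
    lTensor_exact q.ResidueField hfg hg
  have hsurj : Function.Surjective (g.baseChange q.ResidueField) :=
    LinearMap.lTensor_surjective q.ResidueField hg
  let b : Module.Basis (Fin n) q.ResidueField (q.ResidueField ⊗[S] (S ⊗[P] Ω[P⁄R])) :=
    ((mvPolynomialBasis R (Fin n)).baseChange S).baseChange q.ResidueField
  have hn : Module.finrank q.ResidueField (q.ResidueField ⊗[S] (S ⊗[P] Ω[P⁄R])) = n := by
    rw [Module.finrank_eq_card_basis b, Fintype.card_fin]
  have hrn := LinearMap.finrank_range_add_finrank_ker (g.baseChange q.ResidueField)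
  rw [LinearMap.range_eq_top.mpr hsurj, finrank_top, hrank, hn, (LinearMap.exact_iff.mp hex)]
    at hrn
  let w : Fin c → q.ResidueField ⊗[S] (S ⊗[P] Ω[P⁄R]) := fun j => 1 ⊗ₜ v j
  have hrange : LinearMap.range (f.baseChange q.ResidueField) =
      Submodule.span q.ResidueField (Set.range w) := by
    apply le_antisymm
    · rintro _ ⟨z, rfl⟩
      induction z using TensorProduct.induction_on with
      | zero => simp
      | add x y hx hy => rw [map_add]; exact Submodule.add_mem _ hx hy
      | tmul a x =>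
        rw [LinearMap.baseChange_tmul]
        simp only [f, Fintype.linearCombination_apply, tmul_sum]
        refine Submodule.sum_mem _ fun j _ => ?_
        have : a ⊗ₜ[S] (x j • v j) = (x j • a) • w j := by
          have e1 : (x j • a) ⊗ₜ[S] v j = a ⊗ₜ[S] (x j • v j) :=
            TensorProduct.smul_tmul (x j) a (v j)
          have e2 : (x j • a) • w j = (x j • a) ⊗ₜ[S] v j := by
            show (x j • a) • ((1 : q.ResidueField) ⊗ₜ[S] v j) = _
            rw [TensorProduct.smul_tmul', smul_eq_mul, mul_one]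
          rw [e2, e1]
        rw [this]
        exact Submodule.smul_mem _ _ (Submodule.subset_span ⟨j, rfl⟩)
    · rw [Submodule.span_le]
      rintro _ ⟨j, rfl⟩
      refine ⟨1 ⊗ₜ Pi.single j 1, ?_⟩
      simp [w, f, Fintype.linearCombination_apply]
  rw [hrange] at hrn
  have hli : LinearIndependent q.ResidueField w := by
    rw [linearIndependent_iff_card_eq_finrank_span, Fintype.card_fin, Set.finrank]
    omega
  let M : Matrix (Fin c) (Fin n) q.ResidueField :=
    Matrix.of fun j i => algebraMap S q.ResidueField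
      (Ideal.Quotient.mk (Ideal.span (Set.range F)) (MvPolynomial.pderiv i (F j)))
  have hM : M.row = fun j => b.equivFun (w j) := by
    funext j i
    simp only [M, Matrix.row, Matrix.of_apply, Module.Basis.equivFun_apply, b, w, v,
      Module.Basis.baseChange_repr_tmul, mvPolynomialBasis_repr_apply]
    rw [Algebra.smul_def, mul_one]
    congr 1
    refine ((Algebra.smul_def (MvPolynomial.pderiv i (F j)) (1 : S)).trans ?_).symm
    rw [mul_one]
    rfl
  have hrow : LinearIndependent q.ResidueField M.row := by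
    rw [hM]
    exact hli.map' b.equivFun.toLinearMap (LinearEquiv.ker _)
  obtain ⟨I, hI⟩ := exists_embedding_det_ne_zero c n M hrow
  refine ⟨I, fun hmem => hI ?_⟩
  have hdet : (M.submatrix id I).det = algebraMap S q.ResidueField
      (Ideal.Quotient.mk (Ideal.span (Set.range F))
        (Matrix.det (Matrix.of fun j i => MvPolynomial.pderiv (I i) (F j)))) := by
    rw [← RingHom.comp_apply, RingHom.map_det]
    congr 1
  rw [hdet]
  exact Ideal.algebraMap_residueField_eq_zero.mpr hmem

end

/-- Smoothness at `q` passes to the fibre. -/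
theorem isSmoothAt_fibre (R S : Type u) [CommRing R] [CommRing S] [Algebra R S]
    [Algebra.FinitePresentation R S] (k : Type u) [Field k] [Algebra R k] (q : Ideal S) [q.IsPrime]
    [Algebra.IsSmoothAt R q] (Q : Ideal (k ⊗[R] S)) [Q.IsPrime]
    (hQ : Q.comap (Algebra.TensorProduct.includeRight : S →ₐ[R] k ⊗[R] S).toRingHom = q) :
    Algebra.IsSmoothAt k Q := by
  obtain ⟨f, hf, hsm⟩ := Algebra.IsSmoothAt.exists_notMem_smooth R q
  let e := IsLocalization.Away.tensorProductEquivTMulRight R k f (Localization.Away f)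
  haveI : Algebra.FormallySmooth k (k ⊗[R] Localization.Away f) := inferInstance
  haveI : Algebra.FormallySmooth k (Localization.Away ((1 : k) ⊗ₜ[R] f)) :=
    Algebra.FormallySmooth.of_equiv e
  have hsub := (Algebra.basicOpen_subset_smoothLocus_iff (R := k) (A := k ⊗[R] S)
    (f := (1 : k) ⊗ₜ[R] f)).mpr inferInstance
  refine hsub (show (⟨Q, inferInstance⟩ : PrimeSpectrum (k ⊗[R] S)) ∈
    PrimeSpectrum.basicOpen ((1 : k) ⊗ₜ[R] f) from fun hmem => hf ?_)
  rw [← hQ]
  exact hmem

/-- The fibre of the differentials at a smooth point computes the local dimension of the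
fibre. -/
theorem finrank_fibre_eq_localDim (R S : Type u) [CommRing R] [CommRing S] [Algebra R S]
    [Algebra.FinitePresentation R S] (q : Ideal S) [q.IsPrime] [Algebra.IsSmoothAt R q]
    (p : Ideal R) [p.IsPrime] (Q : Ideal (p.ResidueField ⊗[R] S)) [Q.IsPrime]
    (hQ : Q.comap (Algebra.TensorProduct.includeRight : S →ₐ[R] p.ResidueField ⊗[R] S).toRingHom
      = q) :
    ((Module.finrank q.ResidueField (q.ResidueField ⊗[S] Ω[S⁄R]) : ℕ) : WithBot ℕ∞) =
      FlatMor.localDim (PrimeSpectrum (p.ResidueField ⊗[R] S)) ⟨Q, inferInstance⟩ := by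
  haveI := isSmoothAt_fibre R S p.ResidueField q Q hQ
  have h1 := Groth.Agent.H14.JacCrit.finrank_eq_localDim_of_isSmoothAt p.ResidueField
    (p.ResidueField ⊗[R] S) Q
  rw [← h1]
  rw [← (Groth.Agent.H14.JacCrit.fibreEquiv p.ResidueField
    (p.ResidueField ⊗[R] S) Q).finrank_eq]
  letI : Algebra S (p.ResidueField ⊗[R] S) := Algebra.TensorProduct.rightAlgebra
  have e := KaehlerDifferential.tensorKaehlerEquiv R p.ResidueField S (p.ResidueField ⊗[R] S)
  have e' : TensorProduct (p.ResidueField ⊗[R] S) Q.ResidueField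
      (TensorProduct S (p.ResidueField ⊗[R] S) Ω[S⁄R]) ≃ₗ[Q.ResidueField]
      TensorProduct (p.ResidueField ⊗[R] S) Q.ResidueField
        Ω[(p.ResidueField ⊗[R] S)⁄p.ResidueField] :=
    TensorProduct.AlgebraTensorModule.congr
      (LinearEquiv.refl Q.ResidueField Q.ResidueField) e
  rw [← e'.finrank_eq, Groth.Agent.H14.KaehlerGen.finrank_fibre_baseChange S
    (p.ResidueField ⊗[R] S) Ω[S⁄R] q Q hQ.symm]

/-- For a relative global complete intersection smooth at `q`, the fibre of the differentials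
at `q` has dimension `n - c`. -/
theorem finrank_fibre_kaehler (R : Type u) [CommRing R] (n c : ℕ)
    (F : Fin c → MvPolynomial (Fin n) R) (hF : Synt.IsRelGCI R n c F)
    (q : Ideal (MvPolynomial (Fin n) R ⧸ Ideal.span (Set.range F))) [q.IsPrime]
    [Algebra.IsSmoothAt R q] :
    c ≤ n ∧ Module.finrank q.ResidueField (q.ResidueField ⊗[MvPolynomial (Fin n) R ⧸
      Ideal.span (Set.range F)] Ω[(MvPolynomial (Fin n) R ⧸ Ideal.span (Set.range F))⁄R]) =
        n - c := by
  classical
  haveI : Algebra.FinitePresentation R (MvPolynomial (Fin n) R ⧸ Ideal.span (Set.range F)) :=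
    Algebra.FinitePresentation.quotient (Submodule.fg_span (Set.finite_range F))
  set p : Ideal R := q.comap (algebraMap R (MvPolynomial (Fin n) R ⧸ Ideal.span (Set.range F)))
    with hp
  let Q' : PrimeSpectrum (p.Fiber (MvPolynomial (Fin n) R ⧸ Ideal.span (Set.range F))) :=
    PrimeSpectrum.preimageEquivFiber R (MvPolynomial (Fin n) R ⧸ Ideal.span (Set.range F))
      ⟨p, inferInstance⟩ ⟨⟨q, inferInstance⟩, rfl⟩
  have hQ : Q'.asIdeal.comap (Algebra.TensorProduct.includeRight :
      (MvPolynomial (Fin n) R ⧸ Ideal.span (Set.range F)) →ₐ[R]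
        p.ResidueField ⊗[R] (MvPolynomial (Fin n) R ⧸ Ideal.span (Set.range F))).toRingHom = q :=
    congrArg (fun x => x.1.asIdeal) ((PrimeSpectrum.preimageEquivFiber R
      (MvPolynomial (Fin n) R ⧸ Ideal.span (Set.range F)) ⟨p, inferInstance⟩).symm_apply_apply
        ⟨⟨q, inferInstance⟩, rfl⟩)
  obtain ⟨Q, hQQ⟩ : ∃ Q : Ideal (p.ResidueField ⊗[R]
      (MvPolynomial (Fin n) R ⧸ Ideal.span (Set.range F))), Q = Q'.asIdeal := ⟨_, rfl⟩
  haveI : Q.IsPrime := hQQ ▸ Q'.isPrime
  rw [← hQQ] at hQ
  obtain ⟨hcn, hld⟩ := localDim_fibre R n c F hF p Q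
  refine ⟨hcn, ?_⟩
  have h1 := finrank_fibre_eq_localDim R (MvPolynomial (Fin n) R ⧸ Ideal.span (Set.range F)) q p
  have h2 := h1 Q hQ
  rw [hld] at h2
  exact_mod_cast h2

end Groth.Agent.H14.RelGCIJac
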