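import Mathlib
import Groth.Prelude.Def_SGA1
import Groth.Agent.H23.RegularLocal
import Groth.Agent.H54.IntegralDim
import Groth.Agent.H14.RelGCIJac

/-!
# The Kummer algebra `A[T_i]/(T_i^{n_i} - f_i)`
-/

set_option autoImplicit false
set_option linter.style.haveILetI false
universe u

namespace Groth.Agent.H14.KummerAlg

open MvPolynomial IsLocalRing

variable (A : Type u) [CommRing A] {r : ℕ} (f : Fin r → A) (n : Fin r → ℕ)

/-- The class of the variable `T_i`. -/
noncomputable def x (i : Fin r) : SGA1.kummerAlg A f n :=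
  Ideal.Quotient.mk _ (X i)

theorem x_pow (i : Fin r) : x A f n i ^ n i = algebraMap A (SGA1.kummerAlg A f n) (f i) := by
  have h : ((X i : MvPolynomial (Fin r) A) ^ n i - C (f i)) ∈
      Ideal.span (Set.range fun i => (X i : MvPolynomial (Fin r) A) ^ n i - C (f i)) :=
    Ideal.subset_span ⟨i, rfl⟩
  have h2 := Ideal.Quotient.eq_zero_iff_mem.mpr h
  rw [map_sub, map_pow, sub_eq_zero] at h2
  exact h2

theorem adjoin_x : Algebra.adjoin A (Set.range (x A f n)) = ⊤ := by
  have h1 := MvPolynomial.adjoin_range_X (R := A) (σ := Fin r)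
  have h2 := congrArg (Subalgebra.map (Ideal.Quotient.mkₐ A
    (Ideal.span (Set.range fun i => (X i : MvPolynomial (Fin r) A) ^ n i - C (f i))))) h1
  rw [AlgHom.map_adjoin, Algebra.map_top, ← Set.range_comp] at h2
  rw [(AlgHom.range_eq_top _).mpr (Ideal.Quotient.mkₐ_surjective A _)] at h2
  exact h2

theorem isIntegral (hn : ∀ i, 1 ≤ n i) : Algebra.IsIntegral A (SGA1.kummerAlg A f n) := by
  rw [← integralClosure_eq_top_iff, eq_top_iff, ← adjoin_x A f n]
  apply Algebra.adjoin_le
  rintro _ ⟨i, rfl⟩
  refine ⟨Polynomial.X ^ n i - Polynomial.C (f i),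
    Polynomial.monic_X_pow_sub_C (f i) (by have := hn i; omega), ?_⟩
  simp [x_pow]

theorem algebraMap_injective [IsDomain A] (hn : ∀ i, 1 ≤ n i) :
    Function.Injective (algebraMap A (SGA1.kummerAlg A f n)) := by
  classical
  let Ω := AlgebraicClosure (FractionRing A)
  have hroot : ∀ i, ∃ z : Ω, z ^ n i = algebraMap A Ω (f i) := fun i =>
    IsAlgClosed.exists_pow_nat_eq _ (by have := hn i; omega)
  choose t ht using hroot
  let φ : SGA1.kummerAlg A f n →+* Ω :=
    Ideal.Quotient.lift _ (aeval t : MvPolynomial (Fin r) A →ₐ[A] Ω).toRingHom (by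
      intro a ha
      have hle : Ideal.span (Set.range fun i => (X i : MvPolynomial (Fin r) A) ^ n i - C (f i)) ≤
          RingHom.ker (aeval t : MvPolynomial (Fin r) A →ₐ[A] Ω).toRingHom := by
        rw [Ideal.span_le]
        rintro _ ⟨i, rfl⟩
        show (aeval t) (X i ^ n i - C (f i)) = 0
        simp [ht]
      exact hle ha)
  have hφ : ∀ a : A, φ (algebraMap A _ a) = algebraMap A Ω a := by
    intro a
    show φ (Ideal.Quotient.mk _ (C a)) = _
    simp [φ]
  have hinj : Function.Injective (algebraMap A Ω) := by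
    rw [IsScalarTower.algebraMap_eq A (FractionRing A) Ω]
    exact (algebraMap (FractionRing A) Ω).injective.comp (IsFractionRing.injective A _)
  intro a b hab
  apply hinj
  rw [← hφ, ← hφ, hab]

section Local

variable [IsLocalRing A]

/-- The residue character `A[T]/(T^n - f) → k`, `T_i ↦ 0`. -/
noncomputable def χ (hn : ∀ i, 1 ≤ n i) (hm : ∀ i, f i ∈ maximalIdeal A) :
    SGA1.kummerAlg A f n →+* ResidueField A :=
  Ideal.Quotient.lift _ (eval₂Hom (residue A) (fun _ => (0 : ResidueField A))) (by
    intro a ha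
    have hle : Ideal.span (Set.range fun i => (X i : MvPolynomial (Fin r) A) ^ n i - C (f i)) ≤
        RingHom.ker (eval₂Hom (residue A) (fun _ : Fin r => (0 : ResidueField A))) := by
      rw [Ideal.span_le]
      rintro _ ⟨i, rfl⟩
      show eval₂Hom (residue A) (fun _ : Fin r => (0 : ResidueField A)) (X i ^ n i - C (f i)) = 0
      have h0 : n i ≠ 0 := by have := hn i; omega
      have h1 : residue A (f i) = 0 := (residue_eq_zero_iff _).mpr (hm i)
      simp [h0, h1]
    exact hle ha)

theorem χ_mk (hn : ∀ i, 1 ≤ n i) (hm : ∀ i, f i ∈ maximalIdeal A) (g : MvPolynomial (Fin r) A) :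
    χ A f n hn hm (Ideal.Quotient.mk _ g) = residue A (constantCoeff g) := by
  show eval₂Hom (residue A) (fun _ : Fin r => (0 : ResidueField A)) g = _
  exact eval₂Hom_zero'_apply _ _

theorem χ_algebraMap (hn : ∀ i, 1 ≤ n i) (hm : ∀ i, f i ∈ maximalIdeal A) (a : A) :
    χ A f n hn hm (algebraMap A _ a) = residue A a := by
  show χ A f n hn hm (Ideal.Quotient.mk _ (C a)) = _
  rw [χ_mk]
  simp

theorem χ_x (hn : ∀ i, 1 ≤ n i) (hm : ∀ i, f i ∈ maximalIdeal A) (i : Fin r) :
    χ A f n hn hm (x A f n i) = 0 := by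
  show χ A f n hn hm (Ideal.Quotient.mk _ (X i)) = _
  rw [χ_mk]
  simp

/-- Every element is a constant plus an element of the ideal `(T_i)`. -/
theorem exists_sub_mem (y : SGA1.kummerAlg A f n) :
    ∃ a : A, y - algebraMap A _ a ∈ Ideal.span (Set.range (x A f n)) ∧
      ∃ g : MvPolynomial (Fin r) A, Ideal.Quotient.mk _ g = y ∧ constantCoeff g = a := by
  obtain ⟨g, rfl⟩ := Ideal.Quotient.mk_surjective y
  refine ⟨constantCoeff g, ?_, g, rfl, rfl⟩
  have h1 : g - C (constantCoeff g) ∈
      Ideal.span (MvPolynomial.X '' (Set.univ : Set (Fin r)) : Set (MvPolynomial (Fin r) A)) := by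
    rw [mem_ideal_span_X_image]
    intro m hm
    by_contra hcon
    push Not at hcon
    have hm0 : m = 0 := by
      ext i
      simpa using hcon i (Set.mem_univ i)
    rw [mem_support_iff, hm0] at hm
    apply hm
    simp [← constantCoeff_eq]
  have h2 := Ideal.mem_map_of_mem (Ideal.Quotient.mk (Ideal.span (Set.range fun i =>
    (X i : MvPolynomial (Fin r) A) ^ n i - C (f i)))) h1
  rw [Ideal.map_span, Set.image_univ, ← Set.range_comp] at h2
  rw [map_sub] at h2
  exact h2

theorem χ_surjective (hn : ∀ i, 1 ≤ n i) (hm : ∀ i, f i ∈ maximalIdeal A) :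
    Function.Surjective (χ A f n hn hm) := fun k => by
  obtain ⟨a, rfl⟩ := residue_surjective k
  exact ⟨algebraMap A _ a, χ_algebraMap A f n hn hm a⟩

theorem ker_χ_le_of_isMaximal (hn : ∀ i, 1 ≤ n i) (hm : ∀ i, f i ∈ maximalIdeal A)
    (M : Ideal (SGA1.kummerAlg A f n)) [hM : M.IsMaximal] :
    RingHom.ker (χ A f n hn hm) ≤ M := by
  haveI := isIntegral A f n hn
  have hcomap : M.comap (algebraMap A (SGA1.kummerAlg A f n)) = maximalIdeal A := by
    haveI : (M.comap (algebraMap A (SGA1.kummerAlg A f n))).IsMaximal :=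
      Ideal.isMaximal_comap_of_isIntegral_of_isMaximal M
    exact IsLocalRing.eq_maximalIdeal this
  have hx : ∀ i, x A f n i ∈ M := fun i => by
    apply hM.isPrime.mem_of_pow_mem (n i)
    rw [x_pow]
    have : f i ∈ M.comap (algebraMap A (SGA1.kummerAlg A f n)) := hcomap ▸ hm i
    exact this
  intro y hy
  obtain ⟨a, hya, g, rfl, hga⟩ := exists_sub_mem A f n y
  have hχ : residue A a = 0 := by
    rw [← hga, ← χ_mk A f n hn hm g]
    exact hy
  have ha : a ∈ maximalIdeal A := (residue_eq_zero_iff _).mp hχ
  have ha' : algebraMap A (SGA1.kummerAlg A f n) a ∈ M := by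
    rw [← hcomap] at ha
    exact ha
  have hz := (Ideal.span_le.mpr (by rintro _ ⟨i, rfl⟩; exact hx i)) hya
  have := M.add_mem hz ha'
  simpa using this

theorem isLocalRing (hn : ∀ i, 1 ≤ n i) (hm : ∀ i, f i ∈ maximalIdeal A) :
    IsLocalRing (SGA1.kummerAlg A f n) := by
  have hmax : (RingHom.ker (χ A f n hn hm)).IsMaximal :=
    RingHom.ker_isMaximal_of_surjective _ (χ_surjective A f n hn hm)
  apply IsLocalRing.of_unique_max_ideal
  refine ⟨RingHom.ker (χ A f n hn hm), hmax, fun M hM => ?_⟩
  haveI := hM
  exact (hmax.eq_of_le hM.ne_top (ker_χ_le_of_isMaximal A f n hn hm M)).symm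

theorem maximalIdeal_eq (hn : ∀ i, 1 ≤ n i) (hm : ∀ i, f i ∈ maximalIdeal A)
    [IsLocalRing (SGA1.kummerAlg A f n)] :
    maximalIdeal (SGA1.kummerAlg A f n) = RingHom.ker (χ A f n hn hm) := by
  have hmax : (RingHom.ker (χ A f n hn hm)).IsMaximal :=
    RingHom.ker_isMaximal_of_surjective _ (χ_surjective A f n hn hm)
  exact (IsLocalRing.eq_maximalIdeal hmax).symm

/-- Generators of the maximal ideal of the Kummer algebra. -/
theorem maximalIdeal_eq_span (hn : ∀ i, 1 ≤ n i) (hm : ∀ i, f i ∈ maximalIdeal A)
    [IsLocalRing (SGA1.kummerAlg A f n)] {ι : Type*} (g : ι → A)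
    (hg : Ideal.span (Set.range f ∪ Set.range g) = maximalIdeal A) :
    maximalIdeal (SGA1.kummerAlg A f n) =
      Ideal.span (Set.range (x A f n) ∪
        Set.range fun j => algebraMap A (SGA1.kummerAlg A f n) (g j)) := by
  rw [maximalIdeal_eq A f n hn hm]
  apply le_antisymm
  · intro y hy
    obtain ⟨a, hya, g', rfl, hga⟩ := exists_sub_mem A f n y
    have hχ : residue A a = 0 := by
      rw [← hga, ← χ_mk A f n hn hm g']
      exact hy
    have ha : a ∈ maximalIdeal A := (residue_eq_zero_iff _).mp hχ
    rw [← hg] at ha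
    have ha' : algebraMap A (SGA1.kummerAlg A f n) a ∈ Ideal.span (Set.range (x A f n) ∪
        Set.range fun j => algebraMap A (SGA1.kummerAlg A f n) (g j)) := by
      have h1 := Ideal.mem_map_of_mem (algebraMap A (SGA1.kummerAlg A f n)) ha
      rw [Ideal.map_span] at h1
      refine (Ideal.span_le.mpr ?_) h1
      rintro _ ⟨b, hb | hb, rfl⟩
      · obtain ⟨i, rfl⟩ := hb
        rw [← x_pow]
        have h0 : n i ≠ 0 := by have := hn i; omega
        have hxi : x A f n i ∈ Ideal.span (Set.range (x A f n) ∪
            Set.range fun j => algebraMap A (SGA1.kummerAlg A f n) (g j)) :=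
          Ideal.subset_span (Or.inl ⟨i, rfl⟩)
        exact Ideal.pow_mem_of_mem _ hxi _ (Nat.pos_of_ne_zero h0)
      · obtain ⟨j, rfl⟩ := hb
        exact Ideal.subset_span (Or.inr ⟨j, rfl⟩)
    have hz := (Ideal.span_mono (Set.subset_union_left
      (t := Set.range fun j => algebraMap A (SGA1.kummerAlg A f n) (g j)))) hya
    have := Ideal.add_mem _ hz ha'
    simpa using this
  · rw [Ideal.span_le]
    rintro _ (⟨i, rfl⟩ | ⟨j, rfl⟩)
    · exact χ_x A f n hn hm i
    · show χ A f n hn hm _ = 0
      rw [χ_algebraMap]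
      apply (residue_eq_zero_iff _).mpr
      rw [← hg]
      exact Ideal.subset_span (Or.inr ⟨j, rfl⟩)

end Local

section Regular

variable {A}

/-- Part of a regular system of parameters extends to a generating set of the maximal ideal with
`dim m/m²` elements. -/
theorem exists_extension [IsLocalRing A] [IsNoetherianRing A] (hm : ∀ i, f i ∈ maximalIdeal A)
    (hf : LinearIndependent (ResidueField A)
      (fun i => (maximalIdeal A).toCotangent ⟨f i, hm i⟩)) :
    ∃ T : Set A, T.Finite ∧ Ideal.span (Set.range f ∪ T) = maximalIdeal A ∧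
      r + T.ncard ≤ Module.finrank (ResidueField A) (CotangentSpace A) := by
  classical
  set v : Fin r → CotangentSpace A := fun i => (maximalIdeal A).toCotangent ⟨f i, hm i⟩ with hv
  have hs : LinearIndepOn (ResidueField A) id (Set.range v) := hf.linearIndepOn_id
  set E : Set (CotangentSpace A) := hs.extend (Set.subset_univ _) with hE
  let b : Module.Basis E (ResidueField A) (CotangentSpace A) := Module.Basis.extend hs
  haveI : Finite E := Module.Finite.finite_basis b
  have hEfin : E.Finite := Set.toFinite E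
  have hcard : E.ncard = Module.finrank (ResidueField A) (CotangentSpace A) := by
    rw [Module.finrank_eq_nat_card_basis b]
    rfl
  have hSE : Set.range v ⊆ E := hs.subset_extend _
  have hSr : (Set.range v).ncard = r := by
    rw [← Set.image_univ, Set.ncard_image_of_injective _ hf.injective, Set.ncard_univ]
    simp
  choose lift hlift using fun e : CotangentSpace A => Ideal.toCotangent_surjective _ e
  set D : Set (CotangentSpace A) := E \ Set.range v with hD
  have hDfin : D.Finite := hEfin.subset Set.sdiff_subset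
  refine ⟨(fun e => (lift e : A)) '' D, hDfin.image _, ?_, ?_⟩
  · apply le_antisymm
    · rw [Ideal.span_le]
      rintro _ (⟨i, rfl⟩ | ⟨e, -, rfl⟩)
      · exact hm i
      · exact (lift e).2
    · intro y hy
      set s' : Set (maximalIdeal A) := (Set.range fun i => (⟨f i, hm i⟩ : maximalIdeal A)) ∪
        (lift '' D) with hs'
      have h1 : Submodule.span (ResidueField A) ((maximalIdeal A).toCotangent '' s') = ⊤ := by
        rw [eq_top_iff, ← b.span_eq, Module.Basis.range_extend]
        apply Submodule.span_mono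
        intro e he
        by_cases heS : e ∈ Set.range v
        · obtain ⟨i, rfl⟩ := heS
          exact ⟨⟨f i, hm i⟩, Or.inl ⟨i, rfl⟩, rfl⟩
        · exact ⟨lift e, Or.inr ⟨e, ⟨he, heS⟩, rfl⟩, hlift e⟩
      rw [CotangentSpace.span_image_eq_top_iff] at h1
      have h2 : (⟨y, hy⟩ : maximalIdeal A) ∈ Submodule.span A s' := by
        rw [h1]; trivial
      have h3 := Submodule.mem_map_of_mem (f := (maximalIdeal A).subtype) h2
      rw [Submodule.map_span] at h3
      have h4 : (maximalIdeal A).subtype '' s' ⊆ Set.range f ∪ (fun e => (lift e : A)) '' D := by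
        rintro _ ⟨z, hz | hz, rfl⟩
        · obtain ⟨i, rfl⟩ := hz
          exact Or.inl ⟨i, rfl⟩
        · obtain ⟨e, he, rfl⟩ := hz
          exact Or.inr ⟨e, he, rfl⟩
      exact Submodule.span_mono h4 h3
  · calc r + ((fun e => (lift e : A)) '' D).ncard ≤ r + D.ncard :=
          Nat.add_le_add_left (Set.ncard_image_le hDfin) _
      _ = (Set.range v).ncard + (E \ Set.range v).ncard := by rw [hSr]
      _ = E.ncard := by rw [add_comm]; exact Set.ncard_sdiff_add_ncard_of_subset hSE hEfin
      _ = _ := hcard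

/-- **The Kummer algebra of part of a regular system of parameters is regular local.** -/
theorem isRegularLocalRing (A : Type u) [CommRing A] [IsRegularLocalRing A] {r : ℕ}
    (f : Fin r → A) (n : Fin r → ℕ) (hn : ∀ i, 1 ≤ n i) (hm : ∀ i, f i ∈ maximalIdeal A)
    (hf : LinearIndependent (ResidueField A)
      (fun i => (maximalIdeal A).toCotangent ⟨f i, hm i⟩)) :
    IsRegularLocalRing (SGA1.kummerAlg A f n) := by
  haveI : IsDomain A := Groth.Agent.H23.isDomain_of_isRegularLocalRing A
  haveI := isLocalRing A f n hn hm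
  haveI : IsNoetherianRing (SGA1.kummerAlg A f n) := inferInstance
  apply IsRegularLocalRing.of_spanFinrank_maximalIdeal_le
  haveI := isIntegral A f n hn
  rw [Groth.Agent.H54.ringKrullDim_eq_of_isIntegral_of_injective (algebraMap_injective A f n hn)]
  obtain ⟨T, hTfin, hT, hcard⟩ := exists_extension f hm hf
  have hreg := (IsRegularLocalRing.iff_finrank_cotangentSpace A).mp inferInstance
  rw [← hreg]
  have hgen := maximalIdeal_eq_span A f n hn hm (g := (Subtype.val : T → A))
    (by rw [Subtype.range_coe]; exact hT)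
  rw [hgen]
  haveI := hTfin.to_subtype
  have hfin : (Set.range (x A f n) ∪
      Set.range fun j : T => algebraMap A (SGA1.kummerAlg A f n) (j : A)).Finite :=
    (Set.finite_range _).union (Set.finite_range _)
  have h1 := Submodule.spanFinrank_span_le_ncard_of_finite (R := SGA1.kummerAlg A f n) hfin
  have h2 : (Set.range (x A f n) ∪
      Set.range fun j : T => algebraMap A (SGA1.kummerAlg A f n) (j : A)).ncard ≤ r + T.ncard := by
    refine (Set.ncard_union_le _ _).trans (Nat.add_le_add ?_ ?_)
    · rw [← Set.image_univ]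
      refine (Set.ncard_image_le (Set.finite_univ)).trans ?_
      rw [Set.ncard_univ]
      simp
    · have : (Set.range fun j : T => algebraMap A (SGA1.kummerAlg A f n) (j : A)) =
          (algebraMap A (SGA1.kummerAlg A f n)) '' T := by
        ext y
        constructor
        · rintro ⟨j, rfl⟩
          exact ⟨j, j.2, rfl⟩
        · rintro ⟨a, ha, rfl⟩
          exact ⟨⟨a, ha⟩, rfl⟩
      rw [this]
      exact Set.ncard_image_le hTfin
  exact_mod_cast (h1.trans h2).trans hcard

end Regular

section Etale

open KaehlerDifferential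

theorem smul_D_x (hn : ∀ i, 1 ≤ n i) (i : Fin r)
    (hu : IsUnit ((n i : ℕ) : SGA1.kummerAlg A f n)) :
    algebraMap A (SGA1.kummerAlg A f n) (f i) • D A (SGA1.kummerAlg A f n) (x A f n i) = 0 := by
  obtain ⟨m, hm'⟩ : ∃ m, n i = m + 1 := ⟨n i - 1, by have := hn i; omega⟩
  have hxp := x_pow A f n i
  have h1 : D A (SGA1.kummerAlg A f n) (x A f n i ^ n i) = 0 := by
    rw [x_pow]
    exact Derivation.map_algebraMap _ _
  rw [hm'] at hxp h1 hu
  rw [Derivation.leibniz_pow, Nat.add_sub_cancel] at h1
  have h2 : ((m + 1 : ℕ) : SGA1.kummerAlg A f n) •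
      (algebraMap A (SGA1.kummerAlg A f n) (f i) • D A (SGA1.kummerAlg A f n) (x A f n i)) = 0 := by
    have h3 := congrArg (fun w => x A f n i • w) h1
    simp only [smul_zero] at h3
    rw [← h3, ← hxp]
    module
  exact (hu.smul_eq_zero).mp h2

end Etale

section Generic

open KaehlerDifferential

variable {R K : Type*} [CommRing R] [CommRing K] [Algebra R K] {ι : Type*} (y : ι → K)

theorem gen_span_D (hadj : Algebra.adjoin R (Set.range y) = ⊤) :
    Submodule.span K (Set.range fun i => D R K (y i)) = ⊤ := by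
  rw [eq_top_iff, ← span_range_derivation, Submodule.span_le]
  rintro _ ⟨z, rfl⟩
  have hz : z ∈ Algebra.adjoin R (Set.range y) := by
    rw [hadj]; trivial
  refine Algebra.adjoin_induction ?_ ?_ ?_ ?_ hz
  · rintro _ ⟨i, rfl⟩
    exact Submodule.subset_span ⟨i, rfl⟩
  · intro a
    simp
  · exact fun a b _ _ ha hb => (D R K).map_add a b ▸ add_mem ha hb
  · intro a b _ _ ha hb
    simp only [Derivation.leibniz]
    exact add_mem (Submodule.smul_mem _ _ hb) (Submodule.smul_mem _ _ ha)

theorem gen_smul_eq_zero (hadj : Algebra.adjoin R (Set.range y) = ⊤) (g : K)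
    (hg : ∀ i, g • D R K (y i) = 0) (ω : Ω[K⁄R]) : g • ω = 0 := by
  have hω : ω ∈ Submodule.span K (Set.range fun i => D R K (y i)) := by
    rw [gen_span_D y hadj]; trivial
  induction hω using Submodule.span_induction with
  | mem w hw =>
    obtain ⟨i, rfl⟩ := hw
    exact hg i
  | zero => simp
  | add a b _ _ ha hb => rw [smul_add, ha, hb, add_zero]
  | smul c a _ ha => rw [smul_comm, ha, smul_zero]

theorem gen_formallyUnramified_away (g : K) (hg : ∀ ω : Ω[K⁄R], g • ω = 0) :
    Algebra.FormallyUnramified R (Localization.Away g) := by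
  constructor
  haveI := KaehlerDifferential.isLocalizedModule_map (R := R) (S := K)
    (T := Localization.Away g) (Submonoid.powers g)
  refine ⟨fun z w => ?_⟩
  suffices h : ∀ z : Ω[Localization.Away g⁄R], z = 0 by rw [h z, h w]
  intro z
  obtain ⟨⟨ω, s⟩, h⟩ := IsLocalizedModule.surj (Submonoid.powers g)
    (KaehlerDifferential.map R R K (Localization.Away g)) z
  have h1 : (KaehlerDifferential.map R R K (Localization.Away g)) (g • ω) = 0 := by
    rw [hg ω, map_zero]
  rw [map_smul, ← h] at h1
  have h2 := IsLocalizedModule.smul_injective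
    (KaehlerDifferential.map R R K (Localization.Away g))
    (⟨g, Submonoid.mem_powers g⟩ : Submonoid.powers g)
  have h3 := IsLocalizedModule.smul_injective
    (KaehlerDifferential.map R R K (Localization.Away g)) s
  apply h3
  apply h2
  simp only [smul_zero]
  exact h1

end Generic

section Etale2

open KaehlerDifferential

theorem formallyUnramified_away (hn : ∀ i, 1 ≤ n i)
    (hu : ∀ i, IsUnit ((n i : ℕ) : SGA1.kummerAlg A f n)) :
    Algebra.FormallyUnramified A
      (Localization.Away (algebraMap A (SGA1.kummerAlg A f n) (∏ i, f i))) := by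
  apply gen_formallyUnramified_away
  apply gen_smul_eq_zero (x A f n) (adjoin_x A f n)
  intro i
  have h := smul_D_x A f n hn i (hu i)
  have h2 := congrArg (fun w => algebraMap A (SGA1.kummerAlg A f n)
    (∏ j ∈ Finset.univ.erase i, f j) • w) h
  simp only [smul_zero] at h2
  rw [← h2, ← Finset.mul_prod_erase Finset.univ f (Finset.mem_univ i), map_mul]
  module

theorem jacobian_eq_diagonal : (Matrix.of fun j i => pderiv ((Function.Embedding.refl (Fin r)) i)
      ((X j : MvPolynomial (Fin r) A) ^ n j - C (f j))) =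
    Matrix.diagonal (fun j => (n j : MvPolynomial (Fin r) A) * X j ^ (n j - 1)) := by
  refine Matrix.ext fun j i => ?_
  rw [Matrix.of_apply, Matrix.diagonal_apply, map_sub, pderiv_C, sub_zero,
    Derivation.leibniz_pow, pderiv_X]
  by_cases hji : j = i
  · subst hji
    simp
  · rw [if_neg hji]
    have : (Function.Embedding.refl (Fin r)) i ≠ j := fun h => hji h.symm
    rw [Pi.single_apply, if_neg (fun h => this h.symm)]
    simp

theorem formallySmooth_away (hn : ∀ i, 1 ≤ n i)
    (hu : ∀ i, IsUnit ((n i : ℕ) : SGA1.kummerAlg A f n)) :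
    Algebra.FormallySmooth A
      (Localization.Away (algebraMap A (SGA1.kummerAlg A f n) (∏ i, f i))) := by
  haveI : Algebra.FinitePresentation A (SGA1.kummerAlg A f n) :=
    Algebra.FinitePresentation.quotient (Submodule.fg_span (Set.finite_range _))
  rw [← Algebra.basicOpen_subset_smoothLocus_iff]
  intro q hq
  haveI := q.2
  show Algebra.IsSmoothAt A q.asIdeal
  apply Groth.Agent.H14.RelGCIJac.isSmoothAt_of_minor A r r
    (fun i => (X i : MvPolynomial (Fin r) A) ^ n i - C (f i)) q.asIdeal (Function.Embedding.refl _)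
  rw [jacobian_eq_diagonal, Matrix.det_diagonal, map_prod]
  intro hmem
  obtain ⟨j, -, hj⟩ := (Ideal.IsPrime.prod_mem_iff).mp hmem
  rw [map_mul, map_natCast, map_pow] at hj
  rcases (Ideal.IsPrime.mem_or_mem inferInstance hj) with h1 | h1
  · exact q.2.ne_top (Ideal.eq_top_of_isUnit_mem _ h1 (hu j))
  · have hxj : x A f n j ∈ q.asIdeal := Ideal.IsPrime.mem_of_pow_mem inferInstance _ h1
    apply hq
    show algebraMap A (SGA1.kummerAlg A f n) (∏ i, f i) ∈ q.asIdeal
    rw [← Finset.mul_prod_erase Finset.univ f (Finset.mem_univ j), map_mul, ← x_pow]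
    exact Ideal.mul_mem_right _ _ (Ideal.pow_mem_of_mem _ hxj _ (hn j))

theorem etale_away [IsLocalRing A] (hn : ∀ i, 1 ≤ n i)
    (hu : ∀ i, IsUnit ((n i : ℕ) : ResidueField A)) :
    letI := (Localization.awayMap (algebraMap A (SGA1.kummerAlg A f n)) (∏ i, f i)).toAlgebra
    Algebra.Etale (Localization.Away (∏ i, f i))
      (Localization.Away (algebraMap A (SGA1.kummerAlg A f n) (∏ i, f i))) := by
  have hu' : ∀ i, IsUnit ((n i : ℕ) : SGA1.kummerAlg A f n) := by
    intro i
    have h1 : IsUnit ((n i : ℕ) : A) := by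
      apply isUnit_of_map_unit (residue A)
      rw [map_natCast]
      exact hu i
    have h2 := h1.map (algebraMap A (SGA1.kummerAlg A f n))
    rwa [map_natCast] at h2
  haveI := formallySmooth_away A f n hn hu'
  haveI := formallyUnramified_away A f n hn hu'
  haveI : Algebra.FormallyEtale A
      (Localization.Away (algebraMap A (SGA1.kummerAlg A f n) (∏ i, f i))) :=
    Algebra.FormallyEtale.of_formallyUnramified_and_formallySmooth
  haveI : Algebra.FinitePresentation A (SGA1.kummerAlg A f n) :=
    Algebra.FinitePresentation.quotient (Submodule.fg_span (Set.finite_range _))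
  haveI : Algebra.FinitePresentation (SGA1.kummerAlg A f n)
      (Localization.Away (algebraMap A (SGA1.kummerAlg A f n) (∏ i, f i))) :=
    IsLocalization.Away.finitePresentation (algebraMap A (SGA1.kummerAlg A f n) (∏ i, f i))
  haveI : Algebra.FinitePresentation A
      (Localization.Away (algebraMap A (SGA1.kummerAlg A f n) (∏ i, f i))) :=
    Algebra.FinitePresentation.trans A (SGA1.kummerAlg A f n) _
  haveI : Algebra.Etale A
      (Localization.Away (algebraMap A (SGA1.kummerAlg A f n) (∏ i, f i))) := {}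
  letI := (Localization.awayMap (algebraMap A (SGA1.kummerAlg A f n)) (∏ i, f i)).toAlgebra
  haveI : IsScalarTower A (Localization.Away (∏ i, f i))
      (Localization.Away (algebraMap A (SGA1.kummerAlg A f n) (∏ i, f i))) :=
    IsScalarTower.of_algebraMap_eq fun a => by
      rw [RingHom.algebraMap_toAlgebra, Localization.awayMap, IsLocalization.Away.map,
        IsLocalization.map_eq]
      exact IsScalarTower.algebraMap_apply A (SGA1.kummerAlg A f n) _ a
  exact Algebra.Etale.of_restrictScalars A (Localization.Away (∏ i, f i)) _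

end Etale2


end Groth.Agent.H14.KummerAlg
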