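import Mathlib
import Groth.Agent.H14.KummerAlg

/-!
# Kummer algebras are tamely ramified along the `f_i`

* `exists_eq_pow_mul_unit`: in a Noetherian local ring with principal maximal ideal `(T)`, every
  nonzero element is `T^k * unit`.
* `exists_preimage`: a valuation subring dominating such a ring (with the same fraction field) is its
  image.
* `smul_D_of_pow`, `formallyUnramified_quotient`: `E/(x_i)` is unramified for a Kummer algebra whose
  other `f_j` are units.
-/

set_option autoImplicit false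
set_option linter.style.haveILetI false
universe u

namespace Groth.Agent.H14.KummerTame

open IsLocalRing

section DVRlike

variable {O : Type*} [CommRing O] [IsLocalRing O] [IsNoetherianRing O]

theorem exists_eq_pow_mul_unit (T : O) (hT : maximalIdeal O = Ideal.span {T}) (z : O)
    (hz : z ≠ 0) : ∃ (k : ℕ) (w : O), IsUnit w ∧ z = T ^ k * w := by
  classical
  have hK : ⨅ k : ℕ, maximalIdeal O ^ k = ⊥ :=
    Ideal.iInf_pow_eq_bot_of_isLocalRing _ (Ideal.IsPrime.ne_top inferInstance)
  have hex : ∃ k : ℕ, z ∉ maximalIdeal O ^ k := by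
    by_contra hcon
    push Not at hcon
    have : z ∈ ⨅ k : ℕ, maximalIdeal O ^ k := by
      rw [Ideal.mem_iInf]; exact hcon
    rw [hK, Ideal.mem_bot] at this
    exact hz this
  have hk0 : Nat.find hex ≠ 0 := by
    intro h0
    have := Nat.find_spec hex
    rw [h0, pow_zero, Ideal.one_eq_top] at this
    exact this trivial
  obtain ⟨k, hk⟩ := Nat.exists_eq_succ_of_ne_zero hk0
  have h1 : z ∈ maximalIdeal O ^ k := by
    by_contra h
    exact Nat.find_min hex (by omega : k < Nat.find hex) h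
  have h2 : z ∉ maximalIdeal O ^ (k + 1) := by
    have := Nat.find_spec hex
    rw [hk] at this
    exact this
  rw [hT, Ideal.span_singleton_pow, Ideal.mem_span_singleton'] at h1
  obtain ⟨w, hw⟩ := h1
  refine ⟨k, w, ?_, by rw [← hw, mul_comm]⟩
  by_contra hnu
  have hwm : w ∈ maximalIdeal O := (mem_maximalIdeal w).mpr hnu
  rw [hT, Ideal.mem_span_singleton'] at hwm
  obtain ⟨w', hw'⟩ := hwm
  apply h2
  rw [hT, Ideal.span_singleton_pow, Ideal.mem_span_singleton']
  exact ⟨w', by rw [← hw, ← hw']; ring⟩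

variable {L : Type*} [Field L] (V : ValuationSubring L) (ψ : O →+* L)

theorem valuation_unit_eq_one (hV : ∀ z, ψ z ∈ V) (w : O) (hw : IsUnit w) :
    V.valuation (ψ w) = 1 := by
  obtain ⟨w', hw'⟩ := hw.exists_right_inv
  have h1 : V.valuation (ψ w) ≤ 1 := (V.valuation_le_one_iff _).mpr (hV w)
  have h2 : V.valuation (ψ w') ≤ 1 := (V.valuation_le_one_iff _).mpr (hV w')
  have h3 : V.valuation (ψ w) * V.valuation (ψ w') = 1 := by
    rw [← map_mul, ← map_mul, hw', map_one, map_one]
  refine le_antisymm h1 ?_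
  calc (1 : V.ValueGroup) = V.valuation (ψ w) * V.valuation (ψ w') := h3.symm
    _ ≤ V.valuation (ψ w) * 1 := mul_le_mul_right h2 _
    _ = V.valuation (ψ w) := mul_one _

theorem exists_preimage (hV : ∀ z, ψ z ∈ V)
    (T : O) (hT : maximalIdeal O = Ideal.span {T}) (hT0 : ψ T ≠ 0)
    (hTV : V.valuation (ψ T) < 1)
    (hgen : ∀ x : L, ∃ a b : O, ψ b ≠ 0 ∧ x * ψ b = ψ a) (x : L) (hx : x ∈ V) :
    ∃ z : O, ψ z = x ∧ (V.valuation x < 1 → z ∈ maximalIdeal O) := by
  by_cases hx0 : x = 0
  · exact ⟨0, by rw [map_zero, hx0], fun _ => zero_mem _⟩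
  obtain ⟨a, b, hb, hab⟩ := hgen x
  have ha : ψ a ≠ 0 := by
    rw [← hab]; exact mul_ne_zero hx0 hb
  have ha0 : a ≠ 0 := fun h => ha (by rw [h, map_zero])
  have hb0 : b ≠ 0 := fun h => hb (by rw [h, map_zero])
  obtain ⟨ka, wa, hwa, rfl⟩ := exists_eq_pow_mul_unit T hT a ha0
  obtain ⟨kb, wb, hwb, rfl⟩ := exists_eq_pow_mul_unit T hT b hb0
  obtain ⟨wb', hwb'⟩ := hwb.exists_right_inv
  have hτk : ∀ k : ℕ, ψ T ^ k ≠ 0 := fun k => pow_ne_zero k hT0
  by_cases hk : kb ≤ ka
  · obtain ⟨j, rfl⟩ := Nat.exists_eq_add_of_le hk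
    have hz : ψ (T ^ j * wa * wb') = x := by
      have h1 : ψ (T ^ j * wa * wb') * ψ (T ^ kb * wb) = x * ψ (T ^ kb * wb) := by
        rw [hab, ← map_mul]
        congr 1
        calc T ^ j * wa * wb' * (T ^ kb * wb) = T ^ (kb + j) * wa * (wb * wb') := by ring
          _ = T ^ (kb + j) * wa := by rw [hwb', mul_one]
      exact mul_right_cancel₀ hb h1
    refine ⟨T ^ j * wa * wb', hz, ?_⟩
    intro hlt
    by_contra hnm
    have hu : IsUnit (T ^ j * wa * wb') := by
      by_contra h
      exact hnm ((mem_maximalIdeal _).mpr h)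
    have := valuation_unit_eq_one V ψ hV _ hu
    rw [hz] at this
    exact absurd this hlt.ne
  · exfalso
    push Not at hk
    obtain ⟨j, rfl⟩ := Nat.exists_eq_add_of_lt hk
    -- x * τ^(j+1) * ψ wb = ψ wa
    have h1 : x * ψ T ^ (j + 1) * ψ wb = ψ wa := by
      have h2 : (x * ψ T ^ (j + 1) * ψ wb) * ψ T ^ ka = ψ wa * ψ T ^ ka := by
        have h3 : ψ (T ^ (ka + j + 1) * wb) = ψ T ^ (ka + j + 1) * ψ wb := by
          rw [map_mul, map_pow]
        have h4 : ψ (T ^ ka * wa) = ψ T ^ ka * ψ wa := by rw [map_mul, map_pow]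
        rw [h3, h4] at hab
        rw [← mul_comm (ψ T ^ ka) (ψ wa), ← hab]
        ring
      exact mul_right_cancel₀ (hτk ka) h2
    have h5 := congrArg V.valuation h1
    rw [map_mul, map_mul, map_pow, valuation_unit_eq_one V ψ hV wb hwb,
      valuation_unit_eq_one V ψ hV wa hwa, mul_one] at h5
    have h6 : V.valuation x ≤ 1 := (V.valuation_le_one_iff _).mpr hx
    have h7 : V.valuation (ψ T) ^ (j + 1) < 1 := pow_lt_one₀ zero_le hTV (by omega)
    have h8 : V.valuation x * V.valuation (ψ T) ^ (j + 1) < 1 :=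
      calc V.valuation x * V.valuation (ψ T) ^ (j + 1)
          ≤ 1 * V.valuation (ψ T) ^ (j + 1) := mul_le_mul_left h6 _
        _ = V.valuation (ψ T) ^ (j + 1) := one_mul _
        _ < 1 := h7
    exact absurd h5 h8.ne

end DVRlike

section Unram

open KaehlerDifferential Groth.Agent.H14.KummerAlg

theorem smul_D_of_pow {R K : Type*} [CommRing R] [CommRing K] [Algebra R K] (y : K) (c : R) (m : ℕ)
    (hy : y ^ (m + 1) = algebraMap R K c) (hu : IsUnit ((m + 1 : ℕ) : K)) :
    algebraMap R K c • D R K y = 0 := by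
  have h1 : D R K (y ^ (m + 1)) = 0 := by
    rw [hy]; exact Derivation.map_algebraMap _ _
  rw [Derivation.leibniz_pow, Nat.add_sub_cancel] at h1
  have h2 : ((m + 1 : ℕ) : K) • (algebraMap R K c • D R K y) = 0 := by
    have h3 := congrArg (fun w => y • w) h1
    simp only [smul_zero] at h3
    rw [← h3, ← hy]
    module
  exact (hu.smul_eq_zero).mp h2

theorem D_eq_zero_of_pow {R K : Type*} [CommRing R] [CommRing K] [Algebra R K] (y : K) (c : R)
    (m : ℕ) (hy : y ^ (m + 1) = algebraMap R K c) (hu : IsUnit ((m + 1 : ℕ) : K))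
    (hc : IsUnit (algebraMap R K c)) : D R K y = 0 :=
  (hc.smul_eq_zero).mp (smul_D_of_pow y c m hy hu)

theorem gen_subsingleton {R K : Type*} [CommRing R] [CommRing K] [Algebra R K] {ι : Type*}
    (y : ι → K) (hadj : Algebra.adjoin R (Set.range y) = ⊤) (hy : ∀ i, D R K (y i) = 0) :
    Subsingleton Ω[K⁄R] := by
  have h := gen_span_D y hadj
  have h2 : (Set.range fun i => D R K (y i)) ⊆ {0} := by
    rintro _ ⟨i, rfl⟩
    exact hy i
  have h3 : (⊤ : Submodule K Ω[K⁄R]) = ⊥ := by
    rw [eq_bot_iff, ← h, Submodule.span_le]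
    intro w hw
    have := h2 hw
    simpa using this
  exact (Submodule.subsingleton_iff K).mp (subsingleton_of_bot_eq_top h3.symm)

theorem formallyUnramified_quotient (R₀ : Type u) [CommRing R₀] {r : ℕ} (f : Fin r → R₀)
    (n : Fin r → ℕ) (hn : ∀ j, 1 ≤ n j) (i : Fin r) (hu : ∀ j, IsUnit ((n j : ℕ) : R₀))
    (hf : ∀ j, j ≠ i → IsUnit (f j)) :
    Algebra.FormallyUnramified R₀ (SGA1.kummerAlg R₀ f n ⧸ Ideal.span {x R₀ f n i}) := by
  set J : Ideal (SGA1.kummerAlg R₀ f n) := Ideal.span {x R₀ f n i} with hJ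
  let y : Fin r → SGA1.kummerAlg R₀ f n ⧸ J :=
    fun j => Ideal.Quotient.mk _ (x R₀ f n j)
  have hadj : Algebra.adjoin R₀ (Set.range y) = ⊤ := by
    have h1 := adjoin_x R₀ f n
    have h2 := congrArg (Subalgebra.map (Ideal.Quotient.mkₐ R₀ (J))) h1
    rw [AlgHom.map_adjoin, Algebra.map_top, ← Set.range_comp] at h2
    rw [(AlgHom.range_eq_top _).mpr (Ideal.Quotient.mkₐ_surjective R₀ _)] at h2
    exact h2
  constructor
  refine gen_subsingleton y hadj ?_
  intro j
  by_cases hj : j = i
  · subst hj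
    have h0 : y j = 0 :=
      Ideal.Quotient.eq_zero_iff_mem.mpr (Ideal.mem_span_singleton_self _)
    rw [h0, map_zero]
  · obtain ⟨m, hm⟩ : ∃ m, n j = m + 1 := ⟨n j - 1, by have := hn j; omega⟩
    refine D_eq_zero_of_pow (y j) (f j) m ?_ ?_ ((hf j hj).map _)
    · rw [← hm]
      show (Ideal.Quotient.mk J (x R₀ f n j)) ^ n j = _
      rw [← map_pow, x_pow]
      rfl
    · let φ : R₀ →+* (SGA1.kummerAlg R₀ f n ⧸ J) := algebraMap _ _
      have := (hu j).map φ
      rwa [map_natCast, hm] at this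

end Unram

section Generic

theorem exists_mul_eq_zero {R₀ B : Type u} [CommRing R₀] [IsLocalRing R₀] [CommRing B]
    [Algebra R₀ B] [Algebra.FiniteType R₀ B] [Algebra.FormallyUnramified R₀ B] (π : R₀)
    (hmax : maximalIdeal R₀ = Ideal.span {π}) (h0 : algebraMap R₀ B π = 0)
    (K : Ideal B) [K.IsPrime] (b : B) (hb : b ∈ K) : ∃ s, s ∉ K ∧ s * b = 0 := by
  haveI : IsLocalHom (algebraMap R₀ (Localization.AtPrime K)) := by
    constructor
    intro a ha
    by_contra hna
    have hma : a ∈ maximalIdeal R₀ := (mem_maximalIdeal a).mpr hna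
    rw [hmax, Ideal.mem_span_singleton'] at hma
    obtain ⟨c, rfl⟩ := hma
    rw [IsScalarTower.algebraMap_apply R₀ B (Localization.AtPrime K), map_mul, h0, mul_zero,
      map_zero] at ha
    exact not_isUnit_zero ha
  haveI : Algebra.FormallyUnramified B (Localization.AtPrime K) :=
    Algebra.FormallyUnramified.of_isLocalization K.primeCompl
  haveI : Algebra.FormallyUnramified R₀ (Localization.AtPrime K) :=
    Algebra.FormallyUnramified.comp R₀ B _
  haveI : Algebra.EssFiniteType R₀ (Localization.AtPrime K) :=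
    Algebra.EssFiniteType.comp R₀ B _
  have hS : maximalIdeal (Localization.AtPrime K) = ⊥ := by
    rw [← Algebra.FormallyUnramified.map_maximalIdeal (R := R₀), hmax, Ideal.map_span,
      Set.image_singleton, IsScalarTower.algebraMap_apply R₀ B (Localization.AtPrime K), h0,
      map_zero]
    simp
  have h2 : algebraMap B (Localization.AtPrime K) b ∈ maximalIdeal (Localization.AtPrime K) := by
    rw [← Localization.AtPrime.map_eq_maximalIdeal]
    exact Ideal.mem_map_of_mem _ hb
  rw [hS, Ideal.mem_bot] at h2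
  obtain ⟨⟨s, hs⟩, hsb⟩ :=
    (IsLocalization.map_eq_zero_iff K.primeCompl (Localization.AtPrime K) _).mp h2
  exact ⟨s, hs, hsb⟩

theorem dvr_structure {E L : Type u} [CommRing E] [IsNoetherianRing E] [Field L] (ψ : E →+* L)
    (V : ValuationSubring L) (hψV : ∀ z, ψ z ∈ V) (x : E) (hx0 : ψ x ≠ 0)
    (hxV : V.valuation (ψ x) < 1)
    (hgen : ∀ y : L, ∃ a b : E, ψ b ≠ 0 ∧ y * ψ b = ψ a)
    (hkey : ∀ a, V.valuation (ψ a) < 1 → ∃ s, ¬ V.valuation (ψ s) < 1 ∧ ∃ c, s * a = c * x)
    (y : L) (hy : y ∈ V) :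
    (∃ a s : E, ¬ V.valuation (ψ s) < 1 ∧ y * ψ s = ψ a) ∧
    (V.valuation y < 1 → ∃ y' ∈ V, y = ψ x * y') := by
  classical
  let P : Ideal E := (maximalIdeal V).comap (ψ.codRestrict V hψV)
  haveI hPprime : P.IsPrime := Ideal.comap_isPrime _ _
  have hPmem : ∀ z, z ∈ P ↔ V.valuation (ψ z) < 1 := by
    intro z
    show (ψ.codRestrict V hψV) z ∈ maximalIdeal V ↔ _
    rw [V.valuation_lt_one_iff]
    rfl
  haveI : IsNoetherianRing (Localization.AtPrime P) :=
    IsLocalization.isNoetherianRing P.primeCompl (Localization.AtPrime P) inferInstance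
  have hψunit : ∀ s : P.primeCompl, IsUnit (ψ s) := by
    intro s
    rw [isUnit_iff_ne_zero]
    intro h0
    exact s.2 ((hPmem _).mpr (by rw [h0, map_zero]; exact zero_lt_one))
  let ψ' : Localization.AtPrime P →+* L := IsLocalization.lift hψunit
  have hψ'mk : ∀ z, ψ' (algebraMap E (Localization.AtPrime P) z) = ψ z :=
    fun z => IsLocalization.lift_eq _ _
  have hval1 : ∀ s : E, s ∉ P → V.valuation (ψ s) = 1 := by
    intro s hs
    rw [hPmem] at hs
    exact le_antisymm ((V.valuation_le_one_iff _).mpr (hψV s)) (not_lt.mp hs)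
  have hmk' : ∀ (a : E) (s : P.primeCompl),
      ψ' (IsLocalization.mk' (Localization.AtPrime P) a s) * ψ s = ψ a := by
    intro a s
    rw [← hψ'mk (s : E), ← map_mul, IsLocalization.mk'_spec, hψ'mk]
  have hψ'V : ∀ z : Localization.AtPrime P, ψ' z ∈ V := by
    intro z
    obtain ⟨⟨a, s⟩, rfl⟩ := IsLocalization.mk'_surjective P.primeCompl z
    rw [← V.valuation_le_one_iff]
    have h1 := hmk' a s
    have h2 : V.valuation (ψ' (IsLocalization.mk' (Localization.AtPrime P) a s)) *
        V.valuation (ψ s) = V.valuation (ψ a) := by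
      rw [← map_mul, h1]
    rw [hval1 s s.2, mul_one] at h2
    rw [h2]
    exact (V.valuation_le_one_iff _).mpr (hψV a)
  obtain ⟨T, hTdef⟩ : ∃ T : Localization.AtPrime P, T = algebraMap E _ x := ⟨_, rfl⟩
  have hψ'T : ψ' T = ψ x := by rw [hTdef, hψ'mk]
  have hxP : x ∈ P := (hPmem x).mpr hxV
  have hT : maximalIdeal (Localization.AtPrime P) = Ideal.span {T} := by
    apply le_antisymm
    · rw [← Localization.AtPrime.map_eq_maximalIdeal, Ideal.map_le_iff_le_comap]
      intro a ha
      rw [Ideal.mem_comap]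
      obtain ⟨s, hs, c, hc⟩ := hkey a ((hPmem a).mp ha)
      have hsP : s ∉ P := fun h => hs ((hPmem s).mp h)
      have hu : IsUnit (algebraMap E (Localization.AtPrime P) s) :=
        IsLocalization.map_units (Localization.AtPrime P) (⟨s, hsP⟩ : P.primeCompl)
      have hc' : algebraMap E (Localization.AtPrime P) s * algebraMap E (Localization.AtPrime P) a =
          algebraMap E (Localization.AtPrime P) c * T := by
        rw [← map_mul, hc, map_mul, hTdef]
      rw [Ideal.mem_span_singleton']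
      refine ⟨(↑hu.unit⁻¹ : Localization.AtPrime P) * algebraMap E (Localization.AtPrime P) c, ?_⟩
      apply hu.mul_left_cancel
      have h3 : algebraMap E (Localization.AtPrime P) s *
          ((↑hu.unit⁻¹ : Localization.AtPrime P) * algebraMap E (Localization.AtPrime P) c * T) =
          (algebraMap E (Localization.AtPrime P) s * ↑hu.unit⁻¹) *
            (algebraMap E (Localization.AtPrime P) c * T) := by ring
      rw [h3, IsUnit.mul_val_inv, one_mul, hc']
    · rw [Ideal.span_le]
      intro z hz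
      rw [Set.mem_singleton_iff] at hz
      rw [hz, hTdef, ← Localization.AtPrime.map_eq_maximalIdeal]
      exact Ideal.mem_map_of_mem _ hxP
  have hgen' : ∀ y : L, ∃ a b : Localization.AtPrime P, ψ' b ≠ 0 ∧ y * ψ' b = ψ' a := by
    intro y
    obtain ⟨a, b, hb, hab⟩ := hgen y
    exact ⟨algebraMap E _ a, algebraMap E _ b, by rwa [hψ'mk], by rw [hψ'mk, hψ'mk]; exact hab⟩
  obtain ⟨z, hz, hzm⟩ := exists_preimage V ψ' hψ'V T hT (by rw [hψ'T]; exact hx0)
    (by rw [hψ'T]; exact hxV) hgen' y hy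
  constructor
  · obtain ⟨⟨a, s⟩, rfl⟩ := IsLocalization.mk'_surjective P.primeCompl z
    refine ⟨a, s, fun h => s.2 ((hPmem _).mpr h), ?_⟩
    rw [← hz]
    exact hmk' a s
  · intro hlt
    have hzT := hzm hlt
    rw [hT, Ideal.mem_span_singleton'] at hzT
    obtain ⟨c, hc⟩ := hzT
    refine ⟨ψ' c, hψ'V c, ?_⟩
    rw [← hz, ← hc, map_mul, hψ'T, mul_comm]

theorem ramificationIdx'_eq_of_span {R₀ S : Type*} [CommRing R₀] [CommRing S] [IsDomain S]
    [Algebra R₀ S] (p : Ideal R₀) (τ : S) (hτ0 : τ ≠ 0) (hτu : ¬ IsUnit τ) (m : ℕ)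
    (hmap : p.map (algebraMap R₀ S) = Ideal.span {τ ^ m}) :
    Ideal.ramificationIdx' p (Ideal.span {τ}) = m := by
  apply Ideal.ramificationIdx'_spec
  · rw [hmap, Ideal.span_singleton_pow]
  · rw [hmap, Ideal.span_singleton_pow, Ideal.span_singleton_le_span_singleton,
      pow_dvd_pow_iff hτ0 hτu]
    omega

theorem separable_of_surjective {R₀ B S : Type u} [CommRing R₀] [IsLocalRing R₀] [CommRing B]
    [Algebra R₀ B] [Algebra.FiniteType R₀ B] [Algebra.FormallyUnramified R₀ B]
    [CommRing S] [IsLocalRing S] [Algebra R₀ S] [IsLocalHom (algebraMap R₀ S)]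
    (ρ : B →+* ResidueField S) (hρ : Function.Surjective ρ)
    (hcomp : ∀ d, ρ (algebraMap R₀ B d) = residue S (algebraMap R₀ S d)) :
    Algebra.IsSeparable (ResidueField R₀) (ResidueField S) := by
  let ρA : B →ₐ[R₀] ResidueField S :=
    { ρ with
      commutes' := fun d => by
        show ρ (algebraMap R₀ B d) = _
        rw [hcomp, IsScalarTower.algebraMap_apply R₀ S (ResidueField S),
          ResidueField.algebraMap_eq] }
  have hρA : Function.Surjective ρA := hρ
  haveI : Algebra.FormallyUnramified R₀ (ResidueField S) :=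
    Algebra.FormallyUnramified.of_surjective ρA hρA
  haveI : Algebra.FormallyUnramified (ResidueField R₀) (ResidueField S) :=
    Algebra.FormallyUnramified.of_restrictScalars R₀ _ _
  haveI : Algebra.FiniteType R₀ (ResidueField S) := Algebra.FiniteType.of_surjective ρA hρA
  haveI : Algebra.EssFiniteType (ResidueField R₀) (ResidueField S) :=
    Algebra.EssFiniteType.of_comp R₀ _ _
  exact Algebra.FormallyUnramified.isSeparable _ _

set_option maxHeartbeats 800000 in
theorem tame_generic (R₀ : Type u) [CommRing R₀] [IsLocalRing R₀] (π : R₀)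
    (hmax : maximalIdeal R₀ = Ideal.span {π})
    (E : Type u) [CommRing E] [Algebra R₀ E] [IsNoetherianRing E] [Algebra.FiniteType R₀ E]
    [Algebra.IsIntegral R₀ E]
    (x : E) (m : ℕ) (hm : 1 ≤ m) (hxm : x ^ m = algebraMap R₀ E π) (hmu : IsUnit ((m : ℕ) : R₀))
    [hunr : Algebra.FormallyUnramified R₀ (E ⧸ Ideal.span {x})]
    (L : Type u) [Field L] (g : R₀ →+* L) (ψ : E →+* L) (hψalg : ∀ d, ψ (algebraMap R₀ E d) = g d)
    (hπ : g π ≠ 0)
    (hgen : ∀ y : L, ∃ a b : E, ψ b ≠ 0 ∧ y * ψ b = ψ a)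
    (V : ValuationSubring L) (hV : EtRam.Dominates R₀ g V) (hψV : ∀ z, ψ z ∈ V) :
    letI : Algebra R₀ V := (RingHom.codRestrict g V hV.1).toAlgebra
    ∀ [IsLocalHom (algebraMap R₀ V)],
      Algebra.IsSeparable (ResidueField R₀) (ResidueField V) ∧
      ∀ p : ℕ, p.Prime → CharP (ResidueField R₀) p →
        ¬ p ∣ Ideal.ramificationIdx' (maximalIdeal R₀) (maximalIdeal V) := by
  classical
  intro hloc
  letI algDV : Algebra R₀ V := (RingHom.codRestrict g V hV.1).toAlgebra
  haveI : IsLocalHom (algebraMap R₀ V) := hloc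
  let ψV : E →+* V := ψ.codRestrict V hψV
  have hτm : ψ x ^ m = g π := by rw [← map_pow, hxm, hψalg]
  have hx0 : ψ x ≠ 0 := by
    intro h0
    apply hπ
    rw [← hτm, h0, zero_pow (by omega)]
  have hπV : V.valuation (g π) < 1 := hV.2 π (hmax ▸ Ideal.mem_span_singleton_self _)
  have hxV : V.valuation (ψ x) < 1 := by
    by_contra hge
    push Not at hge
    have h1 : 1 ≤ V.valuation (ψ x) ^ m := one_le_pow₀ hge
    rw [← map_pow, hτm] at h1
    exact absurd hπV (not_lt.mpr h1)
  let P : Ideal E := (maximalIdeal V).comap ψV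
  haveI hPprime : P.IsPrime := Ideal.comap_isPrime _ _
  have hPmem : ∀ z, z ∈ P ↔ V.valuation (ψ z) < 1 := by
    intro z
    show ψV z ∈ maximalIdeal V ↔ _
    rw [V.valuation_lt_one_iff]
    rfl
  have hxP : x ∈ P := (hPmem _).mpr hxV
  have hJP : Ideal.span {x} ≤ P := by
    rw [Ideal.span_le]
    intro z hz
    rw [Set.mem_singleton_iff] at hz
    rw [hz]
    exact hxP
  let ρ : (E ⧸ Ideal.span {x}) →+* ResidueField V :=
    Ideal.Quotient.lift (Ideal.span {x}) ((residue V).comp ψV)
      (fun a ha => (residue_eq_zero_iff _).mpr (hJP ha))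
  have hρmk : ∀ a, ρ (Ideal.Quotient.mk (Ideal.span {x}) a) = residue V (ψV a) :=
    fun a => Ideal.Quotient.lift_mk _ _ _
  have h0 : algebraMap R₀ (E ⧸ Ideal.span {x}) π = 0 := by
    show Ideal.Quotient.mk (Ideal.span {x}) (algebraMap R₀ E π) = 0
    rw [← hxm, Ideal.Quotient.eq_zero_iff_mem]
    exact Ideal.pow_mem_of_mem _ (Ideal.mem_span_singleton_self _) _ (by omega)
  haveI : Algebra.FiniteType R₀ (E ⧸ Ideal.span {x}) :=
    Algebra.FiniteType.of_surjective (Ideal.Quotient.mkₐ R₀ _) (Ideal.Quotient.mkₐ_surjective R₀ _)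
  haveI hkerprime : (RingHom.ker ρ).IsPrime := RingHom.ker_isPrime ρ
  have hρker : ∀ a, Ideal.Quotient.mk (Ideal.span {x}) a ∈ RingHom.ker ρ ↔ a ∈ P := by
    intro a
    rw [RingHom.mem_ker, hρmk, residue_eq_zero_iff]
    rfl
  have hkey : ∀ a, V.valuation (ψ a) < 1 →
      ∃ s, ¬ V.valuation (ψ s) < 1 ∧ ∃ c, s * a = c * x := by
    intro a ha
    have h1 : Ideal.Quotient.mk (Ideal.span {x}) a ∈ RingHom.ker ρ :=
      (hρker a).mpr ((hPmem a).mpr ha)
    obtain ⟨sbar, hsbar, hs⟩ := exists_mul_eq_zero π hmax h0 (RingHom.ker ρ) _ h1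
    obtain ⟨s, rfl⟩ := Ideal.Quotient.mk_surjective sbar
    refine ⟨s, fun hsP => hsbar ((hρker s).mpr ((hPmem s).mpr hsP)), ?_⟩
    rw [← map_mul, Ideal.Quotient.eq_zero_iff_mem, Ideal.mem_span_singleton'] at hs
    obtain ⟨c, hc⟩ := hs
    exact ⟨c, hc.symm⟩
  have hB := dvr_structure ψ V hψV x hx0 hxV hgen hkey
  obtain ⟨τ, hτdef⟩ : ∃ τ : V, τ = ψV x := ⟨_, rfl⟩
  have hτcoe : (τ : L) = ψ x := by rw [hτdef]; rfl
  have hτmem : τ ∈ maximalIdeal V := by rw [hτdef]; exact hxP
  have hτ0 : τ ≠ 0 := by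
    intro h
    apply hx0
    rw [← hτcoe, h]
    rfl
  have hτnu : ¬ IsUnit τ := mem_nonunits_iff.mp ((mem_maximalIdeal τ).mp hτmem)
  have hmV : maximalIdeal V = Ideal.span {τ} := by
    apply le_antisymm
    · intro y hy
      have hy1 : V.valuation (y : L) < 1 := (V.valuation_lt_one_iff y).mp hy
      obtain ⟨y', hy'V, hy'⟩ := (hB (y : L) y.2).2 hy1
      rw [Ideal.mem_span_singleton']
      refine ⟨⟨y', hy'V⟩, Subtype.ext ?_⟩
      show y' * (τ : L) = (y : L)
      rw [hy', hτcoe, mul_comm]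
    · rw [Ideal.span_le]
      intro z hz
      rw [Set.mem_singleton_iff] at hz
      rw [hz]
      exact hτmem
  have hπτ : algebraMap R₀ V π = τ ^ m := by
    apply Subtype.ext
    show g π = ((τ ^ m : V) : L)
    push_cast
    rw [hτcoe, hτm]
  have hmap : (maximalIdeal R₀).map (algebraMap R₀ V) = Ideal.span {τ ^ m} := by
    rw [hmax, Ideal.map_span, Set.image_singleton, hπτ]
  refine ⟨?_, ?_⟩
  · haveI hPmax : P.IsMaximal := by
      apply Ideal.isMaximal_of_isIntegral_of_isMaximal_comap (R := R₀) P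
      have hcomap : P.comap (algebraMap R₀ E) = maximalIdeal R₀ := by
        ext d
        rw [Ideal.mem_comap, hPmem, hψalg]
        constructor
        · intro hd
          rw [mem_maximalIdeal, mem_nonunits_iff]
          intro hu
          have hu' : IsUnit (algebraMap R₀ V d) := hu.map _
          have hmem : algebraMap R₀ V d ∈ maximalIdeal V :=
            (V.valuation_lt_one_iff (algebraMap R₀ V d)).mpr hd
          exact mem_nonunits_iff.mp ((mem_maximalIdeal _).mp hmem) hu'
        · exact hV.2 d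
      rw [hcomap]
      infer_instance
    have hρsurj : Function.Surjective ρ := by
      intro w
      obtain ⟨y, rfl⟩ := residue_surjective w
      obtain ⟨a, s, hs, hys⟩ := (hB (y : L) y.2).1
      have hsP : s ∉ P := fun h => hs ((hPmem s).mp h)
      obtain ⟨s', i, hi, hsi⟩ := hPmax.exists_inv hsP
      refine ⟨Ideal.Quotient.mk _ (a * s'), ?_⟩
      rw [hρmk, map_mul, map_mul]
      have h1 : y * ψV s = ψV a := Subtype.ext hys
      have h2 : residue V (ψV s') * residue V (ψV s) = 1 := by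
        have h3 := congrArg (fun e => residue V (ψV e)) hsi
        simp only [map_add, map_mul, map_one] at h3
        rw [(residue_eq_zero_iff (ψV i)).mpr hi, add_zero] at h3
        exact h3
      rw [← h1, map_mul]
      calc residue V y * residue V (ψV s) * residue V (ψV s')
          = residue V y * (residue V (ψV s') * residue V (ψV s)) := by ring
        _ = residue V y := by rw [h2, mul_one]
    refine separable_of_surjective ρ hρsurj (fun d => ?_)
    show ρ (Ideal.Quotient.mk _ (algebraMap R₀ E d)) = _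
    rw [hρmk]
    congr 1
    exact Subtype.ext (hψalg d)
  · intro p hp hchar hdvd
    rw [hmV, ramificationIdx'_eq_of_span (maximalIdeal R₀) τ hτ0 hτnu m hmap] at hdvd
    have h1 : ((m : ℕ) : ResidueField R₀) = 0 := (CharP.cast_eq_zero_iff _ p m).mpr hdvd
    have h2 : IsUnit ((m : ℕ) : ResidueField R₀) := by
      have := hmu.map (residue R₀)
      rwa [map_natCast] at this
    rw [h1] at h2
    exact not_isUnit_zero h2

end Generic

section Aux

open Groth.Agent.H14.KummerAlg MvPolynomial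

set_option maxHeartbeats 800000 in
theorem tame_aux (R₀ : Type u) [CommRing R₀] [IsLocalRing R₀] [IsNoetherianRing R₀] {r : ℕ}
    (f' : Fin r → R₀) (n : Fin r → ℕ) (hn : ∀ j, 1 ≤ n j) (i : Fin r)
    (hmax : maximalIdeal R₀ = Ideal.span {f' i}) (hunit : ∀ j, j ≠ i → IsUnit (f' j))
    (hnu : ∀ j, IsUnit ((n j : ℕ) : R₀))
    (L : Type u) [Field L] (g : R₀ →+* L) (t : Fin r → L) (ht : ∀ j, t j ^ n j = g (f' j))
    (hfi : g (f' i) ≠ 0)
    (hgen : ∀ x : L, ∃ a b : MvPolynomial (Fin r) R₀,
      eval₂Hom g t b ≠ 0 ∧ x * eval₂Hom g t b = eval₂Hom g t a)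
    (V : ValuationSubring L) (hV : EtRam.Dominates R₀ g V) :
    letI : Algebra R₀ V := (RingHom.codRestrict g V hV.1).toAlgebra
    ∀ [IsLocalHom (algebraMap R₀ V)],
      Algebra.IsSeparable (ResidueField R₀) (ResidueField V) ∧
      ∀ p : ℕ, p.Prime → CharP (ResidueField R₀) p →
        ¬ p ∣ Ideal.ramificationIdx' (maximalIdeal R₀) (maximalIdeal V) := by
  classical
  let ψ₀ : MvPolynomial (Fin r) R₀ →+* L := eval₂Hom g t
  have hker : ∀ a ∈ Ideal.span (Set.range fun j =>
      (X j : MvPolynomial (Fin r) R₀) ^ n j - C (f' j)), ψ₀ a = 0 := by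
    intro a ha
    have hle : Ideal.span (Set.range fun j =>
        (X j : MvPolynomial (Fin r) R₀) ^ n j - C (f' j)) ≤ RingHom.ker ψ₀ := by
      rw [Ideal.span_le]
      rintro _ ⟨j, rfl⟩
      show ψ₀ (X j ^ n j - C (f' j)) = 0
      simp [ψ₀, ht j]
    exact hle ha
  let ψ : SGA1.kummerAlg R₀ f' n →+* L := Ideal.Quotient.lift _ ψ₀ hker
  have hψmk : ∀ p : MvPolynomial (Fin r) R₀, ψ (Ideal.Quotient.mk _ p) = ψ₀ p :=
    fun p => Ideal.Quotient.lift_mk _ _ _
  have hψx : ∀ j, ψ (x R₀ f' n j) = t j := by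
    intro j
    show ψ (Ideal.Quotient.mk _ (X j)) = _
    rw [hψmk]
    simp [ψ₀]
  have hψalg : ∀ d : R₀, ψ (algebraMap R₀ (SGA1.kummerAlg R₀ f' n) d) = g d := by
    intro d
    show ψ (Ideal.Quotient.mk _ (C d)) = _
    rw [hψmk]
    simp [ψ₀]
  have htV : ∀ j, t j ∈ V := by
    intro j
    rw [← V.valuation_le_one_iff]
    by_contra hlt
    push Not at hlt
    have h1 : 1 < V.valuation (t j) ^ n j := one_lt_pow₀ hlt (by have := hn j; omega)
    rw [← map_pow, ht j] at h1
    exact absurd ((V.valuation_le_one_iff _).mpr (hV.1 (f' j))) (not_le.mpr h1)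
  have hψ₀V : ∀ p : MvPolynomial (Fin r) R₀, ψ₀ p ∈ V := by
    intro p
    induction p using MvPolynomial.induction_on with
    | C a => simpa [ψ₀] using hV.1 a
    | add p q hp hq => rw [map_add]; exact add_mem hp hq
    | mul_X p j hp =>
      rw [map_mul]
      refine mul_mem hp ?_
      simpa [ψ₀] using htV j
  have hψV : ∀ z, ψ z ∈ V := by
    intro z
    obtain ⟨p, rfl⟩ := Ideal.Quotient.mk_surjective z
    rw [hψmk]
    exact hψ₀V p
  haveI := isIntegral R₀ f' n hn
  haveI hunr := formallyUnramified_quotient R₀ f' n hn i hnu hunit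
  haveI : Algebra.FiniteType R₀ (SGA1.kummerAlg R₀ f' n) :=
    Algebra.FiniteType.of_surjective (Ideal.Quotient.mkₐ R₀ _) (Ideal.Quotient.mkₐ_surjective R₀ _)
  have hgenE : ∀ y : L, ∃ a b : SGA1.kummerAlg R₀ f' n, ψ b ≠ 0 ∧ y * ψ b = ψ a := by
    intro y
    obtain ⟨a, b, hb, hab⟩ := hgen y
    exact ⟨Ideal.Quotient.mk _ a, Ideal.Quotient.mk _ b, by rwa [hψmk],
      by rw [hψmk, hψmk]; exact hab⟩
  intro hloc
  exact tame_generic R₀ (f' i) hmax (SGA1.kummerAlg R₀ f' n) (x R₀ f' n i) (n i) (hn i)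
    (x_pow R₀ f' n i) (hnu i) L g ψ hψalg hfi hgenE V hV hψV

end Aux

section Main

open Groth.Agent.H14.KummerAlg MvPolynomial

theorem not_mem_span_of_linearIndependent (A : Type u) [CommRing A] [IsLocalRing A] {r : ℕ}
    (f : Fin r → A) (hm : ∀ i, f i ∈ maximalIdeal A)
    (hf : LinearIndependent (ResidueField A) (fun i => (maximalIdeal A).toCotangent ⟨f i, hm i⟩))
    (i j : Fin r) (hji : j ≠ i) : f j ∉ Ideal.span {f i} := by
  intro hmem
  rw [Ideal.mem_span_singleton'] at hmem
  obtain ⟨c, hc⟩ := hmem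
  have h1 := hf.notMem_span_image (s := {i}) (x := j) (by simpa using hji)
  apply h1
  rw [Set.image_singleton, Submodule.mem_span_singleton]
  refine ⟨residue A c, ?_⟩
  show residue A c • (maximalIdeal A).toCotangent ⟨f i, hm i⟩ =
    (maximalIdeal A).toCotangent ⟨f j, hm j⟩
  have h2 : (⟨f j, hm j⟩ : maximalIdeal A) = c • ⟨f i, hm i⟩ := Subtype.ext (by simp [hc])
  rw [h2, map_smul]
  exact algebraMap_smul (ResidueField A) c _

set_option maxHeartbeats 800000 in
theorem main (A : Type u) [CommRing A] [IsRegularLocalRing A] [IsDomain A] (r : ℕ) (f : Fin r → A)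
    (hm : ∀ i, f i ∈ maximalIdeal A)
    (hf : LinearIndependent (ResidueField A) (fun i => (maximalIdeal A).toCotangent ⟨f i, hm i⟩))
    [∀ i, (Ideal.span {f i}).IsPrime] (n : Fin r → ℕ) (hn : ∀ i, 1 ≤ n i)
    (hu : ∀ i, IsUnit ((n i : ℕ) : ResidueField A)) :
    SGA1.IsTameAlong f (algebraMap A (SGA1.kummerAlg A f n)) := by
  classical
  intro i q _ hq V hV
  haveI : IsNoetherianRing (Localization.AtPrime (Ideal.span {f i})) :=
    IsLocalization.isNoetherianRing (Ideal.span {f i}).primeCompl _ inferInstance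
  have hmax : maximalIdeal (Localization.AtPrime (Ideal.span {f i})) = Ideal.span {algebraMap A (Localization.AtPrime (Ideal.span {f i})) (f i)} := by
    rw [← Localization.AtPrime.map_eq_maximalIdeal, Ideal.map_span, Set.image_singleton]
  have hunit : ∀ j, j ≠ i → IsUnit (algebraMap A (Localization.AtPrime (Ideal.span {f i})) (f j)) := by
    intro j hji
    exact IsLocalization.map_units (Localization.AtPrime (Ideal.span {f i}))
      (⟨f j, not_mem_span_of_linearIndependent A f hm hf i j hji⟩ : (Ideal.span {f i}).primeCompl)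
  have hnuA : ∀ j, IsUnit ((n j : ℕ) : A) := by
    intro j
    have h1 := hu j
    rw [← map_natCast (residue A)] at h1
    exact isUnit_of_map_unit (residue A) _ h1
  have hnu : ∀ j, IsUnit ((n j : ℕ) : (Localization.AtPrime (Ideal.span {f i}))) := by
    intro j
    have := (hnuA j).map (algebraMap A (Localization.AtPrime (Ideal.span {f i})))
    rwa [map_natCast] at this
  have hgA : ∀ a : A, SGA1.genericResidueMap (algebraMap A (SGA1.kummerAlg A f n)) (Ideal.span {f i}) q hq
      (algebraMap A (Localization.AtPrime (Ideal.span {f i})) a) = algebraMap (SGA1.kummerAlg A f n) q.ResidueField (algebraMap A (SGA1.kummerAlg A f n) a) := by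
    intro a
    unfold SGA1.genericResidueMap
    rw [IsLocalization.lift_eq]
    rfl
  set g := SGA1.genericResidueMap (algebraMap A (SGA1.kummerAlg A f n)) (Ideal.span {f i}) q hq with hg
  let t : Fin r → q.ResidueField := fun j => algebraMap (SGA1.kummerAlg A f n) q.ResidueField (x A f n j)
  have ht : ∀ j, t j ^ n j = g (algebraMap A (Localization.AtPrime (Ideal.span {f i})) (f j)) := by
    intro j
    rw [hgA]
    show (algebraMap (SGA1.kummerAlg A f n) q.ResidueField (x A f n j)) ^ n j = _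
    rw [← map_pow, x_pow]
  have hfi0 : f i ≠ 0 := by
    intro h0
    apply hf.ne_zero i
    have h1 : (⟨f i, hm i⟩ : maximalIdeal A) = 0 := Subtype.ext h0
    rw [h1, map_zero]
  have hfi : g (algebraMap A (Localization.AtPrime (Ideal.span {f i})) (f i)) ≠ 0 := by
    rw [hgA]
    intro h0
    rw [Ideal.algebraMap_residueField_eq_zero] at h0
    have h1 : f i ∈ Ideal.comap (algebraMap A (SGA1.kummerAlg A f n)) q := h0
    rw [hq, Ideal.mem_bot] at h1
    exact hfi0 h1
  have hcomp : ∀ p : MvPolynomial (Fin r) A,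
      algebraMap (SGA1.kummerAlg A f n) q.ResidueField (Ideal.Quotient.mk _ p) =
      eval₂Hom g t (MvPolynomial.map (algebraMap A (Localization.AtPrime (Ideal.span {f i}))) p) := by
    intro p
    have hext := MvPolynomial.ringHom_ext
      (f := (algebraMap (SGA1.kummerAlg A f n) q.ResidueField).comp (Ideal.Quotient.mk _))
      (g := (eval₂Hom g t).comp (MvPolynomial.map (algebraMap A (Localization.AtPrime (Ideal.span {f i}))))) ?_ ?_
    · exact RingHom.congr_fun hext p
    · intro a
      simp only [RingHom.comp_apply, MvPolynomial.map_C, eval₂Hom_C]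
      rw [hgA]
      rfl
    · intro j
      simp only [RingHom.comp_apply, MvPolynomial.map_X, eval₂Hom_X']
      rfl
  have hgen : ∀ y : q.ResidueField, ∃ a b : MvPolynomial (Fin r) (Localization.AtPrime (Ideal.span {f i})),
      eval₂Hom g t b ≠ 0 ∧ y * eval₂Hom g t b = eval₂Hom g t a := by
    intro y
    obtain ⟨z, rfl⟩ := IsLocalRing.residue_surjective y
    obtain ⟨⟨c, s⟩, rfl⟩ := IsLocalization.mk'_surjective q.primeCompl z
    obtain ⟨pc, rfl⟩ := Ideal.Quotient.mk_surjective c
    obtain ⟨ps, hps⟩ := Ideal.Quotient.mk_surjective (s : (SGA1.kummerAlg A f n))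
    refine ⟨MvPolynomial.map (algebraMap A (Localization.AtPrime (Ideal.span {f i}))) pc,
      MvPolynomial.map (algebraMap A (Localization.AtPrime (Ideal.span {f i}))) ps, ?_, ?_⟩
    · rw [← hcomp, hps]
      intro h0
      rw [Ideal.algebraMap_residueField_eq_zero] at h0
      exact s.2 h0
    · rw [← hcomp, ← hcomp, hps]
      have h1 : IsLocalization.mk' (Localization.AtPrime q) (Ideal.Quotient.mk _ pc) s *
          algebraMap (SGA1.kummerAlg A f n) (Localization.AtPrime q) (s : (SGA1.kummerAlg A f n)) =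
          algebraMap (SGA1.kummerAlg A f n) (Localization.AtPrime q) (Ideal.Quotient.mk _ pc) :=
        IsLocalization.mk'_spec _ _ _
      have h2 := congrArg (IsLocalRing.residue (Localization.AtPrime q)) h1
      rw [map_mul] at h2
      exact h2
  intro hloc
  exact tame_aux (Localization.AtPrime (Ideal.span {f i})) (fun j => algebraMap A (Localization.AtPrime (Ideal.span {f i})) (f j)) n hn i hmax hunit hnu
    q.ResidueField g t ht hfi hgen V hV

end Main

end Groth.Agent.H14.KummerTame
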