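import Mathlib
import Groth.Agent.H14.KummerTame
import Groth.Agent.H78.ValExt

/-!
# Abhyankar's lemma for discrete valuation rings

* `local_structure`: variant of `KummerTame.tame_generic` with `x ^ m = π * unit`, returning the
  maximal ideal of the dominating valuation ring.
* `ram_le_finrank`: the ramification exponent is bounded by the degree.
-/

set_option autoImplicit false
set_option linter.style.haveILetI false
universe u

namespace Groth.Agent.H14.Abhyankar

open IsLocalRing Groth.Agent.H14.KummerTame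

theorem isLocalHom_of_dominates {R₀ : Type u} [CommRing R₀] [IsLocalRing R₀] {L : Type u}
    [Field L] (g : R₀ →+* L) (V : ValuationSubring L) (hV : EtRam.Dominates R₀ g V) :
    IsLocalHom (RingHom.codRestrict g V hV.1) := by
  constructor
  intro a ha
  by_contra hna
  have hma : a ∈ maximalIdeal R₀ := (mem_maximalIdeal a).mpr hna
  have h1 := hV.2 a hma
  have h2 : V.valuation (g a) = 1 := (V.valuation_eq_one_iff ⟨g a, hV.1 a⟩).mp ha
  rw [h2] at h1
  exact lt_irrefl _ h1

theorem val_unit {E L : Type*} [CommRing E] [Field L] (V : ValuationSubring L) (ψ : E →+* L)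
    (hV : ∀ z, ψ z ∈ V) (w : E) (hw : IsUnit w) : V.valuation (ψ w) = 1 := by
  obtain ⟨w', hw'⟩ := hw.exists_right_inv
  have h1 : V.valuation (ψ w) ≤ 1 := (V.valuation_le_one_iff _).mpr (hV w)
  have h2 : V.valuation (ψ w') ≤ 1 := (V.valuation_le_one_iff _).mpr (hV w')
  have h3 : V.valuation (ψ w) * V.valuation (ψ w') = 1 := by
    rw [← map_mul, ← map_mul, hw', map_one, map_one]
  refine le_antisymm h1 ?_
  calc (1 : V.ValueGroup) = V.valuation (ψ w) * V.valuation (ψ w') := h3.symm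
    _ ≤ V.valuation (ψ w) * 1 := mul_le_mul_right h2 _
    _ = V.valuation (ψ w) := mul_one _

set_option maxHeartbeats 800000 in
theorem local_structure (R₀ : Type u) [CommRing R₀] [IsLocalRing R₀] (π : R₀)
    (hmax : maximalIdeal R₀ = Ideal.span {π})
    (E : Type u) [CommRing E] [Algebra R₀ E] [IsNoetherianRing E] [Algebra.FiniteType R₀ E]
    [Algebra.IsIntegral R₀ E]
    (x w : E) (hw : IsUnit w) (m : ℕ) (hm : 1 ≤ m) (hxm : x ^ m = algebraMap R₀ E π * w)
    [hunr : Algebra.FormallyUnramified R₀ (E ⧸ Ideal.span {x})]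
    (L : Type u) [Field L] (g : R₀ →+* L) (ψ : E →+* L) (hψalg : ∀ d, ψ (algebraMap R₀ E d) = g d)
    (hπ : g π ≠ 0)
    (hgen : ∀ y : L, ∃ a b : E, ψ b ≠ 0 ∧ y * ψ b = ψ a)
    (V : ValuationSubring L) (hV : EtRam.Dominates R₀ g V) (hψV : ∀ z, ψ z ∈ V) :
    letI : Algebra R₀ V := (RingHom.codRestrict g V hV.1).toAlgebra
    ∀ [IsLocalHom (algebraMap R₀ V)],
      Algebra.IsSeparable (ResidueField R₀) (ResidueField V) ∧
      maximalIdeal V = Ideal.span {(⟨ψ x, hψV x⟩ : V)} := by
  classical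
  intro hloc
  letI algDV : Algebra R₀ V := (RingHom.codRestrict g V hV.1).toAlgebra
  haveI : IsLocalHom (algebraMap R₀ V) := hloc
  let ψV : E →+* V := ψ.codRestrict V hψV
  have hτm : ψ x ^ m = g π * ψ w := by rw [← map_pow, hxm, map_mul, hψalg]
  have hψw1 : V.valuation (ψ w) = 1 := val_unit V ψ hψV w hw
  have hψw0 : ψ w ≠ 0 := by
    intro h0
    rw [h0, map_zero] at hψw1
    exact zero_ne_one hψw1
  have hx0 : ψ x ≠ 0 := by
    intro h0
    rw [h0, zero_pow (by omega)] at hτm
    exact (mul_ne_zero hπ hψw0) hτm.symm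
  have hπV : V.valuation (g π) < 1 := hV.2 π (hmax ▸ Ideal.mem_span_singleton_self _)
  have hxV : V.valuation (ψ x) < 1 := by
    by_contra hge
    push Not at hge
    have h1 : 1 ≤ V.valuation (ψ x) ^ m := one_le_pow₀ hge
    rw [← map_pow, hτm, map_mul, hψw1, mul_one] at h1
    exact absurd hπV (not_lt.mpr h1)
  let P : Ideal E := (maximalIdeal V).comap ψV
  haveI hPprime : P.IsPrime := Ideal.comap_isPrime _ _
  have hPmem : ∀ z, z ∈ P ↔ V.valuation (ψ z) < 1 := by
    intro z
    show ψV z ∈ maximalIdeal V ↔ _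
    rw [V.valuation_lt_one_iff]
    rfl
  have hxP : x ∈ P := (hPmem _).mpr hxV
  have hJP : Ideal.span {x} ≤ P := by
    rw [Ideal.span_le]
    intro z hz
    rw [Set.mem_singleton_iff] at hz
    rw [hz]
    exact hxP
  let ρ : (E ⧸ Ideal.span {x}) →+* ResidueField V :=
    Ideal.Quotient.lift (Ideal.span {x}) ((residue V).comp ψV)
      (fun a ha => (residue_eq_zero_iff _).mpr (hJP ha))
  have hρmk : ∀ a, ρ (Ideal.Quotient.mk (Ideal.span {x}) a) = residue V (ψV a) :=
    fun a => Ideal.Quotient.lift_mk _ _ _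
  have h0 : algebraMap R₀ (E ⧸ Ideal.span {x}) π = 0 := by
    show Ideal.Quotient.mk (Ideal.span {x}) (algebraMap R₀ E π) = 0
    rw [Ideal.Quotient.eq_zero_iff_mem]
    obtain ⟨w', hw'⟩ := hw.exists_right_inv
    have h1 : algebraMap R₀ E π = x ^ m * w' := by
      rw [hxm, mul_assoc, hw', mul_one]
    rw [h1]
    exact Ideal.mul_mem_right _ _
      (Ideal.pow_mem_of_mem _ (Ideal.mem_span_singleton_self _) _ (by omega))
  haveI : Algebra.FiniteType R₀ (E ⧸ Ideal.span {x}) :=
    Algebra.FiniteType.of_surjective (Ideal.Quotient.mkₐ R₀ _) (Ideal.Quotient.mkₐ_surjective R₀ _)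
  haveI hkerprime : (RingHom.ker ρ).IsPrime := RingHom.ker_isPrime ρ
  have hρker : ∀ a, Ideal.Quotient.mk (Ideal.span {x}) a ∈ RingHom.ker ρ ↔ a ∈ P := by
    intro a
    rw [RingHom.mem_ker, hρmk, residue_eq_zero_iff]
    rfl
  have hkey : ∀ a, V.valuation (ψ a) < 1 →
      ∃ s, ¬ V.valuation (ψ s) < 1 ∧ ∃ c, s * a = c * x := by
    intro a ha
    have h1 : Ideal.Quotient.mk (Ideal.span {x}) a ∈ RingHom.ker ρ :=
      (hρker a).mpr ((hPmem a).mpr ha)
    obtain ⟨sbar, hsbar, hs⟩ := exists_mul_eq_zero π hmax h0 (RingHom.ker ρ) _ h1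
    obtain ⟨s, rfl⟩ := Ideal.Quotient.mk_surjective sbar
    refine ⟨s, fun hsP => hsbar ((hρker s).mpr ((hPmem s).mpr hsP)), ?_⟩
    rw [← map_mul, Ideal.Quotient.eq_zero_iff_mem, Ideal.mem_span_singleton'] at hs
    obtain ⟨c, hc⟩ := hs
    exact ⟨c, hc.symm⟩
  have hB := dvr_structure ψ V hψV x hx0 hxV hgen hkey
  obtain ⟨τ, hτdef⟩ : ∃ τ : V, τ = ψV x := ⟨_, rfl⟩
  have hτcoe : (τ : L) = ψ x := by rw [hτdef]; rfl
  have hτmem : τ ∈ maximalIdeal V := by rw [hτdef]; exact hxP
  have hmV : maximalIdeal V = Ideal.span {τ} := by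
    apply le_antisymm
    · intro y hy
      have hy1 : V.valuation (y : L) < 1 := (V.valuation_lt_one_iff y).mp hy
      obtain ⟨y', hy'V, hy'⟩ := (hB (y : L) y.2).2 hy1
      rw [Ideal.mem_span_singleton']
      refine ⟨⟨y', hy'V⟩, Subtype.ext ?_⟩
      show y' * (τ : L) = (y : L)
      rw [hy', hτcoe, mul_comm]
    · rw [Ideal.span_le]
      intro z hz
      rw [Set.mem_singleton_iff] at hz
      rw [hz]
      exact hτmem
  refine ⟨?_, ?_⟩
  · haveI hPmax : P.IsMaximal := by
      apply Ideal.isMaximal_of_isIntegral_of_isMaximal_comap (R := R₀) P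
      have hcomap : P.comap (algebraMap R₀ E) = maximalIdeal R₀ := by
        ext d
        rw [Ideal.mem_comap, hPmem, hψalg]
        constructor
        · intro hd
          rw [mem_maximalIdeal, mem_nonunits_iff]
          intro hu
          have hu' : IsUnit (algebraMap R₀ V d) := hu.map _
          have hmem : algebraMap R₀ V d ∈ maximalIdeal V :=
            (V.valuation_lt_one_iff (algebraMap R₀ V d)).mpr hd
          exact mem_nonunits_iff.mp ((mem_maximalIdeal _).mp hmem) hu'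
        · exact hV.2 d
      rw [hcomap]
      infer_instance
    have hρsurj : Function.Surjective ρ := by
      intro w
      obtain ⟨y, rfl⟩ := residue_surjective w
      obtain ⟨a, s, hs, hys⟩ := (hB (y : L) y.2).1
      have hsP : s ∉ P := fun h => hs ((hPmem s).mp h)
      obtain ⟨s', i, hi, hsi⟩ := hPmax.exists_inv hsP
      refine ⟨Ideal.Quotient.mk _ (a * s'), ?_⟩
      rw [hρmk, map_mul, map_mul]
      have h1 : y * ψV s = ψV a := Subtype.ext hys
      have h2 : residue V (ψV s') * residue V (ψV s) = 1 := by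
        have h3 := congrArg (fun e => residue V (ψV e)) hsi
        simp only [map_add, map_mul, map_one] at h3
        rw [(residue_eq_zero_iff (ψV i)).mpr hi, add_zero] at h3
        exact h3
      rw [← h1, map_mul]
      calc residue V y * residue V (ψV s) * residue V (ψV s')
          = residue V y * (residue V (ψV s') * residue V (ψV s)) := by ring
        _ = residue V y := by rw [h2, mul_one]
    refine separable_of_surjective ρ hρsurj (fun d => ?_)
    show ρ (Ideal.Quotient.mk _ (algebraMap R₀ E d)) = _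
    rw [hρmk]
    congr 1
    exact Subtype.ext (hψalg d)
  · rw [hmV, hτdef]
    rfl

section Bound

variable {A L : Type u} [CommRing A] [IsLocalRing A] [Field L] [Algebra A L]

/-- If `Σ a_i t^i = 0` with `a_i ∈ A`, `π = u t^e`, then all `a_i` lie in the maximal ideal. -/
theorem coeff_mem_maximalIdeal (V : ValuationSubring L) (hV : EtRam.Dominates A (algebraMap A L) V)
    (π : A) (hπ : maximalIdeal A = Ideal.span {π})
    (t : L) (e : ℕ) (ht0 : t ≠ 0) (ht1 : V.valuation t < 1)
    (he : V.valuation (algebraMap A L π) = V.valuation t ^ e)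
    (a : Fin e → A) (hsum : ∑ i, algebraMap A L (a i) * t ^ (i : ℕ) = 0) (i : Fin e) :
    a i ∈ maximalIdeal A := by
  classical
  by_contra hcon
  set τ := V.valuation t with hτ
  have hτ0 : τ ≠ 0 := (V.valuation).ne_zero_iff.mpr ht0
  have hτpos : 0 < τ := zero_lt_iff.mpr hτ0
  -- the set of indices with unit coefficient
  let S : Finset (Fin e) := Finset.univ.filter (fun j => a j ∉ maximalIdeal A)
  have hS : S.Nonempty := ⟨i, Finset.mem_filter.mpr ⟨Finset.mem_univ _, hcon⟩⟩
  set i₀ := S.min' hS with hi₀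
  have hi₀S : i₀ ∈ S := Finset.min'_mem S hS
  have hi₀u : a i₀ ∉ maximalIdeal A := by
    exact (Finset.mem_filter.mp hi₀S).2
  have hunit : IsUnit (a i₀) := by
    by_contra h
    exact hi₀u ((mem_maximalIdeal _).mpr h)
  have hval_unit : V.valuation (algebraMap A L (a i₀)) = 1 := by
    haveI := isLocalHom_of_dominates (algebraMap A L) V hV
    have h1 : IsUnit (RingHom.codRestrict (algebraMap A L) V hV.1 (a i₀)) := hunit.map _
    exact (V.valuation_eq_one_iff _).mp h1
  have hle : ∀ b : A, V.valuation (algebraMap A L b) ≤ 1 :=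
    fun b => (V.valuation_le_one_iff _).mpr (hV.1 b)
  have hmem_le : ∀ b : A, b ∈ maximalIdeal A → V.valuation (algebraMap A L b) ≤ τ ^ e := by
    intro b hb
    rw [hπ, Ideal.mem_span_singleton'] at hb
    obtain ⟨c, rfl⟩ := hb
    rw [map_mul, map_mul, he]
    calc V.valuation (algebraMap A L c) * τ ^ e ≤ 1 * τ ^ e :=
          mul_le_mul_left (hle c) _
      _ = τ ^ e := one_mul _
  have hτle : τ ≤ 1 := ht1.le
  -- all other terms have valuation ≤ τ^(i₀+1)
  have hother : ∀ j ∈ Finset.univ.erase i₀,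
      V.valuation (algebraMap A L (a j) * t ^ (j : ℕ)) ≤ τ ^ ((i₀ : ℕ) + 1) := by
    intro j hj
    have hji : j ≠ i₀ := Finset.ne_of_mem_erase hj
    rw [map_mul, map_pow]
    rcases lt_or_gt_of_ne hji with hlt | hgt
    · -- j < i₀: a j ∈ m
      have hjm : a j ∈ maximalIdeal A := by
        by_contra hjn
        have hjS : j ∈ S := Finset.mem_filter.mpr ⟨Finset.mem_univ _, hjn⟩
        exact absurd (Finset.min'_le S j hjS) (not_le.mpr hlt)
      have h1 := hmem_le (a j) hjm
      have h2 : τ ^ (j : ℕ) ≤ 1 := pow_le_one₀ zero_le hτle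
      calc V.valuation (algebraMap A L (a j)) * τ ^ (j : ℕ) ≤ τ ^ e * 1 :=
            mul_le_mul' h1 h2
        _ = τ ^ e := mul_one _
        _ ≤ τ ^ ((i₀ : ℕ) + 1) := pow_le_pow_of_le_one zero_le hτle (by have := i₀.2; omega)
    · have h2 : τ ^ (j : ℕ) ≤ τ ^ ((i₀ : ℕ) + 1) :=
        pow_le_pow_of_le_one zero_le hτle (by
          have : (i₀ : ℕ) < (j : ℕ) := hgt
          omega)
      calc V.valuation (algebraMap A L (a j)) * τ ^ (j : ℕ) ≤ 1 * τ ^ ((i₀ : ℕ) + 1) :=
            mul_le_mul' (hle _) h2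
        _ = τ ^ ((i₀ : ℕ) + 1) := one_mul _
  have hsum' : algebraMap A L (a i₀) * t ^ (i₀ : ℕ) =
      - ∑ j ∈ Finset.univ.erase i₀, algebraMap A L (a j) * t ^ (j : ℕ) := by
    rw [eq_neg_iff_add_eq_zero, Finset.add_sum_erase Finset.univ
      (fun j => algebraMap A L (a j) * t ^ (j : ℕ)) (Finset.mem_univ i₀)]
    exact hsum
  have h3 : V.valuation (algebraMap A L (a i₀) * t ^ (i₀ : ℕ)) ≤ τ ^ ((i₀ : ℕ) + 1) := by
    rw [hsum', Valuation.map_neg]
    exact Valuation.map_sum_le _ hother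
  rw [map_mul, hval_unit, one_mul, map_pow, pow_succ] at h3
  have h4 : τ ^ (i₀ : ℕ) * τ < τ ^ (i₀ : ℕ) * 1 := by
    have hp : 0 < τ ^ (i₀ : ℕ) := pow_pos hτpos _
    exact (mul_lt_mul_iff_right₀ hp).mpr ht1
  rw [mul_one] at h4
  exact absurd h3 (not_le.mpr h4)

end Bound

section Bound2

theorem ram_le_finrank {A K L : Type u} [CommRing A] [IsDomain A] [IsDiscreteValuationRing A]
    [Field K] [Algebra A K] [IsFractionRing A K] [Field L] [Algebra K L] [Algebra A L]
    [IsScalarTower A K L] [FiniteDimensional K L]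
    (V : ValuationSubring L) (hV : EtRam.Dominates A (algebraMap A L) V)
    (π : A) (hπ : maximalIdeal A = Ideal.span {π}) (hπ0 : algebraMap A L π ≠ 0)
    (t : L) (e : ℕ) (ht0 : t ≠ 0) (ht1 : V.valuation t < 1)
    (he : V.valuation (algebraMap A L π) = V.valuation t ^ e) : e ≤ Module.finrank K L := by
  have hP : ∀ n : ℕ, ∀ a : Fin e → A, ∑ i, a i • t ^ (i : ℕ) = 0 →
      ∀ i, a i ∈ maximalIdeal A ^ n := by
    intro n
    induction n with
    | zero => intro a _ i; simp
    | succ n ih =>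
      intro a hsum i
      have hsum' : ∑ i, algebraMap A L (a i) * t ^ (i : ℕ) = 0 := by
        simpa [Algebra.smul_def] using hsum
      have hm := coeff_mem_maximalIdeal V hV π hπ t e ht0 ht1 he a hsum'
      have hb : ∀ j, ∃ b, b * π = a j := by
        intro j
        have := hm j
        rw [hπ, Ideal.mem_span_singleton'] at this
        exact this
      choose b hb using hb
      have hsumb : ∑ i, b i • t ^ (i : ℕ) = 0 := by
        have h1 : algebraMap A L π * ∑ i, b i • t ^ (i : ℕ) = 0 := by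
          rw [Finset.mul_sum, ← hsum]
          refine Finset.sum_congr rfl (fun j _ => ?_)
          rw [← hb j, Algebra.smul_def, Algebra.smul_def, map_mul]
          ring
        exact (mul_eq_zero.mp h1).resolve_left hπ0
      have h2 := ih b hsumb i
      rw [← hb i, pow_succ]
      exact Ideal.mul_mem_mul h2 (hπ.symm ▸ Ideal.mem_span_singleton_self π)
  have hLI : LinearIndependent A (fun i : Fin e => t ^ (i : ℕ)) := by
    rw [Fintype.linearIndependent_iff]
    intro a hsum i
    have hbot : ⨅ n : ℕ, maximalIdeal A ^ n = ⊥ :=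
      Ideal.iInf_pow_eq_bot_of_isLocalRing _ (Ideal.IsPrime.ne_top inferInstance)
    have h3 : a i ∈ ⨅ n : ℕ, maximalIdeal A ^ n := by
      rw [Ideal.mem_iInf]
      intro n
      exact hP n a hsum i
    rw [hbot, Ideal.mem_bot] at h3
    exact h3
  have hLIK : LinearIndependent K (fun i : Fin e => t ^ (i : ℕ)) :=
    (LinearIndependent.iff_fractionRing A K).mp hLI
  have h4 := hLIK.fintype_card_le_finrank
  simpa using h4

end Bound2

section TwoVar

open MvPolynomial

variable (R₀ : Type u) [CommRing R₀] (u₁ t₀ : R₀) (a m : ℕ)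

/-- The ideal `(Y^a - u₁, Z^m - t₀ Y)` of `R₀[Y, Z]`. -/
noncomputable abbrev relIdeal : Ideal (MvPolynomial (Fin 2) R₀) :=
  Ideal.span {X 0 ^ a - C u₁, X 1 ^ m - C t₀ * X 0}

/-- `R₀[Y,Z]/(Y^a - u₁, Z^m - t₀ Y)`. -/
noncomputable abbrev E2 : Type u := MvPolynomial (Fin 2) R₀ ⧸ relIdeal R₀ u₁ t₀ a m

/-- The classes of `Y` and `Z`. -/
noncomputable def gen (i : Fin 2) : E2 R₀ u₁ t₀ a m := Ideal.Quotient.mk _ (X i)

theorem gen0_pow : gen R₀ u₁ t₀ a m 0 ^ a = algebraMap R₀ (E2 R₀ u₁ t₀ a m) u₁ := by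
  have h : (X 0 ^ a - C u₁ : MvPolynomial (Fin 2) R₀) ∈ relIdeal R₀ u₁ t₀ a m :=
    Ideal.subset_span (by simp)
  have h2 := Ideal.Quotient.eq_zero_iff_mem.mpr h
  rw [map_sub, map_pow, sub_eq_zero] at h2
  exact h2

theorem gen1_pow : gen R₀ u₁ t₀ a m 1 ^ m =
    algebraMap R₀ (E2 R₀ u₁ t₀ a m) t₀ * gen R₀ u₁ t₀ a m 0 := by
  have h : (X 1 ^ m - C t₀ * X 0 : MvPolynomial (Fin 2) R₀) ∈ relIdeal R₀ u₁ t₀ a m :=
    Ideal.subset_span (by simp)
  have h2 := Ideal.Quotient.eq_zero_iff_mem.mpr h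
  rw [map_sub, map_pow, sub_eq_zero, map_mul] at h2
  exact h2

theorem adjoin_gen : Algebra.adjoin R₀ (Set.range (gen R₀ u₁ t₀ a m)) = ⊤ := by
  have h1 := MvPolynomial.adjoin_range_X (R := R₀) (σ := Fin 2)
  have h2 := congrArg (Subalgebra.map (Ideal.Quotient.mkₐ R₀ (relIdeal R₀ u₁ t₀ a m))) h1
  rw [AlgHom.map_adjoin, Algebra.map_top, ← Set.range_comp] at h2
  rw [(AlgHom.range_eq_top _).mpr (Ideal.Quotient.mkₐ_surjective R₀ _)] at h2
  exact h2

theorem isIntegral_E2 (ha : 1 ≤ a) (hm : 1 ≤ m) :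
    Algebra.IsIntegral R₀ (E2 R₀ u₁ t₀ a m) := by
  rw [← integralClosure_eq_top_iff, eq_top_iff, ← adjoin_gen R₀ u₁ t₀ a m]
  apply Algebra.adjoin_le
  rintro _ ⟨i, rfl⟩
  fin_cases i
  · refine ⟨Polynomial.X ^ a - Polynomial.C u₁,
      Polynomial.monic_X_pow_sub_C u₁ (by omega), ?_⟩
    simp [gen0_pow]
  · refine ⟨Polynomial.X ^ (m * a) - Polynomial.C (t₀ ^ a * u₁),
      Polynomial.monic_X_pow_sub_C _ (by positivity), ?_⟩
    rw [Polynomial.eval₂_sub, Polynomial.eval₂_pow, Polynomial.eval₂_X, Polynomial.eval₂_C]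
    show gen R₀ u₁ t₀ a m 1 ^ (m * a) - _ = 0
    rw [pow_mul, gen1_pow, mul_pow, gen0_pow, map_mul, map_pow, sub_self]

theorem isUnit_gen0 (hu : IsUnit u₁) (ha : 1 ≤ a) : IsUnit (gen R₀ u₁ t₀ a m 0) := by
  have h1 : IsUnit (gen R₀ u₁ t₀ a m 0 ^ a) := by
    rw [gen0_pow]
    exact hu.map _
  exact (isUnit_pow_iff (by omega)).mp h1

theorem formallyUnramified_E2_quotient (hu : IsUnit u₁) (ha : 1 ≤ a)
    (hau : IsUnit ((a : ℕ) : R₀)) :
    Algebra.FormallyUnramified R₀
      (E2 R₀ u₁ t₀ a m ⧸ Ideal.span {gen R₀ u₁ t₀ a m 1}) := by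
  let y : Fin 2 → E2 R₀ u₁ t₀ a m ⧸ Ideal.span {gen R₀ u₁ t₀ a m 1} :=
    fun j => Ideal.Quotient.mk _ (gen R₀ u₁ t₀ a m j)
  have hadj : Algebra.adjoin R₀ (Set.range y) = ⊤ := by
    have h1 := adjoin_gen R₀ u₁ t₀ a m
    have h2 := congrArg (Subalgebra.map (Ideal.Quotient.mkₐ R₀
      (Ideal.span {gen R₀ u₁ t₀ a m 1}))) h1
    rw [AlgHom.map_adjoin, Algebra.map_top, ← Set.range_comp] at h2
    rw [(AlgHom.range_eq_top _).mpr (Ideal.Quotient.mkₐ_surjective R₀ _)] at h2
    exact h2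
  constructor
  refine gen_subsingleton y hadj ?_
  intro j
  fin_cases j
  · refine D_eq_zero_of_pow (y 0) u₁ (a - 1) ?_ ?_ (hu.map _)
    · rw [Nat.sub_add_cancel ha]
      show (Ideal.Quotient.mk _ (gen R₀ u₁ t₀ a m 0)) ^ a = _
      rw [← map_pow, gen0_pow]
      rfl
    · let φ : R₀ →+* (E2 R₀ u₁ t₀ a m ⧸ Ideal.span {gen R₀ u₁ t₀ a m 1}) := algebraMap _ _
      have := hau.map φ
      rw [Nat.sub_add_cancel ha]
      rwa [map_natCast] at this
  · have h0 : y 1 = 0 :=
      Ideal.Quotient.eq_zero_iff_mem.mpr (Ideal.mem_span_singleton_self _)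
    show KaehlerDifferential.D R₀ _ (y 1) = 0
    rw [h0, map_zero]

end TwoVar

section Local

open MvPolynomial Groth.Agent.H78.ValExt

theorem natCast_ne_zero_of_forall_prime {k : Type*} [Field k] (n : ℕ) (hn : n ≠ 0)
    (h : ∀ p : ℕ, p.Prime → CharP k p → ¬ p ∣ n) : (n : k) ≠ 0 := by
  obtain ⟨p, hp⟩ := CharP.exists k
  intro h0
  rw [CharP.cast_eq_zero_iff k p] at h0
  rcases CharP.char_is_prime_or_zero k p with hpp | hp0
  · exact h p hpp hp h0
  · subst hp0
    exact hn (zero_dvd_iff.mp h0)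

/-- Elements of `L'` that are fractions of elements in the image of `ψ`. -/
theorem exists_fraction {E L L' : Type u} [CommRing E] [Field L] [Field L'] [Algebra L L']
    (ψ : E →+* L') (z : L') (hadj : Algebra.adjoin L {z} = ⊤)
    (hL : ∀ l : L, ∃ a b : E, ψ b ≠ 0 ∧ algebraMap L L' l * ψ b = ψ a)
    (hz : ∃ a b : E, ψ b ≠ 0 ∧ z * ψ b = ψ a) (y : L') :
    ∃ a b : E, ψ b ≠ 0 ∧ y * ψ b = ψ a := by
  let S : Subalgebra L L' :=
    { carrier := {y | ∃ a b : E, ψ b ≠ 0 ∧ y * ψ b = ψ a}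
      mul_mem' := by
        rintro y₁ y₂ ⟨a₁, b₁, hb₁, h₁⟩ ⟨a₂, b₂, hb₂, h₂⟩
        refine ⟨a₁ * a₂, b₁ * b₂, ?_, ?_⟩
        · rw [map_mul]; exact mul_ne_zero hb₁ hb₂
        · rw [map_mul, map_mul, ← h₁, ← h₂]; ring
      add_mem' := by
        rintro y₁ y₂ ⟨a₁, b₁, hb₁, h₁⟩ ⟨a₂, b₂, hb₂, h₂⟩
        refine ⟨a₁ * b₂ + a₂ * b₁, b₁ * b₂, ?_, ?_⟩
        · rw [map_mul]; exact mul_ne_zero hb₁ hb₂
        · rw [map_add, map_mul, map_mul, map_mul, ← h₁, ← h₂]; ring
      algebraMap_mem' := hL }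
  have hzS : z ∈ S := hz
  have hle : Algebra.adjoin L {z} ≤ S := Algebra.adjoin_le (by
    intro w hw
    rw [Set.mem_singleton_iff] at hw
    rw [hw]
    exact hzS)
  rw [hadj] at hle
  exact hle (Algebra.mem_top : y ∈ (⊤ : Subalgebra L L'))

set_option maxHeartbeats 1600000 in
theorem unramified_at {A K L : Type u} [CommRing A] [IsDomain A] [IsDiscreteValuationRing A]
    [Field K] [Algebra A K] [IsFractionRing A K] [Field L] [Algebra K L] [Algebra A L]
    [IsScalarTower A K L] [FiniteDimensional K L] [Algebra.IsSeparable K L]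
    (π : A) (hπ : maximalIdeal A = Ideal.span {π})
    (h : EtRam.IsTamelyRamified A (algebraMap A L))
    (L' : Type u) [Field L'] [Algebra L L'] (z : L') (e : ℕ) (he0 : 0 < e)
    (hz : z ^ e = algebraMap L L' (algebraMap A L π))
    (hdiv : ∀ j : ℕ, 1 ≤ j → j ≤ Module.finrank K L → (j : ResidueField A) ≠ 0 → j ∣ e)
    (hadj : Algebra.adjoin L {z} = ⊤)
    (W : ValuationSubring L')
    (hWA : EtRam.Dominates A ((algebraMap L L').comp (algebraMap A L)) W) :
    (∃ hzW : z ∈ W, maximalIdeal W = Ideal.span {(⟨z, hzW⟩ : W)}) ∧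
    (letI : Algebra A W :=
      (RingHom.codRestrict ((algebraMap L L').comp (algebraMap A L)) W hWA.1).toAlgebra
     ∀ [IsLocalHom (algebraMap A W)], Algebra.IsSeparable (ResidueField A) (ResidueField W)) := by
  classical
  obtain ⟨V, hVdef⟩ : ∃ V : ValuationSubring L, V = W.comap (algebraMap L L') := ⟨_, rfl⟩
  have hV : EtRam.Dominates A (algebraMap A L) V := by
    rw [hVdef]
    exact (dominates_comap_iff (algebraMap A L) W).mpr hWA
  have hVmem : ∀ l : L, l ∈ V ↔ algebraMap L L' l ∈ W := by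
    intro l
    rw [hVdef]
    exact ValuationSubring.mem_comap
  have hVval : ∀ l : L, V.valuation l < 1 ↔ W.valuation (algebraMap L L' l) < 1 := by
    intro l
    rw [hVdef]
    exact comap_valuation_lt_one_iff W l
  haveI hVdvr : IsDiscreteValuationRing V := by
    apply isDVR_of_dominates A K L V
    rw [← IsScalarTower.algebraMap_eq A K L]
    exact hV
  have hπne : π ≠ 0 := by
    intro h0
    apply IsDiscreteValuationRing.not_a_field A
    rw [hπ, h0]
    exact Ideal.span_singleton_eq_bot.mpr rfl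
  have hinj : Function.Injective (algebraMap A L) := by
    rw [IsScalarTower.algebraMap_eq A K L]
    exact (algebraMap K L).injective.comp (IsFractionRing.injective A K)
  have hπ0 : algebraMap A L π ≠ 0 := fun h0 => hπne (hinj (by rw [h0, map_zero]))
  obtain ⟨tV, htV⟩ := IsDiscreteValuationRing.exists_irreducible V
  have hπV0 : (⟨algebraMap A L π, hV.1 π⟩ : V) ≠ 0 := fun h0 => hπ0 (congrArg Subtype.val h0)
  obtain ⟨a, u, hu⟩ := IsDiscreteValuationRing.associated_pow_irreducible hπV0 htV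
  have h1 : (⟨algebraMap A L π, hV.1 π⟩ : V) = ↑u⁻¹ * tV ^ a := by
    rw [← hu, mul_comm (⟨algebraMap A L π, hV.1 π⟩ : V), ← mul_assoc, Units.inv_mul, one_mul]
  letI algAV : Algebra A V := (RingHom.codRestrict (algebraMap A L) V hV.1).toAlgebra
  haveI hlocAV : IsLocalHom (algebraMap A V) := isLocalHom_of_dominates (algebraMap A L) V hV
  obtain ⟨hsepV, hpV⟩ := h V hV
  have hram : Ideal.ramificationIdx' (maximalIdeal A) (maximalIdeal V) = a :=
    ram_eq π hπ tV htV.maximalIdeal_eq htV.ne_zero u⁻¹ a h1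
  have htVm : tV ∈ maximalIdeal V := by
    rw [htV.maximalIdeal_eq]
    exact Ideal.mem_span_singleton_self _
  have ht1 : V.valuation (tV : L) < 1 := (V.valuation_lt_one_iff tV).mp htVm
  have ht0 : (tV : L) ≠ 0 := fun h0 => htV.ne_zero (Subtype.ext h0)
  have hu1 : V.valuation ((↑u⁻¹ : V) : L) = 1 :=
    (V.valuation_eq_one_iff _).mp (Units.isUnit _)
  have hπL : algebraMap A L π = ((↑u⁻¹ : V) : L) * (tV : L) ^ a := by
    have h2 := congrArg Subtype.val h1
    simpa using h2
  have hval : V.valuation (algebraMap A L π) = V.valuation (tV : L) ^ a := by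
    rw [hπL, map_mul, hu1, one_mul, map_pow]
  have ha0 : a ≠ 0 := by
    intro h0
    have h2 := hV.2 π (hπ ▸ Ideal.mem_span_singleton_self π)
    rw [hval, h0, pow_zero] at h2
    exact lt_irrefl _ h2
  have ha1 : 1 ≤ a := Nat.one_le_iff_ne_zero.mpr ha0
  have haκ : ((a : ℕ) : ResidueField A) ≠ 0 :=
    natCast_ne_zero_of_forall_prime a ha0 (fun p hp hc => by rw [← hram]; exact hpV p hp hc)
  have hale : a ≤ Module.finrank K L := ram_le_finrank V hV π hπ hπ0 (tV : L) a ht0 ht1 hval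
  obtain ⟨m, hm⟩ := hdiv a ha1 hale haκ
  have hm1 : 1 ≤ m := by
    rcases Nat.eq_zero_or_pos m with h0 | h0
    · rw [h0, mul_zero] at hm
      omega
    · exact h0
  have haA : IsUnit ((a : ℕ) : A) := by
    have h2 : residue A ((a : ℕ) : A) ≠ 0 := by rwa [map_natCast]
    exact (IsLocalRing.residue_ne_zero_iff_isUnit _).mp h2
  have haV : IsUnit ((a : ℕ) : V) := by
    have h2 := haA.map (algebraMap A V)
    rwa [map_natCast] at h2
  -- the map to `L'`
  let g : V →+* L' := (algebraMap L L').comp V.subtype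
  have hg0 : ∀ d : V, d ≠ 0 → g d ≠ 0 := by
    intro d hd h0
    apply hd
    have h2 : (d : L) = 0 := (map_eq_zero_iff _ (algebraMap L L').injective).mp h0
    exact Subtype.ext h2
  have hgt0 : g tV ≠ 0 := hg0 tV htV.ne_zero
  have hgπ : z ^ e = g (↑u⁻¹ : V) * g tV ^ a := by
    rw [hz, ← map_pow, ← map_mul, ← h1]
    rfl
  obtain ⟨y, hydef⟩ : ∃ y : L', y = z ^ m * (g tV)⁻¹ := ⟨_, rfl⟩
  have hzy : z ^ m = g tV * y := by
    rw [hydef, mul_comm (z ^ m), ← mul_assoc, mul_inv_cancel₀ hgt0, one_mul]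
  have hya : y ^ a = g (↑u⁻¹ : V) := by
    have h2 : g tV ^ a * y ^ a = g tV ^ a * g (↑u⁻¹ : V) := by
      rw [← mul_pow, ← hzy, ← pow_mul, mul_comm m a, ← hm, hgπ]
      ring
    exact mul_left_cancel₀ (pow_ne_zero a hgt0) h2
  -- the algebra `E`
  let ψ₀ : MvPolynomial (Fin 2) V →+* L' := eval₂Hom g ![y, z]
  have hker : ∀ p ∈ relIdeal V (↑u⁻¹ : V) tV a m, ψ₀ p = 0 := by
    intro p hp
    have hle : relIdeal V (↑u⁻¹ : V) tV a m ≤ RingHom.ker ψ₀ := by
      rw [Ideal.span_le]
      intro q hq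
      rcases hq with rfl | hq
      · show ψ₀ (X 0 ^ a - C (↑u⁻¹ : V)) = 0
        simp [ψ₀, hya]
      · rw [Set.mem_singleton_iff] at hq
        subst hq
        show ψ₀ (X 1 ^ m - C tV * X 0) = 0
        simp [ψ₀, hzy]
    exact hle hp
  let ψ : E2 V (↑u⁻¹ : V) tV a m →+* L' := Ideal.Quotient.lift _ ψ₀ hker
  have hψmk : ∀ p, ψ (Ideal.Quotient.mk _ p) = ψ₀ p := fun p => Ideal.Quotient.lift_mk _ _ _
  have hψ0 : ψ (gen V (↑u⁻¹ : V) tV a m 0) = y := by
    show ψ (Ideal.Quotient.mk _ (X 0)) = _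
    rw [hψmk]
    simp [ψ₀]
  have hψ1 : ψ (gen V (↑u⁻¹ : V) tV a m 1) = z := by
    show ψ (Ideal.Quotient.mk _ (X 1)) = _
    rw [hψmk]
    simp [ψ₀]
  have hψalg : ∀ d : V, ψ (algebraMap V (E2 V (↑u⁻¹ : V) tV a m) d) = g d := by
    intro d
    show ψ (Ideal.Quotient.mk _ (C d)) = _
    rw [hψmk]
    simp [ψ₀]
  have hgW : ∀ d : V, g d ∈ W := fun d => (hVmem _).mp d.2
  have hyW : y ∈ W := by
    rw [← W.valuation_le_one_iff]
    by_contra hlt
    push Not at hlt
    have h2 : 1 < W.valuation y ^ a := one_lt_pow₀ hlt ha0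
    rw [← map_pow, hya] at h2
    exact absurd ((W.valuation_le_one_iff _).mpr (hgW _)) (not_le.mpr h2)
  have hzW : z ∈ W := by
    rw [← W.valuation_le_one_iff]
    by_contra hlt
    push Not at hlt
    have h2 : 1 < W.valuation z ^ e := one_lt_pow₀ hlt (by omega)
    rw [← map_pow, hz] at h2
    exact absurd ((W.valuation_le_one_iff _).mpr (hWA.1 π)) (not_le.mpr h2)
  have hψ₀W : ∀ p, ψ₀ p ∈ W := by
    intro p
    induction p using MvPolynomial.induction_on with
    | C d => simpa [ψ₀] using hgW d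
    | add p q hp hq => rw [map_add]; exact add_mem hp hq
    | mul_X p j hp =>
      rw [map_mul]
      refine mul_mem hp ?_
      fin_cases j
      · simpa [ψ₀] using hyW
      · simpa [ψ₀] using hzW
  have hψW : ∀ w, ψ w ∈ W := by
    intro w
    obtain ⟨p, rfl⟩ := Ideal.Quotient.mk_surjective w
    rw [hψmk]
    exact hψ₀W p
  have hVW : EtRam.Dominates V g W := by
    refine ⟨hgW, ?_⟩
    intro d hd
    have h2 := (V.valuation_lt_one_iff d).mp hd
    exact (hVval _).mp h2
  have hgenE : ∀ y' : L', ∃ p q : E2 V (↑u⁻¹ : V) tV a m, ψ q ≠ 0 ∧ y' * ψ q = ψ p := by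
    apply exists_fraction ψ z hadj
    · intro l
      rcases V.mem_or_inv_mem l with hl | hl
      · refine ⟨algebraMap V _ ⟨l, hl⟩, 1, ?_, ?_⟩
        · rw [map_one]
          exact one_ne_zero
        · rw [map_one, mul_one, hψalg]
          rfl
      · by_cases hl0 : l = 0
        · refine ⟨0, 1, ?_, ?_⟩
          · rw [map_one]
            exact one_ne_zero
          · rw [hl0, map_zero, zero_mul, map_zero]
        · refine ⟨1, algebraMap V _ ⟨l⁻¹, hl⟩, ?_, ?_⟩
          · rw [hψalg]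
            exact hg0 _ (fun h0 => inv_ne_zero hl0 (congrArg Subtype.val h0))
          · rw [hψalg, map_one]
            show algebraMap L L' l * algebraMap L L' l⁻¹ = 1
            rw [← map_mul, mul_inv_cancel₀ hl0, map_one]
    · exact ⟨gen V _ tV a m 1, 1, by rw [map_one]; exact one_ne_zero,
        by rw [map_one, mul_one, hψ1]⟩
  haveI := isIntegral_E2 V (↑u⁻¹ : V) tV a m ha1 hm1
  haveI hunr := formallyUnramified_E2_quotient V (↑u⁻¹ : V) tV a m (Units.isUnit _) ha1 haV
  haveI : Algebra.FiniteType V (E2 V (↑u⁻¹ : V) tV a m) :=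
    Algebra.FiniteType.of_surjective (Ideal.Quotient.mkₐ V _) (Ideal.Quotient.mkₐ_surjective V _)
  letI algVW : Algebra V W := (RingHom.codRestrict g W hVW.1).toAlgebra
  haveI hlocVW : IsLocalHom (algebraMap V W) := isLocalHom_of_dominates g W hVW
  obtain ⟨hsepW, hmW⟩ := local_structure V tV htV.maximalIdeal_eq (E2 V (↑u⁻¹ : V) tV a m)
    (gen V _ tV a m 1) (gen V _ tV a m 0) (isUnit_gen0 V _ tV a m (Units.isUnit _) ha1)
    m hm1 (gen1_pow V _ tV a m) L' g ψ hψalg hgt0 hgenE W hVW hψW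
  refine ⟨⟨hzW, ?_⟩, ?_⟩
  · rw [hmW]
    congr 2
    exact Subtype.ext hψ1
  · intro hlocAW
    letI algAW : Algebra A W :=
      (RingHom.codRestrict ((algebraMap L L').comp (algebraMap A L)) W hWA.1).toAlgebra
    haveI : IsLocalHom (algebraMap A W) := hlocAW
    haveI : IsScalarTower A V W := IsScalarTower.of_algebraMap_eq (fun d => rfl)
    exact Algebra.IsSeparable.trans (F := ResidueField A) (E := ResidueField V)
      (K := ResidueField W)

end Local

section Global

open Polynomial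

/-- For a local `A' = A[X]/(X^e - π)`, the structure map `A → A'` sends the maximal ideal into the
maximal ideal. -/
theorem of_mem_maximalIdeal {A : Type u} [CommRing A] [IsLocalRing A] (π : A) (e : ℕ) (he0 : 0 < e)
    [IsLocalRing (AdjoinRoot (X ^ e - C π : A[X]))] (a : A) (ha : a ∈ maximalIdeal A) :
    AdjoinRoot.of (X ^ e - C π : A[X]) a ∈ maximalIdeal (AdjoinRoot (X ^ e - C π : A[X])) := by
  haveI : Module.Finite A (AdjoinRoot (X ^ e - C π : A[X])) :=
    (monic_X_pow_sub_C π he0.ne').finite_adjoinRoot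
  haveI : Algebra.IsIntegral A (AdjoinRoot (X ^ e - C π : A[X])) := Algebra.IsIntegral.of_finite _ _
  have hmax : ((maximalIdeal (AdjoinRoot (X ^ e - C π : A[X]))).comap
      (algebraMap A (AdjoinRoot (X ^ e - C π : A[X])))).IsMaximal :=
    Ideal.isMaximal_comap_of_isIntegral_of_isMaximal _
  have heq := IsLocalRing.eq_maximalIdeal hmax
  have h2 : a ∈ (maximalIdeal (AdjoinRoot (X ^ e - C π : A[X]))).comap
      (algebraMap A (AdjoinRoot (X ^ e - C π : A[X]))) := by
    rw [heq]
    exact ha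
  exact h2

set_option maxHeartbeats 1600000 in
theorem key {A K L : Type u} [CommRing A] [IsDomain A] [IsDiscreteValuationRing A] [Field K]
    [Algebra A K] [IsFractionRing A K] [Field L] [Algebra K L] [Algebra A L] [IsScalarTower A K L]
    [FiniteDimensional K L] [Algebra.IsSeparable K L]
    (π : A) (hπ : maximalIdeal A = Ideal.span {π})
    (h : EtRam.IsTamelyRamified A (algebraMap A L)) (e : ℕ) (he0 : 0 < e)
    (heκ : (e : ResidueField A) ≠ 0)
    (hdiv : ∀ j : ℕ, 1 ≤ j → j ≤ Module.finrank K L → (j : ResidueField A) ≠ 0 → j ∣ e) :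
    ∃ (L' : Type u) (_ : Field L') (_ : Algebra K L')
      (_ : Algebra (AdjoinRoot (X ^ e - C π : A[X])) L') (_ : L →ₐ[K] L'),
      FiniteDimensional K L' ∧ Algebra.IsSeparable K L' ∧
      (algebraMap (AdjoinRoot (X ^ e - C π : A[X])) L').comp (AdjoinRoot.of (X ^ e - C π)) =
        (algebraMap K L').comp (algebraMap A K) ∧
      ∀ [IsLocalRing (AdjoinRoot (X ^ e - C π : A[X]))],
        EtRam.IsUnramifiedExt (AdjoinRoot (X ^ e - C π : A[X]))
          (algebraMap (AdjoinRoot (X ^ e - C π : A[X])) L') := by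
  classical
  have hπne : π ≠ 0 := by
    intro h0
    apply IsDiscreteValuationRing.not_a_field A
    rw [hπ, h0]
    exact Ideal.span_singleton_eq_bot.mpr rfl
  have hinj : Function.Injective (algebraMap A L) := by
    rw [IsScalarTower.algebraMap_eq A K L]
    exact (algebraMap K L).injective.comp (IsFractionRing.injective A K)
  have hπ0 : algebraMap A L π ≠ 0 := fun h0 => hπne (hinj (by rw [h0, map_zero]))
  have heL : ((e : ℕ) : L) ≠ 0 := by
    intro h0
    apply heκ
    have h1 : ((e : ℕ) : A) = 0 := hinj (by rw [map_natCast, h0, map_zero])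
    rw [← map_natCast (residue A), h1, map_zero]
  obtain ⟨P, hPdef⟩ : ∃ P : L[X], P = X ^ e - C (algebraMap A L π) := ⟨_, rfl⟩
  have hPsep : P.Separable := by
    rw [hPdef]
    exact separable_X_pow_sub_C _ heL hπ0
  have hPdeg : 0 < P.degree := by
    rw [hPdef, degree_X_pow_sub_C he0]
    exact_mod_cast he0
  obtain ⟨Q, hQirr, hQdvd⟩ := exists_irreducible_of_degree_pos hPdeg
  haveI : Fact (Irreducible Q) := ⟨hQirr⟩
  have hQsep : Q.Separable := hPsep.of_dvd hQdvd
  have hQz : aeval (AdjoinRoot.root Q) Q = 0 := by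
    rw [AdjoinRoot.aeval_eq, AdjoinRoot.mk_self]
  have hPz : aeval (AdjoinRoot.root Q) P = 0 := by
    obtain ⟨c, hc⟩ := hQdvd
    rw [hc, map_mul, hQz, zero_mul]
  have hz : AdjoinRoot.root Q ^ e = algebraMap L (AdjoinRoot Q) (algebraMap A L π) := by
    have h2 := hPz
    rw [hPdef, map_sub, map_pow, aeval_X, aeval_C, sub_eq_zero] at h2
    exact h2
  have hadj : Algebra.adjoin L {AdjoinRoot.root Q} = ⊤ := AdjoinRoot.adjoinRoot_eq_top
  haveI : FiniteDimensional L (AdjoinRoot Q) := (AdjoinRoot.powerBasis hQirr.ne_zero).finite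
  haveI : FiniteDimensional K (AdjoinRoot Q) := FiniteDimensional.trans K L (AdjoinRoot Q)
  have hzsep : IsSeparable L (AdjoinRoot.root Q) := hQsep.of_dvd (minpoly.dvd L _ hQz)
  haveI : Algebra.IsSeparable L (AdjoinRoot Q) := by
    rw [← separableClosure.eq_top_iff, eq_top_iff]
    intro w _
    have hle : Algebra.adjoin L {AdjoinRoot.root Q} ≤
        (separableClosure L (AdjoinRoot Q)).toSubalgebra := Algebra.adjoin_le (by
      intro w hw
      rw [Set.mem_singleton_iff] at hw
      rw [hw]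
      exact hzsep)
    rw [hadj] at hle
    exact hle (Algebra.mem_top : w ∈ (⊤ : Subalgebra L (AdjoinRoot Q)))
  haveI : Algebra.IsSeparable K (AdjoinRoot Q) :=
    Algebra.IsSeparable.trans (F := K) (E := L) (K := AdjoinRoot Q)
  have hroot : eval₂ (algebraMap A (AdjoinRoot Q)) (AdjoinRoot.root Q) (X ^ e - C π : A[X]) = 0 := by
    rw [eval₂_sub, eval₂_pow, eval₂_X, eval₂_C, hz, sub_eq_zero]
    exact (IsScalarTower.algebraMap_apply A L (AdjoinRoot Q) π).symm
  let φ : AdjoinRoot (X ^ e - C π : A[X]) →+* AdjoinRoot Q :=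
    AdjoinRoot.lift (algebraMap A (AdjoinRoot Q)) (AdjoinRoot.root Q) hroot
  have hφof : ∀ a : A, φ (AdjoinRoot.of _ a) = algebraMap L (AdjoinRoot Q) (algebraMap A L a) := by
    intro a
    show AdjoinRoot.lift _ _ hroot (AdjoinRoot.of _ a) = _
    rw [AdjoinRoot.lift_of]
    exact IsScalarTower.algebraMap_apply A L (AdjoinRoot Q) a
  have hφroot : φ (AdjoinRoot.root _) = AdjoinRoot.root Q := AdjoinRoot.lift_root hroot
  refine ⟨AdjoinRoot Q, inferInstance, inferInstance, φ.toAlgebra,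
    IsScalarTower.toAlgHom K L (AdjoinRoot Q), inferInstance, inferInstance, ?_, ?_⟩
  · apply RingHom.ext
    intro a
    show φ (AdjoinRoot.of _ a) = algebraMap K (AdjoinRoot Q) (algebraMap A K a)
    rw [hφof, ← IsScalarTower.algebraMap_apply A L (AdjoinRoot Q),
      ← IsScalarTower.algebraMap_apply A K (AdjoinRoot Q)]
  · intro hlocA' W hW
    intro hlocW
    letI algA'L' : Algebra (AdjoinRoot (X ^ e - C π : A[X])) (AdjoinRoot Q) := φ.toAlgebra
    have hWA : EtRam.Dominates A ((algebraMap L (AdjoinRoot Q)).comp (algebraMap A L)) W := by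
      refine ⟨fun a => ?_, fun a ha => ?_⟩
      · have h2 := hW.1 (AdjoinRoot.of _ a)
        rw [RingHom.comp_apply, ← hφof]
        exact h2
      · have h2 := hW.2 (AdjoinRoot.of _ a) (of_mem_maximalIdeal π e he0 a ha)
        rw [RingHom.comp_apply, ← hφof]
        exact h2
    obtain ⟨⟨hzW, hmW⟩, hsep⟩ :=
      unramified_at π hπ h (AdjoinRoot Q) (AdjoinRoot.root Q) e he0 hz hdiv hadj W hWA
    letI algA'W : Algebra (AdjoinRoot (X ^ e - C π : A[X])) W :=
      (RingHom.codRestrict φ W hW.1).toAlgebra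
    haveI : IsLocalHom (algebraMap (AdjoinRoot (X ^ e - C π : A[X])) W) := hlocW
    have hzeq : algebraMap (AdjoinRoot (X ^ e - C π : A[X])) W (AdjoinRoot.root _) =
        (⟨AdjoinRoot.root Q, hzW⟩ : W) := Subtype.ext hφroot
    refine ⟨?_, ?_⟩
    · -- weakly unramified
      show (maximalIdeal (AdjoinRoot (X ^ e - C π : A[X]))).map
        (algebraMap (AdjoinRoot (X ^ e - C π : A[X])) W) = maximalIdeal W
      apply le_antisymm
      · rw [Ideal.map_le_iff_le_comap]
        intro a' ha'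
        exact (W.valuation_lt_one_iff _).mpr (hW.2 a' ha')
      · rw [hmW, Ideal.span_le]
        intro w hw
        rw [Set.mem_singleton_iff] at hw
        rw [hw, ← hzeq]
        apply Ideal.mem_map_of_mem
        rw [mem_maximalIdeal, mem_nonunits_iff]
        intro hu
        have hu' : IsUnit (algebraMap (AdjoinRoot (X ^ e - C π : A[X])) W (AdjoinRoot.root _)) :=
          hu.map _
        rw [hzeq] at hu'
        have hmem : (⟨AdjoinRoot.root Q, hzW⟩ : W) ∈ maximalIdeal W := by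
          rw [hmW]
          exact Ideal.mem_span_singleton_self _
        exact mem_nonunits_iff.mp ((mem_maximalIdeal _).mp hmem) hu'
    · -- separable residue field extension
      letI algAW : Algebra A W :=
        (RingHom.codRestrict ((algebraMap L (AdjoinRoot Q)).comp (algebraMap A L)) W hWA.1).toAlgebra
      haveI hlocAW : IsLocalHom (algebraMap A W) := isLocalHom_of_dominates _ W hWA
      have hsepAW : Algebra.IsSeparable (ResidueField A) (ResidueField W) := hsep
      haveI : IsLocalHom (algebraMap A (AdjoinRoot (X ^ e - C π : A[X]))) := by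
        constructor
        intro a ha
        by_contra hna
        have hma : a ∈ maximalIdeal A := (mem_maximalIdeal a).mpr hna
        have h2 := of_mem_maximalIdeal π e he0 a hma
        exact mem_nonunits_iff.mp ((mem_maximalIdeal _).mp h2) ha
      haveI : IsScalarTower A (AdjoinRoot (X ^ e - C π : A[X])) W :=
        IsScalarTower.of_algebraMap_eq (fun a => Subtype.ext (hφof a).symm)
      exact Algebra.isSeparable_tower_top_of_isSeparable (ResidueField A)
        (ResidueField (AdjoinRoot (X ^ e - C π : A[X]))) (ResidueField W)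

end Global

section Statements

open Polynomial

/-- A uniform exponent: every `j ≤ N` invertible in `k` divides it. -/
theorem exists_uniform_exponent (k : Type*) [Field k] (N : ℕ) :
    ∃ e₀ : ℕ, 0 < e₀ ∧ (e₀ : k) ≠ 0 ∧ ∀ j : ℕ, 1 ≤ j → j ≤ N → (j : k) ≠ 0 → j ∣ e₀ := by
  classical
  refine ⟨∏ j ∈ (Finset.Icc 1 N).filter (fun j : ℕ => (j : k) ≠ 0), j, ?_, ?_, ?_⟩
  · apply Finset.prod_pos
    intro j hj
    have := (Finset.mem_Icc.mp (Finset.mem_filter.mp hj).1).1
    omega
  · rw [Nat.cast_prod, Finset.prod_ne_zero_iff]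
    intro j hj
    exact (Finset.mem_filter.mp hj).2
  · intro j hj1 hjN hjk
    exact Finset.dvd_prod_of_mem _ (Finset.mem_filter.mpr ⟨Finset.mem_Icc.mpr ⟨hj1, hjN⟩, hjk⟩)

theorem exists_uniform_index {A K L : Type u} [CommRing A] [IsDomain A]
    [IsDiscreteValuationRing A] [Field K] [Algebra A K] [IsFractionRing A K] [Field L] [Algebra K L]
    [Algebra A L] [IsScalarTower A K L] [FiniteDimensional K L] [Algebra.IsSeparable K L]
    (π : A) (hπ : maximalIdeal A = Ideal.span {π}) (h : EtRam.IsTamelyRamified A (algebraMap A L)) :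
    ∃ e₀ : ℕ, 0 < e₀ ∧ (e₀ : ResidueField A) ≠ 0 ∧
      ∀ d : ℕ, 0 < d → (d : ResidueField A) ≠ 0 →
        ∃ (L' : Type u) (_ : Field L') (_ : Algebra K L')
          (_ : Algebra (AdjoinRoot (X ^ (d * e₀) - C π : A[X])) L') (_ : L →ₐ[K] L'),
          FiniteDimensional K L' ∧ Algebra.IsSeparable K L' ∧
          (algebraMap (AdjoinRoot (X ^ (d * e₀) - C π : A[X])) L').comp
              (AdjoinRoot.of (X ^ (d * e₀) - C π)) =
            (algebraMap K L').comp (algebraMap A K) ∧
          ∀ [IsLocalRing (AdjoinRoot (X ^ (d * e₀) - C π : A[X]))],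
            EtRam.IsUnramifiedExt (AdjoinRoot (X ^ (d * e₀) - C π : A[X]))
              (algebraMap (AdjoinRoot (X ^ (d * e₀) - C π : A[X])) L') := by
  obtain ⟨e₀, he₀, he₀κ, hdiv⟩ := exists_uniform_exponent (ResidueField A) (Module.finrank K L)
  refine ⟨e₀, he₀, he₀κ, fun d hd hdκ => ?_⟩
  exact key π hπ h (d * e₀) (Nat.mul_pos hd he₀)
    (by rw [Nat.cast_mul]; exact mul_ne_zero hdκ he₀κ)
    (fun j hj1 hjN hjκ => Dvd.dvd.mul_left (hdiv j hj1 hjN hjκ) d)

end Statements

end Groth.Agent.H14.Abhyankar
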