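import Mathlib
import Groth.Agent.H14.Abhyankar

/-!
# Converse of Abhyankar's lemma for discrete valuation rings

* `isLocalRing_adjoinRoot`, `maximalIdeal_adjoinRoot`: `A[X]/(X^e - π)` is local with maximal ideal
  generated by the root.
* `tame_of_unramified_over_root`: if `L ⊆ L'` with `L'` unramified over `A[π^{1/e}]`, `e` invertible in
  the residue field, then `L` is tamely ramified over `A`.
-/

set_option autoImplicit false
set_option linter.style.haveILetI false
universe u

namespace Groth.Agent.H14.AbhyankarConv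

open IsLocalRing Polynomial Groth.Agent.H14.Abhyankar Groth.Agent.H78.ValExt

section LocalAdjoinRoot

variable {A : Type u} [CommRing A] [IsDomain A] [IsLocalRing A] (π : A)
  (hπ : maximalIdeal A = Ideal.span {π}) (e : ℕ) (he0 : 0 < e)

theorem root_pow : (AdjoinRoot.root (X ^ e - C π : A[X])) ^ e = AdjoinRoot.of _ π := by
  have h := AdjoinRoot.eval₂_root (X ^ e - C π : A[X])
  rw [eval₂_sub, eval₂_pow, eval₂_X, eval₂_C, sub_eq_zero] at h
  exact h

theorem exists_decomp (a' : AdjoinRoot (X ^ e - C π : A[X])) :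
    ∃ (a₀ : A) (b' : AdjoinRoot (X ^ e - C π : A[X])),
      a' = AdjoinRoot.of _ a₀ + AdjoinRoot.root _ * b' := by
  obtain ⟨p, rfl⟩ := AdjoinRoot.mk_surjective a'
  refine ⟨p.coeff 0, AdjoinRoot.mk _ p.divX, ?_⟩
  conv_lhs => rw [← Polynomial.divX_mul_X_add p]
  rw [map_add, map_mul, AdjoinRoot.mk_X, AdjoinRoot.mk_C]
  ring

include he0 in
theorem nontrivial_adjoinRoot : Nontrivial (AdjoinRoot (X ^ e - C π : A[X])) := by
  apply AdjoinRoot.nontrivial
  rw [degree_X_pow_sub_C he0]
  exact_mod_cast he0.ne'

include hπ he0 in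
theorem root_mem_of_isMaximal (M : Ideal (AdjoinRoot (X ^ e - C π : A[X]))) [hM : M.IsMaximal] :
    AdjoinRoot.root _ ∈ M := by
  haveI : Module.Finite A (AdjoinRoot (X ^ e - C π : A[X])) :=
    (monic_X_pow_sub_C π he0.ne').finite_adjoinRoot
  haveI : Algebra.IsIntegral A (AdjoinRoot (X ^ e - C π : A[X])) := Algebra.IsIntegral.of_finite _ _
  have hmax : (M.comap (algebraMap A (AdjoinRoot (X ^ e - C π : A[X])))).IsMaximal :=
    Ideal.isMaximal_comap_of_isIntegral_of_isMaximal _
  have heq := IsLocalRing.eq_maximalIdeal hmax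
  have h1 : π ∈ M.comap (algebraMap A (AdjoinRoot (X ^ e - C π : A[X]))) := by
    rw [heq, hπ]
    exact Ideal.mem_span_singleton_self _
  have h2 : AdjoinRoot.root (X ^ e - C π : A[X]) ^ e ∈ M := by
    rw [root_pow]
    exact h1
  exact hM.isPrime.mem_of_pow_mem e h2

include hπ he0 in
theorem isUnit_iff_notMem_span_root (a' : AdjoinRoot (X ^ e - C π : A[X])) :
    IsUnit a' ↔ a' ∉ Ideal.span {AdjoinRoot.root (X ^ e - C π : A[X])} := by
  haveI := nontrivial_adjoinRoot π e he0
  constructor
  · intro hu hmem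
    obtain ⟨M, hM⟩ := Ideal.exists_maximal (AdjoinRoot (X ^ e - C π : A[X]))
    have hr : AdjoinRoot.root _ ∈ M := root_mem_of_isMaximal π hπ e he0 M
    have hle : Ideal.span {AdjoinRoot.root (X ^ e - C π : A[X])} ≤ M :=
      (Ideal.span_singleton_le_iff_mem _).mpr hr
    exact hM.ne_top (Ideal.eq_top_of_isUnit_mem _ (hle hmem) hu)
  · intro hnot
    obtain ⟨a₀, b', hdec⟩ := exists_decomp π e a'
    have ha₀ : IsUnit a₀ := by
      by_contra hnu
      have hm : a₀ ∈ maximalIdeal A := (mem_maximalIdeal _).mpr hnu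
      rw [hπ, Ideal.mem_span_singleton'] at hm
      obtain ⟨c, rfl⟩ := hm
      apply hnot
      rw [hdec, map_mul, ← root_pow]
      refine Ideal.add_mem _ (Ideal.mul_mem_left _ _ ?_) (Ideal.mul_mem_right _ _ ?_)
      · exact Ideal.pow_mem_of_mem _ (Ideal.mem_span_singleton_self _) _ he0
      · exact Ideal.mem_span_singleton_self _
    by_contra hnu
    have hne : Ideal.span {a'} ≠ ⊤ := fun h => hnu (Ideal.span_singleton_eq_top.mp h)
    obtain ⟨M, hM, hle⟩ := Ideal.exists_le_maximal _ hne
    have ha'M : a' ∈ M := hle (Ideal.mem_span_singleton_self _)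
    have hr : AdjoinRoot.root _ ∈ M := root_mem_of_isMaximal π hπ e he0 M
    have hof : AdjoinRoot.of (X ^ e - C π : A[X]) a₀ ∈ M := by
      have h3 : AdjoinRoot.of (X ^ e - C π : A[X]) a₀ = a' - AdjoinRoot.root _ * b' := by
        rw [hdec]
        ring
      rw [h3]
      exact Ideal.sub_mem _ ha'M (Ideal.mul_mem_right _ _ hr)
    exact hM.ne_top (Ideal.eq_top_of_isUnit_mem _ hof (ha₀.map _))

include hπ he0 in
theorem isLocalRing_adjoinRoot : IsLocalRing (AdjoinRoot (X ^ e - C π : A[X])) := by
  haveI := nontrivial_adjoinRoot π e he0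
  apply IsLocalRing.of_nonunits_add
  intro x y hx hy
  rw [mem_nonunits_iff, isUnit_iff_notMem_span_root π hπ e he0, not_not] at *
  exact Ideal.add_mem _ hx hy

include hπ he0 in
theorem maximalIdeal_adjoinRoot [IsLocalRing (AdjoinRoot (X ^ e - C π : A[X]))] :
    maximalIdeal (AdjoinRoot (X ^ e - C π : A[X])) =
      Ideal.span {AdjoinRoot.root (X ^ e - C π : A[X])} := by
  ext a'
  rw [mem_maximalIdeal, mem_nonunits_iff, isUnit_iff_notMem_span_root π hπ e he0, not_not]

end LocalAdjoinRoot

section Converse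

set_option maxHeartbeats 1600000 in
theorem tame_of_unramified_over_root {A K L : Type u} [CommRing A] [IsDomain A]
    [IsDiscreteValuationRing A] [Field K] [Algebra A K] [IsFractionRing A K] [Field L] [Algebra K L]
    [Algebra A L] [IsScalarTower A K L] [FiniteDimensional K L] [Algebra.IsSeparable K L]
    (π : A) (hπ : maximalIdeal A = Ideal.span {π}) (e : ℕ) (he0 : 0 < e)
    (heκ : (e : ResidueField A) ≠ 0)
    (L' : Type u) [Field L'] [Algebra K L'] [Algebra (AdjoinRoot (X ^ e - C π : A[X])) L']
    (ι : L →ₐ[K] L') [FiniteDimensional K L'] [Algebra.IsSeparable K L']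
    (hcomp : (algebraMap (AdjoinRoot (X ^ e - C π : A[X])) L').comp (AdjoinRoot.of (X ^ e - C π)) =
      (algebraMap K L').comp (algebraMap A K))
    (hunr : ∀ [IsLocalRing (AdjoinRoot (X ^ e - C π : A[X]))],
      EtRam.IsUnramifiedExt (AdjoinRoot (X ^ e - C π : A[X]))
        (algebraMap (AdjoinRoot (X ^ e - C π : A[X])) L')) :
    EtRam.IsTamelyRamified A (algebraMap A L) := by
  classical
  intro V hV
  intro hlocAV
  letI algAV : Algebra A V := (RingHom.codRestrict (algebraMap A L) V hV.1).toAlgebra
  haveI : IsLocalHom (algebraMap A V) := hlocAV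
  haveI hlocA' := isLocalRing_adjoinRoot π hπ e he0
  have hmA' := maximalIdeal_adjoinRoot π hπ e he0
  obtain ⟨φ, hφdef⟩ : ∃ φ : AdjoinRoot (X ^ e - C π : A[X]) →+* L', φ = algebraMap _ L' := ⟨_, rfl⟩
  letI algLL' : Algebra L L' := ι.toRingHom.toAlgebra
  have hιK : ∀ k : K, algebraMap L L' (algebraMap K L k) = algebraMap K L' k := fun k => ι.commutes k
  have hφof : ∀ a : A, φ (AdjoinRoot.of _ a) = algebraMap L L' (algebraMap A L a) := by
    intro a
    have h1 := RingHom.congr_fun hcomp a
    rw [RingHom.comp_apply, RingHom.comp_apply] at h1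
    rw [hφdef, h1, IsScalarTower.algebraMap_apply A K L, hιK]
  have hcompeq : (algebraMap L L').comp (algebraMap A L) = (algebraMap K L').comp (algebraMap A K) :=
    RingHom.ext (fun a => by
      rw [RingHom.comp_apply, RingHom.comp_apply, IsScalarTower.algebraMap_apply A K L, hιK])
  obtain ⟨W, hWV⟩ := exists_ext (M := L') V
  have hWA : EtRam.Dominates A ((algebraMap L L').comp (algebraMap A L)) W := by
    rw [← dominates_comap_iff, hWV]
    exact hV
  have hVval : ∀ l : L, V.valuation l < 1 ↔ W.valuation (algebraMap L L' l) < 1 := by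
    intro l
    rw [← hWV]
    exact comap_valuation_lt_one_iff W l
  have hVmem : ∀ l : L, l ∈ V ↔ algebraMap L L' l ∈ W := by
    intro l
    rw [← hWV]
    exact ValuationSubring.mem_comap
  obtain ⟨z, hzdef⟩ : ∃ z : L', z = φ (AdjoinRoot.root _) := ⟨_, rfl⟩
  have hze : z ^ e = algebraMap L L' (algebraMap A L π) := by
    rw [hzdef, ← map_pow, root_pow, hφof]
  have hπW : W.valuation (algebraMap L L' (algebraMap A L π)) < 1 :=
    hWA.2 π (hπ ▸ Ideal.mem_span_singleton_self π)
  have hzlt : W.valuation z < 1 := by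
    by_contra hge
    push Not at hge
    have h1 : 1 ≤ W.valuation z ^ e := one_le_pow₀ hge
    rw [← map_pow, hze] at h1
    exact absurd hπW (not_lt.mpr h1)
  have hzW : z ∈ W := (W.valuation_le_one_iff z).mp hzlt.le
  have hφW : ∀ a', φ a' ∈ W := by
    intro a'
    induction a' using AdjoinRoot.induction_on with
    | ih p =>
      induction p using Polynomial.induction_on with
      | C a =>
        rw [AdjoinRoot.mk_C, hφof]
        exact hWA.1 a
      | add p q hp hq =>
        rw [map_add, map_add]
        exact add_mem hp hq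
      | monomial n a hn =>
        rw [pow_succ, ← mul_assoc, map_mul, map_mul, AdjoinRoot.mk_X, ← hzdef]
        exact mul_mem hn hzW
  have hW : EtRam.Dominates (AdjoinRoot (X ^ e - C π : A[X])) φ W := by
    refine ⟨hφW, ?_⟩
    intro a' ha'
    rw [hmA', Ideal.mem_span_singleton'] at ha'
    obtain ⟨c, rfl⟩ := ha'
    rw [map_mul, map_mul, ← hzdef]
    calc W.valuation (φ c) * W.valuation z ≤ 1 * W.valuation z :=
          mul_le_mul_left ((W.valuation_le_one_iff _).mpr (hφW c)) _
      _ = W.valuation z := one_mul _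
      _ < 1 := hzlt
  letI algA'W : Algebra (AdjoinRoot (X ^ e - C π : A[X])) W :=
    (RingHom.codRestrict φ W hW.1).toAlgebra
  haveI hlocA'W : IsLocalHom (algebraMap (AdjoinRoot (X ^ e - C π : A[X])) W) :=
    isLocalHom_of_dominates φ W hW
  subst hφdef
  obtain ⟨hwu, hsepW⟩ := hunr W hW
  have hmW : maximalIdeal W = Ideal.span {(⟨z, hzW⟩ : W)} := by
    have h1 : (maximalIdeal (AdjoinRoot (X ^ e - C π : A[X]))).map
        (algebraMap (AdjoinRoot (X ^ e - C π : A[X])) W) = maximalIdeal W := hwu
    rw [← h1, hmA', Ideal.map_span, Set.image_singleton]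
    congr 2
    exact Subtype.ext hzdef.symm
  have hVK : EtRam.Dominates A ((algebraMap K L).comp (algebraMap A K)) V := by
    rw [← IsScalarTower.algebraMap_eq A K L]
    exact hV
  haveI : IsDiscreteValuationRing V := isDVR_of_dominates A K L V hVK
  have hWK : EtRam.Dominates A ((algebraMap K L').comp (algebraMap A K)) W := by
    rw [← hcompeq]
    exact hWA
  haveI : IsDiscreteValuationRing W := isDVR_of_dominates A K L' W hWK
  letI algAW : Algebra A W :=
    (RingHom.codRestrict ((algebraMap L L').comp (algebraMap A L)) W hWA.1).toAlgebra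
  haveI hlocAW : IsLocalHom (algebraMap A W) := isLocalHom_of_dominates _ W hWA
  have hVW : EtRam.Dominates V ((algebraMap L L').comp V.subtype) W := by
    refine ⟨fun d => ?_, fun d hd => ?_⟩
    · exact (hVmem _).mp d.2
    · exact (hVval _).mp ((V.valuation_lt_one_iff d).mp hd)
  letI algVW : Algebra V W :=
    (RingHom.codRestrict ((algebraMap L L').comp V.subtype) W hVW.1).toAlgebra
  haveI hlocVW : IsLocalHom (algebraMap V W) := isLocalHom_of_dominates _ W hVW
  haveI : IsScalarTower A V W := IsScalarTower.of_algebraMap_eq (fun a => rfl)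
  haveI : IsScalarTower A (AdjoinRoot (X ^ e - C π : A[X])) W :=
    IsScalarTower.of_algebraMap_eq (fun a => Subtype.ext (hφof a).symm)
  have hVWinj : Function.Injective (algebraMap V W) := by
    intro d₁ d₂ hd
    have h2 := congrArg Subtype.val hd
    exact Subtype.ext ((algebraMap L L').injective h2)
  have hπne : π ≠ 0 := by
    intro h0
    apply IsDiscreteValuationRing.not_a_field A
    rw [hπ, h0]
    exact Ideal.span_singleton_eq_bot.mpr rfl
  have hinj : Function.Injective (algebraMap A L) := by
    rw [IsScalarTower.algebraMap_eq A K L]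
    exact (algebraMap K L).injective.comp (IsFractionRing.injective A K)
  have hπL0 : algebraMap A L π ≠ 0 := fun h0 => hπne (hinj (by rw [h0, map_zero]))
  have hπV : algebraMap A V π ≠ 0 := fun h0 => hπL0 (congrArg Subtype.val h0)
  have hmul := ram_mul (A := A) (V := V) (W := W) π hπ hπV hVWinj
  have hz0 : (⟨z, hzW⟩ : W) ≠ 0 := by
    intro h0
    have h2 : z = 0 := congrArg Subtype.val h0
    rw [h2, zero_pow he0.ne'] at hze
    exact hπL0 ((map_eq_zero_iff _ (algebraMap L L').injective).mp hze.symm)
  have hramW : Ideal.ramificationIdx' (maximalIdeal A) (maximalIdeal W) = e :=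
    ram_eq π hπ (⟨z, hzW⟩ : W) hmW hz0 1 e (by
      apply Subtype.ext
      show algebraMap L L' (algebraMap A L π) = _
      rw [← hze]
      simp)
  refine ⟨?_, ?_⟩
  · haveI hlocAA' : IsLocalHom (algebraMap A (AdjoinRoot (X ^ e - C π : A[X]))) := by
      constructor
      intro a ha
      by_contra hna
      have hma : a ∈ maximalIdeal A := (mem_maximalIdeal a).mpr hna
      have h2 := of_mem_maximalIdeal π e he0 a hma
      exact mem_nonunits_iff.mp ((mem_maximalIdeal _).mp h2) ha
    have hsurj : Function.Surjective (algebraMap (ResidueField A)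
        (ResidueField (AdjoinRoot (X ^ e - C π : A[X])))) := by
      intro x
      obtain ⟨a', rfl⟩ := residue_surjective x
      obtain ⟨a₀, b', hdec⟩ := exists_decomp π e a'
      refine ⟨residue A a₀, ?_⟩
      rw [ResidueField.algebraMap_residue, hdec, map_add]
      have h3 : residue _ (AdjoinRoot.root (X ^ e - C π : A[X]) * b') = 0 := by
        rw [residue_eq_zero_iff, hmA']
        exact Ideal.mul_mem_right _ _ (Ideal.mem_span_singleton_self _)
      rw [h3, add_zero]
      rfl
    haveI : Algebra.IsSeparable (ResidueField A)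
        (ResidueField (AdjoinRoot (X ^ e - C π : A[X]))) :=
      ⟨fun x => by
        obtain ⟨y, rfl⟩ := hsurj x
        exact isSeparable_algebraMap y⟩
    haveI : Algebra.IsSeparable (ResidueField (AdjoinRoot (X ^ e - C π : A[X])))
        (ResidueField W) := hsepW
    haveI : Algebra.IsSeparable (ResidueField A) (ResidueField W) :=
      Algebra.IsSeparable.trans (F := ResidueField A)
        (E := ResidueField (AdjoinRoot (X ^ e - C π : A[X]))) (K := ResidueField W)
    exact Algebra.isSeparable_tower_bot_of_isSeparable (F := ResidueField A)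
      (K := ResidueField V) (E := ResidueField W)
  · intro p hp hchar hdvd
    have h1 : p ∣ e := by
      rw [← hramW, hmul]
      exact Dvd.dvd.mul_right hdvd _
    exact heκ ((CharP.cast_eq_zero_iff _ p e).mpr h1)

end Converse

section Iff

theorem tame_iff {A K L : Type u} [CommRing A] [IsDomain A]
    [IsDiscreteValuationRing A] [Field K] [Algebra A K] [IsFractionRing A K] [Field L] [Algebra K L]
    [Algebra A L] [IsScalarTower A K L] [FiniteDimensional K L] [Algebra.IsSeparable K L]
    (π : A) (hπ : maximalIdeal A = Ideal.span {π}) :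
    EtRam.IsTamelyRamified A (algebraMap A L) ↔
      ∃ e : ℕ, 0 < e ∧ (e : ResidueField A) ≠ 0 ∧
        ∃ (L' : Type u) (_ : Field L') (_ : Algebra K L')
          (_ : Algebra (AdjoinRoot (X ^ e - C π : A[X])) L') (_ : L →ₐ[K] L'),
          FiniteDimensional K L' ∧ Algebra.IsSeparable K L' ∧
          (algebraMap (AdjoinRoot (X ^ e - C π : A[X])) L').comp (AdjoinRoot.of (X ^ e - C π)) =
            (algebraMap K L').comp (algebraMap A K) ∧
          ∀ [IsLocalRing (AdjoinRoot (X ^ e - C π : A[X]))],
            EtRam.IsUnramifiedExt (AdjoinRoot (X ^ e - C π : A[X]))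
              (algebraMap (AdjoinRoot (X ^ e - C π : A[X])) L') := by
  constructor
  · intro h
    obtain ⟨e₀, he₀, he₀κ, hdiv⟩ := exists_uniform_exponent (ResidueField A) (Module.finrank K L)
    exact ⟨e₀, he₀, he₀κ, key π hπ h e₀ he₀ he₀κ hdiv⟩
  · rintro ⟨e, he0, heκ, L', iF, iK, iA', ι, hfd, hsep, hcomp, hunr⟩
    exact tame_of_unramified_over_root π hπ e he0 heκ L' ι hcomp hunr

end Iff

end Groth.Agent.H14.AbhyankarConv
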