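import Mathlib
import Groth.Prelude.Def_CAlgX
import Groth.Prelude.Def_EGA41
import Groth.Agent.H87.EqCohen
import Groth.Agent.S12136
import Groth.Agent.H79.SmoothReg
import Groth.Agent.S4533
import Groth.Agent.S4534
import Groth.Agent.S4537

set_option autoImplicit false

namespace Groth.Agent.H14.AdicReg

universe u

open IsLocalRing TensorProduct

/-- Adic formal smoothness transfers along an algebra isomorphism compatible with the ideals. -/
theorem isAdicFormallySmooth_of_algEquiv {k C A : Type u} [CommRing k] [CommRing C] [CommRing A]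
    [Algebra k C] [Algebra k A] (e : C ≃ₐ[k] A) (𝔫C : Ideal C) (𝔫A : Ideal A)
    (h𝔫 : ∀ y ∈ 𝔫A, e.symm y ∈ 𝔫C) (h : CAlgX.IsAdicFormallySmooth k A 𝔫A) :
    CAlgX.IsAdicFormallySmooth k C 𝔫C := by
  intro E _ _ J hJ ψ hψ
  obtain ⟨j, hj⟩ := hψ
  have hpow : ∀ y ∈ 𝔫A ^ j, e.symm y ∈ 𝔫C ^ j := by
    intro y hy
    have h1 : 𝔫A.map (e.symm : A →ₐ[k] C) ≤ 𝔫C := by
      rw [Ideal.map_le_iff_le_comap]
      intro y hy
      exact h𝔫 y hy
    have h2 := Ideal.pow_right_mono h1 j
    have h3 := Ideal.map_pow (e.symm : A →ₐ[k] C) 𝔫A j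
    rw [← h3] at h2
    exact h2 (Ideal.mem_map_of_mem _ hy)
  obtain ⟨χ, hχ⟩ := h E J hJ (ψ.comp (e.symm : A →ₐ[k] C)) ⟨j, fun y hy => by
    rw [AlgHom.comp_apply]
    exact hj _ (hpow y hy)⟩
  refine ⟨χ.comp (e : C →ₐ[k] A), ?_⟩
  apply AlgHom.ext
  intro c
  have h1 := AlgHom.congr_fun hχ (e c)
  rw [AlgHom.comp_apply, AlgHom.comp_apply] at h1
  rw [AlgHom.comp_apply, AlgHom.comp_apply]
  refine (h1.trans ?_)
  congr 1
  exact e.symm_apply_apply c

theorem one_tmul_eq_zero {P L W : Type*} [CommRing P] [CommRing L] [Algebra P L]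
    [AddCommGroup W] [Module P W] (hs : Function.Surjective (algebraMap P L)) (w : W)
    (h : (1 : L) ⊗ₜ[P] w = 0) :
    w ∈ (RingHom.ker (algebraMap P L)) • (⊤ : Submodule P W) := by
  set I := RingHom.ker (algebraMap P L) with hI
  have hs' : Function.Surjective (Algebra.ofId P L) := hs
  let e1 : (P ⧸ RingHom.ker (Algebra.ofId P L)) ≃ₐ[P] L :=
    Ideal.quotientKerAlgEquivOfSurjective hs'
  have h1 : (e1.symm.toLinearEquiv.rTensor W) ((1 : L) ⊗ₜ[P] w) = 0 := by rw [h, map_zero]
  rw [LinearEquiv.rTensor_tmul] at h1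
  have h2 : e1.symm.toLinearEquiv (1 : L) = 1 := map_one e1.symm
  rw [h2] at h1
  have h3 := congrArg (TensorProduct.quotTensorEquivQuotSMul W (RingHom.ker (Algebra.ofId P L))) h1
  rw [map_zero] at h3
  have h4 : TensorProduct.quotTensorEquivQuotSMul W (RingHom.ker (Algebra.ofId P L))
      ((1 : P ⧸ RingHom.ker (Algebra.ofId P L)) ⊗ₜ[P] w) = Submodule.Quotient.mk w :=
    (TensorProduct.quotTensorEquivQuotSMul_mk_tmul (RingHom.ker (Algebra.ofId P L)) 1 w).trans
      (by rw [one_smul])
  rw [h4, Submodule.Quotient.mk_eq_zero] at h3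
  exact h3

section core

variable {k P : Type u} [CommRing k] [CommRing P] [Algebra k P] [IsLocalRing P]

theorem one_tmul_one_tmul_D_eq_zero (J : Ideal P) (x : P) (hx : x ∈ maximalIdeal P ^ 2) :
    (1 : (P ⧸ J) ⧸ (maximalIdeal P).map (Ideal.Quotient.mk J)) ⊗ₜ[P]
      ((1 : P ⧸ J) ⊗ₜ[P] KaehlerDifferential.D k P x) = 0 := by
  have hzero : ∀ a ∈ maximalIdeal P,
      a • (1 : (P ⧸ J) ⧸ (maximalIdeal P).map (Ideal.Quotient.mk J)) = 0 := by
    intro a ha
    rw [Algebra.smul_def, mul_one, IsScalarTower.algebraMap_apply P (P ⧸ J),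
      Ideal.Quotient.algebraMap_eq, Ideal.Quotient.algebraMap_eq, Ideal.Quotient.eq_zero_iff_mem]
    exact Ideal.mem_map_of_mem _ ha
  rw [pow_two] at hx
  refine Submodule.mul_induction_on hx (fun a ha b hb => ?_) (fun y z hy hz => ?_)
  · rw [Derivation.leibniz, TensorProduct.tmul_add, TensorProduct.tmul_add,
      TensorProduct.tmul_smul, TensorProduct.tmul_smul, TensorProduct.tmul_smul,
      TensorProduct.tmul_smul, TensorProduct.smul_tmul', TensorProduct.smul_tmul',
      hzero a ha, hzero b hb, TensorProduct.zero_tmul, TensorProduct.zero_tmul, add_zero]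
  · rw [map_add, TensorProduct.tmul_add, TensorProduct.tmul_add, hy, hz, add_zero]

theorem inf_sq_le_mul_of_injective (J : Ideal P) (hJ : J ≤ maximalIdeal P)
    (hinj : Function.Injective
      (LinearMap.baseChange ((P ⧸ J) ⧸ (maximalIdeal P).map (Ideal.Quotient.mk J))
        (KaehlerDifferential.kerCotangentToTensor k P (P ⧸ J)))) :
    J ⊓ maximalIdeal P ^ 2 ≤ maximalIdeal P * J := by
  rintro x ⟨hxJ, hxm⟩
  have hJ' : RingHom.ker (algebraMap P (P ⧸ J)) = J := by
    rw [Ideal.Quotient.algebraMap_eq, Ideal.mk_ker]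
  have hx' : x ∈ RingHom.ker (algebraMap P (P ⧸ J)) := by rw [hJ']; exact hxJ
  have h1 : LinearMap.baseChange ((P ⧸ J) ⧸ (maximalIdeal P).map (Ideal.Quotient.mk J))
      (KaehlerDifferential.kerCotangentToTensor k P (P ⧸ J))
      ((1 : (P ⧸ J) ⧸ (maximalIdeal P).map (Ideal.Quotient.mk J)) ⊗ₜ[P]
        (RingHom.ker (algebraMap P (P ⧸ J))).toCotangent ⟨x, hx'⟩) = 0 := by
    rw [LinearMap.baseChange_tmul, KaehlerDifferential.kerCotangentToTensor_toCotangent]
    exact one_tmul_one_tmul_D_eq_zero J x hxm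
  have h2 := hinj (h1.trans (map_zero _).symm)
  have hsurj : Function.Surjective
      (algebraMap P ((P ⧸ J) ⧸ (maximalIdeal P).map (Ideal.Quotient.mk J))) := by
    rw [IsScalarTower.algebraMap_eq P (P ⧸ J)]
    exact Ideal.Quotient.mk_surjective.comp Ideal.Quotient.mk_surjective
  have hker : RingHom.ker
      (algebraMap P ((P ⧸ J) ⧸ (maximalIdeal P).map (Ideal.Quotient.mk J))) = maximalIdeal P := by
    ext a
    rw [RingHom.mem_ker, IsScalarTower.algebraMap_apply P (P ⧸ J), Ideal.Quotient.algebraMap_eq,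
      Ideal.Quotient.algebraMap_eq, Ideal.Quotient.eq_zero_iff_mem,
      Ideal.mem_map_iff_of_surjective _ Ideal.Quotient.mk_surjective]
    constructor
    · rintro ⟨b, hb, hab⟩
      have h3 : b - a ∈ J := by
        rw [← Ideal.Quotient.eq_zero_iff_mem, map_sub, hab, sub_self]
      have h4 : a = b - (b - a) := by ring
      rw [h4]
      exact sub_mem hb (hJ h3)
    · intro ha
      exact ⟨a, ha, rfl⟩
  have h3 := one_tmul_eq_zero hsurj _ h2
  rw [hker] at h3
  -- now `toCotangent x ∈ 𝔪 • ⊤`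
  have h4 : (maximalIdeal P) • (⊤ : Submodule P (RingHom.ker (algebraMap P (P ⧸ J))).Cotangent) =
      Submodule.map (RingHom.ker (algebraMap P (P ⧸ J))).toCotangent
        ((maximalIdeal P) • (⊤ : Submodule P (RingHom.ker (algebraMap P (P ⧸ J))))) := by
    rw [Submodule.map_smul'', Submodule.map_top, LinearMap.range_eq_top.mpr
      (Ideal.toCotangent_surjective _)]
  rw [h4] at h3
  obtain ⟨y, hy, hyx⟩ := h3
  rw [Ideal.toCotangent_eq] at hyx
  have hy' : (y : P) ∈ maximalIdeal P * J := by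
    refine Submodule.smul_induction_on hy (fun a ha z _ => ?_) (fun z w hz hw => ?_)
    · have hz : (z : P) ∈ J := hJ'.le z.2
      exact Ideal.mul_mem_mul ha hz
    · exact add_mem hz hw
  have h5 : (y : P) - x ∈ maximalIdeal P * J := by
    have h7 : RingHom.ker (algebraMap P (P ⧸ J)) ^ 2 ≤ maximalIdeal P * J := by
      rw [hJ', pow_two]
      exact Ideal.mul_mono_left hJ
    exact h7 hyx
  have h6 : x = y - (y - x) := by ring
  rw [h6]
  exact sub_mem hy' h5

end core

section ps

theorem ps_isAdicFormallySmooth (k K : Type u) [Field k] [Field K] [Algebra k K]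
    [Algebra.FormallySmooth k K] (n : ℕ) :
    CAlgX.IsAdicFormallySmooth k (MvPowerSeries (Fin n) K)
      (maximalIdeal (MvPowerSeries (Fin n) K)) := by
  have hK : EGA41.IsFormallySmoothAdic k ⊥ K ⊥ := by
    intro C _ _ J hJ _ u _
    exact ⟨Algebra.FormallySmooth.lift J hJ u, Algebra.FormallySmooth.mk_lift J hJ u |> fun h => by
      apply AlgHom.ext
      intro x
      exact h x⟩
  have hP0 := Groth.Agent.S4533.result K ⊥ n
  have hideal : (⊥ : Ideal K).map (MvPowerSeries.C : K →+* MvPowerSeries (Fin n) K) ⊔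
      RingHom.ker (MvPowerSeries.constantCoeff : MvPowerSeries (Fin n) K →+* K) =
      maximalIdeal (MvPowerSeries (Fin n) K) := by
    rw [Ideal.map_bot, bot_sup_eq, Groth.Agent.H87.NilEval.ker_constantCoeff_eq,
      Groth.Agent.H87.EqCohen.ps_maximalIdeal_eq]
  rw [hideal] at hP0
  have hP1 := Groth.Agent.S4534.result (A := k) (B := K) (C := MvPowerSeries (Fin n) K) ⊥ ⊥
    (maximalIdeal (MvPowerSeries (Fin n) K)) ⟨1, by simp⟩ ⟨1, by simp⟩ hK hP0
  exact (Groth.Agent.S4537.result _).mpr hP1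

end ps

section main

theorem isRegularLocalRing_of_surjective {k P A : Type u} [CommRing k] [CommRing P]
    [IsRegularLocalRing P] [Algebra k P] [CommRing A] [IsLocalRing A] [Algebra k A]
    (e : P →ₐ[k] A) (hsurj : Function.Surjective e)
    (hP : CAlgX.IsAdicFormallySmooth k P (maximalIdeal P))
    (h : CAlgX.IsAdicFormallySmooth k A (maximalIdeal A)) : IsRegularLocalRing A := by
  have hJtop : RingHom.ker e ≠ ⊤ := RingHom.ker_ne_top _
  have hJle : RingHom.ker e ≤ maximalIdeal P := IsLocalRing.le_maximalIdeal hJtop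
  let eq : (P ⧸ RingHom.ker e) ≃ₐ[k] A := Ideal.quotientKerAlgEquivOfSurjective hsurj
  haveI : Nontrivial (P ⧸ RingHom.ker e) := Ideal.Quotient.nontrivial_iff.mpr hJtop
  haveI : IsLocalRing (P ⧸ RingHom.ker e) :=
    IsLocalRing.of_surjective' (Ideal.Quotient.mk (RingHom.ker e)) Ideal.Quotient.mk_surjective
  have hC : CAlgX.IsAdicFormallySmooth k (P ⧸ RingHom.ker e)
      ((maximalIdeal P).map (Ideal.Quotient.mk (RingHom.ker e))) := by
    refine isAdicFormallySmooth_of_algEquiv eq _ (maximalIdeal A) (fun y hy => ?_) h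
    rw [← Groth.Agent.H79.SmoothReg.maximalIdeal_quot_eq_map]
    rw [mem_maximalIdeal, mem_nonunits_iff] at hy ⊢
    intro hu
    apply hy
    have h2 := hu.map eq
    rwa [AlgEquiv.apply_symm_apply] at h2
  obtain ⟨g, hg⟩ := (Groth.Agent.S12136.result (A := k) (B := P) (maximalIdeal P)
    (RingHom.ker e) hP ((maximalIdeal P).map (Ideal.Quotient.mk (RingHom.ker e)))
    ⟨1, by rw [pow_one]⟩ ⟨1, by rw [pow_one]⟩).mp hC
  have hinj : Function.Injective (LinearMap.baseChange
      ((P ⧸ RingHom.ker e) ⧸ (maximalIdeal P).map (Ideal.Quotient.mk (RingHom.ker e)))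
      (KaehlerDifferential.kerCotangentToTensor k P (P ⧸ RingHom.ker e))) :=
    Function.HasLeftInverse.injective ⟨g, fun a => LinearMap.congr_fun hg a⟩
  have hcond := inf_sq_le_mul_of_injective (k := k) (RingHom.ker e) hJle hinj
  have hreg : IsRegularLocalRing (P ⧸ RingHom.ker e) :=
    (Groth.Agent.H79.SmoothReg.regular_quot_iff _ P rfl (RingHom.ker e) hJle).mpr hcond
  exact IsRegularLocalRing.of_ringEquiv eq.toRingEquiv

/-- A complete Noetherian local algebra over a field `k`, with residue field separable over `k`,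
which is formally smooth over `k` for its adic topology, is regular. -/
theorem isRegularLocalRing_of_isAdicFormallySmooth (k A : Type u) [Field k] [CommRing A]
    [IsLocalRing A] [IsNoetherianRing A] [Algebra k A] [IsAdicComplete (maximalIdeal A) A]
    [Algebra.IsGeometricallyReduced k (ResidueField A)]
    (h : CAlgX.IsAdicFormallySmooth k A (maximalIdeal A)) : IsRegularLocalRing A := by
  classical
  obtain ⟨σ, hσ⟩ := Groth.Agent.S2452.result (k := k) (A := A)
  obtain ⟨t, ht⟩ := Groth.Agent.H87.EqCohen.exists_gens (A := A)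
    (IsNoetherian.noetherian (maximalIdeal A))
  obtain ⟨e, heC, heX⟩ := Groth.Agent.H87.PowEval.exists_mvEvalₐ (maximalIdeal A) σ t
    (fun i => by rw [← ht]; exact Ideal.subset_span ⟨i, rfl⟩)
  have hsurj : Function.Surjective e := by
    have h1 := Groth.Agent.H87.EqCohen.surjective_of_section t ht e.toRingHom heX
      (fun a => ⟨residue A a, by
        show a - e (MvPowerSeries.C (residue A a)) ∈ _
        rw [heC, ← residue_eq_zero_iff, map_sub, hσ, sub_self]⟩)
    exact h1
  have : Algebra.FormallySmooth k (ResidueField A) := Groth.Agent.S2451.result.mpr inferInstance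
  have hP := ps_isAdicFormallySmooth k (ResidueField A) (maximalIdeal A).spanFinrank
  have hPreg : IsRegularLocalRing (MvPowerSeries (Fin (maximalIdeal A).spanFinrank) (ResidueField A)) :=
    Groth.Agent.H61.Obs.ps_isRegularLocalRing _
  exact isRegularLocalRing_of_surjective e hsurj hP h

/-- Formal smoothness over a field implies formal smoothness over a subfield over which the
field is formally smooth. -/
theorem isAdicFormallySmooth_of_tower {k k₀ A : Type u} [Field k] [Field k₀] [CommRing A]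
    [Algebra k k₀] [Algebra k₀ A] [Algebra k A] [IsScalarTower k k₀ A]
    [Algebra.FormallySmooth k k₀] (𝔫 : Ideal A)
    (h : CAlgX.IsAdicFormallySmooth k₀ A 𝔫) :
    CAlgX.IsAdicFormallySmooth k A 𝔫 := by
  have hK : EGA41.IsFormallySmoothAdic k ⊥ k₀ ⊥ := by
    intro C _ _ J hJ _ u _
    exact ⟨Algebra.FormallySmooth.lift J hJ u, by
      apply AlgHom.ext
      intro x
      exact Algebra.FormallySmooth.mk_lift J hJ u x⟩
  have h0 := (Groth.Agent.S4537.result 𝔫).mp h
  have h1 := Groth.Agent.S4534.result (A := k) (B := k₀) (C := A) ⊥ ⊥ 𝔫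
    ⟨1, by simp⟩ ⟨1, by simp⟩ hK h0
  exact (Groth.Agent.S4537.result 𝔫).mpr h1

/-- A complete Noetherian local algebra over a field which is formally smooth for its adic
topology is regular. -/
theorem isRegularLocalRing_of_isAdicFormallySmooth_field (k₀ A : Type u) [Field k₀] [CommRing A]
    [IsLocalRing A] [IsNoetherianRing A] [Algebra k₀ A] [IsAdicComplete (maximalIdeal A) A]
    (h : CAlgX.IsAdicFormallySmooth k₀ A (maximalIdeal A)) : IsRegularLocalRing A := by
  letI aL : Algebra ↥(⊥ : Subfield k₀) A :=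
    { smul := fun a x => (a : k₀) • x
      algebraMap := (algebraMap k₀ A).comp (algebraMap ↥(⊥ : Subfield k₀) k₀)
      commutes' := fun a x => Algebra.commutes (a : k₀) x
      smul_def' := fun a x => Algebra.smul_def (a : k₀) x }
  haveI t1 : IsScalarTower ↥(⊥ : Subfield k₀) k₀ A := IsScalarTower.of_algebraMap_eq (fun _ => rfl)
  haveI : Algebra.FormallySmooth ↥(⊥ : Subfield k₀) k₀ :=
    Groth.Agent.H44.CoeffField.formallySmooth_bot k₀
  haveI : Algebra.FormallySmooth ↥(⊥ : Subfield k₀) (ResidueField A) :=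
    Groth.Agent.H44.CoeffField.formallySmooth_bot' k₀ (ResidueField A)
  haveI : Algebra.IsGeometricallyReduced ↥(⊥ : Subfield k₀) (ResidueField A) :=
    Groth.Agent.S2451.result.mp inferInstance
  exact isRegularLocalRing_of_isAdicFormallySmooth ↥(⊥ : Subfield k₀) A
    (isAdicFormallySmooth_of_tower _ h)

end main

end Groth.Agent.H14.AdicReg
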