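import Groth.Agent.H14.ZarJac2

set_option autoImplicit false
universe u

namespace Groth.Agent.H14

open KaehlerDifferential TensorProduct

section Ext

variable {k₀ P A : Type u} [CommRing k₀] [CommRing P] [CommRing A]
  [Algebra k₀ P] [Algebra P A] [Algebra k₀ A] [IsScalarTower k₀ P A]

omit [Algebra k₀ A] [IsScalarTower k₀ P A] in
/-- Any linear map `Ω[P⁄k₀] → I/I²` extends to `A ⊗[P] Ω[P⁄k₀]`. -/
theorem exists_ext_tensor (hsurj : Function.Surjective (algebraMap P A))
    (l₀ : Ω[P⁄k₀] →ₗ[P] (RingHom.ker (algebraMap P A)).Cotangent) :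
    ∃ Λ : A ⊗[P] Ω[P⁄k₀] →ₗ[P] (RingHom.ker (algebraMap P A)).Cotangent,
      ∀ ω, Λ ((1 : A) ⊗ₜ[P] ω) = l₀ ω := by
  let γ : P →ₗ[P] (Ω[P⁄k₀] →ₗ[P] (RingHom.ker (algebraMap P A)).Cotangent) :=
    LinearMap.toSpanSingleton P _ l₀
  have hγ : LinearMap.ker (Algebra.linearMap P A) ≤ LinearMap.ker γ := by
    intro a ha
    rw [LinearMap.mem_ker] at ha ⊢
    apply LinearMap.ext
    intro ω
    show (a • l₀) ω = 0
    rw [LinearMap.smul_apply]
    exact smul_cotangent_eq_zero _ a ((RingHom.mem_ker (f := algebraMap P A)).mpr ha) _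
  let β : A →ₗ[P] (Ω[P⁄k₀] →ₗ[P] (RingHom.ker (algebraMap P A)).Cotangent) :=
    (Submodule.liftQ _ γ hγ) ∘ₗ
      (LinearMap.quotKerEquivOfSurjective (Algebra.linearMap P A) hsurj).symm.toLinearMap
  have hβ : ∀ a : P, β (algebraMap P A a) = a • l₀ := by
    intro a
    have : (LinearMap.quotKerEquivOfSurjective (Algebra.linearMap P A) hsurj).symm
        (algebraMap P A a) = Submodule.Quotient.mk a := by
      rw [LinearEquiv.symm_apply_eq]
      rfl
    show Submodule.liftQ _ γ hγ
      ((LinearMap.quotKerEquivOfSurjective (Algebra.linearMap P A) hsurj).symm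
        (algebraMap P A a)) = _
    rw [this, Submodule.liftQ_apply]
    rfl
  refine ⟨TensorProduct.lift β, fun ω => ?_⟩
  rw [TensorProduct.lift.tmul]
  have h1 : β 1 = l₀ := by
    have := hβ 1
    rwa [map_one, one_smul] at this
  rw [h1]

end Ext

section KernelLemma

theorem exists_smul_mem_of_tmul_eq_zero {B M κ : Type*} [CommRing B] [AddCommGroup M] [Module B M]
    [Module.Finite B M] [Field κ] [Algebra B κ]
    (hfrac : ∀ x : κ, ∃ v c : B, algebraMap B κ v ≠ 0 ∧ algebraMap B κ v * x = algebraMap B κ c)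
    (w : M) (hw : (1 : κ) ⊗ₜ[B] w = 0) :
    ∃ v : B, algebraMap B κ v ≠ 0 ∧
      v • w ∈ (RingHom.ker (algebraMap B κ)) • (⊤ : Submodule B M) := by
  classical
  obtain ⟨gens, hgens⟩ := (Module.Finite.fg_top : (⊤ : Submodule B M).FG)
  have hspan : Submodule.span B (Set.range ((↑) : gens → M)) = ⊤ := by
    rw [Subtype.range_coe]; exact hgens
  obtain ⟨b, hb⟩ := (Submodule.mem_span_range_iff_exists_fun B).mp
    (show w ∈ Submodule.span B (Set.range ((↑) : gens → M)) by rw [hspan]; trivial)
  have h0 : ∑ i : gens, (i : M) ⊗ₜ[B] (b i • (1 : κ)) = 0 := by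
    have : (TensorProduct.comm B κ M) ((1 : κ) ⊗ₜ[B] w) = 0 := by rw [hw, map_zero]
    rw [TensorProduct.comm_tmul, ← hb, TensorProduct.sum_tmul] at this
    rw [← this]
    refine Finset.sum_congr rfl fun i _ => ?_
    rw [TensorProduct.smul_tmul]
  obtain ⟨k, a, y, hy, ha⟩ := TensorProduct.vanishesTrivially_of_sum_tmul_eq_zero B hspan h0
  choose vj cj hvj hcj using fun j => hfrac (y j)
  obtain ⟨v, hv⟩ : ∃ v : B, v = ∏ j, vj j := ⟨_, rfl⟩
  refine ⟨v, ?_, ?_⟩
  · rw [hv, map_prod]; exact Finset.prod_ne_zero_iff.mpr fun j _ => hvj j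
  · let c' : Fin k → B := fun j => cj j * ∏ j' ∈ Finset.univ.erase j, vj j'
    have hc' : ∀ j, algebraMap B κ v * y j = algebraMap B κ (c' j) := by
      intro j
      rw [hv, ← Finset.mul_prod_erase Finset.univ vj (Finset.mem_univ j), map_mul, map_mul,
        mul_right_comm, hcj j]
    have hn : ∀ i, v * b i - ∑ j, a i j * c' j ∈ RingHom.ker (algebraMap B κ) := by
      intro i
      rw [RingHom.mem_ker, map_sub, map_mul, map_sum, sub_eq_zero]
      have h1 : algebraMap B κ (b i) = ∑ j, algebraMap B κ (a i j) * y j := by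
        have := hy i
        simpa [Algebra.smul_def] using this
      rw [h1, Finset.mul_sum]
      refine Finset.sum_congr rfl fun j _ => ?_
      rw [map_mul, mul_left_comm, hc']
    have h2 : ∑ i : gens, (∑ j, a i j * c' j) • (i : M) = 0 := by
      simp only [Finset.sum_smul]
      rw [Finset.sum_comm]
      refine Finset.sum_eq_zero fun j _ => ?_
      have := ha j
      simp only [mul_comm (a _ j) (c' j), mul_smul]
      rw [← Finset.smul_sum, this, smul_zero]
    have h3 : v • w = ∑ i : gens, (v * b i - ∑ j, a i j * c' j) • (i : M) := by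
      simp only [sub_smul, Finset.sum_sub_distrib]
      rw [h2, sub_zero, ← hb, Finset.smul_sum]
      simp only [mul_smul]
    rw [h3]
    exact Submodule.sum_mem _ fun i _ => Submodule.smul_mem_smul (hn i) trivial

/-- Surjectivity-only version of clearing denominators. -/
theorem exists_linearMap_of_projective'' {B M M' N : Type*} [CommRing B] (S : Submonoid B)
    [AddCommGroup M] [Module B M] [AddCommGroup M'] [Module B M'] (f : M →ₗ[B] M')
    (hf : ∀ y : M', ∃ (s : S) (x : M), f x = (s : B) • y)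
    [AddCommGroup N] [Module B N] [Module.Projective B N]
    (σ : N →ₗ[B] M') (ω : Finset N) :
    ∃ (s : S) (τ : N →ₗ[B] M), ∀ w ∈ ω, f (τ w) = (s : B) • σ w := by
  classical
  have hfin : ∀ F : Finset M', ∃ s : S, ∀ y ∈ F, ∃ x : M, f x = (s : B) • y := by
    intro F
    induction F using Finset.induction_on with
    | empty => exact ⟨1, fun y hy => absurd hy (Finset.notMem_empty y)⟩
    | insert y₀ F _ ih =>
      obtain ⟨s', hs'⟩ := ih
      obtain ⟨s₀, x₀, hx₀⟩ := hf y₀
      refine ⟨s₀ * s', fun y hy => ?_⟩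
      rcases Finset.mem_insert.mp hy with rfl | hy
      · refine ⟨(s' : B) • x₀, ?_⟩
        rw [map_smul, hx₀, Submonoid.coe_mul, mul_smul, smul_comm]
      · obtain ⟨x, hx⟩ := hs' y hy
        refine ⟨(s₀ : B) • x, ?_⟩
        rw [map_smul, hx, Submonoid.coe_mul, mul_smul]
  obtain ⟨ι, hι⟩ := (Module.projective_def' (R := B) (P := N)).mp inferInstance
  let Λ : Finset N := ω.biUnion fun w => (ι w).support
  obtain ⟨s, hs⟩ := hfin (Λ.image σ)
  have hg : ∀ e : N, ∃ b : M, e ∈ Λ → f b = (s : B) • σ e := by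
    intro e
    by_cases he : e ∈ Λ
    · obtain ⟨b, hb⟩ := hs (σ e) (Finset.mem_image_of_mem σ he)
      exact ⟨b, fun _ => hb⟩
    · exact ⟨0, fun h => absurd h he⟩
  choose g hg using hg
  refine ⟨s, Finsupp.linearCombination B g ∘ₗ ι, fun w hw => ?_⟩
  have hw1 : w = Finsupp.linearCombination B id (ι w) := (LinearMap.congr_fun hι w).symm
  have hσ : σ w = ∑ e ∈ (ι w).support, (ι w) e • σ e := by
    conv_lhs => rw [hw1]
    rw [Finsupp.linearCombination_apply, Finsupp.sum, map_sum]
    refine Finset.sum_congr rfl fun e _ => ?_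
    rw [map_smul]; rfl
  rw [LinearMap.comp_apply, Finsupp.linearCombination_apply, Finsupp.sum, map_sum, hσ,
    Finset.smul_sum]
  refine Finset.sum_congr rfl fun e he => ?_
  have heΛ : e ∈ Λ := Finset.mem_biUnion.mpr ⟨w, hw, he⟩
  rw [map_smul, hg e heΛ, smul_comm]

end KernelLemma


section Loc2

variable {A B C : Type u} [CommRing A] [CommRing B] [CommRing C] [Algebra A B] [Algebra B C]
  [Algebra A C] [IsScalarTower A B C]

theorem formallySmooth_localization_of_good [Algebra.FormallySmooth A B]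
    (hsurj : Function.Surjective (algebraMap B C)) (T : Submonoid C) (s : B)
    (hsT : algebraMap B C s ∈ T) (hg : Good A C s) :
    Algebra.FormallySmooth A (Localization T) := by
  classical
  obtain ⟨S, hS⟩ : ∃ S : Submonoid B, S = T.comap (algebraMap B C) := ⟨_, rfl⟩
  have hST : Submonoid.map (algebraMap B C) S = T := by
    rw [hS]; exact Submonoid.map_comap_eq_of_surjective hsurj T
  have hSle : S ≤ T.comap (algebraMap B C) := hS.le
  obtain ⟨φ', hφ'⟩ : ∃ φ' : Localization S →+* Localization T,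
      φ' = IsLocalization.map (Localization T) (algebraMap B C) hSle := ⟨_, rfl⟩
  have hφ'map : ∀ b : B, φ' (algebraMap B _ b) = algebraMap C _ (algebraMap B C b) := fun b => by
    rw [hφ']; exact IsLocalization.map_eq _ _
  have hφ'surj : Function.Surjective φ' := by
    intro y
    obtain ⟨c, t, rfl⟩ := IsLocalization.exists_mk'_eq T y
    obtain ⟨b, rfl⟩ := hsurj c
    obtain ⟨s, hs⟩ := hsurj t.1
    have hsS : s ∈ S := by rw [hS]; show algebraMap B C s ∈ T; rw [hs]; exact t.2
    refine ⟨IsLocalization.mk' _ b ⟨s, hsS⟩, ?_⟩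
    rw [hφ', IsLocalization.map_mk']
    congr 1
    exact Subtype.ext hs
  have hφ'ker : RingHom.ker φ' =
      (RingHom.ker (algebraMap B C)).map (algebraMap B (Localization S)) := by
    rw [hφ']
    exact IsLocalization.ker_map (S := Localization S) (Localization T) (algebraMap B C) hST
  letI : Algebra (Localization S) (Localization T) := φ'.toAlgebra
  haveI : IsScalarTower A (Localization S) (Localization T) := by
    refine IsScalarTower.of_algebraMap_eq fun c => ?_
    show _ = φ' _
    rw [IsScalarTower.algebraMap_apply A B (Localization S), hφ'map,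
      IsScalarTower.algebraMap_apply A C (Localization T), IsScalarTower.algebraMap_apply A B C]
  have hsurj' : Function.Surjective (algebraMap (Localization S) (Localization T)) := hφ'surj
  have hker : RingHom.ker (algebraMap (Localization S) (Localization T)) =
      (RingHom.ker (algebraMap B C)).map (algebraMap B (Localization S)) := hφ'ker
  haveI := isLocalizedModule_canCot S (RingHom.ker (algebraMap B C)) _ hker
  obtain ⟨L₀, hL₀⟩ := hg
  haveI : Algebra.FormallyEtale B (Localization S) := Algebra.FormallyEtale.of_isLocalization S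
  have hbc := KaehlerDifferential.isBaseChange_of_formallyEtale A B (Localization S)
  have hsS : s ∈ S := by rw [hS]; exact hsT
  obtain ⟨u, hu⟩ := IsLocalization.map_units (Localization S) (⟨s, hsS⟩ : S)
  let δ : Ω[B⁄A] →ₗ[B] (RingHom.ker (algebraMap (Localization S) (Localization T))).Cotangent :=
    ((LinearMap.lsmul (Localization S) _ (↑u⁻¹ : Localization S)).restrictScalars B) ∘ₗ
      (canCot _ _ hker) ∘ₗ L₀
  obtain ⟨l₀', hl₀'⟩ : ∃ l₀' : Ω[Localization S⁄A] →ₗ[Localization S]
      (RingHom.ker (algebraMap (Localization S) (Localization T))).Cotangent,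
      l₀' = hbc.lift δ := ⟨_, rfl⟩
  have key := retraction_D_of_generators (k₀ := A) _ l₀' 1
    (Set.range fun j : RingHom.ker (algebraMap B C) =>
      (⟨algebraMap B _ j.1, by
        rw [hker]; exact Ideal.mem_map_of_mem _ j.2⟩ :
        RingHom.ker (algebraMap (Localization S) (Localization T)))) ?_ ?_
  · refine formallySmooth_of_retraction_D (k₀ := A) hsurj' l₀' fun y => ?_
    rw [key y, one_smul]
  · rw [eq_top_iff]
    rintro t -
    obtain ⟨⟨m, s'⟩, hm⟩ := IsLocalizedModule.surj S (canCot _ _ hker) t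
    obtain ⟨j, rfl⟩ := Ideal.toCotangent_surjective _ m
    obtain ⟨u', hu'⟩ := IsLocalization.map_units (Localization S) s'
    have ht : t = (↑u'⁻¹ : Localization S) • canCot _ _ hker (Ideal.toCotangent _ j) := by
      rw [← hm]
      show t = (↑u'⁻¹ : Localization S) • ((s' : B) • t)
      rw [← algebraMap_smul (Localization S) (s' : B) t, ← hu', smul_smul, Units.inv_mul,
        one_smul]
    rw [ht]
    refine Submodule.smul_mem _ _ (Submodule.subset_span ⟨_, ⟨j, rfl⟩, ?_⟩)
    rw [canCot_toCotangent]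
  · rintro _ ⟨j, rfl⟩
    show l₀' (D A _ (algebraMap B _ j.1)) = (1 : Localization S) • _
    rw [one_smul, ← KaehlerDifferential.map_D A A B (Localization S), hl₀', hbc.lift_eq]
    show (↑u⁻¹ : Localization S) • canCot _ _ hker (L₀ (D A B j.1)) = _
    rw [hL₀, map_smul, canCot_toCotangent, ← algebraMap_smul (Localization S) s, ← hu, smul_smul,
      Units.inv_mul, one_smul]

theorem injective_lTensor_of_good (hsurj : Function.Surjective (algebraMap B C))
    (κ : Type u) [Field κ] [Algebra B κ] (s : B) (hs : algebraMap B κ s ≠ 0) (hg : Good A C s) :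
    Function.Injective ((kerCotangentToTensor A B C).lTensor κ) := by
  obtain ⟨L₀, hL₀⟩ := hg
  obtain ⟨Λ, hΛ⟩ := exists_ext_tensor (k₀ := A) hsurj L₀
  have hcomp : Λ ∘ₗ kerCotangentToTensor A B C = s • LinearMap.id := by
    apply LinearMap.ext
    intro t
    obtain ⟨y, rfl⟩ := Ideal.toCotangent_surjective _ t
    rw [LinearMap.comp_apply, kerCotangentToTensor_toCotangent, hΛ, hL₀]
    rfl
  intro z₁ z₂ h
  have h2 := congrArg (Λ.lTensor κ) h
  rw [← LinearMap.comp_apply, ← LinearMap.comp_apply, ← LinearMap.lTensor_comp, hcomp] at h2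
  have h3 : ∀ z : κ ⊗[B] (RingHom.ker (algebraMap B C)).Cotangent,
      (LinearMap.lTensor κ (s • LinearMap.id)) z = (algebraMap B κ s) • z := by
    intro z
    rw [LinearMap.lTensor_smul, LinearMap.lTensor_id, LinearMap.smul_apply, LinearMap.id_apply,
      algebraMap_smul]
  rw [h3, h3] at h2
  have h4 := congrArg (fun z => (algebraMap B κ s)⁻¹ • z) h2
  rwa [smul_smul, smul_smul, inv_mul_cancel₀ hs, one_smul, one_smul] at h4

end Loc2


section Loc3

variable {A B C : Type u} [CommRing A] [CommRing B] [CommRing C] [Algebra A B] [Algebra B C]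
  [Algebra A C] [IsScalarTower A B C]

theorem exists_good_of_injective_lTensor [Algebra.FormallySmooth A B]
    [Module.Finite B (RingHom.ker (algebraMap B C)).Cotangent]
    (κ : Type u) [Field κ] [Algebra B κ]
    (hfrac : ∀ x : κ, ∃ v c : B, algebraMap B κ v ≠ 0 ∧ algebraMap B κ v * x = algebraMap B κ c)
    (hinj : Function.Injective ((kerCotangentToTensor A B C).lTensor κ)) :
    ∃ s : B, algebraMap B κ s ≠ 0 ∧ Good A C s := by
  classical
  have hinj' : Function.Injective ((kerCotangentToTensor A B C).baseChange κ) := hinj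
  obtain ⟨r, hr⟩ := ((kerCotangentToTensor A B C).baseChange κ).exists_leftInverse_of_injective
    (LinearMap.ker_eq_bot.mpr hinj')
  let σ : Ω[B⁄A] →ₗ[B] κ ⊗[B] (RingHom.ker (algebraMap B C)).Cotangent :=
    (r.restrictScalars B) ∘ₗ (TensorProduct.mk B κ _ 1) ∘ₗ (TensorProduct.mk B C (Ω[B⁄A]) 1)
  have hσ : ∀ j : RingHom.ker (algebraMap B C),
      σ (D A B j.1) = (1 : κ) ⊗ₜ[B] (RingHom.ker (algebraMap B C)).toCotangent j := by
    intro j
    have := LinearMap.congr_fun hr ((1 : κ) ⊗ₜ[B] (RingHom.ker (algebraMap B C)).toCotangent j)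
    rw [LinearMap.comp_apply, LinearMap.baseChange_tmul, kerCotangentToTensor_toCotangent,
      LinearMap.id_apply] at this
    exact this
  let S : Submonoid B :=
    { carrier := {v | algebraMap B κ v ≠ 0}
      one_mem' := by simp
      mul_mem' := fun {a b} ha hb => by
        show algebraMap B κ (a * b) ≠ 0
        rw [map_mul]; exact mul_ne_zero ha hb }
  let ιM : (RingHom.ker (algebraMap B C)).Cotangent →ₗ[B]
      κ ⊗[B] (RingHom.ker (algebraMap B C)).Cotangent := TensorProduct.mk B κ _ 1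
  have hιsurj : ∀ y : κ ⊗[B] (RingHom.ker (algebraMap B C)).Cotangent,
      ∃ (s : S) (x : (RingHom.ker (algebraMap B C)).Cotangent), ιM x = (s : B) • y := by
    intro y
    induction y using TensorProduct.induction_on with
    | zero => exact ⟨1, 0, by simp⟩
    | tmul a m =>
      obtain ⟨v, c, hv, hc⟩ := hfrac a
      refine ⟨⟨v, hv⟩, c • m, ?_⟩
      show (1 : κ) ⊗ₜ[B] (c • m) = v • (a ⊗ₜ[B] m)
      rw [TensorProduct.tmul_smul, TensorProduct.smul_tmul', TensorProduct.smul_tmul',
        Algebra.smul_def, Algebra.smul_def, mul_one, hc]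
    | add y₁ y₂ ih₁ ih₂ =>
      obtain ⟨s₁, x₁, h₁⟩ := ih₁
      obtain ⟨s₂, x₂, h₂⟩ := ih₂
      refine ⟨s₁ * s₂, (s₂ : B) • x₁ + (s₁ : B) • x₂, ?_⟩
      rw [map_add, map_smul, map_smul, h₁, h₂, Submonoid.coe_mul, smul_add, mul_smul, mul_smul,
        smul_comm (s₂ : B) (s₁ : B) y₁]
  obtain ⟨gens, hgens⟩ :=
    (Module.Finite.fg_top : (⊤ : Submodule B (RingHom.ker (algebraMap B C)).Cotangent).FG)
  choose lift hlift using fun m =>
    Ideal.toCotangent_surjective (RingHom.ker (algebraMap B C)) m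
  obtain ⟨t, τ, hτ⟩ := exists_linearMap_of_projective'' S ιM hιsurj σ
    (gens.image fun m => D A B (lift m).1)
  have h1 : ∀ m ∈ gens, (1 : κ) ⊗ₜ[B] (τ (D A B (lift m).1) - (t : B) • m) = 0 := by
    intro m hm
    show ιM (τ (D A B (lift m).1) - (t : B) • m) = 0
    rw [map_sub, hτ _ (Finset.mem_image_of_mem _ hm), hσ, hlift, map_smul]
    exact sub_self _
  have h2 : ∀ m : (RingHom.ker (algebraMap B C)).Cotangent, ∃ v : B, algebraMap B κ v ≠ 0 ∧
      (m ∈ gens → v • (τ (D A B (lift m).1) - (t : B) • m) ∈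
        (RingHom.ker (algebraMap B κ)) •
          (⊤ : Submodule B (RingHom.ker (algebraMap B C)).Cotangent)) := by
    intro m
    by_cases hm : m ∈ gens
    · obtain ⟨v, hv, hv'⟩ := exists_smul_mem_of_tmul_eq_zero hfrac _ (h1 m hm)
      exact ⟨v, hv, fun _ => hv'⟩
    · exact ⟨1, by simp, fun h => absurd h hm⟩
  choose vm hvm hvm' using h2
  obtain ⟨v, hv⟩ : ∃ v : B, v = ∏ m ∈ gens, vm m := ⟨_, rfl⟩
  have hvne : algebraMap B κ v ≠ 0 := by
    rw [hv, map_prod]; exact Finset.prod_ne_zero_iff.mpr fun m _ => hvm m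
  obtain ⟨L', hL'⟩ : ∃ L' : Ω[B⁄A] →ₗ[B] (RingHom.ker (algebraMap B C)).Cotangent,
      L' = v • τ := ⟨_, rfl⟩
  have hθ : ∃ θ : Module.End B (RingHom.ker (algebraMap B C)).Cotangent,
      ∀ j : RingHom.ker (algebraMap B C),
        θ ((RingHom.ker (algebraMap B C)).toCotangent j) = L' (D A B j.1) := by
    let f₀ : RingHom.ker (algebraMap B C) →ₗ[B] (RingHom.ker (algebraMap B C)).Cotangent :=
      { toFun := fun j => L' (D A B j.1)
        map_add' := fun x y => by
          show L' (D A B (x.1 + y.1)) = _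
          rw [map_add, map_add]
        map_smul' := fun b x => by
          show L' (D A B (b * x.1)) = b • L' (D A B x.1)
          rw [Derivation.leibniz, map_add, map_smul, map_smul,
            smul_cotangent_eq_zero _ x.1 x.2, add_zero] }
    refine ⟨Ideal.Cotangent.lift f₀ (fun x y => ?_), fun j => ?_⟩
    · show L' (D A B (x.1 * y.1)) = 0
      rw [Derivation.leibniz, map_add, map_smul, map_smul, smul_cotangent_eq_zero _ x.1 x.2,
        smul_cotangent_eq_zero _ y.1 y.2, add_zero]
    · exact Ideal.Cotangent.lift_toCotangent _ _ _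
  obtain ⟨θ, hθ⟩ := hθ
  obtain ⟨u, hu⟩ : ∃ u : B, u = v * (t : B) := ⟨_, rfl⟩
  have hune : algebraMap B κ u ≠ 0 := by rw [hu, map_mul]; exact mul_ne_zero hvne t.2
  obtain ⟨ε, hε0⟩ : ∃ ε : Module.End B (RingHom.ker (algebraMap B C)).Cotangent,
      ε = θ - u • LinearMap.id := ⟨_, rfl⟩
  have hε : LinearMap.range ε ≤ (RingHom.ker (algebraMap B κ)) •
      (⊤ : Submodule B (RingHom.ker (algebraMap B C)).Cotangent) := by
    rw [LinearMap.range_eq_map]
    conv_lhs => rw [← hgens]
    rw [Submodule.map_span, Submodule.span_le]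
    rintro _ ⟨m, hm, rfl⟩
    have e1 : ε m = (∏ m' ∈ gens.erase m, vm m') •
        (vm m • (τ (D A B (lift m).1) - (t : B) • m)) := by
      rw [hε0, LinearMap.sub_apply, LinearMap.smul_apply, LinearMap.id_apply]
      conv_lhs => rw [← hlift m, hθ, hlift]
      rw [hL', LinearMap.smul_apply, hu, hv, ← Finset.mul_prod_erase gens vm hm, smul_smul,
        smul_sub, smul_smul]
      congr 1
      · rw [mul_comm]
      · rw [mul_comm (vm m), mul_assoc]
    rw [SetLike.mem_coe, e1]
    exact Submodule.smul_mem _ _ (hvm' m hm)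
  obtain ⟨p, hpm, -, hpc, hpe⟩ :=
    LinearMap.exists_monic_and_natDegree_eq_and_coeff_mem_pow_and_aeval_eq_zero B ε _ hε
  obtain ⟨q, hq0⟩ : ∃ q : Polynomial B, q = p.comp (Polynomial.X - Polynomial.C u) := ⟨_, rfl⟩
  have hq : Polynomial.aeval θ q = 0 := by
    rw [hq0, Polynomial.aeval_comp]
    have : Polynomial.aeval θ (Polynomial.X - Polynomial.C u) = ε := by
      rw [map_sub, Polynomial.aeval_X, Polynomial.aeval_C, hε0]
      rfl
    rw [this, hpe]
  have hmap : p.map (algebraMap B κ) = Polynomial.X ^ p.natDegree := by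
    ext k
    rw [Polynomial.coeff_map, Polynomial.coeff_X_pow]
    rcases lt_trichotomy k p.natDegree with hk | hk | hk
    · rw [if_neg hk.ne]
      have := hpc k
      have h3 : p.coeff k ∈ RingHom.ker (algebraMap B κ) :=
        Ideal.pow_le_self (Nat.sub_ne_zero_of_lt hk) this
      exact h3
    · rw [if_pos hk, hk, Polynomial.coeff_natDegree, hpm.leadingCoeff, map_one]
    · rw [if_neg hk.ne', Polynomial.coeff_eq_zero_of_natDegree_lt hk, map_zero]
  have hqc : algebraMap B κ (q.coeff 0) ≠ 0 := by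
    have h3 : q.coeff 0 = p.eval (-u) := by
      rw [Polynomial.coeff_zero_eq_eval_zero, hq0, Polynomial.eval_comp]
      simp
    rw [h3, ← Polynomial.eval₂_at_apply, ← Polynomial.eval_map, hmap, Polynomial.eval_pow,
      Polynomial.eval_X, map_neg]
    exact pow_ne_zero _ (neg_ne_zero.mpr hune)
  have hfin : Polynomial.aeval θ q.divX * θ +
      algebraMap B (Module.End B (RingHom.ker (algebraMap B C)).Cotangent) (q.coeff 0) = 0 := by
    rw [← hq]
    conv_rhs => rw [← Polynomial.divX_mul_X_add q]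
    rw [map_add, map_mul, Polynomial.aeval_X, Polynomial.aeval_C]
  refine ⟨q.coeff 0, hqc, -(Polynomial.aeval θ q.divX ∘ₗ L'), fun j => ?_⟩
  rw [LinearMap.neg_apply, LinearMap.comp_apply, ← hθ j]
  have := LinearMap.congr_fun hfin ((RingHom.ker (algebraMap B C)).toCotangent j)
  rw [LinearMap.add_apply, Module.End.mul_apply, Module.algebraMap_end_apply,
    LinearMap.zero_apply] at this
  rw [neg_eq_iff_eq_neg, eq_neg_iff_add_eq_zero]
  exact this

end Loc3

end Groth.Agent.H14
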