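import Mathlib
import Groth.Prelude.Def_CAlgX
import Groth.Agent.H14.ZarJac3

set_option autoImplicit false

namespace Groth.Agent.H14

universe u

open IsLocalRing KaehlerDifferential TensorProduct

section LemmaD

variable {A R L : Type u} [CommRing A] [CommRing R] [CommRing L] [Algebra A R] [Algebra R L]
  [Algebra A L] [IsScalarTower A R L]

/-- Derivation step: a lift `χ : L → R/𝔞` of the canonical map modulo a square-zero ideal
`N₀/𝔞` killed by `𝔟` forces `j ∈ ker (R → L)` with `dj ∈ 𝔟 Ω` to lie in `𝔞`. -/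
theorem mem_of_lift_of_D_mem_smul (𝔞 N₀ 𝔟 : Ideal R)
    (hN2 : N₀ * N₀ ≤ 𝔞) (h𝔟 : 𝔟 * N₀ ≤ 𝔞)
    (χ : L →ₐ[A] R ⧸ 𝔞)
    (hχ : ∀ r : R, Ideal.Quotient.mk (N₀.map (Ideal.Quotient.mk 𝔞)) (χ (algebraMap R L r)) =
      Ideal.Quotient.mk (N₀.map (Ideal.Quotient.mk 𝔞)) (Ideal.Quotient.mk 𝔞 r))
    (j : R) (hj : algebraMap R L j = 0)
    (hDj : D A R j ∈ 𝔟 • (⊤ : Submodule R (Ω[R⁄A]))) : j ∈ 𝔞 := by
  have hN : (N₀.map (Ideal.Quotient.mk 𝔞)) ^ 2 = ⊥ := by
    rw [pow_two, ← Ideal.map_mul, eq_bot_iff, Ideal.map_le_iff_le_comap]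
    intro x hx
    rw [Ideal.mem_comap, Ideal.mem_bot]
    exact Ideal.Quotient.eq_zero_iff_mem.mpr (hN2 hx)
  let f : R →ₐ[A] R ⧸ 𝔞 := χ.comp (IsScalarTower.toAlgHom A R L)
  have e : (Ideal.Quotient.mkₐ A (N₀.map (Ideal.Quotient.mk 𝔞))).comp f =
      IsScalarTower.toAlgHom A R ((R ⧸ 𝔞) ⧸ N₀.map (Ideal.Quotient.mk 𝔞)) := by
    ext r
    exact hχ r
  let d := derivationToSquareZeroOfLift (N₀.map (Ideal.Quotient.mk 𝔞)) hN f e
  have hd : ∀ x : R, ((d x : N₀.map (Ideal.Quotient.mk 𝔞)) : R ⧸ 𝔞) =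
      χ (algebraMap R L x) - Ideal.Quotient.mk 𝔞 x := fun x => rfl
  have hkill : ∀ (b : R) (_ : b ∈ 𝔟) (n : N₀.map (Ideal.Quotient.mk 𝔞)), b • n = 0 := by
    intro b hb n
    apply Subtype.ext
    obtain ⟨n, hn⟩ := n
    change b • n = 0
    rw [Ideal.map_eq_submodule_map] at hn
    obtain ⟨y, hy, rfl⟩ := hn
    change b • Ideal.Quotient.mk 𝔞 y = 0
    rw [Algebra.smul_def, Ideal.Quotient.algebraMap_eq, ← map_mul]
    exact Ideal.Quotient.eq_zero_iff_mem.mpr (h𝔟 (Ideal.mul_mem_mul hb hy))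
  have hφ : ∀ ω ∈ 𝔟 • (⊤ : Submodule R (Ω[R⁄A])), d.liftKaehlerDifferential ω = 0 := by
    intro ω hω
    refine Submodule.smul_induction_on hω ?_ ?_
    · intro b hb ω' _
      rw [map_smul]
      exact hkill b hb _
    · intro x y hx hy
      rw [map_add, hx, hy, add_zero]
  have h1 := hφ _ hDj
  rw [Derivation.liftKaehlerDifferential_comp_D] at h1
  have h2 := hd j
  rw [h1, hj, map_zero, zero_sub] at h2
  have h3 : Ideal.Quotient.mk 𝔞 j = 0 := by
    have : -(Ideal.Quotient.mk 𝔞 j) = 0 := h2.symm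
    rwa [neg_eq_zero] at this
  exact Ideal.Quotient.eq_zero_iff_mem.mp h3

end LemmaD


section LemmaT

variable {R : Type u} [CommRing R]

/-- `1 ⊗ (1 ⊗ ω) = 0` in `(R/𝔪) ⊗ ((R/I) ⊗ M)` with `I ≤ 𝔪` forces `ω ∈ 𝔪 M`. -/
theorem mem_smul_top_of_tmul_tmul_eq_zero {M : Type*} [AddCommGroup M] [Module R M]
    (𝔪 I : Ideal R) (hI : I ≤ 𝔪) (ω : M)
    (h : (1 : R ⧸ 𝔪) ⊗ₜ[R] ((1 : R ⧸ I) ⊗ₜ[R] ω) = 0) :
    ω ∈ 𝔪 • (⊤ : Submodule R M) := by
  have h1 := congrArg (quotTensorEquivQuotSMul ((R ⧸ I) ⊗[R] M) 𝔪) h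
  rw [quotTensorEquivQuotSMul_mk_one_tmul, map_zero, Submodule.Quotient.mk_eq_zero] at h1
  have h2 : quotTensorEquivQuotSMul M I ((1 : R ⧸ I) ⊗ₜ[R] ω) ∈
      𝔪 • (⊤ : Submodule R (M ⧸ (I • (⊤ : Submodule R M)))) := by
    have := Submodule.mem_map_of_mem (f := (quotTensorEquivQuotSMul M I).toLinearMap) h1
    rw [Submodule.map_smul''] at this
    exact Submodule.smul_mono le_rfl le_top this
  rw [quotTensorEquivQuotSMul_mk_one_tmul] at h2
  have h3 : (𝔪 • (⊤ : Submodule R (M ⧸ (I • (⊤ : Submodule R M))))) =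
      Submodule.map (I • (⊤ : Submodule R M)).mkQ (𝔪 • ⊤) := by
    rw [Submodule.map_smul'', Submodule.map_top, Submodule.range_mkQ]
  rw [h3] at h2
  obtain ⟨y, hy, hyω⟩ := h2
  have h4 : ω - y ∈ I • (⊤ : Submodule R M) := by
    rw [← Submodule.Quotient.mk_eq_zero, Submodule.Quotient.mk_sub, sub_eq_zero]
    exact hyω.symm
  have h5 : ω - y ∈ 𝔪 • (⊤ : Submodule R M) := Submodule.smul_mono_left hI h4
  have := Submodule.add_mem _ h5 hy
  rwa [sub_add_cancel] at this

/-- Artin–Rees consequence: `K ⊓ 𝔪^n ≤ 𝔪 K` for `n` large. -/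
theorem exists_inf_pow_le_mul [IsNoetherianRing R] (𝔪 K : Ideal R) :
    ∃ n : ℕ, K ⊓ 𝔪 ^ n ≤ 𝔪 * K := by
  obtain ⟨k, hk⟩ := Ideal.exists_pow_inf_eq_pow_smul 𝔪 (K : Submodule R R)
  refine ⟨k + 1, ?_⟩
  have h := hk (k + 1) (Nat.le_succ k)
  rw [Nat.add_sub_cancel_left, pow_one] at h
  intro x hx
  have hx' : x ∈ (𝔪 ^ (k + 1) • (⊤ : Submodule R R) ⊓ K : Submodule R R) := by
    refine ⟨?_, hx.1⟩
    have : (𝔪 ^ (k + 1) • (⊤ : Submodule R R) : Submodule R R) = 𝔪 ^ (k + 1) := by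
      rw [smul_eq_mul, Ideal.mul_top]
    rw [this]
    exact hx.2
  rw [h] at hx'
  have : (𝔪 • (𝔪 ^ k • (⊤ : Submodule R R) ⊓ K) : Submodule R R) ≤ 𝔪 • K :=
    Submodule.smul_mono le_rfl inf_le_right
  exact this hx'

end LemmaT


section Core

variable {A R L : Type u} [CommRing A] [CommRing R] [CommRing L] [Algebra A R] [Algebra R L]
  [Algebra A L] [IsScalarTower A R L]

/-- Variant of `mem_smul_top_of_tmul_tmul_eq_zero` for an abstract quotient `L` of `R`. -/
theorem mem_smul_top_of_tmul_tmul_eq_zero' {M : Type*} [AddCommGroup M] [Module R M]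
    (hsurj : Function.Surjective (algebraMap R L)) (𝔪 : Ideal R)
    (hI : RingHom.ker (algebraMap R L) ≤ 𝔪) (ω : M)
    (h : (1 : R ⧸ 𝔪) ⊗ₜ[R] ((1 : L) ⊗ₜ[R] ω) = 0) :
    ω ∈ 𝔪 • (⊤ : Submodule R M) := by
  let e : (R ⧸ RingHom.ker (Algebra.ofId R L)) ≃ₐ[R] L :=
    Ideal.quotientKerAlgEquivOfSurjective (f := Algebra.ofId R L) hsurj
  let E : L ⊗[R] M ≃ₗ[R] (R ⧸ RingHom.ker (Algebra.ofId R L)) ⊗[R] M :=
    TensorProduct.congr e.symm.toLinearEquiv (LinearEquiv.refl R M)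
  have h1 := congrArg (E.toLinearMap.lTensor (R ⧸ 𝔪)) h
  rw [LinearMap.lTensor_tmul, map_zero] at h1
  have h2 : E ((1 : L) ⊗ₜ[R] ω) = (1 : R ⧸ RingHom.ker (Algebra.ofId R L)) ⊗ₜ[R] ω := by
    change (e.symm (1 : L)) ⊗ₜ[R] ω = _
    rw [map_one]
  rw [LinearEquiv.coe_coe, h2] at h1
  exact mem_smul_top_of_tmul_tmul_eq_zero 𝔪 (RingHom.ker (Algebra.ofId R L)) hI ω h1

variable [IsLocalRing R] [IsNoetherianRing R] [IsLocalRing L]

/-- **Core lemma**: adic formal smoothness of a quotient `L` of a Noetherian local ring `R`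
implies the Jacobian injectivity at the residue field. -/
theorem injective_lTensor_of_isAdicFormallySmooth
    (hsurj : Function.Surjective (algebraMap R L))
    (hadic : CAlgX.IsAdicFormallySmooth A L (maximalIdeal L)) :
    Function.Injective ((kerCotangentToTensor A R L).lTensor (ResidueField R)) := by
  obtain ⟨K, hK⟩ : ∃ K : Ideal R, K = RingHom.ker (algebraMap R L) := ⟨_, rfl⟩
  have hK𝔪 : K ≤ maximalIdeal R := hK ▸ le_maximalIdeal (RingHom.ker_ne_top _)
  obtain ⟨n, hn⟩ := exists_inf_pow_le_mul (maximalIdeal R) K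
  obtain ⟨𝔞, h𝔞⟩ : ∃ 𝔞 : Ideal R, 𝔞 = maximalIdeal R * K ⊔ maximalIdeal R ^ n := ⟨_, rfl⟩
  obtain ⟨N₀, hN₀⟩ : ∃ N₀ : Ideal R, N₀ = K ⊔ maximalIdeal R ^ n := ⟨_, rfl⟩
  have hN2 : N₀ * N₀ ≤ 𝔞 := by
    rw [hN₀, h𝔞, Ideal.sup_mul, Ideal.mul_sup, Ideal.mul_sup]
    refine sup_le (sup_le ?_ ?_) (sup_le ?_ ?_)
    · exact le_sup_of_le_left (Ideal.mul_mono_left hK𝔪)
    · exact le_sup_of_le_right Ideal.mul_le_right
    · exact le_sup_of_le_right Ideal.mul_le_left
    · exact le_sup_of_le_right Ideal.mul_le_left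
  have h𝔟 : maximalIdeal R * N₀ ≤ 𝔞 := by
    rw [hN₀, h𝔞, Ideal.mul_sup]
    exact sup_le_sup le_rfl Ideal.mul_le_right
  have hNsq : (N₀.map (Ideal.Quotient.mk 𝔞)) ^ 2 = ⊥ := by
    rw [pow_two, ← Ideal.map_mul, eq_bot_iff, Ideal.map_le_iff_le_comap]
    intro x hx
    rw [Ideal.mem_comap, Ideal.mem_bot]
    exact Ideal.Quotient.eq_zero_iff_mem.mpr (hN2 hx)
  -- the test map
  let fL : R →ₐ[A] L := IsScalarTower.toAlgHom A R L
  have hfL : Function.Surjective fL := hsurj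
  let e := Ideal.quotientKerAlgEquivOfSurjective hfL
  let g : R →ₐ[A] (R ⧸ 𝔞) ⧸ N₀.map (Ideal.Quotient.mk 𝔞) :=
    (Ideal.Quotient.mkₐ A _).comp (Ideal.Quotient.mkₐ A 𝔞)
  have hgN : ∀ a ∈ N₀, g a = 0 := by
    intro a ha
    change Ideal.Quotient.mk _ (Ideal.Quotient.mk 𝔞 a) = 0
    exact Ideal.Quotient.eq_zero_iff_mem.mpr (Ideal.mem_map_of_mem _ ha)
  have hg : ∀ a ∈ RingHom.ker fL, g a = 0 := by
    intro a ha
    apply hgN
    rw [hN₀, hK]
    exact Ideal.mem_sup_left ha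
  let ψ : L →ₐ[A] (R ⧸ 𝔞) ⧸ N₀.map (Ideal.Quotient.mk 𝔞) :=
    (Ideal.Quotient.liftₐ (RingHom.ker fL) g hg).comp e.symm.toAlgHom
  have hψ : ∀ r : R, ψ (algebraMap R L r) = g r := by
    intro r
    have : e.symm (algebraMap R L r) = Ideal.Quotient.mk _ r := by
      rw [AlgEquiv.symm_apply_eq]
      rfl
    change Ideal.Quotient.liftₐ (RingHom.ker fL) g hg (e.symm (algebraMap R L r)) = g r
    rw [this]
    rfl
  have hψkill : ∃ k : ℕ, ∀ x ∈ maximalIdeal L ^ k, ψ x = 0 := by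
    refine ⟨n, fun x hx => ?_⟩
    have hmap : maximalIdeal L = (maximalIdeal R).map (algebraMap R L) :=
      (IsLocalRing.map_maximalIdeal_of_surjective (algebraMap R L) hsurj).symm
    rw [hmap, ← Ideal.map_pow] at hx
    obtain ⟨y, hy, rfl⟩ := (Ideal.mem_map_iff_of_surjective _ hsurj).mp hx
    rw [hψ]
    apply hgN
    rw [hN₀]
    exact Ideal.mem_sup_right hy
  obtain ⟨χ, hχ⟩ := hadic (R ⧸ 𝔞) (N₀.map (Ideal.Quotient.mk 𝔞)) hNsq ψ hψkill
  have hχ' : ∀ r : R, Ideal.Quotient.mk (N₀.map (Ideal.Quotient.mk 𝔞)) (χ (algebraMap R L r)) =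
      Ideal.Quotient.mk (N₀.map (Ideal.Quotient.mk 𝔞)) (Ideal.Quotient.mk 𝔞 r) := by
    intro r
    have := AlgHom.congr_fun hχ (algebraMap R L r)
    rw [hψ] at this
    exact this
  -- injectivity
  rw [injective_iff_map_eq_zero]
  intro t ht
  obtain ⟨c, rfl⟩ := TensorProduct.mk_surjective R _ (ResidueField R) residue_surjective t
  obtain ⟨⟨j, hjK⟩, rfl⟩ := Ideal.toCotangent_surjective _ c
  change (kerCotangentToTensor A R L).lTensor (ResidueField R)
    ((1 : ResidueField R) ⊗ₜ[R] _) = 0 at ht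
  rw [LinearMap.lTensor_tmul, kerCotangentToTensor_toCotangent] at ht
  have hDj : D A R j ∈ maximalIdeal R • (⊤ : Submodule R (Ω[R⁄A])) :=
    mem_smul_top_of_tmul_tmul_eq_zero' hsurj (maximalIdeal R) (hK ▸ hK𝔪) _ ht
  have hj𝔞 : j ∈ 𝔞 := mem_of_lift_of_D_mem_smul 𝔞 N₀ (maximalIdeal R) hN2 h𝔟 χ hχ' j hjK hDj
  have hj𝔪K : j ∈ maximalIdeal R * K := by
    rw [h𝔞] at hj𝔞
    obtain ⟨a, ha, b, hb, hab⟩ := Submodule.mem_sup.mp hj𝔞
    have hbK : b ∈ K := by
      have : b = j - a := by rw [← hab]; ring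
      rw [this]
      exact K.sub_mem (hK ▸ hjK) (Ideal.mul_le_right ha)
    have := hn ⟨hbK, hb⟩
    rw [← hab]
    exact Ideal.add_mem _ ha this
  have hmem : (⟨j, hjK⟩ : RingHom.ker (algebraMap R L)) ∈
      maximalIdeal R • (⊤ : Submodule R (RingHom.ker (algebraMap R L))) := by
    rw [Submodule.mem_smul_top_iff]
    rw [hK] at hj𝔪K
    exact hj𝔪K
  change (1 : ResidueField R) ⊗ₜ[R] (RingHom.ker (algebraMap R L)).toCotangent ⟨j, hjK⟩ = 0
  refine Submodule.smul_induction_on hmem ?_ ?_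
  · intro a ha y _
    rw [map_smul, ← TensorProduct.smul_tmul, Algebra.smul_def, mul_one]
    have : algebraMap R (ResidueField R) a = 0 := (residue_eq_zero_iff a).mpr ha
    rw [this, zero_tmul]
  · intro x y hx hy
    rw [map_add, tmul_add, hx, hy, add_zero]


/-- **Theorem X**: a quotient `L` of a Noetherian local ring `R` formally smooth over `A` which is
formally smooth for its adic topology is formally smooth for the discrete topology. -/
theorem formallySmooth_of_isAdicFormallySmooth [Algebra.FormallySmooth A R]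
    (hsurj : Function.Surjective (algebraMap R L))
    (hadic : CAlgX.IsAdicFormallySmooth A L (maximalIdeal L)) :
    Algebra.FormallySmooth A L := by
  have hinj := injective_lTensor_of_isAdicFormallySmooth hsurj hadic
  haveI : Module.Finite R (RingHom.ker (algebraMap R L)).Cotangent :=
    Module.Finite.of_surjective _ (Ideal.toCotangent_surjective _)
  have hfrac : ∀ x : ResidueField R, ∃ v c : R, algebraMap R (ResidueField R) v ≠ 0 ∧
      algebraMap R (ResidueField R) v * x = algebraMap R (ResidueField R) c := by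
    intro x
    obtain ⟨c, rfl⟩ := residue_surjective x
    exact ⟨1, c, by rw [map_one]; exact one_ne_zero, by rw [map_one, one_mul]; rfl⟩
  obtain ⟨s, hs, L₀, hL₀⟩ := exists_good_of_injective_lTensor (A := A) (B := R) (C := L)
    (ResidueField R) hfrac hinj
  have hsu : IsUnit s := by
    by_contra h
    exact hs ((residue_eq_zero_iff s).mpr h)
  obtain ⟨u, rfl⟩ := hsu
  refine formallySmooth_of_retraction_D hsurj ((↑u⁻¹ : R) • L₀) (fun y => ?_)
  rw [LinearMap.smul_apply, hL₀, smul_smul, Units.inv_mul, one_smul]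

end Core

section BaseChange

variable {A A' S : Type u} [CommRing A] [CommRing A'] [CommRing S] [Algebra A A'] [Algebra A' S]
  [Algebra A S] [IsScalarTower A A' S]

/-- Adic formal smoothness does not see a localization of the base. -/
theorem isAdicFormallySmooth_of_isLocalization (M : Submonoid A) [IsLocalization M A']
    (𝔫 : Ideal S) (h : CAlgX.IsAdicFormallySmooth A' S 𝔫) : CAlgX.IsAdicFormallySmooth A S 𝔫 := by
  intro E _ _ N hN ψ hψ
  have hunit : ∀ m : M, IsUnit (algebraMap A E m) := by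
    intro m
    apply (IsNilpotent.isUnit_quotient_mk_iff (I := N) ⟨2, hN⟩).mp
    have h1 : Ideal.Quotient.mk N (algebraMap A E m) = ψ (algebraMap A S m) := by
      rw [ψ.commutes]
      rfl
    rw [h1, IsScalarTower.algebraMap_apply A A' S]
    exact ((IsLocalization.map_units A' m).map (algebraMap A' S)).map ψ
  letI : Algebra A' E := (IsLocalization.lift (M := M) (g := algebraMap A E) hunit).toAlgebra
  haveI : IsScalarTower A A' E := IsScalarTower.of_algebraMap_eq fun a => by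
    rw [RingHom.algebraMap_toAlgebra, IsLocalization.lift_eq]
  let ψ' : S →ₐ[A'] E ⧸ N :=
    { ψ.toRingHom with
      commutes' := fun a' => by
        have : (ψ.toRingHom.comp (algebraMap A' S)) = algebraMap A' (E ⧸ N) := by
          apply IsLocalization.ringHom_ext M
          ext a
          rw [RingHom.comp_apply, RingHom.comp_apply, RingHom.comp_apply,
            ← IsScalarTower.algebraMap_apply, ← IsScalarTower.algebraMap_apply]
          exact ψ.commutes a
        exact RingHom.congr_fun this a' }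
  obtain ⟨χ, hχ⟩ := h E N hN ψ' hψ
  refine ⟨χ.restrictScalars A, ?_⟩
  ext x
  exact AlgHom.congr_fun hχ x

theorem isAdicFormallySmooth_of_formallySmooth {A S : Type u} [CommRing A] [CommRing S]
    [Algebra A S] [Algebra.FormallySmooth A S] (𝔫 : Ideal S) :
    CAlgX.IsAdicFormallySmooth A S 𝔫 := by
  intro E _ _ N hN ψ _
  exact ⟨Algebra.FormallySmooth.lift N ⟨2, hN⟩ ψ, Algebra.FormallySmooth.comp_lift N ⟨2, hN⟩ ψ⟩

end BaseChange


section Localized

variable {A B C : Type u} [CommRing A] [CommRing B] [CommRing C] [Algebra A B] [Algebra B C]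
  [Algebra A C] [IsScalarTower A B C]

/-- For `B` Noetherian and formally smooth over `A`, `C = B/J` and `p` a prime of `C`: if `C_p` is
formally smooth over `A` for the adic topology, it is formally smooth for the discrete one. -/
theorem formallySmooth_localization_of_isAdicFormallySmooth [IsNoetherianRing B]
    [Algebra.FormallySmooth A B] (hsurj : Function.Surjective (algebraMap B C))
    (p : Ideal C) [p.IsPrime]
    (hadic : CAlgX.IsAdicFormallySmooth A (Localization.AtPrime p)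
      (maximalIdeal (Localization.AtPrime p))) :
    Algebra.FormallySmooth A (Localization.AtPrime p) := by
  let π : B →ₐ[A] C := IsScalarTower.toAlgHom A B C
  let 𝔓 : Ideal B := p.comap π
  haveI : 𝔓.IsPrime := Ideal.comap_isPrime _ _
  let f : Localization.AtPrime 𝔓 →ₐ[A] Localization.AtPrime p :=
    Localization.localAlgHom 𝔓 p π rfl
  have hf : Function.Surjective f := by
    intro z
    obtain ⟨s, t, rfl⟩ := IsLocalization.exists_mk'_eq p.primeCompl z
    obtain ⟨b, rfl⟩ := hsurj s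
    obtain ⟨b', hb'⟩ := hsurj t
    have hb'n : b' ∈ 𝔓.primeCompl := by
      intro h
      apply t.2
      rw [← hb']
      exact h
    refine ⟨IsLocalization.mk' _ b ⟨b', hb'n⟩, ?_⟩
    rw [Localization.localAlgHom_apply]
    refine (Localization.localRingHom_mk' 𝔓 p π.toRingHom rfl b ⟨b', hb'n⟩).trans ?_
    congr 1
    exact Subtype.ext hb'
  letI : Algebra (Localization.AtPrime 𝔓) (Localization.AtPrime p) := f.toRingHom.toAlgebra
  haveI : IsScalarTower A (Localization.AtPrime 𝔓) (Localization.AtPrime p) :=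
    IsScalarTower.of_algebraMap_eq fun a => (f.commutes a).symm
  haveI : Algebra.FormallyEtale B (Localization.AtPrime 𝔓) :=
    Algebra.FormallyEtale.of_isLocalization 𝔓.primeCompl
  haveI : Algebra.FormallySmooth A (Localization.AtPrime 𝔓) :=
    Algebra.FormallySmooth.comp A B (Localization.AtPrime 𝔓)
  haveI : IsNoetherianRing (Localization.AtPrime 𝔓) :=
    IsLocalization.isNoetherianRing 𝔓.primeCompl _ inferInstance
  exact formallySmooth_of_isAdicFormallySmooth (R := Localization.AtPrime 𝔓) hf hadic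


/-- Transport of adic formal smoothness along an algebra isomorphism. -/
theorem isAdicFormallySmooth_of_algEquiv {A S S' : Type u} [CommRing A] [CommRing S] [CommRing S']
    [Algebra A S] [Algebra A S'] (e : S ≃ₐ[A] S') (𝔫 : Ideal S) (𝔫' : Ideal S')
    (h𝔫 : ∀ x ∈ 𝔫, e x ∈ 𝔫') (h : CAlgX.IsAdicFormallySmooth A S 𝔫) :
    CAlgX.IsAdicFormallySmooth A S' 𝔫' := by
  intro E _ _ N hN ψ' hψ'
  obtain ⟨k, hk⟩ := hψ'
  have hle : (𝔫 ^ k).map e.toAlgHom.toRingHom ≤ 𝔫' ^ k := by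
    rw [Ideal.map_pow]
    apply Ideal.pow_right_mono
    rw [Ideal.map_le_iff_le_comap]
    exact fun x hx => h𝔫 x hx
  have hψ : ∃ k : ℕ, ∀ x ∈ 𝔫 ^ k, (ψ'.comp e.toAlgHom) x = 0 :=
    ⟨k, fun x hx => hk _ (hle (Ideal.mem_map_of_mem _ hx))⟩
  obtain ⟨χ, hχ⟩ := h E N hN (ψ'.comp e.toAlgHom) hψ
  refine ⟨χ.comp e.symm.toAlgHom, ?_⟩
  ext x
  have := AlgHom.congr_fun hχ (e.symm x)
  simp only [AlgHom.comp_apply, AlgEquiv.coe_toAlgHom, AlgEquiv.apply_symm_apply] at this ⊢
  exact this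

/-- Version of `formallySmooth_localization_of_isAdicFormallySmooth` for an arbitrary model of the
localization. -/
theorem formallySmooth_of_isAdicFormallySmooth_of_isLocalization [IsNoetherianRing B]
    [Algebra.FormallySmooth A B] (hsurj : Function.Surjective (algebraMap B C))
    (p : Ideal C) [p.IsPrime] (L : Type u) [CommRing L] [Algebra C L] [IsLocalization.AtPrime L p]
    [Algebra A L] [IsScalarTower A C L] [IsLocalRing L]
    (hadic : CAlgX.IsAdicFormallySmooth A L (maximalIdeal L)) :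
    Algebra.FormallySmooth A L := by
  let e : L ≃ₐ[A] Localization.AtPrime p :=
    (IsLocalization.algEquiv p.primeCompl L (Localization.AtPrime p)).restrictScalars A
  have h1 : CAlgX.IsAdicFormallySmooth A (Localization.AtPrime p)
      (maximalIdeal (Localization.AtPrime p)) := by
    refine isAdicFormallySmooth_of_algEquiv e _ _ (fun x hx => ?_) hadic
    rw [mem_maximalIdeal, mem_nonunits_iff] at hx ⊢
    intro hu
    apply hx
    have := hu.map e.symm
    rwa [AlgEquiv.symm_apply_apply] at this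
  haveI := formallySmooth_localization_of_isAdicFormallySmooth hsurj p h1
  exact Algebra.FormallySmooth.of_equiv e.symm

end Localized

end Groth.Agent.H14
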