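import Groth.Prelude.Def_DiffOp
import Mathlib.RingTheory.TensorProduct.Basic

set_option autoImplicit false

namespace Groth.Agent.H14

universe u v

open Diff16

section

variable {A B : Type u} [CommRing A] [CommRing B] [Algebra A B]
variable {M N P : Type v} [AddCommGroup M] [Module A M] [Module B M] [IsScalarTower A B M]
  [AddCommGroup N] [Module A N] [Module B N] [IsScalarTower A B N]
  [AddCommGroup P] [Module A P] [Module B P] [IsScalarTower A B P]

theorem commutator_apply (D : M →ₗ[A] N) (b : B) (m : M) :
    commutator A B M N D b m = D (b • m) - b • D m := by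
  simp [commutator]

theorem isDiffOpLE_zero_iff (D : M →ₗ[A] N) :
    IsDiffOpLE A B M N 0 D ↔ ∀ (b : B) (m : M), D (b • m) = b • D m := by
  rw [IsDiffOpLE]

theorem isDiffOpLE_succ_iff (n : ℕ) (D : M →ₗ[A] N) :
    IsDiffOpLE A B M N (n + 1) D ↔ ∀ b : B, IsDiffOpLE A B M N n (commutator A B M N D b) := by
  rw [IsDiffOpLE]

theorem commutator_zero (b : B) : commutator A B M N 0 b = 0 := by
  ext m; simp [commutator_apply]

theorem commutator_add (D D' : M →ₗ[A] N) (b : B) :
    commutator A B M N (D + D') b = commutator A B M N D b + commutator A B M N D' b := by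
  ext m; simp only [commutator_apply, LinearMap.add_apply, smul_add]; abel

theorem commutator_neg (D : M →ₗ[A] N) (b : B) :
    commutator A B M N (-D) b = - commutator A B M N D b := by
  ext m; simp only [commutator_apply, LinearMap.neg_apply, smul_neg]; abel

theorem commutator_sub (D D' : M →ₗ[A] N) (b : B) :
    commutator A B M N (D - D') b = commutator A B M N D b - commutator A B M N D' b := by
  ext m; simp only [commutator_apply, LinearMap.sub_apply, smul_sub]; abel

theorem isDiffOpLE_zero_map (n : ℕ) : IsDiffOpLE A B M N n (0 : M →ₗ[A] N) := by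
  induction n with
  | zero => rw [isDiffOpLE_zero_iff]; intro b m; simp
  | succ n ih => rw [isDiffOpLE_succ_iff]; intro b; rw [commutator_zero]; exact ih

theorem isDiffOpLE_add (n : ℕ) (D D' : M →ₗ[A] N)
    (h : IsDiffOpLE A B M N n D) (h' : IsDiffOpLE A B M N n D') :
    IsDiffOpLE A B M N n (D + D') := by
  induction n generalizing D D' with
  | zero =>
    rw [isDiffOpLE_zero_iff] at *
    intro b m; simp [h b m, h' b m]
  | succ n ih =>
    rw [isDiffOpLE_succ_iff] at *
    intro b; rw [commutator_add]; exact ih _ _ (h b) (h' b)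

theorem isDiffOpLE_neg (n : ℕ) (D : M →ₗ[A] N)
    (h : IsDiffOpLE A B M N n D) : IsDiffOpLE A B M N n (-D) := by
  induction n generalizing D with
  | zero =>
    rw [isDiffOpLE_zero_iff] at *
    intro b m; simp [h b m]
  | succ n ih =>
    rw [isDiffOpLE_succ_iff] at *
    intro b; rw [commutator_neg]; exact ih _ (h b)

theorem isDiffOpLE_sub (n : ℕ) (D D' : M →ₗ[A] N)
    (h : IsDiffOpLE A B M N n D) (h' : IsDiffOpLE A B M N n D') :
    IsDiffOpLE A B M N n (D - D') := by
  rw [sub_eq_add_neg]; exact isDiffOpLE_add n _ _ h (isDiffOpLE_neg n _ h')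

theorem isDiffOpLE_succ_of_le (n : ℕ) (D : M →ₗ[A] N)
    (h : IsDiffOpLE A B M N n D) : IsDiffOpLE A B M N (n + 1) D := by
  induction n generalizing D with
  | zero =>
    rw [isDiffOpLE_zero_iff] at h
    rw [isDiffOpLE_succ_iff]
    intro b
    have : commutator A B M N D b = 0 := by
      ext m; simp [commutator_apply, h b m]
    rw [this]; exact isDiffOpLE_zero_map 0
  | succ n ih =>
    rw [isDiffOpLE_succ_iff] at h ⊢
    intro b; exact ih _ (h b)

theorem isDiffOpLE_mono {n n' : ℕ} (hnn' : n ≤ n') (D : M →ₗ[A] N)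
    (h : IsDiffOpLE A B M N n D) : IsDiffOpLE A B M N n' D := by
  induction hnn' with
  | refl => exact h
  | step _ ih => exact isDiffOpLE_succ_of_le _ _ ih

theorem commutator_comp (D : M →ₗ[A] N) (D' : N →ₗ[A] P) (b : B) :
    commutator A B M P (D' ∘ₗ D) b =
      commutator A B N P D' b ∘ₗ D + D' ∘ₗ commutator A B M N D b := by
  ext m; simp only [commutator_apply, LinearMap.comp_apply, LinearMap.add_apply, map_sub]; abel

theorem isDiffOpLE_comp_aux (k : ℕ) : ∀ (n n' : ℕ), n + n' = k → ∀ (D : M →ₗ[A] N) (D' : N →ₗ[A] P),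
    IsDiffOpLE A B M N n D → IsDiffOpLE A B N P n' D' →
    IsDiffOpLE A B M P k (D' ∘ₗ D) := by
  induction k with
  | zero =>
    intro n n' hk D D' hD hD'
    obtain ⟨rfl, rfl⟩ : n = 0 ∧ n' = 0 := by omega
    rw [isDiffOpLE_zero_iff] at *
    intro b m; simp [hD b m, hD' b]
  | succ k ih =>
    intro n n' hk D D' hD hD'
    rw [isDiffOpLE_succ_iff]
    intro b
    rw [commutator_comp]
    apply isDiffOpLE_add
    · -- [D', b] ∘ D
      cases n' with
      | zero =>
        rw [isDiffOpLE_zero_iff] at hD'
        have : commutator A B N P D' b = 0 := by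
          ext m; simp [commutator_apply, hD' b m]
        rw [this, LinearMap.zero_comp]; exact isDiffOpLE_zero_map k
      | succ n' =>
        rw [isDiffOpLE_succ_iff] at hD'
        exact ih n n' (by omega) D _ hD (hD' b)
    · -- D' ∘ [D, b]
      cases n with
      | zero =>
        rw [isDiffOpLE_zero_iff] at hD
        have : commutator A B M N D b = 0 := by
          ext m; simp [commutator_apply, hD b m]
        rw [this, LinearMap.comp_zero]; exact isDiffOpLE_zero_map k
      | succ n =>
        rw [isDiffOpLE_succ_iff] at hD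
        exact ih n n' (by omega) _ D' (hD b) hD'

theorem isDiffOpLE_comp (n n' : ℕ) (D : M →ₗ[A] N) (D' : N →ₗ[A] P)
    (hD : IsDiffOpLE A B M N n D) (hD' : IsDiffOpLE A B N P n' D') :
    IsDiffOpLE A B M P (n + n') (D' ∘ₗ D) :=
  isDiffOpLE_comp_aux (n + n') n n' rfl D D' hD hD'

/-- Multiplication by `b` as an `A`-linear map. -/
noncomputable def mulOp (b : B) : M →ₗ[A] M := (LinearMap.lsmul B M b).restrictScalars A

@[simp] theorem mulOp_apply (b : B) (m : M) : (mulOp b : M →ₗ[A] M) m = b • m := rfl

theorem isDiffOpLE_mulOp (b : B) : IsDiffOpLE A B M M 0 (mulOp b : M →ₗ[A] M) := by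
  rw [isDiffOpLE_zero_iff]; intro c m; simp [smul_comm b c m]

theorem commutator_mul (D : M →ₗ[A] N) (b b' : B) :
    commutator A B M N D (b * b') =
      commutator A B M N D b ∘ₗ (mulOp b' : M →ₗ[A] M) +
        (mulOp b : N →ₗ[A] N) ∘ₗ commutator A B M N D b' := by
  ext m
  simp only [commutator_apply, LinearMap.comp_apply, LinearMap.add_apply, mulOp_apply, mul_smul,
    smul_sub]
  abel

theorem commutator_add_right (D : M →ₗ[A] N) (b b' : B) :
    commutator A B M N D (b + b') = commutator A B M N D b + commutator A B M N D b' := by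
  ext m
  simp only [commutator_apply, LinearMap.add_apply, add_smul, map_add]
  abel

theorem commutator_algebraMap (D : M →ₗ[A] N) (a : A) :
    commutator A B M N D (algebraMap A B a) = 0 := by
  ext m
  simp [commutator_apply, algebraMap_smul]

end

end Groth.Agent.H14
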