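import Mathlib
import Groth.Agent.H14.DiffOpMono

set_option autoImplicit false

namespace Groth.Agent.H14

universe u v

open Diff16
open scoped TensorProduct

section

variable {A B : Type u} [CommRing A] [CommRing B] [Algebra A B]
variable {N : Type u} [AddCommGroup N] [Module A N] [Module B N] [IsScalarTower A B N]
variable {ι : Type} [Fintype ι] [DecidableEq ι]

/-- every element of the diagonal ideal is a combination of the `diagGen (z i)` modulo `I²`. -/
theorem ideal_decomp (z : ι → B)
    (hz : Submodule.span B (Set.range fun i => KaehlerDifferential.D A B (z i)) = ⊤)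
    (y : B ⊗[A] B) (hy : y ∈ KaehlerDifferential.ideal A B) :
    ∃ v : ι → B ⊗[A] B, y - ∑ i, v i * diagGen (z i) ∈ (KaehlerDifferential.ideal A B) ^ 2 := by
  rw [← Submodule.restrictScalars_mem B, ← KaehlerDifferential.submodule_span_range_eq_ideal] at hy
  refine Submodule.span_induction ?_ ?_ ?_ ?_ hy
  · rintro _ ⟨b, rfl⟩
    obtain ⟨c, hc⟩ := diagGen_decomp z hz b
    exact ⟨fun i => c i ⊗ₜ[A] (1 : B), hc⟩
  · exact ⟨0, by simp⟩
  · rintro x y - - ⟨v, hv⟩ ⟨w, hw⟩
    refine ⟨v + w, ?_⟩
    have : x + y - ∑ i, (v + w) i * diagGen (z i) =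
        (x - ∑ i, v i * diagGen (z i)) + (y - ∑ i, w i * diagGen (z i)) := by
      simp only [Pi.add_apply, add_mul, Finset.sum_add_distrib]; abel
    rw [this]; exact Ideal.add_mem _ hv hw
  · rintro r x - ⟨v, hv⟩
    refine ⟨fun i => (r ⊗ₜ[A] (1 : B)) * v i, ?_⟩
    have : r • x - ∑ i, (r ⊗ₜ[A] (1 : B)) * v i * diagGen (z i) =
        (r ⊗ₜ[A] (1 : B)) * (x - ∑ i, v i * diagGen (z i)) := by
      rw [mul_sub, Finset.mul_sum, Algebra.smul_def]
      simp only [mul_assoc]
      rfl
    rw [this]; exact Ideal.mul_mem_left _ _ hv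

/-- Order reduction: an operator of order `≤ k + 1` all of whose commutators with the `z i` have
order `≤ n`, where `n + 1 ≤ k`, has order `≤ k`. -/
theorem isDiffOpLE_of_commutators (z : ι → B)
    (hz : Submodule.span B (Set.range fun i => KaehlerDifferential.D A B (z i)) = ⊤)
    (n k : ℕ) (hk : n + 1 ≤ k) (E : B →ₗ[A] N) (hE : IsDiffOpLE A B B N (k + 1) E)
    (hc : ∀ i, IsDiffOpLE A B B N n (commutator A B B N E (z i))) :
    IsDiffOpLE A B B N k E := by
  rw [isDiffOpLE_iff_linearize]
  intro x hx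
  rw [pow_succ] at hx
  refine Submodule.mul_induction_on hx ?_ ?_
  · intro u hu y hy
    obtain ⟨v, hv⟩ := ideal_decomp z hz y hy
    have h1 : u * y = ∑ i, (u * v i) * diagGen (z i) + u * (y - ∑ i, v i * diagGen (z i)) := by
      rw [mul_sub, Finset.mul_sum]
      simp only [mul_assoc]
      abel
    rw [h1, map_add, map_sum]
    have h2 : linearize A B B N E (u * (y - ∑ i, v i * diagGen (z i))) = 0 := by
      apply (isDiffOpLE_iff_linearize (k + 1) E).mp hE
      have : (KaehlerDifferential.ideal A B) ^ (k + 1 + 1) =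
          (KaehlerDifferential.ideal A B) ^ k * (KaehlerDifferential.ideal A B) ^ 2 := by
        rw [← pow_add]
      rw [this]
      exact Ideal.mul_mem_mul hu hv
    rw [h2, add_zero]
    refine Finset.sum_eq_zero fun i _ => ?_
    rw [linearize_mul_diagGen]
    apply (isDiffOpLE_iff_linearize n _).mp (hc i)
    exact Ideal.pow_le_pow_right hk (Ideal.mul_mem_right _ _ hu)
  · intro x y hx hy
    rw [map_add, hx, hy, add_zero]

/-- monomials in the `z i` -/
noncomputable def mon (z : ι → B) (q : ι → ℕ) : B := ∏ i, z i ^ q i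

/-- products of binomial coefficients -/
def coef (q p : ι → ℕ) : ℕ := ∏ i, (q i).choose (p i)

/-- monomials in the `diagGen (z i)` -/
noncomputable def zetaPow (z : ι → B) (s : ι → ℕ) : B ⊗[A] B := ∏ i, (diagGen (z i) : B ⊗[A] B) ^ s i

theorem zetaPow_mem (z : ι → B) (s : ι → ℕ) :
    (zetaPow z s : B ⊗[A] B) ∈ (KaehlerDifferential.ideal A B) ^ (∑ i, s i) := by
  unfold zetaPow
  rw [← Finset.prod_pow_eq_pow_sum]
  exact Ideal.prod_mem_prod fun i _ => Ideal.pow_mem_pow (diagGen_mem (z i)) _

theorem one_tmul_mon (z : ι → B) (q : ι → ℕ) :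
    (1 : B) ⊗ₜ[A] mon z q =
      ∑ s ∈ Fintype.piFinset (fun i => Finset.range (q i + 1)),
        (((coef q s : ℕ) : B) * mon z (fun i => q i - s i)) • (zetaPow z s : B ⊗[A] B) := by
  have h1 : (1 : B) ⊗ₜ[A] mon z q = ∏ i, ((diagGen (z i) : B ⊗[A] B) + z i ⊗ₜ[A] (1 : B)) ^ q i := by
    have : (1 : B) ⊗ₜ[A] mon z q = Algebra.TensorProduct.includeRight (R := A) (A := B) (mon z q) := rfl
    rw [this, mon, map_prod]
    refine Finset.prod_congr rfl fun i _ => ?_
    rw [map_pow]
    congr 1
    simp [diagGen]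
  rw [h1]
  simp only [add_pow]
  rw [Finset.prod_univ_sum]
  refine Finset.sum_congr rfl fun s _ => ?_
  rw [Finset.prod_mul_distrib, Finset.prod_mul_distrib, Algebra.smul_def]
  have h2 : ∏ i, (z i ⊗ₜ[A] (1 : B) : B ⊗[A] B) ^ (q i - s i) =
      (mon z (fun i => q i - s i)) ⊗ₜ[A] (1 : B) := by
    have : (mon z (fun i => q i - s i)) ⊗ₜ[A] (1 : B) =
      Algebra.TensorProduct.includeLeft (R := A) (S := A) (A := B) (B := B) (mon z (fun i => q i - s i)) := rfl
    rw [this, mon, map_prod]
    refine Finset.prod_congr rfl fun i _ => ?_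
    rw [map_pow]
    rfl
  have h3 : ∏ i, (((q i).choose (s i) : ℕ) : B ⊗[A] B) = ((coef q s : ℕ) : B ⊗[A] B) := by
    rw [coef, Nat.cast_prod]
  rw [h2, h3]
  have h4 : algebraMap B (B ⊗[A] B) (((coef q s : ℕ) : B) * mon z (fun i => q i - s i)) =
      ((coef q s : ℕ) : B ⊗[A] B) * (mon z (fun i => q i - s i)) ⊗ₜ[A] (1 : B) := by
    rw [map_mul, map_natCast]
    rfl
  rw [h4, zetaPow]
  ring

/-- Taylor's formula. -/
theorem apply_mon (z : ι → B) (D : B →ₗ[A] N) (q : ι → ℕ) :
    D (mon z q) = ∑ s ∈ Fintype.piFinset (fun i => Finset.range (q i + 1)),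
      (((coef q s : ℕ) : B) * mon z (fun i => q i - s i)) • linearize A B B N D (zetaPow z s) := by
  have h1 : D (mon z q) = linearize A B B N D ((1 : B) ⊗ₜ[A] mon z q) := by
    rw [linearize_tmul, one_smul]
  rw [h1, one_tmul_mon, map_sum]
  refine Finset.sum_congr rfl fun s _ => ?_
  rw [linearize_smul]

theorem single_id (x : B) (a b : ℕ) :
    (((a + 1).choose b : ℕ) : B) * x ^ (a + 1 - b) - x * (((a.choose b : ℕ) : B) * x ^ (a - b)) =
      if b = 0 then 0 else ((a.choose (b - 1) : ℕ) : B) * x ^ (a - (b - 1)) := by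
  cases b with
  | zero => simp [pow_succ]; ring
  | succ t =>
    rw [if_neg (Nat.succ_ne_zero t), Nat.add_sub_cancel, Nat.choose_succ_succ, Nat.cast_add,
      Nat.add_sub_add_right]
    by_cases ht : t + 1 ≤ a
    · have h1 : a - t = (a - (t + 1)) + 1 := by omega
      rw [h1, pow_succ]
      ring
    · have h1 : a.choose (t + 1) = 0 := Nat.choose_eq_zero_of_lt (by omega)
      rw [h1, Nat.cast_zero]
      ring

theorem prod_update {M : Type*} [CommMonoid M] (f : ι → ℕ → M) (q : ι → ℕ) (i : ι) (v : ℕ) :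
    ∏ j, f j (Function.update q i v j) = f i v * ∏ j ∈ Finset.univ.erase i, f j (q j) := by
  rw [← Finset.mul_prod_erase _ _ (Finset.mem_univ i), Function.update_self]
  congr 1
  refine Finset.prod_congr rfl fun j hj => ?_
  rw [Function.update_of_ne (Finset.ne_of_mem_erase hj)]

theorem prod_split {M : Type*} [CommMonoid M] (f : ι → M) (i : ι) :
    ∏ j, f j = f i * ∏ j ∈ Finset.univ.erase i, f j :=
  (Finset.mul_prod_erase _ _ (Finset.mem_univ i)).symm

section family

variable (z : ι → B) (Dp : (ι → ℕ) → (B →ₗ[A] B))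
  (hDz : ∀ p q : ι → ℕ, Dp p (∏ i, z i ^ q i) =
    ((∏ i, Nat.choose (q i) (p i) : ℕ) : B) * ∏ i, z i ^ (q i - p i))

include hDz in
theorem commutator_mon (i : ι) (p q : ι → ℕ) :
    commutator A B B B (Dp p) (z i) (mon z q) =
      if p i = 0 then 0 else Dp (Function.update p i (p i - 1)) (mon z q) := by
  rw [commutator_apply]
  have hq : z i • mon z q = mon z (Function.update q i (q i + 1)) := by
    rw [mon, mon, prod_update (fun j n => z j ^ n) q i (q i + 1), prod_split (fun j => z j ^ q j) i,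
      smul_eq_mul, pow_succ]
    ring
  rw [hq, mon, mon, hDz p, hDz p]
  rw [prod_update (fun j n => n.choose (p j)) q i (q i + 1),
    prod_update (fun j n => z j ^ (n - p j)) q i (q i + 1),
    prod_split (fun j => (q j).choose (p j)) i, prod_split (fun j => z j ^ (q j - p j)) i]
  have key := single_id (z i) (q i) (p i)
  by_cases hp : p i = 0
  · rw [if_pos hp] at key ⊢
    push_cast
    rw [smul_eq_mul]
    linear_combination (∏ j ∈ Finset.univ.erase i, (((q j).choose (p j) : ℕ) : B)) *
      (∏ j ∈ Finset.univ.erase i, z j ^ (q j - p j)) * key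
  · rw [if_neg hp] at key ⊢
    rw [hDz]
    have h1 : ∏ j, (q j).choose (Function.update p i (p i - 1) j) =
        (q i).choose (p i - 1) * ∏ j ∈ Finset.univ.erase i, (q j).choose (p j) :=
      prod_update (fun j n => (q j).choose n) p i (p i - 1)
    have h2 : ∏ j, z j ^ (q j - Function.update p i (p i - 1) j) =
        z i ^ (q i - (p i - 1)) * ∏ j ∈ Finset.univ.erase i, z j ^ (q j - p j) :=
      prod_update (fun j n => z j ^ (q j - n)) p i (p i - 1)
    rw [h1, h2]
    push_cast
    rw [smul_eq_mul]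
    linear_combination (∏ j ∈ Finset.univ.erase i, (((q j).choose (p j) : ℕ) : B)) *
      (∏ j ∈ Finset.univ.erase i, z j ^ (q j - p j)) * key

variable (hz : Submodule.span B (Set.range fun i => KaehlerDifferential.D A B (z i)) = ⊤)
  (hD : ∀ p, ∃ k : ℕ, IsDiffOpLE A B B B k (Dp p))

include hz hD hDz in
theorem commutator_eq (i : ι) (p : ι → ℕ) :
    commutator A B B B (Dp p) (z i) =
      if p i = 0 then 0 else Dp (Function.update p i (p i - 1)) := by
  rw [← sub_eq_zero]
  obtain ⟨k, hk⟩ := hD p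
  have hk1 : IsDiffOpLE A B B B k (commutator A B B B (Dp p) (z i)) :=
    (isDiffOpLE_succ_iff k (Dp p)).mp (isDiffOpLE_mono (Nat.le_succ k) _ hk) (z i)
  have h2 : ∃ k', IsDiffOpLE A B B B k'
      (if p i = 0 then (0 : B →ₗ[A] B) else Dp (Function.update p i (p i - 1))) := by
    split_ifs
    · exact ⟨0, isDiffOpLE_zero_map 0⟩
    · exact hD _
  obtain ⟨k', hk'⟩ := h2
  refine eq_zero_of_isDiffOpLE_of_monomials z hz (max k k') _
    (isDiffOpLE_sub _ _ _ (isDiffOpLE_mono (le_max_left k k') _ hk1)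
      (isDiffOpLE_mono (le_max_right k k') _ hk')) (fun q => ?_)
  rw [LinearMap.sub_apply, sub_eq_zero]
  have h3 := commutator_mon z Dp hDz i p q
  rw [mon] at h3
  rw [h3]
  split_ifs <;> rfl

include hz hD hDz in
theorem dp_zero : Dp 0 = LinearMap.id := by
  rw [← sub_eq_zero]
  obtain ⟨k, hk⟩ := hD 0
  have hid : IsDiffOpLE A B B B 0 (LinearMap.id : B →ₗ[A] B) := by
    rw [isDiffOpLE_zero_iff]
    intro b m
    rfl
  refine eq_zero_of_isDiffOpLE_of_monomials z hz k _
    (isDiffOpLE_sub _ _ _ hk (isDiffOpLE_mono (Nat.zero_le k) _ hid)) (fun q => ?_)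
  rw [LinearMap.sub_apply, sub_eq_zero, hDz]
  simp

theorem sum_update (p : ι → ℕ) (i : ι) (v : ℕ) :
    ∑ j, Function.update p i v j + p i = v + ∑ j, p j := by
  rw [← Finset.add_sum_erase _ _ (Finset.mem_univ i), ← Finset.add_sum_erase _ p (Finset.mem_univ i),
    Function.update_self]
  have : ∑ j ∈ Finset.univ.erase i, Function.update p i v j = ∑ j ∈ Finset.univ.erase i, p j :=
    Finset.sum_congr rfl fun j hj => by rw [Function.update_of_ne (Finset.ne_of_mem_erase hj)]
  rw [this]
  ring

include hz hD hDz in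
theorem isDiffOpLE_dp : ∀ (n : ℕ) (p : ι → ℕ), ∑ i, p i = n → IsDiffOpLE A B B B n (Dp p) := by
  intro n
  induction n with
  | zero =>
    intro p hp
    have hp0 : p = 0 := by
      funext i
      exact (Finset.sum_eq_zero_iff.mp hp) i (Finset.mem_univ i)
    rw [hp0, dp_zero z Dp hDz hz hD, isDiffOpLE_zero_iff]
    intro b m
    rfl
  | succ n ih =>
    intro p hp
    have hc : ∀ i, IsDiffOpLE A B B B n (commutator A B B B (Dp p) (z i)) := by
      intro i
      rw [commutator_eq z Dp hDz hz hD i p]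
      split_ifs with h0
      · exact isDiffOpLE_zero_map n
      · apply ih
        have := sum_update p i (p i - 1)
        omega
    have hdesc : ∀ d : ℕ, IsDiffOpLE A B B B (n + 1 + d) (Dp p) → IsDiffOpLE A B B B (n + 1) (Dp p) := by
      intro d
      induction d with
      | zero => exact id
      | succ d ihd =>
        intro h
        exact ihd (isDiffOpLE_of_commutators z hz n (n + 1 + d) (by omega) (Dp p) h hc)
    obtain ⟨k, hk⟩ := hD p
    by_cases hkn : k ≤ n + 1
    · exact isDiffOpLE_mono hkn _ hk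
    · apply hdesc (k - (n + 1))
      have : n + 1 + (k - (n + 1)) = k := by omega
      rw [this]
      exact hk

theorem isDiffOpLE_smul' (n : ℕ) (c : B) (D : B →ₗ[A] B) (h : IsDiffOpLE A B B B n D) :
    IsDiffOpLE A B B B n (c • D) := by
  have h1 : c • D = (mulOp (A := A) (M := B) c).comp D := by
    ext x
    rfl
  rw [h1]
  have := isDiffOpLE_comp n 0 D (mulOp (A := A) (M := B) c) h (isDiffOpLE_mulOp c)
  rwa [add_zero] at this

theorem isDiffOpLE_sum' {κ : Type*} (n : ℕ) (s : Finset κ) (f : κ → (B →ₗ[A] B))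
    (h : ∀ x ∈ s, IsDiffOpLE A B B B n (f x)) : IsDiffOpLE A B B B n (∑ x ∈ s, f x) := by
  classical
  induction s using Finset.induction_on with
  | empty => rw [Finset.sum_empty]; exact isDiffOpLE_zero_map n
  | insert a s ha ih =>
    rw [Finset.sum_insert ha]
    exact isDiffOpLE_add n _ _ (h a (Finset.mem_insert_self a s))
      (ih fun x hx => h x (Finset.mem_insert_of_mem hx))

/-- the finite set of multi-indices of degree `≤ m` -/
def degLE (ι : Type) [Fintype ι] [DecidableEq ι] (m : ℕ) : Finset (ι → ℕ) :=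
  (Fintype.piFinset (fun _ : ι => Finset.range (m + 1))).filter (fun p => ∑ i, p i ≤ m)

theorem mem_degLE (m : ℕ) (p : ι → ℕ) : p ∈ degLE ι m ↔ ∑ i, p i ≤ m := by
  rw [degLE, Finset.mem_filter, Fintype.mem_piFinset]
  refine ⟨fun h => h.2, fun h => ⟨fun i => ?_, h⟩⟩
  rw [Finset.mem_range]
  have : p i ≤ ∑ j, p j := Finset.single_le_sum (fun _ _ => Nat.zero_le _) (Finset.mem_univ i)
  omega

theorem coef_eq_zero (q p : ι → ℕ) (h : ¬ ∀ i, p i ≤ q i) : coef q p = 0 := by
  push_neg at h
  obtain ⟨i, hi⟩ := h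
  exact Finset.prod_eq_zero (Finset.mem_univ i) (Nat.choose_eq_zero_of_lt hi)

include hz hD hDz in
theorem eq_sum_dp (m : ℕ) [Fintype {p : ι → ℕ // ∑ i, p i ≤ m}] (D : B →ₗ[A] B)
    (hDm : IsDiffOpLE A B B B m D) :
    D = ∑ p : {p : ι → ℕ // ∑ i, p i ≤ m}, linearize A B B B D (zetaPow z p.1) • Dp p.1 := by
  rw [← sub_eq_zero]
  have hord : IsDiffOpLE A B B B m
      (∑ p : {p : ι → ℕ // ∑ i, p i ≤ m}, linearize A B B B D (zetaPow z p.1) • Dp p.1) := by
    refine isDiffOpLE_sum' m _ _ fun p _ => isDiffOpLE_smul' m _ _ ?_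
    exact isDiffOpLE_mono p.2 _ (isDiffOpLE_dp z Dp hDz hz hD _ p.1 rfl)
  refine eq_zero_of_isDiffOpLE_of_monomials z hz m _ (isDiffOpLE_sub _ _ _ hDm hord) (fun q => ?_)
  rw [LinearMap.sub_apply, sub_eq_zero, LinearMap.sum_apply]
  have h1 := apply_mon z D q
  rw [mon] at h1
  rw [h1]
  -- rewrite the right-hand side as a sum over `degLE`
  have h2 : ∑ p : {p : ι → ℕ // ∑ i, p i ≤ m},
      (linearize A B B B D (zetaPow z p.1) • Dp p.1) (∏ i, z i ^ q i) =
      ∑ p ∈ degLE ι m, (((coef q p : ℕ) : B) * mon z (fun i => q i - p i)) •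
        linearize A B B B D (zetaPow z p) := by
    rw [Finset.sum_subtype (degLE ι m) (mem_degLE m)
      (fun p => (((coef q p : ℕ) : B) * mon z (fun i => q i - p i)) •
        linearize A B B B D (zetaPow z p))]
    refine Finset.sum_congr rfl fun p _ => ?_
    rw [LinearMap.smul_apply, hDz, smul_eq_mul, smul_eq_mul, coef, mon]
    ring
  rw [h2]
  -- compare both with the sum over the intersection
  rw [← Finset.sum_filter_of_ne (s := Fintype.piFinset (fun i => Finset.range (q i + 1)))
      (p := fun s => s ∈ degLE ι m),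
    ← Finset.sum_filter_of_ne (s := degLE ι m)
      (p := fun s => s ∈ Fintype.piFinset (fun i => Finset.range (q i + 1)))]
  · refine Finset.sum_congr ?_ fun _ _ => rfl
    ext s
    simp only [Finset.mem_filter]
    tauto
  · intro p _ hne
    by_contra hcon
    apply hne
    have : ¬ ∀ i, p i ≤ q i := by
      intro h
      apply hcon
      rw [Fintype.mem_piFinset]
      intro i
      rw [Finset.mem_range]
      have := h i
      omega
    rw [coef_eq_zero q p this, Nat.cast_zero, zero_mul, zero_smul]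
  · intro s _ hne
    by_contra hcon
    apply hne
    rw [mem_degLE, not_le] at hcon
    have h3 : linearize A B B B D (zetaPow z s) = 0 := by
      apply (isDiffOpLE_iff_linearize m D).mp hDm
      exact Ideal.pow_le_pow_right hcon (zetaPow_mem z s)
    rw [h3, smul_zero]

include hDz in
theorem coeff_eq_zero_of_sum_eq_zero (m : ℕ) [Fintype {p : ι → ℕ // ∑ i, p i ≤ m}]
    (c : {p : ι → ℕ // ∑ i, p i ≤ m} → B)
    (h : ∑ p : {p : ι → ℕ // ∑ i, p i ≤ m}, c p • Dp p.1 = 0) : ∀ p, c p = 0 := by
  have key : ∀ n : ℕ, ∀ p : {p : ι → ℕ // ∑ i, p i ≤ m}, ∑ i, p.1 i = n → c p = 0 := by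
    intro n
    induction n using Nat.strong_induction_on with
    | _ n ih =>
      intro p₀ hp₀
      have h1 := LinearMap.congr_fun h (∏ i, z i ^ p₀.1 i)
      rw [LinearMap.sum_apply, LinearMap.zero_apply] at h1
      rw [Finset.sum_eq_single p₀] at h1
      · rw [LinearMap.smul_apply, hDz, smul_eq_mul] at h1
        have h2 : ((∏ i, (p₀.1 i).choose (p₀.1 i) : ℕ) : B) = 1 := by
          simp
        have h3 : ∏ i, z i ^ (p₀.1 i - p₀.1 i) = 1 := by simp
        rw [h2, h3, mul_one, mul_one] at h1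
        exact h1
      · intro p _ hne
        rw [LinearMap.smul_apply, hDz]
        by_cases hle : ∀ i, p.1 i ≤ p₀.1 i
        · have hlt : ∑ i, p.1 i < ∑ i, p₀.1 i := by
            apply Finset.sum_lt_sum (fun i _ => hle i)
            by_contra hcon
            push_neg at hcon
            apply hne
            apply Subtype.ext
            funext i
            exact le_antisymm (hle i) (hcon i (Finset.mem_univ i))
          rw [ih _ (hp₀ ▸ hlt) p rfl, zero_smul]
        · have := coef_eq_zero p₀.1 p.1 hle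
          rw [coef] at this
          rw [this, Nat.cast_zero, zero_mul, smul_zero]
      · intro hcon
        exact absurd (Finset.mem_univ p₀) hcon
  intro p
  exact key _ p rfl

end family

end

end Groth.Agent.H14
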