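import Groth.Agent.H14.DiffOpLin
import Mathlib.RingTheory.Etale.Basic
import Mathlib.RingTheory.Unramified.Basic

set_option autoImplicit false

namespace Groth.Agent.H14

universe u v

open Diff16
open scoped TensorProduct

section CongrBase

variable {A A₂ B : Type u} [CommRing A] [CommRing A₂] [CommRing B] [Algebra A B] [Algebra A₂ B]
variable {M N : Type v} [AddCommGroup M] [Module A M] [Module A₂ M] [Module B M]
  [IsScalarTower A B M] [IsScalarTower A₂ B M]
  [AddCommGroup N] [Module A N] [Module A₂ N] [Module B N] [IsScalarTower A B N]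
  [IsScalarTower A₂ B N]

/-- Being a differential operator does not depend on the base ring of linearity. -/
theorem isDiffOpLE_congr_base (n : ℕ) (D : M →ₗ[A] N) (D₂ : M →ₗ[A₂] N) (h : ∀ m, D m = D₂ m) :
    IsDiffOpLE A B M N n D ↔ IsDiffOpLE A₂ B M N n D₂ := by
  induction n generalizing D D₂ with
  | zero => simp only [isDiffOpLE_zero_iff, h]
  | succ n ih =>
    rw [isDiffOpLE_succ_iff, isDiffOpLE_succ_iff]
    refine forall_congr' fun b => ih _ _ ?_
    intro m; simp only [commutator_apply, h]

end CongrBase

section Tower

variable {A B B' : Type u} [CommRing A] [CommRing B] [CommRing B'] [Algebra A B] [Algebra A B']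
  [Algebra B B']
variable {M N : Type v} [AddCommGroup M] [Module A M] [Module B M] [Module B' M]
  [IsScalarTower A B M] [IsScalarTower A B' M] [IsScalarTower B B' M]
  [AddCommGroup N] [Module A N] [Module B N] [Module B' N]
  [IsScalarTower A B N] [IsScalarTower A B' N] [IsScalarTower B B' N]

/-- A differential operator relative to `A → B'` is one relative to `A → B`. -/
theorem isDiffOpLE_of_tower (n : ℕ) (D : M →ₗ[A] N) (h : IsDiffOpLE A B' M N n D) :
    IsDiffOpLE A B M N n D := by
  induction n generalizing D with
  | zero =>
    rw [isDiffOpLE_zero_iff] at *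
    intro b m
    rw [← algebraMap_smul B' b m, h, algebraMap_smul]
  | succ n ih =>
    rw [isDiffOpLE_succ_iff] at *
    intro b
    have : commutator A B M N D b = commutator A B' M N D (algebraMap B B' b) := by
      ext m; simp only [commutator_apply, algebraMap_smul]
    rw [this]; exact ih _ (h _)

end Tower

section Unram

variable {A B : Type u} [CommRing A] [CommRing B] [Algebra A B] [Algebra.FormallyUnramified A B]
variable {N : Type u} [AddCommGroup N] [Module A N] [Module B N] [IsScalarTower A B N]

/-- Over a formally unramified algebra every differential operator out of the algebra is linear. -/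
theorem isDiffOpLE_zero_of_formallyUnramified (n : ℕ) (D : B →ₗ[A] N)
    (h : IsDiffOpLE A B B N n D) : IsDiffOpLE A B B N 0 D := by
  rw [isDiffOpLE_iff_linearize] at h ⊢
  have hI : IsIdempotentElem (KaehlerDifferential.ideal A B) := by
    rw [← Ideal.cotangent_subsingleton_iff]
    exact (inferInstance : Subsingleton (Ω[B⁄A]))
  have : KaehlerDifferential.ideal A B ^ (n + 1) = KaehlerDifferential.ideal A B ^ (0 + 1) := by
    rw [zero_add, pow_one]; exact hI.pow_succ_eq n
  rwa [this] at h

end Unram

section Unique

variable {R S S' : Type u} [CommRing R] [CommRing S] [CommRing S'] [Algebra R S] [Algebra R S']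
  [Algebra S S'] [IsScalarTower R S S'] [Algebra.FormallyUnramified S S']
variable {M : Type u} [AddCommGroup M] [Module S M] [Module R M] [IsScalarTower R S M]
variable {N' : Type u} [AddCommGroup N'] [Module S' N'] [Module R N'] [IsScalarTower R S' N']
  [Module S N'] [IsScalarTower S S' N']

omit [Algebra.FormallyUnramified S S'] in
theorem algebraMap_smul_one_tmul (s : S) (m : M) :
    algebraMap S S' s • ((1 : S') ⊗ₜ[S] m) = (1 : S') ⊗ₜ[S] (s • m) := by
  rw [TensorProduct.smul_tmul', smul_eq_mul, mul_one, Algebra.algebraMap_eq_smul_one,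
    TensorProduct.smul_tmul]

omit [Module R M] [IsScalarTower R S M] in
/-- A differential operator on `S' ⊗[S] M` (with `S'` formally unramified over `S`) vanishing
on the elements `1 ⊗ m` is zero. -/
theorem eq_zero_of_forall_one_tmul (k : ℕ) (E : S' ⊗[S] M →ₗ[R] N')
    (hE : IsDiffOpLE R S' (S' ⊗[S] M) N' k E) (h0 : ∀ m : M, E ((1 : S') ⊗ₜ[S] m) = 0) :
    E = 0 := by
  induction k generalizing E with
  | zero =>
    rw [isDiffOpLE_zero_iff] at hE
    apply LinearMap.ext
    intro x
    induction x using TensorProduct.induction_on with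
    | zero => simp
    | tmul s' m =>
      have : s' ⊗ₜ[S] m = s' • ((1 : S') ⊗ₜ[S] m) := by
        rw [TensorProduct.smul_tmul', smul_eq_mul, mul_one]
      rw [this, hE, h0, smul_zero, LinearMap.zero_apply]
    | add x y hx hy => simp only [LinearMap.zero_apply] at hx hy ⊢; rw [map_add, hx, hy, add_zero]
  | succ k ih =>
    have hA : ∀ (s : S) (x : S' ⊗[S] M),
        E (algebraMap S S' s • x) = algebraMap S S' s • E x := by
      intro s x
      have h1 := ih (commutator R S' (S' ⊗[S] M) N' E (algebraMap S S' s))
        ((isDiffOpLE_succ_iff _ _).1 hE _) (by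
          intro m
          rw [commutator_apply, h0, smul_zero, sub_zero, algebraMap_smul_one_tmul, h0])
      have := LinearMap.congr_fun h1 x
      rw [commutator_apply, LinearMap.zero_apply] at this
      exact sub_eq_zero.mp this
    apply LinearMap.ext
    intro x
    induction x using TensorProduct.induction_on with
    | zero => simp
    | tmul s' m =>
      -- the map `s' ↦ E (s' ⊗ m)`
      let g : S' →ₗ[S'] S' ⊗[S] M := LinearMap.toSpanSingleton S' (S' ⊗[S] M) ((1 : S') ⊗ₜ[S] m)
      have hg : ∀ t : S', g t = t ⊗ₜ[S] m := by
        intro t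
        simp only [g, LinearMap.toSpanSingleton_apply, TensorProduct.smul_tmul', smul_eq_mul,
          mul_one]
      have h1 : IsDiffOpLE R S' S' N' (0 + (k + 1)) (E ∘ₗ g.restrictScalars R) := by
        apply isDiffOpLE_comp 0 (k + 1) _ _ _ hE
        rw [isDiffOpLE_zero_iff]
        intro b t
        exact g.map_smul b t
      let e : S' →ₗ[S] N' :=
        { toFun := fun t => E (t ⊗ₜ[S] m)
          map_add' := fun a b => by rw [TensorProduct.add_tmul, map_add]
          map_smul' := fun s t => by
            rw [RingHom.id_apply, ← algebraMap_smul S' s (E (t ⊗ₜ[S] m)), ← hA,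
              TensorProduct.smul_tmul', algebraMap_smul] }
      have h2 : IsDiffOpLE S S' S' N' (0 + (k + 1)) e := by
        rw [← isDiffOpLE_congr_base (0 + (k + 1)) (E ∘ₗ g.restrictScalars R) e]
        · exact h1
        · intro t
          simp only [LinearMap.comp_apply, LinearMap.restrictScalars_apply, hg]
          rfl
      have h3 := isDiffOpLE_zero_of_formallyUnramified _ e h2
      rw [isDiffOpLE_zero_iff] at h3
      have h4 := h3 s' 1
      rw [smul_eq_mul, mul_one] at h4
      change E (s' ⊗ₜ[S] m) = 0
      have h5 : e s' = E (s' ⊗ₜ[S] m) := rfl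
      have h6 : e 1 = E ((1 : S') ⊗ₜ[S] m) := rfl
      rw [← h5, h4, h6, h0, smul_zero]
    | add x y hx hy => simp only [LinearMap.zero_apply] at hx hy ⊢; rw [map_add, hx, hy, add_zero]

end Unique

end Groth.Agent.H14
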