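import Groth.Agent.H14.DiffOpEtale
import Mathlib.RingTheory.Smooth.Basic

set_option autoImplicit false

namespace Groth.Agent.H14

universe u

open Diff16
open scoped TensorProduct

/-- Abstract data for twisting: a ring `T` with a "left" map `lam : S' → T`, a "right" map
`ρ : S → T`, a Taylor map `τ : S' → T` extending `ρ`, and a family of additive maps
`Ψ m : T → N'`, left-`S'`-linear and right-balanced. -/
structure TwistData (R S S' T M N' : Type u) [CommRing R] [CommRing S] [CommRing S'] [CommRing T]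
    [Algebra R S] [Algebra R S'] [Algebra S S'] [AddCommGroup M] [Module S M]
    [AddCommGroup N'] [Module S' N'] where
  lam : S' →+* T
  ρ : S →+* T
  τ : S' →+* T
  Ψ : M →+ T →+ N'
  τ_algebraMap : ∀ s, τ (algebraMap S S' s) = ρ s
  ρ_algebraMap : ∀ r, ρ (algebraMap R S r) = lam (algebraMap R S' r)
  Ψ_lam : ∀ m s' t, Ψ m (lam s' * t) = s' • Ψ m t
  Ψ_ρ : ∀ m s t, Ψ m (t * ρ s) = Ψ (s • m) t

namespace TwistData

variable {R S S' T M N' : Type u} [CommRing R] [CommRing S] [CommRing S'] [CommRing T]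
  [Algebra R S] [Algebra R S'] [Algebra S S'] [IsScalarTower R S S']
  [AddCommGroup M] [Module S M]
  [AddCommGroup N'] [Module S' N'] [Module R N'] [IsScalarTower R S' N']
  (d : TwistData R S S' T M N')

/-- The biadditive map `(s', m) ↦ Ψ m (c * τ s')`. -/
noncomputable def opAux (c : T) : S' →+ M →+ N' :=
  ((AddMonoidHom.compHom' ((AddMonoidHom.mulLeft c).comp d.τ.toAddMonoidHom)).comp d.Ψ).flip

theorem opAux_apply (c : T) (s' : S') (m : M) : d.opAux c s' m = d.Ψ m (c * d.τ s') := rfl

theorem opAux_balanced (c : T) (s : S) (s' : S') (m : M) :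
    d.opAux c (s • s') m = d.opAux c s' (s • m) := by
  rw [opAux_apply, opAux_apply, Algebra.smul_def, map_mul d.τ, d.τ_algebraMap, ← d.Ψ_ρ]
  congr 1; ring

/-- The additive map `S' ⊗[S] M → N'`, `s' ⊗ m ↦ Ψ m (c * τ s')`. -/
noncomputable def opAdd (c : T) : S' ⊗[S] M →+ N' :=
  TensorProduct.liftAddHom (d.opAux c) (d.opAux_balanced c)

theorem opAdd_tmul (c : T) (s' : S') (m : M) :
    d.opAdd c (s' ⊗ₜ[S] m) = d.Ψ m (c * d.τ s') := by
  rw [opAdd, TensorProduct.liftAddHom_tmul, opAux_apply]

theorem opAdd_smul (c : T) (r : R) (x : S' ⊗[S] M) : d.opAdd c (r • x) = r • d.opAdd c x := by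
  induction x using TensorProduct.induction_on with
  | zero => simp
  | tmul s' m =>
    rw [TensorProduct.smul_tmul', opAdd_tmul, opAdd_tmul, Algebra.smul_def, map_mul d.τ,
      IsScalarTower.algebraMap_apply R S S', d.τ_algebraMap, d.ρ_algebraMap,
      ← algebraMap_smul S' r (d.Ψ m (c * d.τ s')), ← d.Ψ_lam]
    congr 1; ring
  | add x y hx hy => rw [smul_add, map_add, hx, hy, map_add, smul_add]

/-- The `R`-linear map `S' ⊗[S] M → N'`, `s' ⊗ m ↦ Ψ m (c * τ s')`. -/
noncomputable def op (c : T) : S' ⊗[S] M →ₗ[R] N' :=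
  { toFun := d.opAdd c
    map_add' := map_add _
    map_smul' := d.opAdd_smul c }

theorem op_tmul (c : T) (s' : S') (m : M) :
    d.op c (s' ⊗ₜ[S] m) = d.Ψ m (c * d.τ s') := d.opAdd_tmul c s' m

theorem commutator_op (c : T) (t : S') :
    commutator R S' (S' ⊗[S] M) N' (d.op c) t = d.op (c * (d.τ t - d.lam t)) := by
  apply LinearMap.ext
  intro x
  induction x using TensorProduct.induction_on with
  | zero => simp
  | tmul s' m =>
    rw [commutator_apply, TensorProduct.smul_tmul', op_tmul, op_tmul, op_tmul, ← d.Ψ_lam,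
      ← map_sub, smul_eq_mul, map_mul d.τ]
    congr 1; ring
  | add x y hx hy => rw [map_add, map_add, hx, hy]

theorem isDiffOpLE_op (K : Ideal T) (hK : ∀ t, d.τ t - d.lam t ∈ K) :
    ∀ (j : ℕ) (c : T), (∀ x ∈ K ^ (j + 1), c * x = 0) →
      IsDiffOpLE R S' (S' ⊗[S] M) N' j (d.op c) := by
  intro j
  induction j with
  | zero =>
    intro c hc
    rw [isDiffOpLE_zero_iff]
    intro b x
    have h0 : c * (d.τ b - d.lam b) = 0 := hc _ (by simpa using hK b)
    have h1 := d.commutator_op (R := R) c b
    rw [h0] at h1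
    have h2 : d.op (R := R) (0 : T) = 0 := by
      apply LinearMap.ext
      intro x
      induction x using TensorProduct.induction_on with
      | zero => simp
      | tmul s' m => rw [op_tmul, zero_mul, map_zero, LinearMap.zero_apply]
      | add x y hx hy => simp only [LinearMap.zero_apply] at hx hy ⊢; rw [map_add, hx, hy, add_zero]
    rw [h2] at h1
    have h3 := LinearMap.congr_fun h1 x
    rw [commutator_apply, LinearMap.zero_apply] at h3
    exact sub_eq_zero.mp h3
  | succ j ih =>
    intro c hc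
    rw [isDiffOpLE_succ_iff]
    intro b
    rw [commutator_op]
    apply ih
    intro x hx
    rw [mul_assoc]
    apply hc
    rw [pow_succ' K (j + 1)]
    exact Ideal.mul_mem_mul (hK b) hx

end TwistData

/-- Ring-hom form of the formally smooth lifting property. -/
theorem exists_ringHom_lift (S S' T : Type u) [CommRing S] [CommRing S'] [CommRing T]
    [Algebra S S'] [Algebra.FormallySmooth S S'] (ρ : S →+* T) (ε : T →+* S')
    (hε : Function.Surjective ε) (hρ : ∀ s, ε (ρ s) = algebraMap S S' s)
    (hnil : IsNilpotent (RingHom.ker ε)) :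
    ∃ τ : S' →+* T, (∀ s, τ (algebraMap S S' s) = ρ s) ∧ ∀ x, ε (τ x) = x := by
  letI : Algebra S T := ρ.toAlgebra
  let g : T →ₐ[S] S' := { ε with commutes' := hρ }
  have hg : Function.Surjective g := hε
  have hnil' : IsNilpotent (RingHom.ker (g : T →+* S')) := hnil
  refine ⟨(Algebra.FormallySmooth.liftOfSurjective (AlgHom.id S S') g hg hnil').toRingHom,
    fun s => ?_, fun x => ?_⟩
  · exact (Algebra.FormallySmooth.liftOfSurjective (AlgHom.id S S') g hg hnil').commutes s
  · exact Algebra.FormallySmooth.liftOfSurjective_apply (AlgHom.id S S') g hg hnil' x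

end Groth.Agent.H14
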