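import Groth.Agent.H14.DiffOpExtend
import Mathlib.LinearAlgebra.TensorProduct.RightExactness

set_option autoImplicit false

namespace Groth.Agent.H14

universe u

open Diff16
open scoped TensorProduct

section PP

variable (R S : Type u) [CommRing R] [CommRing S] [Algebra R S] (k : ℕ)

/-- The algebra of principal parts of order `k`. -/
abbrev PPk : Type u := (S ⊗[R] S) ⧸ (KaehlerDifferential.ideal R S) ^ (k + 1)

theorem lmul''_eq_zero_of_mem (a : S ⊗[R] S) (ha : a ∈ (KaehlerDifferential.ideal R S) ^ (k + 1)) :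
    Algebra.TensorProduct.lmul'' R a = 0 := by
  have h1 : a ∈ KaehlerDifferential.ideal R S := Ideal.pow_le_self (by omega) ha
  exact h1

/-- The augmentation `P^k → S`. -/
noncomputable def ppAug : PPk R S k →ₐ[S] S :=
  Ideal.Quotient.liftₐ _ (Algebra.TensorProduct.lmul'' R) (lmul''_eq_zero_of_mem R S k)

theorem ppAug_mk (x : S ⊗[R] S) :
    ppAug R S k (Ideal.Quotient.mk _ x) = Algebra.TensorProduct.lmul'' R x := rfl

theorem ppAug_surjective : Function.Surjective (ppAug R S k) := by
  intro s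
  refine ⟨Ideal.Quotient.mk _ (s ⊗ₜ 1), ?_⟩
  rw [ppAug_mk]
  simp [Algebra.TensorProduct.lmul'']

theorem ker_ppAug_pow : (RingHom.ker (ppAug R S k)) ^ (k + 1) = ⊥ := by
  have h1 : RingHom.ker (ppAug R S k) ≤
      (KaehlerDifferential.ideal R S).map (Ideal.Quotient.mk ((KaehlerDifferential.ideal R S) ^ (k + 1))) := by
    intro p hp
    obtain ⟨x, rfl⟩ := Ideal.Quotient.mk_surjective p
    rw [RingHom.mem_ker, ppAug_mk] at hp
    exact Ideal.mem_map_of_mem _ hp
  rw [eq_bot_iff]
  refine (Ideal.pow_right_mono h1 (k + 1)).trans ?_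
  rw [← Ideal.map_pow, Ideal.map_quotient_self]

end PP

section Concrete

variable {R S : Type u} [CommRing R] [CommRing S] [Algebra R S]
variable {M N : Type u} [AddCommGroup M] [Module S M] [Module R M] [IsScalarTower R S M]
  [AddCommGroup N] [Module S N] [Module R N] [IsScalarTower R S N]

/-- `c ↦ D (c • m)`. -/
noncomputable def opAt (D : M →ₗ[R] N) (m : M) : S →ₗ[R] N :=
  D ∘ₗ (LinearMap.toSpanSingleton S M m).restrictScalars R

theorem opAt_apply (D : M →ₗ[R] N) (m : M) (c : S) : opAt D m c = D (c • m) := rfl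

theorem isDiffOpLE_opAt {k : ℕ} {D : M →ₗ[R] N} (hD : IsDiffOpLE R S M N k D) (m : M) :
    IsDiffOpLE R S S N k (opAt D m) := by
  have h1 : IsDiffOpLE R S S M 0 ((LinearMap.toSpanSingleton S M m).restrictScalars R) := by
    rw [isDiffOpLE_zero_iff]; intro b c; simp [mul_smul]
  have := isDiffOpLE_comp 0 k _ D h1 hD
  rwa [zero_add] at this

/-- `b ⊗ c ↦ b • D (c • m)`, as an `S`-linear map for the left structure. -/
noncomputable def phi (D : M →ₗ[R] N) (m : M) : S ⊗[R] S →ₗ[S] N :=
  LinearMap.liftBaseChange S (opAt D m)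

theorem phi_tmul (D : M →ₗ[R] N) (m : M) (b c : S) :
    phi D m (b ⊗ₜ[R] c) = b • D (c • m) := by
  simp [phi, opAt_apply]

theorem phi_eq_linearize (D : M →ₗ[R] N) (m : M) (x : S ⊗[R] S) :
    phi D m x = linearize R S S N (opAt D m) x := by
  induction x using TensorProduct.induction_on with
  | zero => simp
  | tmul b c => rw [phi_tmul, linearize_tmul, opAt_apply]
  | add x y hx hy => rw [map_add, map_add, hx, hy]

theorem phi_vanish {k : ℕ} {D : M →ₗ[R] N} (hD : IsDiffOpLE R S M N k D) (m : M) (x : S ⊗[R] S)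
    (hx : x ∈ (KaehlerDifferential.ideal R S) ^ (k + 1)) : phi D m x = 0 := by
  rw [phi_eq_linearize]
  exact (isDiffOpLE_iff_linearize k _).1 (isDiffOpLE_opAt hD m) x hx

theorem phi_add (D : M →ₗ[R] N) (m m' : M) (x : S ⊗[R] S) :
    phi D (m + m') x = phi D m x + phi D m' x := by
  induction x using TensorProduct.induction_on with
  | zero => simp
  | tmul b c => simp only [phi_tmul, smul_add, map_add]
  | add x y hx hy => rw [map_add, map_add, map_add, hx, hy]; abel

theorem phi_mul_right (D : M →ₗ[R] N) (m : M) (s : S) (x : S ⊗[R] S) :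
    phi D m (x * ((1 : S) ⊗ₜ[R] s)) = phi D (s • m) x := by
  induction x using TensorProduct.induction_on with
  | zero => simp
  | tmul b c =>
    rw [Algebra.TensorProduct.tmul_mul_tmul, mul_one, phi_tmul, phi_tmul, mul_smul]
  | add x y hx hy => rw [add_mul, map_add, map_add, hx, hy]

/-- The `S`-linear map `P^k → N` induced by `D` and `m`. -/
noncomputable def psi {k : ℕ} {D : M →ₗ[R] N} (hD : IsDiffOpLE R S M N k D) (m : M) :
    PPk R S k →ₗ[S] N :=
  (Submodule.liftQ (((KaehlerDifferential.ideal R S) ^ (k + 1)).restrictScalars S) (phi D m)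
    (fun x hx => phi_vanish hD m x hx)) ∘ₗ
  (Submodule.Quotient.restrictScalarsEquiv S
    ((KaehlerDifferential.ideal R S) ^ (k + 1))).symm.toLinearMap

theorem psi_mk {k : ℕ} {D : M →ₗ[R] N} (hD : IsDiffOpLE R S M N k D) (m : M) (x : S ⊗[R] S) :
    psi hD m (Ideal.Quotient.mk _ x) = phi D m x := rfl

theorem psi_add {k : ℕ} {D : M →ₗ[R] N} (hD : IsDiffOpLE R S M N k D) (m m' : M) :
    psi hD (m + m') = psi hD m + psi hD m' := by
  apply LinearMap.ext
  intro p
  obtain ⟨x, rfl⟩ := Ideal.Quotient.mk_surjective p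
  rw [LinearMap.add_apply, psi_mk, psi_mk, psi_mk, phi_add]

theorem psi_mul_right {k : ℕ} {D : M →ₗ[R] N} (hD : IsDiffOpLE R S M N k D) (m : M) (s : S)
    (p : PPk R S k) :
    psi hD m (p * Ideal.Quotient.mk _ ((1 : S) ⊗ₜ[R] s)) = psi hD (s • m) p := by
  obtain ⟨x, rfl⟩ := Ideal.Quotient.mk_surjective p
  rw [← map_mul, psi_mk, psi_mk, phi_mul_right]

end Concrete

end Groth.Agent.H14
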