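import Groth.Agent.H14.DiffOpExtend2
set_option autoImplicit false
namespace Groth.Agent.H14
universe u
open Diff16
open scoped TensorProduct
section

variable (R S S' : Type u) [CommRing R] [CommRing S] [CommRing S'] [Algebra R S] [Algebra R S']
  [Algebra S S'] [IsScalarTower R S S'] (k : ℕ)

/-- The augmentation `S' ⊗[S] P^k → S'`. -/
noncomputable def tAug : S' ⊗[S] PPk R S k →ₐ[S] S' :=
  (Algebra.TensorProduct.rid S S S').toAlgHom.comp
    (Algebra.TensorProduct.map (AlgHom.id S S') (ppAug R S k))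

theorem tAug_tmul (s' : S') (p : PPk R S k) :
    tAug R S S' k (s' ⊗ₜ[S] p) = ppAug R S k p • s' := by
  simp [tAug]

theorem ker_tAug_pow : (RingHom.ker (tAug R S S' k)) ^ (k + 1) = ⊥ := by
  have h1 : RingHom.ker (tAug R S S' k) =
      RingHom.ker (Algebra.TensorProduct.map (AlgHom.id S S') (ppAug R S k)) := by
    ext x
    simp only [RingHom.mem_ker, tAug, AlgHom.comp_apply]
    constructor
    · intro h
      exact (Algebra.TensorProduct.rid S S S').injective (by rw [map_zero]; exact h)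
    · intro h
      rw [h, map_zero]
  rw [h1, Algebra.TensorProduct.lTensor_ker _ (ppAug_surjective R S k)]
  have h2 := Ideal.map_pow (Algebra.TensorProduct.includeRight :
    PPk R S k →ₐ[S] S' ⊗[S] PPk R S k) (RingHom.ker (ppAug R S k)) (k + 1)
  rw [ker_ppAug_pow, Ideal.map_bot] at h2
  exact h2.symm

/-- The right structure map `S → S' ⊗[S] P^k`. -/
noncomputable def tRight : S →+* S' ⊗[S] PPk R S k :=
  ((Algebra.TensorProduct.includeRight : PPk R S k →ₐ[S] S' ⊗[S] PPk R S k).toRingHom.comp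
    (Ideal.Quotient.mk _)).comp
    (Algebra.TensorProduct.includeRight : S →ₐ[R] S ⊗[R] S).toRingHom

theorem tRight_apply (s : S) :
    tRight R S S' k s = (1 : S') ⊗ₜ[S] (Ideal.Quotient.mk _ ((1 : S) ⊗ₜ[R] s) : PPk R S k) := rfl

theorem tAug_tRight (s : S) : tAug R S S' k (tRight R S S' k s) = algebraMap S S' s := by
  rw [tRight_apply, tAug_tmul, ppAug_mk]
  simp [Algebra.TensorProduct.lmul'', Algebra.algebraMap_eq_smul_one]

theorem tAug_algebraMap (s' : S') :
    tAug R S S' k (algebraMap S' (S' ⊗[S] PPk R S k) s') = s' := by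
  rw [Algebra.TensorProduct.algebraMap_apply, tAug_tmul]
  simp

theorem tRight_algebraMap (r : R) :
    tRight R S S' k (algebraMap R S r) =
      algebraMap S' (S' ⊗[S] PPk R S k) (algebraMap R S' r) := by
  rw [tRight_apply, Algebra.TensorProduct.algebraMap_apply]
  have h1 : ((1 : S) ⊗ₜ[R] (algebraMap R S r) : S ⊗[R] S) = (algebraMap R S r) ⊗ₜ[R] (1 : S) := by
    rw [Algebra.algebraMap_eq_smul_one, TensorProduct.smul_tmul]
  have h2 : (Ideal.Quotient.mk ((KaehlerDifferential.ideal R S) ^ (k + 1))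
      ((algebraMap R S r) ⊗ₜ[R] (1 : S)) : PPk R S k) = algebraMap R S r • 1 := by
    rw [← Algebra.algebraMap_eq_smul_one]
    rfl
  rw [h1, h2, ← TensorProduct.smul_tmul, ← Algebra.algebraMap_eq_smul_one,
    ← IsScalarTower.algebraMap_apply]
  rfl

end
section Main

variable {R S S' : Type u} [CommRing R] [CommRing S] [CommRing S'] [Algebra R S] [Algebra R S']
  [Algebra S S'] [IsScalarTower R S S']
variable {M N : Type u} [AddCommGroup M] [Module S M] [Module R M] [IsScalarTower R S M]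
  [AddCommGroup N] [Module S N] [Module R N] [IsScalarTower R S N]

/-- The family `Ψ`. -/
noncomputable def bigPsi {k : ℕ} {D : M →ₗ[R] N} (hD : IsDiffOpLE R S M N k D) :
    M →+ (S' ⊗[S] PPk R S k) →+ S' ⊗[S] N :=
  AddMonoidHom.mk' (fun m => ((psi hD m).baseChange S').toAddMonoidHom) (by
    intro a b
    apply AddMonoidHom.ext
    intro t
    simp only [psi_add, LinearMap.baseChange_add]
    rfl)

theorem bigPsi_apply {k : ℕ} {D : M →ₗ[R] N} (hD : IsDiffOpLE R S M N k D) (m : M)
    (t : S' ⊗[S] PPk R S k) :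
    bigPsi (S' := S') hD m t = (psi hD m).baseChange S' t := rfl

theorem bigPsi_right {k : ℕ} {D : M →ₗ[R] N} (hD : IsDiffOpLE R S M N k D) (m : M) (s : S)
    (t : S' ⊗[S] PPk R S k) :
    bigPsi (S' := S') hD m (t * tRight R S S' k s) = bigPsi (S' := S') hD (s • m) t := by
  induction t using TensorProduct.induction_on with
  | zero => simp
  | tmul s' p =>
    rw [tRight_apply, Algebra.TensorProduct.tmul_mul_tmul, mul_one, bigPsi_apply, bigPsi_apply,
      LinearMap.baseChange_tmul, LinearMap.baseChange_tmul, psi_mul_right]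
  | add x y hx hy => rw [add_mul, map_add, map_add, hx, hy]

/-- Existence of the extension, given an abstract augmentation `ε`. -/
theorem exists_extension_aux [Algebra.FormallySmooth S S'] {k : ℕ}
    {D : M →ₗ[R] N} (hD : IsDiffOpLE R S M N k D) (ε : S' ⊗[S] PPk R S k →+* S')
    (hlam : ∀ t : S', ε (algebraMap S' (S' ⊗[S] PPk R S k) t) = t)
    (hρ : ∀ s : S, ε (tRight R S S' k s) = algebraMap S S' s)
    (hker : (RingHom.ker ε) ^ (k + 1) = ⊥) :
    ∃ D' : S' ⊗[S] M →ₗ[R] S' ⊗[S] N,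
      IsDiffOpLE R S' (S' ⊗[S] M) (S' ⊗[S] N) k D' ∧
        ∀ m : M, D' ((1 : S') ⊗ₜ[S] m) = (1 : S') ⊗ₜ[S] D m := by
  have hnil : IsNilpotent (RingHom.ker ε) := ⟨k + 1, hker⟩
  have hsurj : Function.Surjective ε := fun s' => ⟨_, hlam s'⟩
  obtain ⟨τ, hτ1, hτ2⟩ := exists_ringHom_lift S S' (S' ⊗[S] PPk R S k) (tRight R S S' k)
    ε hsurj hρ hnil
  let d : TwistData R S S' (S' ⊗[S] PPk R S k) M (S' ⊗[S] N) :=
    { lam := algebraMap S' (S' ⊗[S] PPk R S k)
      ρ := tRight R S S' k
      τ := τ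
      Ψ := bigPsi hD
      τ_algebraMap := hτ1
      ρ_algebraMap := tRight_algebraMap R S S' k
      Ψ_lam := fun m s' t => by
        rw [bigPsi_apply, bigPsi_apply, ← Algebra.smul_def, map_smul]
      Ψ_ρ := fun m s t => bigPsi_right hD m s t }
  refine ⟨d.op 1, ?_, ?_⟩
  · apply d.isDiffOpLE_op (RingHom.ker ε)
    · intro t
      rw [RingHom.mem_ker, map_sub, hτ2]
      have h5 : ε (d.lam t) = t := hlam t
      rw [h5, sub_self]
    · intro x hx
      rw [hker, Ideal.mem_bot] at hx
      rw [hx, mul_zero]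
  · intro m
    rw [TwistData.op_tmul, one_mul, map_one]
    have h6 : d.Ψ m 1 = bigPsi (S' := S') hD m 1 := rfl
    rw [h6, bigPsi_apply, Algebra.TensorProduct.one_def, LinearMap.baseChange_tmul]
    have : (1 : PPk R S k) = Ideal.Quotient.mk _ ((1 : S) ⊗ₜ[R] (1 : S)) := rfl
    rw [this, psi_mk, phi_tmul, one_smul, one_smul]

/-- Existence of the extension of a differential operator along a formally smooth map. -/
theorem exists_extension_of_formallySmooth [Algebra.FormallySmooth S S'] {k : ℕ}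
    {D : M →ₗ[R] N} (hD : IsDiffOpLE R S M N k D) :
    ∃ D' : S' ⊗[S] M →ₗ[R] S' ⊗[S] N,
      IsDiffOpLE R S' (S' ⊗[S] M) (S' ⊗[S] N) k D' ∧
        ∀ m : M, D' ((1 : S') ⊗ₜ[S] m) = (1 : S') ⊗ₜ[S] D m :=
  exists_extension_aux hD (tAug R S S' k).toRingHom (tAug_algebraMap R S S' k)
    (tAug_tRight R S S' k) (ker_tAug_pow R S S' k)

end Main

end Groth.Agent.H14
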