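import Groth.Agent.S2469
import Groth.Agent.S4523

set_option autoImplicit false
universe u

namespace Groth.Agent.H14.SepField

open KaehlerDifferential

/-- For a finitely generated field extension `K/k` of transcendence degree `t`:
`dim Ω[K/k] ≥ t`, with equality iff `K/k` is separable. -/
theorem field_lemma (k K : Type u) [Field k] [Field K] [Algebra k K] [Algebra.EssFiniteType k K]
    (t : ℕ) (ht : Algebra.trdeg k K = t) :
    Module.Finite K Ω[K⁄k] ∧ t ≤ Module.finrank K Ω[K⁄k] ∧
      (Algebra.IsGeometricallyReduced k K ↔ Module.finrank K Ω[K⁄k] = t) := by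
  obtain ⟨h1, h2, h3⟩ := Groth.Agent.S2469.result (K := k) (L := K)
  rw [ht, Cardinal.toNat_natCast] at h3
  refine ⟨h1, by omega, ?_⟩
  rw [(Groth.Agent.S4523.result (k := k) (K := K)).1, ← Submodule.finrank_eq_zero]
  omega

/-- image of the low indices -/
theorem image_lt {α : Type*} (r t : ℕ) (g : Fin (r + t) → α) :
    g '' {i : Fin (r + t) | (i : ℕ) < r} = Set.range (fun j : Fin r => g (Fin.castAdd t j)) := by
  ext x
  constructor
  · rintro ⟨i, hi, rfl⟩
    exact ⟨⟨i, hi⟩, rfl⟩
  · rintro ⟨j, rfl⟩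
    exact ⟨Fin.castAdd t j, by simp, rfl⟩

/-- image of the high indices -/
theorem image_ge {α : Type*} (r t : ℕ) (g : Fin (r + t) → α) :
    g '' {i : Fin (r + t) | r ≤ (i : ℕ)} = Set.range (fun j : Fin t => g (Fin.natAdd r j)) := by
  ext x
  constructor
  · rintro ⟨i, hi, rfl⟩
    have hi' : r ≤ (i : ℕ) := hi
    refine ⟨⟨i - r, by omega⟩, ?_⟩
    show g (Fin.natAdd r ⟨i - r, _⟩) = g i
    congr 1
    apply Fin.ext
    simp
    omega
  · rintro ⟨j, rfl⟩
    exact ⟨Fin.natAdd r j, by simp, rfl⟩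

end Groth.Agent.H14.SepField
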