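import Mathlib
import Groth.Agent.H14.SepField
import Groth.Agent.H25.GeomRed

set_option autoImplicit false
set_option maxHeartbeats 400000
set_option linter.style.haveILetI false
set_option linter.unusedSectionVars false
set_option linter.unusedVariables false

/-! Field-level lemmas for descending solutions along purely inseparable extensions
(towards `EtAlg.separable_solution_of_solution`). -/

namespace Groth.Agent.H14.SepDesc1

universe u

open TensorProduct IntermediateField IsLocalRing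

/-- An algebraic element of a geometrically reduced field extension is separable. -/
theorem isSeparable_of_geomReduced {k l : Type u} [Field k] [Field l] [Algebra k l]
    [Algebra.IsGeometricallyReduced k l] (x : l) (hx : IsAlgebraic k x) : IsSeparable k x := by
  haveI : Algebra.IsGeometricallyReduced k k⟮x⟯ :=
    Algebra.IsGeometricallyReduced.of_injective (k⟮x⟯.val) Subtype.val_injective
  haveI : FiniteDimensional k k⟮x⟯ := adjoin.finiteDimensional hx.isIntegral
  haveI : Algebra.IsAlgebraic k k⟮x⟯ := Algebra.IsAlgebraic.of_finite k _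
  have ht : Algebra.trdeg k k⟮x⟯ = ((0 : ℕ) : Cardinal) := by
    rw [Nat.cast_zero]; exact trdeg_eq_zero
  obtain ⟨hfin, -, hiff⟩ := Groth.Agent.H14.SepField.field_lemma k k⟮x⟯ 0 ht
  have h0 : Module.finrank k⟮x⟯ Ω[k⟮x⟯⁄k] = 0 := hiff.mp inferInstance
  haveI := hfin
  haveI : Subsingleton Ω[k⟮x⟯⁄k] := Module.finrank_zero_iff.mp h0
  haveI : Algebra.FormallyUnramified k k⟮x⟯ := ⟨inferInstance⟩
  haveI : Algebra.IsSeparable k k⟮x⟯ := Algebra.FormallyUnramified.isSeparable k _
  exact (isSeparable_adjoin_simple_iff_isSeparable k l).mp inferInstance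

section F

variable {k₃ k₂ l₃ l₂ : Type u} [Field k₃] [Field k₂] [Field l₃] [Field l₂]
  [Algebra k₃ k₂] [Algebra k₃ l₃] [Algebra l₃ l₂] [Algebra k₂ l₂] [Algebra k₃ l₂]
  [IsScalarTower k₃ k₂ l₂] [IsScalarTower k₃ l₃ l₂]

variable (k₃ k₂ l₃ l₂) in
/-- The compositum map `l₃ ⊗ k₂ → l₂`. -/
noncomputable def tau : l₃ ⊗[k₃] k₂ →ₐ[l₃] l₂ :=
  Algebra.TensorProduct.productLeftAlgHom (Algebra.ofId l₃ l₂) (IsScalarTower.toAlgHom k₃ k₂ l₂)

theorem tau_tmul (a : l₃) (b : k₂) :
    tau k₃ k₂ l₃ l₂ (a ⊗ₜ b) = algebraMap l₃ l₂ a * algebraMap k₂ l₂ b := by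
  simp [tau, Algebra.ofId_apply]

/-- If `l₂/k₂` is separable algebraic and `l₂/l₃` is purely inseparable then `l₂ = l₃ k₂`. -/
theorem tau_surjective (p : ℕ) [ExpChar k₂ p] [Algebra.IsGeometricallyReduced k₂ l₂]
    [Algebra.IsAlgebraic k₂ l₂]
    (hpi : ∀ x : l₂, ∃ n : ℕ, x ^ p ^ n ∈ (algebraMap l₃ l₂).range) :
    Function.Surjective (tau k₃ k₂ l₃ l₂) := by
  intro x
  obtain ⟨n, y, hy⟩ := hpi x
  have hsep : IsSeparable k₂ x :=
    isSeparable_of_geomReduced x (Algebra.IsAlgebraic.isAlgebraic x)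
  have h1 : k₂⟮x⟯ = k₂⟮x ^ p ^ n⟯ :=
    adjoin_simple_eq_adjoin_pow_expChar_pow_of_isSeparable k₂ l₂ hsep p n
  have hx : x ∈ k₂⟮x ^ p ^ n⟯ := h1 ▸ mem_adjoin_simple_self k₂ x
  have halg : IsAlgebraic k₂ (x ^ p ^ n) := Algebra.IsAlgebraic.isAlgebraic _
  have hx' : x ∈ Algebra.adjoin k₂ {x ^ p ^ n} := by
    rw [← adjoin_simple_toSubalgebra_of_isAlgebraic halg]; exact hx
  let S' : Subalgebra k₂ l₂ :=
    { (tau k₃ k₂ l₃ l₂).range.toSubsemiring with
      algebraMap_mem' := fun c => ⟨1 ⊗ₜ c, by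
        show tau k₃ k₂ l₃ l₂ (1 ⊗ₜ c) = _
        rw [tau_tmul, map_one, one_mul]⟩ }
  have hle : Algebra.adjoin k₂ {x ^ p ^ n} ≤ S' := by
    rw [Algebra.adjoin_le_iff]
    intro z hz
    rw [Set.mem_singleton_iff] at hz
    subst hz
    exact ⟨y ⊗ₜ 1, by
      show tau k₃ k₂ l₃ l₂ (y ⊗ₜ 1) = _
      rw [tau_tmul, map_one, mul_one, hy]⟩
  obtain ⟨z, hz⟩ := hle hx'
  exact ⟨z, hz⟩

theorem finrank_le_of_tau_surjective [Module.Finite k₃ k₂]
    (hsurj : Function.Surjective (tau k₃ k₂ l₃ l₂)) :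
    Module.Finite l₃ l₂ ∧ Module.finrank l₃ l₂ ≤ Module.finrank k₃ k₂ := by
  haveI : Module.Finite l₃ (l₃ ⊗[k₃] k₂) := inferInstance
  have h1 : Module.finrank l₃ (l₃ ⊗[k₃] k₂) = Module.finrank k₃ k₂ := Module.finrank_baseChange
  refine ⟨Module.Finite.of_surjective (tau k₃ k₂ l₃ l₂).toLinearMap hsurj, ?_⟩
  rw [← h1]
  exact LinearMap.finrank_le_finrank_of_surjective (f := (tau k₃ k₂ l₃ l₂).toLinearMap) hsurj

/-- If moreover the degrees agree, `l₃/k₃` is geometrically reduced. -/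
theorem geomReduced_of_finrank_eq [Module.Finite k₃ k₂] [Algebra.IsGeometricallyReduced k₂ l₂]
    (hsurj : Function.Surjective (tau k₃ k₂ l₃ l₂))
    (heq : Module.finrank l₃ l₂ = Module.finrank k₃ k₂) :
    Algebra.IsGeometricallyReduced k₃ l₃ := by
  haveI : Module.Finite l₃ (l₃ ⊗[k₃] k₂) := inferInstance
  have h1 : Module.finrank l₃ (l₃ ⊗[k₃] k₂) = Module.finrank k₃ k₂ := Module.finrank_baseChange
  haveI : Module.Finite l₃ l₂ := (finrank_le_of_tau_surjective hsurj).1
  have hinj : Function.Injective (tau k₃ k₂ l₃ l₂) := by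
    have h2 : Function.Injective (tau k₃ k₂ l₃ l₂).toLinearMap :=
      (LinearMap.injective_iff_surjective_of_finrank_eq_finrank (h1.trans heq.symm)).mpr hsurj
    exact h2
  have hbij : Function.Bijective (tau k₃ k₂ l₃ l₂) := ⟨hinj, hsurj⟩
  rw [Algebra.isGeometricallyReduced_field_iff]
  let τ' : k₂ ⊗[k₃] l₃ →ₐ[k₂] l₂ :=
    Algebra.TensorProduct.productLeftAlgHom (Algebra.ofId k₂ l₂) (IsScalarTower.toAlgHom k₃ l₃ l₂)
  have hτ' : ∀ z, τ' z = tau k₃ k₂ l₃ l₂ (Algebra.TensorProduct.comm k₃ k₂ l₃ z) := by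
    intro z
    induction z using TensorProduct.induction_on with
    | zero => simp
    | tmul a b =>
      rw [Algebra.TensorProduct.comm_tmul, tau_tmul]
      simp [τ', Algebra.ofId_apply, mul_comm]
    | add x y hx hy => rw [map_add, map_add, map_add, hx, hy]
  have hτ'bij : Function.Bijective τ' := by
    have h3 : (τ' : k₂ ⊗[k₃] l₃ → l₂) =
        (tau k₃ k₂ l₃ l₂) ∘ (Algebra.TensorProduct.comm k₃ k₂ l₃) := funext hτ'
    rw [h3]
    exact hbij.comp (Algebra.TensorProduct.comm k₃ k₂ l₃).bijective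
  let e0 : k₂ ⊗[k₃] l₃ ≃ₐ[k₂] l₂ := AlgEquiv.ofBijective τ' hτ'bij
  haveI : IsReduced (AlgebraicClosure k₂ ⊗[k₂] l₂) := inferInstance
  let e1 : AlgebraicClosure k₂ ⊗[k₂] (k₂ ⊗[k₃] l₃) ≃ₐ[k₂] AlgebraicClosure k₂ ⊗[k₃] l₃ :=
    Algebra.TensorProduct.cancelBaseChange k₃ k₂ k₂ (AlgebraicClosure k₂) l₃
  let e2 : AlgebraicClosure k₂ ⊗[k₂] (k₂ ⊗[k₃] l₃) ≃ₐ[k₂] AlgebraicClosure k₂ ⊗[k₂] l₂ :=
    Algebra.TensorProduct.congr AlgEquiv.refl e0
  haveI : IsReduced (AlgebraicClosure k₂ ⊗[k₃] l₃) :=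
    isReduced_of_injective ((e2.toRingEquiv.toRingHom).comp e1.symm.toRingEquiv.toRingHom)
      (e2.injective.comp e1.symm.injective)
  exact isReduced_of_injective
    (Algebra.TensorProduct.map (IsAlgClosed.lift : AlgebraicClosure k₃ →ₐ[k₃] AlgebraicClosure k₂)
      (AlgHom.id k₃ l₃))
    (Module.Flat.rTensor_preserves_injective_linearMap _ (RingHom.injective _))

end F

section H

open Polynomial

/-- The residue field extension of an algebraic local extension of a DVR is algebraic. -/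
theorem residue_isAlgebraic {V W : Type u} [CommRing V] [IsDomain V] [IsDiscreteValuationRing V]
    [CommRing W] [IsDomain W] [IsLocalRing W] [Algebra V W] [IsLocalHom (algebraMap V W)]
    (hinj : Function.Injective (algebraMap V W)) [Algebra.IsAlgebraic V W] :
    Algebra.IsAlgebraic (ResidueField V) (ResidueField W) := by
  classical
  obtain ⟨t, ht⟩ := IsDiscreteValuationRing.exists_irreducible V
  have htW : algebraMap V W t ≠ 0 := fun h => ht.ne_zero (hinj (by rw [h, map_zero]))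
  have key : ∀ (k : ℕ) (w : W) (g : V[X]), g ≠ 0 → Associated g.leadingCoeff (t ^ k) →
      aeval w g = 0 → ∃ g' : V[X], (∃ i, IsUnit (g'.coeff i)) ∧ aeval w g' = 0 := by
    intro k
    induction k with
    | zero =>
      intro w g hg hass hw
      rw [pow_zero] at hass
      exact ⟨g, ⟨g.natDegree, (associated_one_iff_isUnit.mp hass)⟩, hw⟩
    | succ k ih =>
      intro w g hg hass hw
      by_cases hu : ∃ i, IsUnit (g.coeff i)
      · exact ⟨g, hu, hw⟩
      · push Not at hu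
        have hdvd : C t ∣ g := by
          rw [Polynomial.C_dvd_iff_dvd_coeff]
          intro i
          have hm : g.coeff i ∈ maximalIdeal V := (mem_maximalIdeal _).mpr (hu i)
          rw [ht.maximalIdeal_eq, Ideal.mem_span_singleton] at hm
          exact hm
        obtain ⟨g₁, rfl⟩ := hdvd
        have hg₁ : g₁ ≠ 0 := fun h => hg (by rw [h, mul_zero])
        have hlc : (C t * g₁).leadingCoeff = t * g₁.leadingCoeff := by
          rw [Polynomial.leadingCoeff_mul, Polynomial.leadingCoeff_C]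
        rw [hlc, pow_succ, mul_comm (t ^ k) t] at hass
        have hass' : Associated g₁.leadingCoeff (t ^ k) := by
          obtain ⟨u, hu'⟩ := hass
          refine ⟨u, mul_left_cancel₀ ht.ne_zero ?_⟩
          rw [← mul_assoc, hu']
        refine ih w g₁ hg₁ hass' ?_
        rw [map_mul, aeval_C] at hw
        rcases mul_eq_zero.mp hw with h | h
        · exact absurd h htW
        · exact h
  refine ⟨fun x => ?_⟩
  obtain ⟨w, rfl⟩ := residue_surjective x
  obtain ⟨g, hg, hw⟩ := Algebra.IsAlgebraic.isAlgebraic (R := V) w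
  have hlc0 : g.leadingCoeff ≠ 0 := Polynomial.leadingCoeff_ne_zero.mpr hg
  obtain ⟨k, hk⟩ := IsDiscreteValuationRing.associated_pow_irreducible hlc0 ht
  obtain ⟨g', ⟨i, hi⟩, hw'⟩ := key k w g hg hk hw
  refine ⟨g'.map (residue V), fun h => ?_, ?_⟩
  · have h1 : (g'.map (residue V)).coeff i = 0 := by rw [h, Polynomial.coeff_zero]
    rw [Polynomial.coeff_map] at h1
    exact ((residue_eq_zero_iff _).mp h1) |> fun hmem => ((mem_maximalIdeal _).mp hmem) hi
  · have h2 : aeval (residue W w) (g'.map (residue V)) = residue W (aeval w g') := by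
      rw [Polynomial.aeval_def, Polynomial.eval₂_map, Polynomial.aeval_def, Polynomial.hom_eval₂]
      rfl
    rw [h2, hw', map_zero]

end H

end Groth.Agent.H14.SepDesc1
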