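import Mathlib
import Groth.Agent.H14.SepDesc1
import Groth.Agent.H78.ValExt
import Groth.Agent.S7132

set_option autoImplicit false
set_option maxHeartbeats 1000000
set_option linter.style.haveILetI false
set_option linter.unusedSectionVars false
set_option linter.unusedVariables false
set_option linter.deprecated false

/-! DVR-level descent of "weakly unramified with separable residue extension" along a purely
inseparable square (towards `EtAlg.separable_solution_of_solution`). -/

namespace Groth.Agent.H14.SepDesc2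

universe u

open TensorProduct IsLocalRing Groth.Agent.H14.SepDesc1

section Ram

variable {R S : Type u} [CommRing R] [IsDomain R] [IsDiscreteValuationRing R]
  [CommRing S] [IsDomain S] [IsDiscreteValuationRing S] [Algebra R S]
  [IsLocalHom (algebraMap R S)]

theorem ramIdx_spec (hinj : Function.Injective (algebraMap R S)) :
    ∃ (π : R) (t : S) (u : Sˣ) (e : ℕ), Irreducible π ∧ Irreducible t ∧
      algebraMap R S π = u * t ^ e ∧
      Ideal.ramificationIdx' (maximalIdeal R) (maximalIdeal S) = e ∧ e ≠ 0 := by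
  obtain ⟨π, hπ⟩ := IsDiscreteValuationRing.exists_irreducible R
  obtain ⟨t, ht⟩ := IsDiscreteValuationRing.exists_irreducible S
  have hπ0 : algebraMap R S π ≠ 0 := fun h => hπ.ne_zero (hinj (by rw [h, map_zero]))
  obtain ⟨e, u0, hu0⟩ := IsDiscreteValuationRing.associated_pow_irreducible hπ0 ht
  have h : algebraMap R S π = ↑u0⁻¹ * t ^ e := by
    rw [← hu0, mul_comm (algebraMap R S π), ← mul_assoc, Units.inv_mul, one_mul]
  refine ⟨π, t, u0⁻¹, e, hπ, ht, h,
    Groth.Agent.H78.ValExt.ram_eq π hπ.maximalIdeal_eq t ht.maximalIdeal_eq ht.ne_zero u0⁻¹ e h, ?_⟩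
  rintro rfl
  rw [pow_zero, mul_one] at h
  exact hπ.not_isUnit (isUnit_of_map_unit (algebraMap R S) π (by rw [h]; exact (u0⁻¹).isUnit))

theorem ramIdx_ne_zero (hinj : Function.Injective (algebraMap R S)) :
    Ideal.ramificationIdx' (maximalIdeal R) (maximalIdeal S) ≠ 0 := by
  obtain ⟨π, t, u, e, hπ, ht, h, he, he0⟩ := ramIdx_spec hinj
  rw [he]; exact he0

theorem map_eq_iff_ramIdx_eq_one (hinj : Function.Injective (algebraMap R S)) :
    (maximalIdeal R).map (algebraMap R S) = maximalIdeal S ↔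
      Ideal.ramificationIdx' (maximalIdeal R) (maximalIdeal S) = 1 := by
  obtain ⟨π, t, u, e, hπ, ht, h, he, he0⟩ := ramIdx_spec hinj
  rw [he, hπ.maximalIdeal_eq, ht.maximalIdeal_eq, Ideal.map_span, Set.image_singleton, h,
    Ideal.span_singleton_mul_left_unit u.isUnit]
  constructor
  · intro hs
    rw [Ideal.span_singleton_eq_span_singleton] at hs
    obtain ⟨v, hv⟩ := hs
    exact IsDiscreteValuationRing.unit_mul_pow_congr_pow ht ht v 1 e 1
      (by rw [Units.val_one, one_mul, pow_one, mul_comm]; exact hv)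
  · intro h1
    rw [h1, pow_one]

theorem ramIdx_mul_finrank_eq (hinj : Function.Injective (algebraMap R S))
    (K L : Type u) [Field K] [Field L] [Algebra R K] [IsFractionRing R K] [Algebra S L]
    [IsFractionRing S L] [Algebra K L] [Algebra R L] [IsScalarTower R S L] [IsScalarTower R K L]
    [Module.Finite R S] :
    Ideal.ramificationIdx' (maximalIdeal R) (maximalIdeal S) *
      Module.finrank (ResidueField R) (ResidueField S) = Module.finrank K L := by
  haveI : Module.IsTorsionFree R S := Module.isTorsionFree_iff_algebraMap_injective.mpr hinj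
  haveI : FaithfulSMul R S := (faithfulSMul_iff_algebraMap_injective R S).mpr hinj
  have hp0 : maximalIdeal R ≠ ⊥ := IsDiscreteValuationRing.not_a_field R
  have h := Ideal.sum_ramification_inertia S K L (p := maximalIdeal R) hp0
  rw [IsLocalRing.primesOverFinset_eq S hp0, Finset.sum_singleton,
    Ideal.inertiaDeg'_algebraMap] at h
  exact h

end Ram

section Main

variable (V₃ V₂ W₃ W₂ : Type u)
  [CommRing V₃] [IsDomain V₃] [IsDiscreteValuationRing V₃]
  [CommRing V₂] [IsDomain V₂] [IsDiscreteValuationRing V₂]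
  [CommRing W₃] [IsDomain W₃] [IsDiscreteValuationRing W₃]
  [CommRing W₂] [IsDomain W₂] [IsDiscreteValuationRing W₂]
  [Algebra V₃ V₂] [Algebra V₃ W₃] [Algebra W₃ W₂] [Algebra V₂ W₂] [Algebra V₃ W₂]
  [IsScalarTower V₃ V₂ W₂] [IsScalarTower V₃ W₃ W₂]
  [IsLocalHom (algebraMap V₃ V₂)] [IsLocalHom (algebraMap V₃ W₃)]
  [IsLocalHom (algebraMap W₃ W₂)] [IsLocalHom (algebraMap V₂ W₂)]
  [IsLocalHom (algebraMap V₃ W₂)]
  (K₃ K₂ M₃ M₂ : Type u) [Field K₃] [Field K₂] [Field M₃] [Field M₂]
  [Algebra V₃ K₃] [IsFractionRing V₃ K₃] [Algebra V₂ K₂] [IsFractionRing V₂ K₂]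
  [Algebra K₃ K₂] [Algebra V₃ K₂] [IsScalarTower V₃ K₃ K₂] [IsScalarTower V₃ V₂ K₂]
  [FiniteDimensional K₃ K₂]
  [Algebra W₃ M₃] [IsFractionRing W₃ M₃] [Algebra W₂ M₂] [IsFractionRing W₂ M₂]
  [Algebra M₃ M₂] [Algebra W₃ M₂] [IsScalarTower W₃ W₂ M₂] [IsScalarTower W₃ M₃ M₂]

/-- Descent along a purely inseparable square of DVRs. -/
theorem descent
    (h32 : Function.Injective (algebraMap V₃ V₂)) (h3W : Function.Injective (algebraMap V₃ W₃))
    (hWW : Function.Injective (algebraMap W₃ W₂)) (h2W : Function.Injective (algebraMap V₂ W₂))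
    [Module.Finite W₃ W₂]
    (hq : Module.finrank M₃ M₂ = Module.finrank K₃ K₂)
    (hw : (maximalIdeal V₂).map (algebraMap V₂ W₂) = maximalIdeal W₂)
    [Algebra.IsGeometricallyReduced (ResidueField V₂) (ResidueField W₂)]
    [Algebra.IsAlgebraic (ResidueField V₂) (ResidueField W₂)]
    (p : ℕ) [ExpChar (ResidueField V₂) p]
    (hpi : ∀ w : W₂, ∃ (n : ℕ) (w₃ : W₃), w ^ p ^ n = algebraMap W₃ W₂ w₃) :
    (maximalIdeal V₃).map (algebraMap V₃ W₃) = maximalIdeal W₃ ∧
      Algebra.IsGeometricallyReduced (ResidueField V₃) (ResidueField W₃) := by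
  classical
  obtain ⟨π, hπ⟩ := IsDiscreteValuationRing.exists_irreducible V₃
  have hπ2 : algebraMap V₃ V₂ π ≠ 0 := fun h => hπ.ne_zero (h32 (by rw [h, map_zero]))
  have hπW : algebraMap V₃ W₃ π ≠ 0 := fun h => hπ.ne_zero (h3W (by rw [h, map_zero]))
  -- multiplicativity of ramification indices
  have hE1 : Ideal.ramificationIdx' (maximalIdeal V₃) (maximalIdeal W₂) =
      Ideal.ramificationIdx' (maximalIdeal V₃) (maximalIdeal V₂) *
        Ideal.ramificationIdx' (maximalIdeal V₂) (maximalIdeal W₂) :=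
    Groth.Agent.H78.ValExt.ram_mul π hπ.maximalIdeal_eq hπ2 h2W
  have hE2 : Ideal.ramificationIdx' (maximalIdeal V₃) (maximalIdeal W₂) =
      Ideal.ramificationIdx' (maximalIdeal V₃) (maximalIdeal W₃) *
        Ideal.ramificationIdx' (maximalIdeal W₃) (maximalIdeal W₂) :=
    Groth.Agent.H78.ValExt.ram_mul π hπ.maximalIdeal_eq hπW hWW
  have hd : Ideal.ramificationIdx' (maximalIdeal V₂) (maximalIdeal W₂) = 1 :=
    (map_eq_iff_ramIdx_eq_one h2W).mp hw
  obtain ⟨hfink, hcf⟩ := Groth.Agent.S7132.result V₃ V₂ K₃ K₂ h32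
  haveI := hfink
  have hbf := ramIdx_mul_finrank_eq hWW M₃ M₂
  -- residue fields
  have hpi' : ∀ x : ResidueField W₂, ∃ n : ℕ,
      x ^ p ^ n ∈ (algebraMap (ResidueField W₃) (ResidueField W₂)).range := by
    intro x
    obtain ⟨w, rfl⟩ := residue_surjective x
    obtain ⟨n, w₃, hw₃⟩ := hpi w
    refine ⟨n, residue W₃ w₃, ?_⟩
    rw [ResidueField.algebraMap_residue, ← hw₃, map_pow]
  have hsurj : Function.Surjective
      (tau (ResidueField V₃) (ResidueField V₂) (ResidueField W₃) (ResidueField W₂)) :=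
    tau_surjective p hpi'
  obtain ⟨hfinl, hfl⟩ := finrank_le_of_tau_surjective hsurj
  -- arithmetic
  set a := Ideal.ramificationIdx' (maximalIdeal V₃) (maximalIdeal W₃) with ha
  set b := Ideal.ramificationIdx' (maximalIdeal W₃) (maximalIdeal W₂) with hb
  set c := Ideal.ramificationIdx' (maximalIdeal V₃) (maximalIdeal V₂) with hc
  set fk := Module.finrank (ResidueField V₃) (ResidueField V₂) with hfk
  set fl := Module.finrank (ResidueField W₃) (ResidueField W₂) with hfl'
  have ha0 : a ≠ 0 := ramIdx_ne_zero h3W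
  have hb0 : b ≠ 0 := ramIdx_ne_zero hWW
  have hfk0 : 0 < fk := Module.finrank_pos
  have hcab : c = a * b := by rw [← hE2, hE1, hd, mul_one]
  have h1 : a * b * fk ≤ b * fl := by
    rw [← hcab, hbf, hq]; exact hcf
  have h2 : b * fl ≤ b * fk := Nat.mul_le_mul_left b hfl
  have h3 : a * (b * fk) ≤ 1 * (b * fk) := by
    rw [one_mul, ← mul_assoc]; exact h1.trans h2
  have hbfk : 0 < b * fk := Nat.mul_pos (Nat.pos_of_ne_zero hb0) hfk0
  have ha1 : a = 1 := by
    have := Nat.le_of_mul_le_mul_right h3 hbfk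
    omega
  have hfeq : fl = fk := by
    rw [ha1, one_mul] at h1
    have h4 : b * fk ≤ b * fl := h1
    have := Nat.le_of_mul_le_mul_left h4 (Nat.pos_of_ne_zero hb0)
    omega
  refine ⟨(map_eq_iff_ramIdx_eq_one h3W).mpr ha1, ?_⟩
  exact geomReduced_of_finrank_eq hsurj hfeq

end Main

end Groth.Agent.H14.SepDesc2
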