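import Mathlib
import Groth.Prelude.Def_EtRam
import Groth.Agent.H14.SepDesc2
import Groth.Agent.H73.NagataField
import Groth.Agent.H78.ValExt

set_option autoImplicit false
set_option maxHeartbeats 1000000
set_option linter.style.haveILetI false
set_option linter.unusedSectionVars false
set_option linter.unusedVariables false
set_option linter.deprecated false

/-! Basic facts on a purely inseparable degree-`p` extension of DVRs `B ⊆ C`
(towards `EtAlg.purelyInseparable_degree_p_step_trichotomy`). -/

namespace Groth.Agent.H14.EppTri1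

universe u

open IsLocalRing Polynomial

section Field

variable (p : ℕ) (hp : p.Prime) (L M : Type u) [Field L] [Field M] [Algebra L M]
  [IsPurelyInseparable L M]

include hp in
theorem charP_of_finrank (hdeg : Module.finrank L M = p) : CharP L p := by
  haveI : FiniteDimensional L M := Module.finite_of_finrank_pos (by rw [hdeg]; exact hp.pos)
  obtain ⟨n, hn⟩ := IsPurelyInseparable.finrank_eq_pow (F := L) M (ringExpChar L)
  rw [hdeg] at hn
  have hn0 : n ≠ 0 := by
    rintro rfl
    rw [pow_zero] at hn
    exact hp.one_lt.ne' hn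
  have hq : ringExpChar L ∣ p := by
    rw [hn]; exact dvd_pow_self _ hn0
  rcases (Nat.dvd_prime hp).mp hq with h1 | h1
  · rw [h1, one_pow] at hn
    exact absurd hn hp.one_lt.ne'
  · have hE : ExpChar L p := ringExpChar.of_eq h1
    cases hE with
    | zero => exact absurd rfl hp.ne_one
    | prime hq => assumption

include hp in
theorem pow_mem_range (hdeg : Module.finrank L M = p) (x : M) :
    ∃ l : L, algebraMap L M l = x ^ p := by
  haveI : FiniteDimensional L M := Module.finite_of_finrank_pos (by rw [hdeg]; exact hp.pos)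
  haveI : CharP L p := charP_of_finrank p hp L M hdeg
  haveI : ExpChar L p := ExpChar.prime hp
  obtain ⟨n, y, hy⟩ := IsPurelyInseparable.minpoly_eq_X_pow_sub_C L p x
  have hdeg' : (minpoly L x).natDegree ≤ p := by
    rw [← hdeg]; exact minpoly.natDegree_le x
  rw [hy, natDegree_X_pow_sub_C] at hdeg'
  have hroot : x ^ p ^ n = algebraMap L M y := by
    have h := minpoly.aeval L x
    rw [hy] at h
    simpa [sub_eq_zero] using h
  have hn : n ≤ 1 := by
    by_contra hn
    push Not at hn
    have : p ^ 2 ≤ p ^ n := Nat.pow_le_pow_right hp.pos hn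
    have h2 : p * p ≤ p := by rw [← sq]; exact this.trans hdeg'
    have : p ≤ 1 := Nat.le_of_mul_le_mul_left (by simpa using h2) hp.pos
    exact absurd hp.one_lt (not_lt.mpr this)
  interval_cases n
  · refine ⟨y ^ p, ?_⟩
    rw [map_pow, ← hroot, pow_zero, pow_one]
  · exact ⟨y, by rw [← hroot, pow_one]⟩

end Field

section Basic

variable (p : ℕ) (hp : p.Prime) (B C L M : Type u)
  [CommRing B] [IsDomain B] [IsDiscreteValuationRing B]
  [CommRing C] [IsDomain C] [IsDiscreteValuationRing C]
  [Algebra B C] [IsLocalHom (algebraMap B C)]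
  [Field L] [Field M] [Algebra B L] [IsFractionRing B L] [Algebra C M] [IsFractionRing C M]
  [Algebra L M] [Algebra B M] [IsScalarTower B L M] [IsScalarTower B C M]

theorem mem_of_mem (l : L) (c : C) (h : algebraMap L M l = algebraMap C M c) :
    ∃ b : B, algebraMap B L b = l := by
  by_cases hl : l = 0
  · exact ⟨0, by rw [hl, map_zero]⟩
  rcases ValuationRing.isInteger_or_isInteger B l with ⟨b, hb⟩ | ⟨b, hb⟩
  · exact ⟨b, hb⟩
  · by_cases hu : IsUnit b
    · obtain ⟨v, rfl⟩ := hu
      refine ⟨((v⁻¹ : Bˣ) : B), ?_⟩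
      have h1 : algebraMap B L (v : B) * algebraMap B L ((v⁻¹ : Bˣ) : B) = 1 := by
        rw [← map_mul, Units.mul_inv, map_one]
      rw [hb] at h1
      have := eq_inv_of_mul_eq_one_right h1
      rw [this, inv_inv]
    · exfalso
      apply hu
      apply isUnit_of_map_unit (algebraMap B C)
      refine IsUnit.of_mul_eq_one c ?_
      apply IsFractionRing.injective C M
      rw [map_mul, map_one, ← h, ← IsScalarTower.algebraMap_apply B C M,
        IsScalarTower.algebraMap_apply B L M, hb, ← map_mul, inv_mul_cancel₀ hl, map_one]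

variable [IsPurelyInseparable L M]

include hp in
theorem pow_mem_B (hdeg : Module.finrank L M = p) (c : C) :
    ∃ b : B, algebraMap B C b = c ^ p := by
  obtain ⟨l, hl⟩ := pow_mem_range p hp L M hdeg (algebraMap C M c)
  obtain ⟨b, hb⟩ := mem_of_mem B C L M l (c ^ p) (by rw [hl, map_pow])
  refine ⟨b, ?_⟩
  apply IsFractionRing.injective C M
  rw [← IsScalarTower.algebraMap_apply B C M, IsScalarTower.algebraMap_apply B L M, hb, hl,
    map_pow]

include hp in
theorem finite (hB : CAlg.IsNagata B) (hdeg : Module.finrank L M = p) : Module.Finite B C := by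
  haveI : FiniteDimensional L M := Module.finite_of_finrank_pos (by rw [hdeg]; exact hp.pos)
  have hK : ∀ z : L, ∃ a b : B, algebraMap B L b ≠ 0 ∧
      z * algebraMap B L b = algebraMap B L a := by
    intro z
    obtain ⟨a, b, hb, rfl⟩ := IsFractionRing.div_surjective (A := B) z
    have hb0 : algebraMap B L b ≠ 0 :=
      IsFractionRing.to_map_ne_zero_of_mem_nonZeroDivisors hb
    exact ⟨a, b, hb0, div_mul_cancel₀ _ hb0⟩
  haveI hfinIC : Module.Finite B (integralClosure B M) :=
    Groth.Agent.H73.NagataFin.finite_integralClosure_of_isNagata_field B hB L M hK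
  have hint : ∀ c : C, (IsScalarTower.toAlgHom B C M) c ∈ integralClosure B M := by
    intro c
    obtain ⟨b, hb⟩ := pow_mem_B p hp B C L M hdeg c
    show IsIntegral B (algebraMap C M c)
    refine IsIntegral.of_pow hp.pos ?_
    rw [← map_pow, ← hb, ← IsScalarTower.algebraMap_apply B C M]
    exact isIntegral_algebraMap
  let φ : C →ₐ[B] integralClosure B M := (IsScalarTower.toAlgHom B C M).codRestrict _ hint
  refine Module.Finite.of_injective φ.toLinearMap ?_
  intro a b hab
  have : algebraMap C M a = algebraMap C M b :=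
    congrArg (fun x : integralClosure B M => (x : M)) hab
  exact IsFractionRing.injective C M this

include hp in
theorem ram_cases (hBC : Function.Injective (algebraMap B C)) (hB : CAlg.IsNagata B)
    (hdeg : Module.finrank L M = p) :
    Ideal.ramificationIdx' (maximalIdeal B) (maximalIdeal C) = 1 ∨
      (Ideal.ramificationIdx' (maximalIdeal B) (maximalIdeal C) = p ∧
        Module.finrank (ResidueField B) (ResidueField C) = 1) := by
  haveI := finite p hp B C L M hB hdeg
  have h := Groth.Agent.H14.SepDesc2.ramIdx_mul_finrank_eq hBC L M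
  rw [hdeg] at h
  have hd : Ideal.ramificationIdx' (maximalIdeal B) (maximalIdeal C) ∣ p := ⟨_, h.symm⟩
  rcases (Nat.dvd_prime hp).mp hd with h1 | h1
  · exact Or.inl h1
  · refine Or.inr ⟨h1, ?_⟩
    rw [h1] at h
    exact Nat.eq_of_mul_eq_mul_left hp.pos (by rw [h, mul_one])

include hp in
/-- In the ramified case there is a uniformizer `ϖ` of `C` with `ϖ ^ p = u π_B`. -/
theorem exists_unif (hBC : Function.Injective (algebraMap B C)) (hdeg : Module.finrank L M = p)
    (πB : B) (hπB : maximalIdeal B = Ideal.span {πB})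
    (he : Ideal.ramificationIdx' (maximalIdeal B) (maximalIdeal C) = p) :
    ∃ (ϖ : C) (u : Bˣ), Irreducible ϖ ∧ ϖ ^ p = algebraMap B C (u * πB) := by
  obtain ⟨ϖ, hϖ⟩ := IsDiscreteValuationRing.exists_irreducible C
  have hπirr : Irreducible πB :=
    (IsDiscreteValuationRing.irreducible_iff_uniformizer πB).mpr hπB
  have hπ0 : algebraMap B C πB ≠ 0 := fun h => hπirr.ne_zero (hBC (by rw [h, map_zero]))
  obtain ⟨e, u0, hu0⟩ := IsDiscreteValuationRing.associated_pow_irreducible hπ0 hϖ
  have h : algebraMap B C πB = ↑u0⁻¹ * ϖ ^ e := by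
    rw [← hu0, mul_comm (algebraMap B C πB), ← mul_assoc, Units.inv_mul, one_mul]
  have he' : Ideal.ramificationIdx' (maximalIdeal B) (maximalIdeal C) = e :=
    Groth.Agent.H78.ValExt.ram_eq πB hπB ϖ hϖ.maximalIdeal_eq hϖ.ne_zero u0⁻¹ e h
  have hep : e = p := by rw [← he', he]
  subst hep
  obtain ⟨β, hβ⟩ := pow_mem_B e hp B C L M hdeg ϖ
  have hβ0 : β ≠ 0 := by
    rintro rfl
    rw [map_zero] at hβ
    exact pow_ne_zero _ hϖ.ne_zero hβ.symm
  obtain ⟨k, v, hv⟩ := IsDiscreteValuationRing.eq_unit_mul_pow_irreducible hβ0 hπirr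
  have hk : e = e * k := by
    have h2 : ((1 : Cˣ) : C) * ϖ ^ e =
        ((Units.map (algebraMap B C).toMonoidHom v * u0⁻¹ ^ k : Cˣ) : C) * ϖ ^ (e * k) := by
      rw [Units.val_one, one_mul, ← hβ, hv, map_mul, map_pow, h, mul_pow, ← pow_mul,
        Units.val_mul, Units.val_pow_eq_pow_val]
      simp only [Units.coe_map, RingHom.toMonoidHom_eq_coe, MonoidHom.coe_coe]
      ring
    exact IsDiscreteValuationRing.unit_mul_pow_congr_pow hϖ hϖ _ _ _ _ h2
  have hk1 : k = 1 := by
    have : e * 1 = e * k := by rw [mul_one]; exact hk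
    exact (Nat.eq_of_mul_eq_mul_left hp.pos this).symm
  subst hk1
  exact ⟨ϖ, v, hϖ, by rw [← hβ, hv, pow_one]⟩

theorem residue_surj (hf : Module.finrank (ResidueField B) (ResidueField C) = 1) (c : C) :
    ∃ b : B, c - algebraMap B C b ∈ maximalIdeal C := by
  have h1 : (⊥ : Subalgebra (ResidueField B) (ResidueField C)) = ⊤ :=
    Subalgebra.bot_eq_top_iff_finrank_eq_one.mpr hf
  have hs : Function.Surjective (algebraMap (ResidueField B) (ResidueField C)) :=
    Algebra.surjective_algebraMap_iff.mpr h1.symm
  obtain ⟨r, hr⟩ := hs (residue C c)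
  obtain ⟨b, rfl⟩ := residue_surjective r
  refine ⟨b, ?_⟩
  rw [← residue_eq_zero_iff, map_sub, ← hr, sub_eq_zero]
  rfl

end Basic

end Groth.Agent.H14.EppTri1
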