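import Mathlib
import Groth.Prelude.Def_EtRam
import Groth.Agent.H14.EppTri1

set_option autoImplicit false
set_option maxHeartbeats 1000000
set_option linter.style.haveILetI false
set_option linter.unusedSectionVars false
set_option linter.unusedVariables false
set_option linter.deprecated false

/-! The case `C = B[π^(1/p)]` of `EtAlg.purelyInseparable_degree_p_step_trichotomy`. -/

namespace Groth.Agent.H14.EppTri2

universe u

open IsLocalRing Polynomial

section Basic

variable (p : ℕ) (hp : p.Prime) (B C L M : Type u)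
  [CommRing B] [IsDomain B] [IsDiscreteValuationRing B]
  [CommRing C] [IsDomain C] [IsDiscreteValuationRing C]
  [Algebra B C] [IsLocalHom (algebraMap B C)]
  [Field L] [Field M] [Algebra B L] [IsFractionRing B L] [Algebra C M] [IsFractionRing C M]
  [Algebra L M] [Algebra B M] [IsScalarTower B L M] [IsScalarTower B C M]

include hp in
/-- If `c ^ p = π_B` and `C` is finite over `B` with trivial residue extension, then `C = B[c]`. -/
theorem adjoin_eq_top_of_root [Module.Finite B C]
    (πB : B) (hπB : maximalIdeal B = Ideal.span {πB})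
    (ϖ : C) (u : Bˣ) (hϖ : Irreducible ϖ) (hϖp : ϖ ^ p = algebraMap B C (u * πB))
    (hres : ∀ c : C, ∃ b : B, c - algebraMap B C b ∈ maximalIdeal C)
    (c : C) (hc : c ^ p = algebraMap B C πB) : Algebra.adjoin B {c} = ⊤ := by
  have hπirr : Irreducible πB :=
    (IsDiscreteValuationRing.irreducible_iff_uniformizer πB).mpr hπB
  have hc0 : c ≠ 0 := by
    rintro rfl
    rw [zero_pow hp.ne_zero] at hc
    have h1 : ϖ ^ p = 0 := by rw [hϖp, map_mul, ← hc, mul_zero]
    exact hϖ.ne_zero (pow_eq_zero_iff hp.ne_zero |>.mp h1)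
  -- `c` is a uniformizer
  have hcirr : Irreducible c := by
    obtain ⟨k, w, hw⟩ := IsDiscreteValuationRing.eq_unit_mul_pow_irreducible hc0 hϖ
    have h2 : ((1 : Cˣ) : C) * ϖ ^ p =
        ((Units.map (algebraMap B C).toMonoidHom u * w ^ p : Cˣ) : C) * ϖ ^ (k * p) := by
      rw [Units.val_one, one_mul, hϖp, map_mul, ← hc, hw, mul_pow, ← pow_mul,
        Units.val_mul, Units.val_pow_eq_pow_val]
      simp only [Units.coe_map, RingHom.toMonoidHom_eq_coe, MonoidHom.coe_coe]
      ring
    have hk := IsDiscreteValuationRing.unit_mul_pow_congr_pow hϖ hϖ _ _ _ _ h2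
    have hk1 : k = 1 := by
      have : 1 * p = k * p := by rw [one_mul]; exact hk
      exact (Nat.eq_of_mul_eq_mul_right hp.pos this).symm
    subst hk1
    rw [hw, pow_one]
    exact (irreducible_units_mul w).mpr hϖ
  have hmC : maximalIdeal C = Ideal.span {c} := hcirr.maximalIdeal_eq
  set N : Submodule B C := Subalgebra.toSubmodule (Algebra.adjoin B {c}) with hN
  have hcN : ∀ k : ℕ, c ^ k ∈ N := fun k =>
    (Algebra.adjoin B {c}).pow_mem (Algebra.subset_adjoin (Set.mem_singleton c)) k
  have hstep : ∀ (k : ℕ) (x : C), ∃ n ∈ N, ∃ y : C, x = n + c ^ k * y := by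
    intro k
    induction k with
    | zero => intro x; exact ⟨0, N.zero_mem, x, by simp⟩
    | succ k ih =>
      intro x
      obtain ⟨n, hn, y, hy⟩ := ih x
      obtain ⟨b, hb⟩ := hres y
      rw [hmC, Ideal.mem_span_singleton] at hb
      obtain ⟨y', hy'⟩ := hb
      refine ⟨n + b • c ^ k, N.add_mem hn (N.smul_mem b (hcN k)), y', ?_⟩
      have : y = algebraMap B C b + c * y' := by rw [← hy']; ring
      rw [hy, this, Algebra.smul_def]
      ring
  have htop : (⊤ : Submodule B C) ≤ N := by
    apply Submodule.le_of_le_smul_of_le_jacobson_bot (I := maximalIdeal B)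
      (Module.Finite.fg_top) (maximalIdeal_le_jacobson _)
    intro x _
    obtain ⟨n, hn, y, hy⟩ := hstep p x
    rw [hy]
    refine Submodule.add_mem_sup hn ?_
    rw [hc, ← Algebra.smul_def]
    exact Submodule.smul_mem_smul (by rw [hπB]; exact Ideal.mem_span_singleton_self πB)
      Submodule.mem_top
  rw [eq_top_iff]
  intro x _
  exact htop (Submodule.mem_top : x ∈ (⊤ : Submodule B C))

include hp in
/-- If the unit `u` (with `ϖ ^ p = u π_B`) is a `p`-th power in `B[π_B^(1/p)]` to every order, then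
`π_B` has a `p`-th root in `M`. -/
theorem exists_root_of_approx [CharP L p] [FiniteDimensional L M] (hB : CAlg.IsNagata B)
    (hBC : Function.Injective (algebraMap B C))
    (πB : B) (hπB : maximalIdeal B = Ideal.span {πB})
    (ϖ : C) (u : Bˣ) (hϖp : ϖ ^ p = algebraMap B C (u * πB))
    (happ : ∀ m : ℕ, ∃ (bs : ℕ → B) (r : B),
      (u : B) = ∑ i ∈ Finset.range m, bs i ^ p * πB ^ i + r * πB ^ m) :
    ∃ c : M, c ^ p = algebraMap B M πB := by
  classical
  by_contra hno
  push Not at hno
  haveI : Fact p.Prime := ⟨hp⟩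
  have hπirr : Irreducible πB :=
    (IsDiscreteValuationRing.irreducible_iff_uniformizer πB).mpr hπB
  set a : M := algebraMap B M πB with ha
  have hirr : Irreducible (X ^ p - Polynomial.C a : M[X]) := X_pow_sub_C_irreducible_of_prime hp hno
  haveI : Fact (Irreducible (X ^ p - Polynomial.C a : M[X])) := ⟨hirr⟩
  have hmonic : (X ^ p - Polynomial.C a : M[X]).Monic := monic_X_pow_sub_C a hp.ne_zero
  have hnatdeg : (X ^ p - Polynomial.C a : M[X]).natDegree = p := natDegree_X_pow_sub_C
  have hdegf : (X ^ p - Polynomial.C a : M[X]).degree = p := by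
    rw [degree_eq_natDegree hmonic.ne_zero, hnatdeg]
  set τ : AdjoinRoot (X ^ p - Polynomial.C a : M[X]) := AdjoinRoot.root _ with hτ
  have hτp : τ ^ p = algebraMap B (AdjoinRoot (X ^ p - Polynomial.C a : M[X])) πB := by
    have h := AdjoinRoot.eval₂_root (X ^ p - Polynomial.C a : M[X])
    rw [eval₂_sub, eval₂_pow, eval₂_X, eval₂_C, sub_eq_zero] at h
    rw [hτ, h, IsScalarTower.algebraMap_apply B M (AdjoinRoot (X ^ p - Polynomial.C a : M[X])),
      AdjoinRoot.algebraMap_eq]
  haveI : FiniteDimensional M (AdjoinRoot (X ^ p - Polynomial.C a : M[X])) := hmonic.finite_adjoinRoot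
  haveI : FiniteDimensional L (AdjoinRoot (X ^ p - Polynomial.C a : M[X])) :=
    Module.Finite.trans M (AdjoinRoot (X ^ p - Polynomial.C a : M[X]))
  haveI : CharP (AdjoinRoot (X ^ p - Polynomial.C a : M[X])) p :=
    charP_of_injective_algebraMap (algebraMap L (AdjoinRoot (X ^ p - Polynomial.C a : M[X]))).injective p
  have hinjBM' : Function.Injective (algebraMap B (AdjoinRoot (X ^ p - Polynomial.C a : M[X]))) := by
    rw [IsScalarTower.algebraMap_eq B L (AdjoinRoot (X ^ p - Polynomial.C a : M[X]))]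
    exact (algebraMap L (AdjoinRoot (X ^ p - Polynomial.C a : M[X]))).injective.comp
      (IsFractionRing.injective B L)
  have hK : ∀ z : L, ∃ a b : B, algebraMap B L b ≠ 0 ∧
      z * algebraMap B L b = algebraMap B L a := by
    intro z
    obtain ⟨a, b, hb, rfl⟩ := IsFractionRing.div_surjective (A := B) z
    have hb0 : algebraMap B L b ≠ 0 :=
      IsFractionRing.to_map_ne_zero_of_mem_nonZeroDivisors hb
    exact ⟨a, b, hb0, div_mul_cancel₀ _ hb0⟩
  haveI hfinIC : Module.Finite B (integralClosure B (AdjoinRoot (X ^ p - Polynomial.C a : M[X]))) :=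
    Groth.Agent.H73.NagataFin.finite_integralClosure_of_isNagata_field B hB L
      (AdjoinRoot (X ^ p - Polynomial.C a : M[X])) hK
  have hπ0 : algebraMap B (AdjoinRoot (X ^ p - Polynomial.C a : M[X])) πB ≠ 0 := fun h =>
    hπirr.ne_zero (hinjBM' (by rw [h, map_zero]))
  have hτ0 : τ ≠ 0 := by
    intro h
    rw [h, zero_pow hp.ne_zero] at hτp
    exact hπ0 hτp.symm
  set ϖ' : AdjoinRoot (X ^ p - Polynomial.C a : M[X]) := algebraMap C _ ϖ with hϖ'
  have hϖ'p : ϖ' ^ p = algebraMap B (AdjoinRoot (X ^ p - Polynomial.C a : M[X])) (u * πB) := by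
    rw [hϖ', ← map_pow, hϖp, ← IsScalarTower.algebraMap_apply B C]
  set ω : AdjoinRoot (X ^ p - Polynomial.C a : M[X]) := ϖ' / τ with hω
  have hωp : ω ^ p = algebraMap B (AdjoinRoot (X ^ p - Polynomial.C a : M[X])) u := by
    rw [hω, div_pow, hϖ'p, hτp, map_mul, mul_div_assoc, div_self hπ0, mul_one]
  have hτint : IsIntegral B τ := by
    refine IsIntegral.of_pow hp.pos ?_
    rw [hτp]; exact isIntegral_algebraMap
  have hωint : IsIntegral B ω := by
    refine IsIntegral.of_pow hp.pos ?_
    rw [hωp]; exact isIntegral_algebraMap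
  have hadjle : Algebra.adjoin B {τ} ≤ integralClosure B (AdjoinRoot (X ^ p - Polynomial.C a : M[X])) := by
    apply Algebra.adjoin_le
    intro x hx
    rw [Set.mem_singleton_iff] at hx
    subst hx
    exact hτint
  -- Krull intersection
  have hωmem : ω ∈ Algebra.adjoin B {τ} := by
    set C' := integralClosure B (AdjoinRoot (X ^ p - Polynomial.C a : M[X])) with hC'
    set D : Submodule B C' := Submodule.comap C'.val.toLinearMap
      (Subalgebra.toSubmodule (Algebra.adjoin B {τ})) with hD
    have hkey : ∀ k : ℕ, D.mkQ ⟨ω, hωint⟩ ∈ ((maximalIdeal B) ^ k • ⊤ : Submodule B (C' ⧸ D)) := by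
      intro k
      obtain ⟨bs, r, hr⟩ := happ (p * k)
      set s : AdjoinRoot (X ^ p - Polynomial.C a : M[X]) :=
        ∑ i ∈ Finset.range (p * k), algebraMap B _ (bs i) * τ ^ i with hs
      have hsmem : s ∈ Algebra.adjoin B {τ} :=
        Subalgebra.sum_mem _ (fun i _ => Subalgebra.mul_mem _ (Subalgebra.algebraMap_mem _ _)
          (Subalgebra.pow_mem _ (Algebra.subset_adjoin (Set.mem_singleton τ)) i))
      have hsp : s ^ p = algebraMap B (AdjoinRoot (X ^ p - Polynomial.C a : M[X]))
          (∑ i ∈ Finset.range (p * k), bs i ^ p * πB ^ i) := by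
        rw [hs, sum_pow_char, map_sum]
        refine Finset.sum_congr rfl (fun i _ => ?_)
        rw [mul_pow, ← pow_mul, mul_comm i p, pow_mul, hτp, map_mul, map_pow, map_pow]
      have hdiff : (ω - s) ^ p = algebraMap B (AdjoinRoot (X ^ p - Polynomial.C a : M[X])) r *
          (algebraMap B (AdjoinRoot (X ^ p - Polynomial.C a : M[X])) (πB ^ k)) ^ p := by
        rw [sub_pow_char, hωp, hsp, ← map_sub, ← map_pow, ← map_mul]
        congr 1
        rw [← pow_mul, mul_comm k p, hr]
        ring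
      have hπk0 : algebraMap B (AdjoinRoot (X ^ p - Polynomial.C a : M[X])) (πB ^ k) ≠ 0 := by
        rw [map_pow]; exact pow_ne_zero _ hπ0
      set z : AdjoinRoot (X ^ p - Polynomial.C a : M[X]) :=
        (ω - s) / algebraMap B (AdjoinRoot (X ^ p - Polynomial.C a : M[X])) (πB ^ k) with hz
      have hzp : z ^ p = algebraMap B (AdjoinRoot (X ^ p - Polynomial.C a : M[X])) r := by
        rw [hz, div_pow, hdiff, mul_div_assoc, div_self (pow_ne_zero _ hπk0), mul_one]
      have hzint : IsIntegral B z := by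
        refine IsIntegral.of_pow hp.pos ?_
        rw [hzp]; exact isIntegral_algebraMap
      have hωeq : (⟨ω, hωint⟩ : C') = ⟨s, hadjle hsmem⟩ + (πB ^ k) • (⟨z, hzint⟩ : C') := by
        apply Subtype.ext
        show ω = s + (πB ^ k) • z
        rw [Algebra.smul_def, hz, mul_div_cancel₀ _ hπk0]
        ring
      rw [hωeq, map_add, map_smul]
      have h0 : D.mkQ ⟨s, hadjle hsmem⟩ = 0 := by
        rw [Submodule.mkQ_apply, Submodule.Quotient.mk_eq_zero]
        exact hsmem
      rw [h0, zero_add]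
      refine Submodule.smul_mem_smul (Ideal.pow_mem_pow ?_ k) Submodule.mem_top
      rw [hπB]; exact Ideal.mem_span_singleton_self πB
    have hbot := Ideal.iInf_pow_smul_eq_bot_of_isLocalRing (R := B) (M := C' ⧸ D)
      (maximalIdeal B) (Ideal.IsPrime.ne_top inferInstance)
    have hmem : D.mkQ ⟨ω, hωint⟩ ∈ (⨅ i : ℕ, (maximalIdeal B) ^ i • ⊤ : Submodule B (C' ⧸ D)) := by
      rw [Submodule.mem_iInf]; exact hkey
    rw [hbot, Submodule.mem_bot, Submodule.mkQ_apply, Submodule.Quotient.mk_eq_zero] at hmem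
    exact hmem
  rw [Algebra.adjoin_singleton_eq_range_aeval] at hωmem
  obtain ⟨q, hq⟩ := hωmem
  have hq' : aeval τ q = ω := hq
  set g : B[X] := X ^ p - Polynomial.C πB with hg
  have hgmonic : g.Monic := monic_X_pow_sub_C πB hp.ne_zero
  have hgdeg : g.degree = p := by
    rw [degree_eq_natDegree hgmonic.ne_zero, hg, natDegree_X_pow_sub_C]
  have hgτ : aeval τ g = 0 := by
    rw [hg, map_sub, map_pow, aeval_X, aeval_C, hτp, sub_self]
  set rem : B[X] := (X * q) %ₘ g with hrem
  have hremdeg : rem.degree < p := by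
    rw [← hgdeg]; exact degree_modByMonic_lt _ hgmonic
  have hϖ'eq : ϖ' = aeval τ rem := by
    have h1 : ϖ' = aeval τ (X * q) := by
      rw [map_mul, aeval_X, hq', hω, mul_div_cancel₀ _ hτ0]
    have h2 := modByMonic_add_div (X * q) g
    rw [h1, ← h2, map_add, map_mul, hgτ, zero_mul, add_zero]
  have hmk : AdjoinRoot.mk (X ^ p - Polynomial.C a : M[X]) (rem.map (algebraMap B M)) =
      AdjoinRoot.mk (X ^ p - Polynomial.C a : M[X]) (Polynomial.C (algebraMap C M ϖ)) := by
    rw [← AdjoinRoot.aeval_eq_of_algebra, AdjoinRoot.mk_C, ← hτ, ← hϖ'eq, hϖ',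
      IsScalarTower.algebraMap_apply C M (AdjoinRoot (X ^ p - Polynomial.C a : M[X])),
      AdjoinRoot.algebraMap_eq]
  rw [AdjoinRoot.mk_eq_mk] at hmk
  have hdeglt : (rem.map (algebraMap B M) - Polynomial.C (algebraMap C M ϖ)).degree <
      (X ^ p - Polynomial.C a : M[X]).degree := by
    rw [hdegf]
    refine (degree_sub_le _ _).trans_lt (max_lt ((degree_map_le).trans_lt hremdeg) ?_)
    exact degree_C_le.trans_lt (by exact_mod_cast hp.pos)
  have hzero := eq_zero_of_dvd_of_degree_lt hmk hdeglt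
  have hcoeff : algebraMap B M (rem.coeff 0) = algebraMap C M ϖ := by
    have := congrArg (fun f : M[X] => f.coeff 0) (sub_eq_zero.mp hzero)
    simpa using this
  have hϖB : ϖ = algebraMap B C (rem.coeff 0) := by
    apply IsFractionRing.injective C M
    rw [← hcoeff, ← IsScalarTower.algebraMap_apply B C M]
  have hβ : (rem.coeff 0) ^ p = u * πB := by
    apply hBC
    rw [map_pow, ← hϖB, hϖp]
  have hdvd : πB ∣ rem.coeff 0 := hπirr.prime.dvd_of_dvd_pow ⟨(u : B), by rw [hβ]; ring⟩
  obtain ⟨γ, hγ⟩ := hdvd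
  have hp2 : p = (p - 1) + 1 := (Nat.sub_add_cancel hp.pos).symm
  have h3 : πB * (πB ^ (p - 1) * γ ^ p) = πB * u := by
    calc πB * (πB ^ (p - 1) * γ ^ p) = πB ^ ((p - 1) + 1) * γ ^ p := by ring
      _ = (πB * γ) ^ p := by rw [← hp2, mul_pow]
      _ = πB * u := by rw [← hγ, hβ]; ring
  have h4 := mul_left_cancel₀ hπirr.ne_zero h3
  have hp1 : p - 1 ≠ 0 := by have := hp.two_le; omega
  have h5 : πB ∣ (u : B) := by
    rw [← h4]
    exact Dvd.dvd.mul_right (dvd_pow_self πB hp1) _
  exact hπirr.not_isUnit (isUnit_of_dvd_unit h5 u.isUnit)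

include hp in
/-- Conclusion (ii): `C = B[π_B^(1/p)]`. -/
theorem case_two [CharP L p] [FiniteDimensional L M] [Module.Finite B C] (hB : CAlg.IsNagata B)
    (hBC : Function.Injective (algebraMap B C))
    (πB : B) (hπB : maximalIdeal B = Ideal.span {πB})
    (ϖ : C) (u : Bˣ) (hϖ : Irreducible ϖ) (hϖp : ϖ ^ p = algebraMap B C (u * πB))
    (hres : ∀ c : C, ∃ b : B, c - algebraMap B C b ∈ maximalIdeal C)
    (happ : ∀ m : ℕ, ∃ (bs : ℕ → B) (r : B),
      (u : B) = ∑ i ∈ Finset.range m, bs i ^ p * πB ^ i + r * πB ^ m) :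
    ∃ c : C, c ^ p = algebraMap B C πB ∧ Algebra.adjoin B {c} = ⊤ := by
  obtain ⟨c', hc'⟩ := exists_root_of_approx p hp B C L M hB hBC πB hπB ϖ u hϖp happ
  have hint : IsIntegral C c' := by
    refine IsIntegral.of_pow hp.pos ?_
    rw [hc', IsScalarTower.algebraMap_apply B C M]
    exact isIntegral_algebraMap
  obtain ⟨c, rfl⟩ := IsIntegrallyClosed.isIntegral_iff.mp hint
  have hc : c ^ p = algebraMap B C πB := by
    apply IsFractionRing.injective C M
    rw [map_pow, hc', IsScalarTower.algebraMap_apply B C M]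
  exact ⟨c, hc, adjoin_eq_top_of_root p hp B C πB hπB ϖ u hϖ hϖp hres c hc⟩

/-- Either `u` is a `p`-th power in `B[π_B^(1/p)]` to all orders, or there is a first obstruction. -/
theorem approx_or_obstruction (πB : B) (hπB : maximalIdeal B = Ideal.span {πB}) (u : B) :
    (∀ m : ℕ, ∃ (bs : ℕ → B) (r : B),
      u = ∑ i ∈ Finset.range m, bs i ^ p * πB ^ i + r * πB ^ m) ∨
    ∃ (m : ℕ) (bs : ℕ → B) (b : B),
      u = ∑ i ∈ Finset.range m, bs i ^ p * πB ^ i + b * πB ^ m ∧
        ∀ s : B, b - s ^ p ∉ maximalIdeal B := by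
  by_cases h : ∃ (m : ℕ) (bs : ℕ → B) (b : B),
      u = ∑ i ∈ Finset.range m, bs i ^ p * πB ^ i + b * πB ^ m ∧
        ∀ s : B, b - s ^ p ∉ maximalIdeal B
  · exact Or.inr h
  · left
    push Not at h
    intro m
    induction m with
    | zero => exact ⟨fun _ => 0, u, by simp⟩
    | succ m ih =>
      obtain ⟨bs, r, hr⟩ := ih
      obtain ⟨s, hs⟩ := h m bs r hr
      rw [hπB, Ideal.mem_span_singleton] at hs
      obtain ⟨r', hr'⟩ := hs
      refine ⟨fun i => if i = m then s else bs i, r', ?_⟩
      rw [Finset.sum_range_succ]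
      simp only [if_pos]
      have hsum : ∑ i ∈ Finset.range m, (if i = m then s else bs i) ^ p * πB ^ i =
          ∑ i ∈ Finset.range m, bs i ^ p * πB ^ i := by
        refine Finset.sum_congr rfl (fun i hi => ?_)
        rw [if_neg (Finset.mem_range.mp hi).ne]
      rw [hsum, hr]
      have : r = s ^ p + πB * r' := by rw [← hr']; ring
      rw [this]
      ring

end Basic

end Groth.Agent.H14.EppTri2
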