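import Mathlib
import Groth.Prelude.Def_EtRam
import Groth.Agent.H14.EppTri1
import Groth.Agent.H25.GeomRed
import Groth.Agent.H25.GeomRedArt
import Groth.Agent.H80.SolTower
import Groth.Agent.H10.ValDVR
import Groth.Agent.S7132

set_option autoImplicit false
set_option maxHeartbeats 1000000
set_option linter.style.haveILetI false
set_option linter.unusedSectionVars false
set_option linter.unusedVariables false
set_option linter.deprecated false

/-! The "totally ramified separable `K₁`" case of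
`EtAlg.purelyInseparable_degree_p_step_trichotomy`. -/

namespace Groth.Agent.H14.EppTri3

universe u

open IsLocalRing Polynomial TensorProduct

/-- The key identity. -/
theorem key_identity (p : ℕ) [Fact p.Prime] (F : Type u) [Field F] [CharP F p] (m : ℕ)
    (ϖ ϖ₁ π E u b β : F) (bs : ℕ → F)
    (h1 : ϖ ^ p = u * π) (h2 : ϖ₁ ^ p = π * E) (hE : E = 1 + π ^ (m + 1) * β)
    (hu : u = ∑ i ∈ Finset.range m, bs i ^ p * π ^ i + b * π ^ m)
    (hπ : π ≠ 0) (hE0 : E ≠ 0) :
    ((ϖ / ϖ₁ - ∑ i ∈ Finset.range m, bs i * ϖ₁ ^ i) / ϖ₁ ^ m) ^ p * E ^ (m + 1) =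
      b - π * β * ∑ i ∈ Finset.range m,
        bs i ^ p * π ^ i * ∑ j ∈ Finset.range (i + 1), E ^ j := by
  have hS : (∑ i ∈ Finset.range m, bs i * ϖ₁ ^ i) ^ p =
      ∑ i ∈ Finset.range m, bs i ^ p * π ^ i * E ^ i := by
    rw [sum_pow_char]
    refine Finset.sum_congr rfl (fun i _ => ?_)
    rw [mul_pow, ← pow_mul, mul_comm i p, pow_mul, h2, mul_pow, mul_assoc]
  have hden : (ϖ₁ ^ m) ^ p = π ^ m * E ^ m := by
    rw [← pow_mul, mul_comm m p, pow_mul, h2, mul_pow]
  have hnum : (ϖ / ϖ₁) ^ p = u / E := by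
    rw [div_pow, h1, h2]
    field_simp
  have hE1 : E - 1 = π ^ (m + 1) * β := by rw [hE]; ring
  have hgeom : ∀ i : ℕ, E ^ (i + 1) =
      1 + π ^ (m + 1) * β * ∑ j ∈ Finset.range (i + 1), E ^ j := by
    intro i
    have h := geom_sum_mul E (i + 1)
    rw [hE1] at h
    linear_combination (-1 : F) * h
  have hclaim : (u / E - ∑ i ∈ Finset.range m, bs i ^ p * π ^ i * E ^ i) * E =
      π ^ m * (b - π * β * ∑ i ∈ Finset.range m,
        bs i ^ p * π ^ i * ∑ j ∈ Finset.range (i + 1), E ^ j) := by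
    have hs1 : (∑ i ∈ Finset.range m, bs i ^ p * π ^ i * E ^ i) * E =
        ∑ i ∈ Finset.range m, bs i ^ p * π ^ i +
          π ^ (m + 1) * β * ∑ i ∈ Finset.range m,
            bs i ^ p * π ^ i * ∑ j ∈ Finset.range (i + 1), E ^ j := by
      rw [Finset.sum_mul, Finset.mul_sum, ← Finset.sum_add_distrib]
      refine Finset.sum_congr rfl (fun i _ => ?_)
      rw [mul_assoc (bs i ^ p * π ^ i), ← pow_succ, hgeom i]
      ring
    rw [sub_mul, div_mul_cancel₀ _ hE0, hs1, hu]
    ring
  rw [div_pow, sub_pow_char, hnum, hS, hden]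
  have hπm : π ^ m ≠ 0 := pow_ne_zero _ hπ
  have hEm : E ^ m ≠ 0 := pow_ne_zero _ hE0
  have : (u / E - ∑ i ∈ Finset.range m, bs i ^ p * π ^ i * E ^ i) / (π ^ m * E ^ m) * E ^ (m + 1) =
      ((u / E - ∑ i ∈ Finset.range m, bs i ^ p * π ^ i * E ^ i) * E) / π ^ m := by
    rw [pow_succ, div_mul_eq_mul_div, div_eq_div_iff (mul_ne_zero hπm hEm) hπm]
    ring
  rw [this, hclaim, mul_div_cancel_left₀ _ hπm]

/-- Integral elements lie in valuation subrings. -/
theorem mem_of_isIntegralElem {A F : Type u} [CommRing A] [Field F] (W : ValuationSubring F)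
    (g : A →+* F) (hg : ∀ a, g a ∈ W) (x : F) (hx : g.IsIntegralElem x) : x ∈ W := by
  obtain ⟨q, hq, hqx⟩ := hx
  let g' : A →+* W := RingHom.codRestrict g W hg
  have hcomp : (algebraMap W F).comp g' = g := RingHom.ext (fun _ => rfl)
  have hint : IsIntegral W x := ⟨q.map g', hq.map g', by rw [eval₂_map, hcomp]; exact hqx⟩
  obtain ⟨y, rfl⟩ := IsIntegrallyClosed.isIntegral_iff.mp hint
  exact y.2

/-- `M ⊗[K] K₁` is a field when `L ⊗[K] K₁` is, `M/L` is purely inseparable and `K₁/K` is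
separable. -/
theorem isField_tensor (K L M K₁ : Type u) [Field K] [Field L] [Field M] [Field K₁]
    [Algebra K L] [Algebra L M] [Algebra K M] [IsScalarTower K L M] [Algebra K K₁]
    [Algebra.IsSeparable K K₁] [IsPurelyInseparable L M] (hF : IsField (L ⊗[K] K₁)) :
    IsField (M ⊗[K] K₁) := by
  let e : M ⊗[L] (L ⊗[K] K₁) ≃ₐ[L] M ⊗[K] K₁ := Algebra.TensorProduct.cancelBaseChange K L L M K₁
  haveI : Nontrivial (L ⊗[K] K₁) := hF.nontrivial
  haveI : Nontrivial (M ⊗[L] (L ⊗[K] K₁)) := inferInstance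
  have hR : ∀ r : L ⊗[K] K₁, IsNilpotent r ∨ IsUnit r := by
    intro r
    by_cases hr : r = 0
    · exact Or.inl ⟨1, by rw [hr, pow_one]⟩
    · obtain ⟨s, hs⟩ := hF.mul_inv_cancel hr
      exact Or.inr (IsUnit.of_mul_eq_one s hs)
  haveI hred' : IsReduced (K₁ ⊗[K] M) :=
    Groth.Agent.H25.GeomRed.isReduced_tensor_of_isSeparable (k := K) K₁ M
  haveI hred : IsReduced (M ⊗[K] K₁) :=
    isReduced_of_injective (Algebra.TensorProduct.comm K M K₁).toAlgHom
      (Algebra.TensorProduct.comm K M K₁).injective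
  haveI : Nontrivial (M ⊗[K] K₁) := e.symm.toRingEquiv.injective.nontrivial |> fun _ => by
    exact (e.toRingEquiv.symm.surjective.nontrivial)
  refine ⟨exists_pair_ne _, mul_comm, ?_⟩
  intro z hz
  rcases Groth.Agent.H25.GeomRed.isNilpotent_or_isUnit_tensor (k := L) (E := M)
    (R := L ⊗[K] K₁) hR (e.symm z) with h | h
  · exfalso
    have h1 : IsNilpotent z := by
      have := h.map e.toAlgHom
      simpa using this
    exact hz (h1.eq_zero)
  · have h1 : IsUnit z := by
      have := h.map e.toAlgHom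
      simpa using this
    obtain ⟨w, hw⟩ := h1.exists_right_inv
    exact ⟨w, hw⟩

/-- The weak-solution property for `C` in the obstructed case. -/
theorem weakSolution (p : ℕ) (hp : p.Prime) (A C K M : Type u)
    [CommRing A] [CommRing C] [IsDomain C] [IsDiscreteValuationRing C] [Algebra A C]
    [Field K] [Field M] [Algebra A K] [Algebra C M] [IsFractionRing C M] [Algebra K M]
    [Algebra A M] [IsScalarTower A K M] [IsScalarTower A C M] [CharP K p]
    (π : A) (K₁ : Type u) [Field K₁] [Algebra K K₁] [Algebra A K₁] [IsScalarTower A K K₁]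
    (hdegK₁ : Module.finrank K K₁ = p)
    (m : ℕ) (ϖ₁ β : K₁) (hβ : IsIntegral A β)
    (hϖ₁ : ϖ₁ ^ p = algebraMap A K₁ π + algebraMap A K₁ π ^ (m + 2) * β)
    (ϖ : C) (u : Cˣ) (hϖirr : Irreducible ϖ) (hϖp : ϖ ^ p = u * algebraMap A C π)
    (bs : ℕ → C) (b : C)
    (hu : (u : C) = ∑ i ∈ Finset.range m, bs i ^ p * (algebraMap A C π) ^ i +
      b * (algebraMap A C π) ^ m)
    (hb : ∀ c : C, b - c ^ p ∉ maximalIdeal C) :
    EtRam.IsWeakSolution C K M K₁ := by
  classical
  intro M'' _ _ _ _ _ _ hadj W hW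
  refine (Groth.Agent.H80.SolTower.weaklyUnram_iff W (algebraMap K₁ M'')).mpr ?_
  intro x hx
  haveI : Fact p.Prime := ⟨hp⟩
  haveI : FiniteDimensional K K₁ :=
    Module.finite_of_finrank_pos (by rw [hdegK₁]; exact hp.pos)
  letI algCM'' : Algebra C M'' := ((algebraMap M M'').comp (algebraMap C M)).toAlgebra
  haveI : IsScalarTower C M M'' := IsScalarTower.of_algebraMap_eq (fun _ => rfl)
  have hWC : EtRam.Dominates C (algebraMap C M'') W := hW
  haveI hfinMM'' : FiniteDimensional M M'' :=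
    Groth.Agent.H10.ValDVR.finite_of_adjoin_eq_top K M K₁ M'' hadj
  haveI hdvrW : IsDiscreteValuationRing W :=
    Groth.Agent.H10.ValDVR.isDVR_of_dominates_finite C M M'' W hWC
  letI algCW : Algebra C W := (RingHom.codRestrict (algebraMap C M'') W hWC.1).toAlgebra
  haveI : IsScalarTower C W M'' := IsScalarTower.of_algebraMap_eq (fun _ => rfl)
  have hinjCM'' : Function.Injective (algebraMap C M'') :=
    (algebraMap M M'').injective.comp (IsFractionRing.injective C M)
  have hinjCW : Function.Injective (algebraMap C W) := fun a b hab =>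
    hinjCM'' (congrArg Subtype.val hab)
  haveI : IsLocalHom (algebraMap C W) := by
    constructor
    intro c hc
    by_contra hcu
    have h1 := hWC.2 c ((mem_maximalIdeal c).mpr hcu)
    have h2 : W.valuation ((algebraMap C W c : W) : M'') = 1 :=
      (ValuationSubring.valuation_eq_one_iff W _).mp hc
    exact absurd h2 (ne_of_lt h1)
  obtain ⟨hfinres, hef⟩ := Groth.Agent.S7132.result C W M M'' hinjCW
  -- the degree bound
  have hfr : Module.finrank M M'' ≤ p := by
    let ψ : M ⊗[K] K₁ →ₐ[M] M'' :=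
      Algebra.TensorProduct.productLeftAlgHom (Algebra.ofId M M'') (IsScalarTower.toAlgHom K K₁ M'')
    have hsurj : Function.Surjective ψ := by
      rw [← AlgHom.range_eq_top, eq_top_iff, ← hadj]
      apply Algebra.adjoin_le
      rintro _ ⟨t, rfl⟩
      exact ⟨1 ⊗ₜ t, by simp [ψ]⟩
    have h1 := LinearMap.finrank_le_finrank_of_surjective (f := ψ.toLinearMap) hsurj
    rw [Module.finrank_baseChange, hdegK₁] at h1
    exact h1
  -- compatibility
  have hcompat : ∀ a : A, algebraMap K₁ M'' (algebraMap A K₁ a) =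
      algebraMap C M'' (algebraMap A C a) := by
    intro a
    show _ = algebraMap M M'' (algebraMap C M (algebraMap A C a))
    rw [IsScalarTower.algebraMap_apply A K K₁, ← IsScalarTower.algebraMap_apply K K₁ M'',
      IsScalarTower.algebraMap_apply K M M'', ← IsScalarTower.algebraMap_apply A K M,
      ← IsScalarTower.algebraMap_apply A C M]
  haveI : CharP M'' p := charP_of_injective_algebraMap (algebraMap K M'').injective p
  set v := W.valuation with hv
  set ϖ'' : M'' := algebraMap C M'' ϖ with hϖ''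
  set u'' : M'' := algebraMap C M'' (u : C) with hu''
  set π'' : M'' := algebraMap C M'' (algebraMap A C π) with hπ''
  set ϖ₁'' : M'' := algebraMap K₁ M'' ϖ₁ with hϖ₁''
  set β'' : M'' := algebraMap K₁ M'' β with hβ''
  set E : M'' := 1 + π'' ^ (m + 1) * β'' with hE
  have h1 : ϖ'' ^ p = u'' * π'' := by
    rw [hϖ'', ← map_pow, hϖp, map_mul]
  have h2 : ϖ₁'' ^ p = π'' * E := by
    rw [hϖ₁'', ← map_pow, hϖ₁, map_add, map_mul, map_pow, hcompat, hE]
    ring
  have hu2 : u'' = ∑ i ∈ Finset.range m, (algebraMap C M'' (bs i)) ^ p * π'' ^ i +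
      algebraMap C M'' b * π'' ^ m := by
    rw [hu'', hu, map_add, map_sum, map_mul, map_pow]
    congr 1
    refine Finset.sum_congr rfl (fun i _ => ?_)
    rw [map_mul, map_pow, map_pow]
  -- integrality
  have hβW : β'' ∈ W := by
    apply mem_of_isIntegralElem W ((algebraMap K₁ M'').comp (algebraMap A K₁))
    · intro a
      show algebraMap K₁ M'' (algebraMap A K₁ a) ∈ W
      rw [hcompat]; exact hWC.1 _
    · obtain ⟨q, hq, hqx⟩ := hβ
      exact ⟨q, hq, by rw [← Polynomial.hom_eval₂, hqx, map_zero]⟩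
  have hCW : ∀ c : C, algebraMap C M'' c ∈ W := hWC.1
  have hvu : v u'' = 1 := by
    have hunit : IsUnit (algebraMap C W (u : C)) := u.isUnit.map _
    exact (ValuationSubring.valuation_eq_one_iff W _).mp hunit
  have hvϖ : v ϖ'' < 1 := hWC.2 ϖ ((mem_maximalIdeal ϖ).mpr hϖirr.not_isUnit)
  have hϖ''0 : ϖ'' ≠ 0 := fun h => hϖirr.ne_zero (hinjCM'' (by rw [← hϖ'', h, map_zero]))
  have hvπ : v π'' = v ϖ'' ^ p := by
    rw [← map_pow, h1, map_mul, hvu, one_mul]
  have hvπlt : v π'' < 1 := by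
    rw [hvπ]; exact pow_lt_one₀ zero_le' hvϖ hp.ne_zero
  have hπ''0 : π'' ≠ 0 := by
    intro h
    rw [h, mul_zero] at h1
    exact hϖ''0 (pow_eq_zero_iff hp.ne_zero |>.mp h1)
  have hvβ : v β'' ≤ 1 := (W.valuation_le_one_iff _).mpr hβW
  have hvt : v (π'' ^ (m + 1) * β'') < 1 := by
    rw [map_mul, map_pow]
    calc v π'' ^ (m + 1) * v β'' ≤ v π'' ^ (m + 1) * 1 := mul_le_mul_right hvβ _
      _ = v π'' ^ (m + 1) := mul_one _
      _ < 1 := pow_lt_one₀ zero_le' hvπlt (Nat.succ_ne_zero m)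
  have hvE : v E = 1 := by
    rw [hE]; exact v.map_one_add_of_lt hvt
  have hE0 : E ≠ 0 := by
    intro h
    rw [h, map_zero] at hvE
    exact zero_ne_one hvE
  have hvϖ₁ : v ϖ₁'' = v ϖ'' := by
    have : v ϖ₁'' ^ p = v ϖ'' ^ p := by
      rw [← map_pow, h2, map_mul, hvE, mul_one, hvπ]
    exact (pow_left_inj₀ zero_le' zero_le' hp.ne_zero).mp this
  have hϖ₁''0 : ϖ₁'' ≠ 0 := by
    intro h
    rw [h, map_zero] at hvϖ₁
    exact hϖ''0 ((map_eq_zero v).mp hvϖ₁.symm)
  -- the element y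
  set T : M'' := ∑ i ∈ Finset.range m,
    (algebraMap C M'' (bs i)) ^ p * π'' ^ i * ∑ j ∈ Finset.range (i + 1), E ^ j with hT
  set y : M'' := (ϖ'' / ϖ₁'' - ∑ i ∈ Finset.range m, algebraMap C M'' (bs i) * ϖ₁'' ^ i) /
    ϖ₁'' ^ m with hy
  have hkey : y ^ p * E ^ (m + 1) = algebraMap C M'' b - π'' * β'' * T :=
    key_identity p M'' m ϖ'' ϖ₁'' π'' E u'' (algebraMap C M'' b) β''
      (fun i => algebraMap C M'' (bs i)) h1 h2 hE hu2 hπ''0 hE0
  have hEW : E ∈ W := (W.valuation_le_one_iff _).mp hvE.le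
  have hπW : π'' ∈ W := hCW _
  have hTW : T ∈ W := by
    rw [hT]
    refine sum_mem (fun i _ => ?_)
    exact mul_mem (mul_mem (pow_mem (hCW _) _) (pow_mem hπW _))
      (sum_mem (fun j _ => pow_mem hEW _))
  have hrhsW : algebraMap C M'' b - π'' * β'' * T ∈ W :=
    sub_mem (hCW _) (mul_mem (mul_mem hπW hβW) hTW)
  have hyW : y ∈ W := by
    rw [← W.valuation_le_one_iff]
    by_contra hgt
    push Not at hgt
    have h3 : v (y ^ p * E ^ (m + 1)) ≤ 1 := by
      rw [hkey]; exact (W.valuation_le_one_iff _).mpr hrhsW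
    rw [map_mul, map_pow, map_pow, hvE, one_pow, mul_one] at h3
    exact absurd (one_lt_pow₀ hgt hp.ne_zero) (not_lt.mpr h3)
  -- residues
  set yW : W := ⟨y, hyW⟩ with hyW'
  set EW : W := ⟨E, hEW⟩ with hEW'
  set πW : W := algebraMap C W (algebraMap A C π) with hπW'
  have hidW : yW ^ p * EW ^ (m + 1) =
      algebraMap C W b - πW * ⟨β'', hβW⟩ * ⟨T, hTW⟩ := by
    apply Subtype.ext
    exact hkey
  have hπWmem : πW ∈ maximalIdeal W := (ValuationSubring.valuation_lt_one_iff W _).mpr hvπlt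
  have hresπ : residue W πW = 0 := (residue_eq_zero_iff _).mpr hπWmem
  have hresE : residue W EW = 1 := by
    have : EW = 1 + πW ^ (m + 1) * ⟨β'', hβW⟩ := Subtype.ext rfl
    rw [this, map_add, map_mul, map_pow, hresπ, zero_pow (Nat.succ_ne_zero m), zero_mul,
      add_zero, map_one]
  have hresy : (residue W yW) ^ p =
      algebraMap (ResidueField C) (ResidueField W) (residue C b) := by
    have := congrArg (residue W) hidW
    rw [map_mul, map_pow, map_pow, hresE, one_pow, mul_one, map_sub, map_mul, map_mul, hresπ,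
      zero_mul, zero_mul, sub_zero] at this
    rw [this]
    rfl
  have hbres : ∀ z : ResidueField C, z ^ p ≠ residue C b := by
    intro z hz
    obtain ⟨c, rfl⟩ := residue_surjective z
    apply hb c
    rw [← residue_eq_zero_iff, map_sub, map_pow, hz, sub_self]
  have hirr : Irreducible (X ^ p - Polynomial.C (residue C b) : (ResidueField C)[X]) :=
    X_pow_sub_C_irreducible_of_prime hp hbres
  have hmin : minpoly (ResidueField C) (residue W yW) =
      X ^ p - Polynomial.C (residue C b) := by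
    symm
    refine minpoly.eq_of_irreducible_of_monic hirr ?_ (monic_X_pow_sub_C _ hp.ne_zero)
    rw [map_sub, map_pow, aeval_X, aeval_C, hresy, sub_self]
  have hpf : p ≤ Module.finrank (ResidueField C) (ResidueField W) := by
    have h3 : (minpoly (ResidueField C) (residue W yW)).natDegree ≤
        Module.finrank (ResidueField C) (ResidueField W) := minpoly.natDegree_le (residue W yW)
    rw [hmin, natDegree_X_pow_sub_C] at h3
    exact h3
  have he0 := Groth.Agent.H14.SepDesc2.ramIdx_ne_zero hinjCW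
  have he1 : Ideal.ramificationIdx' (maximalIdeal C) (maximalIdeal W) = 1 := by
    have h3 : Ideal.ramificationIdx' (maximalIdeal C) (maximalIdeal W) * p ≤ 1 * p := by
      rw [one_mul]
      exact (Nat.mul_le_mul_left _ hpf).trans (hef.trans hfr)
    have h4 := Nat.le_of_mul_le_mul_right h3 hp.pos
    omega
  have hmap := (Groth.Agent.H14.SepDesc2.map_eq_iff_ramIdx_eq_one hinjCW).mpr he1
  rw [hϖirr.maximalIdeal_eq, Ideal.map_span, Set.image_singleton] at hmap
  -- conclude
  have hxW : x ∈ W := (W.valuation_le_one_iff x).mp hx.le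
  have hxmem : (⟨x, hxW⟩ : W) ∈ maximalIdeal W :=
    (ValuationSubring.valuation_lt_one_iff W _).mpr hx
  rw [← hmap, Ideal.mem_span_singleton] at hxmem
  obtain ⟨w, hw⟩ := hxmem
  have hxeq : x = ϖ'' * (w : M'') := congrArg Subtype.val hw
  refine ⟨ϖ₁, ?_, ϖ'' / ϖ₁'' * (w : M''), ?_, ?_⟩
  · show v ϖ₁'' < 1
    rw [hvϖ₁]; exact hvϖ
  · refine mul_mem ?_ w.2
    rw [← W.valuation_le_one_iff, map_div₀, ← hv, hvϖ₁,
      div_self ((map_ne_zero v).mpr hϖ''0)]
  · rw [hxeq, ← hϖ₁'']
    field_simp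

end Groth.Agent.H14.EppTri3
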