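import Mathlib
import Groth.Agent.S2141
import Groth.Agent.S0558
import Groth.Agent.S9246
import Groth.Agent.H9.FibDimRing

set_option autoImplicit false
universe u

namespace Groth.Agent.H14.EtaleDim

open Algebra

/-- A prime that is minimal over `I` has height-zero image in the quotient by `I`. -/
theorem height_map_mk_eq_zero {S : Type*} [CommRing S] (I Q : Ideal S) [Q.IsPrime] (hIQ : I ≤ Q)
    (hmin : ∀ Q' : Ideal S, Q'.IsPrime → I ≤ Q' → Q' ≤ Q → Q' = Q) :
    (Q.map (Ideal.Quotient.mk I)).height = 0 := by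
  have hsurj : Function.Surjective (Ideal.Quotient.mk I) := Ideal.Quotient.mk_surjective
  have hP : (Q.map (Ideal.Quotient.mk I)).IsPrime :=
    Ideal.map_isPrime_of_surjective hsurj (by rw [Ideal.mk_ker]; exact hIQ)
  rw [Ideal.height_eq_zero_iff]
  refine ⟨⟨hP, bot_le⟩, fun J ⟨hJ, _⟩ hJQ => ?_⟩
  have hcomapQ : (Q.map (Ideal.Quotient.mk I)).comap (Ideal.Quotient.mk I) = Q := by
    rw [Ideal.comap_map_of_surjective _ hsurj, ← RingHom.ker_eq_comap_bot, Ideal.mk_ker]
    exact sup_eq_left.mpr hIQ
  have hJ'Q : J.comap (Ideal.Quotient.mk I) ≤ Q :=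
    le_trans (Ideal.comap_mono hJQ) hcomapQ.le
  have hIJ : I ≤ J.comap (Ideal.Quotient.mk I) := by
    intro x hx
    rw [Ideal.mem_comap, Ideal.Quotient.eq_zero_iff_mem.mpr hx]
    exact J.zero_mem
  have heq := hmin (J.comap (Ideal.Quotient.mk I)) (Ideal.comap_isPrime _ J) hIJ hJ'Q
  rw [← heq, Ideal.map_comap_of_surjective _ hsurj]

/-- Quasi-finite algebras do not increase heights. -/
theorem height_le_height_under {R S : Type*} [CommRing R] [CommRing S] [Algebra R S]
    [IsNoetherianRing R] [IsNoetherianRing S] [Algebra.QuasiFinite R S] (Q : Ideal S) [Q.IsPrime] :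
    Q.height ≤ (Q.under R).height := by
  have h := Ideal.height_le_height_add_of_liesOver (Q.under R) Q
  have hIQ : (Q.under R).map (algebraMap R S) ≤ Q := Ideal.map_comap_le
  have h0 : (Q.map (Ideal.Quotient.mk ((Q.under R).map (algebraMap R S)))).height = 0 := by
    refine height_map_mk_eq_zero _ Q hIQ (fun Q' hQ' hIQ' hQ'Q => ?_)
    have hunder : Q'.under R = Q.under R := by
      apply le_antisymm
      · exact Ideal.comap_mono hQ'Q
      · intro x hx
        exact hIQ' (Ideal.mem_map_of_mem _ hx)
    exact Algebra.QuasiFinite.eq_of_le_of_under_eq (R := R) Q' Q hQ'Q hunder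
  rwa [h0, add_zero] at h

/-- Quasi-finite algebras do not increase dimension. -/
theorem ringKrullDim_le_of_quasiFinite {R S : Type*} [CommRing R] [CommRing S] [Algebra R S]
    [IsNoetherianRing R] [IsNoetherianRing S] [Algebra.QuasiFinite R S] :
    ringKrullDim S ≤ ringKrullDim R := by
  rw [ringKrullDim_le_iff_height_le]
  intro Q hQ
  have := hQ
  refine le_trans ?_ (Ideal.height_le_ringKrullDim_of_isPrime (I := Q.under R))
  exact_mod_cast height_le_height_under (R := R) Q

/-- Local dimension is bounded by the dimension. -/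
theorem localDim_le_ringKrullDim (B : Type u) [CommRing B] (q : PrimeSpectrum B) :
    FlatMor.localDim (PrimeSpectrum B) q ≤ ringKrullDim B := by
  refine le_trans (Groth.Agent.H9.FibDim.localDim_le_of_mem _ q ⊤ trivial) ?_
  rw [← PrimeSpectrum.topologicalKrullDim_eq_ringKrullDim]
  exact topologicalKrullDim_subspace_le _ _

/-- `dim B_q + trdeg κ(q) ≤ n` for `B` quasi-finite of finite type over `k[X₁..Xₙ]`. -/
theorem dim_add_trdeg_le (k : Type u) [Field k] (n : ℕ) (B : Type u) [CommRing B] [Algebra k B]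
    [Algebra (MvPolynomial (Fin n) k) B] [IsScalarTower k (MvPolynomial (Fin n) k) B]
    [Algebra.FiniteType (MvPolynomial (Fin n) k) B]
    [Algebra.QuasiFinite (MvPolynomial (Fin n) k) B]
    (q : Ideal B) [q.IsPrime] (t : ℕ) (ht : Algebra.trdeg k q.ResidueField = t) :
    ringKrullDim (Localization.AtPrime q) + (t : WithBot ℕ∞) ≤ n := by
  haveI : Algebra.FiniteType k B :=
    Algebra.FiniteType.trans (inferInstance : Algebra.FiniteType k (MvPolynomial (Fin n) k))
      inferInstance
  haveI : IsNoetherianRing B := Algebra.FiniteType.isNoetherianRing k B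
  rw [← Groth.Agent.S2141.result q t ht]
  refine le_trans (localDim_le_ringKrullDim B ⟨q, inferInstance⟩) ?_
  refine le_trans (ringKrullDim_le_of_quasiFinite (R := MvPolynomial (Fin n) k)) ?_
  rw [MvPolynomial.ringKrullDim_of_isNoetherianRing, ringKrullDim_eq_zero_of_field]
  simp

/-- A surjection from a Noetherian local domain onto a local ring of at least the same dimension
is injective. -/
theorem injective_of_ringKrullDim_le {D C : Type*} [CommRing D] [CommRing C] [IsDomain D]
    [IsLocalRing C] [IsNoetherianRing C] (ψ : D →+* C) (hψ : Function.Surjective ψ)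
    (hdim : ringKrullDim D ≤ ringKrullDim C) : Function.Injective ψ := by
  rw [injective_iff_map_eq_zero]
  intro x hx
  by_contra hx0
  have h1 := ringKrullDim_succ_le_of_surjective ψ hψ (mem_nonZeroDivisors_of_ne_zero hx0) hx
  have h2 : ringKrullDim C + 1 ≤ ringKrullDim C := h1.trans hdim
  have hne_top : ringKrullDim C ≠ ⊤ := ringKrullDim_ne_top
  have hne_bot : ringKrullDim C ≠ ⊥ := ringKrullDim_ne_bot
  obtain ⟨d, hd⟩ : ∃ d : ℕ, ringKrullDim C = d := by
    obtain ⟨d', hd'⟩ := WithBot.ne_bot_iff_exists.mp hne_bot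
    have : d' ≠ ⊤ := by
      rintro rfl
      exact hne_top hd'.symm
    exact ⟨d'.toNat, by rw [← hd']; exact_mod_cast (ENat.natCast_toNat this).symm⟩
  rw [hd] at h2
  have : ((d + 1 : ℕ) : WithBot ℕ∞) ≤ (d : ℕ) := by exact_mod_cast h2
  have : d + 1 ≤ d := by exact_mod_cast this
  omega

/-- trdeg is finite for residue fields of finite type algebras. -/
theorem exists_trdeg_eq (k : Type u) [Field k] (A : Type u) [CommRing A] [Algebra k A]
    [Algebra.FiniteType k A] (p : Ideal A) [p.IsPrime] :
    ∃ t : ℕ, Algebra.trdeg k p.ResidueField = t := by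
  obtain ⟨n, hn1, -⟩ := Groth.Agent.H54.exists_ringKrullDim_eq_trdeg k (A ⧸ p)
  have h := Groth.Agent.H54.trdeg_eq_trdeg_of_isFractionRing k (A ⧸ p) p.ResidueField
  exact ⟨n, by rw [h, hn1]⟩

/-- Key lemma: a surjection from the local ring of an étale `k[X₁..Xₙ]`-algebra onto the local ring
at a point of local dimension `≥ n` of a finite type `k`-algebra is injective. -/
theorem injective_of_surjective (k : Type u) [Field k] (n : ℕ) (A : Type u) [CommRing A]
    [Algebra k A] [Algebra.FiniteType k A] [Algebra (MvPolynomial (Fin n) k) A]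
    [IsScalarTower k (MvPolynomial (Fin n) k) A] (p : Ideal A) [p.IsPrime]
    (hn : (n : WithBot ℕ∞) ≤ FlatMor.localDim (PrimeSpectrum A) ⟨p, inferInstance⟩)
    (B : Type u) [CommRing B] [Algebra k B] [Algebra (MvPolynomial (Fin n) k) B]
    [IsScalarTower k (MvPolynomial (Fin n) k) B]
    [Algebra.Etale (MvPolynomial (Fin n) k) B] (q : Ideal B) [q.IsPrime]
    (ψ : Localization.AtPrime q →ₐ[MvPolynomial (Fin n) k] Localization.AtPrime p)
    (hψ : Function.Surjective ψ) : Function.Injective ψ := by
  haveI : Algebra.FiniteType k B :=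
    Algebra.FiniteType.trans (inferInstance : Algebra.FiniteType k (MvPolynomial (Fin n) k))
      inferInstance
  haveI : IsNoetherianRing B := Algebra.FiniteType.isNoetherianRing k B
  haveI : IsNoetherianRing A := Algebra.FiniteType.isNoetherianRing k A
  -- `B_q` is a domain
  haveI : IsRegularLocalRing (Localization.AtPrime q) :=
    (Groth.Agent.S9246.result (MvPolynomial (Fin n) k) B q).mp inferInstance
  haveI : IsDomain (Localization.AtPrime q) := Groth.Agent.S0558.result _
  -- residue fields
  obtain ⟨tA, htA⟩ := exists_trdeg_eq k A p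
  obtain ⟨tB, htB⟩ := exists_trdeg_eq k B q
  have hAB : tA ≤ tB := by
    letI : Algebra (Localization.AtPrime q) (Localization.AtPrime p) := ψ.toRingHom.toAlgebra
    haveI : IsScalarTower k (Localization.AtPrime q) (Localization.AtPrime p) :=
      IsScalarTower.of_algebraMap_eq (fun x => by
        rw [IsScalarTower.algebraMap_apply k (MvPolynomial (Fin n) k) (Localization.AtPrime q),
          IsScalarTower.algebraMap_apply k (MvPolynomial (Fin n) k) (Localization.AtPrime p)]
        exact (ψ.commutes _).symm)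
    haveI : IsLocalHom (algebraMap (Localization.AtPrime q) (Localization.AtPrime p)) :=
      IsLocalHom.of_surjective _ hψ
    have hsurj : Function.Surjective
        (IsScalarTower.toAlgHom k q.ResidueField p.ResidueField) := by
      intro y
      obtain ⟨c, rfl⟩ := IsLocalRing.residue_surjective y
      obtain ⟨d, rfl⟩ := hψ c
      exact ⟨IsLocalRing.residue _ d, rfl⟩
    have := trdeg_le_of_surjective _ hsurj
    rw [htA, htB] at this
    exact_mod_cast this
  have h1 := dim_add_trdeg_le k n B q tB htB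
  have h2 := Groth.Agent.S2141.result p tA htA
  rw [h2] at hn
  apply injective_of_ringKrullDim_le ψ.toRingHom hψ
  -- dimension count
  have hC_top : ringKrullDim (Localization.AtPrime p) ≠ ⊤ := ringKrullDim_ne_top
  have hC_bot : ringKrullDim (Localization.AtPrime p) ≠ ⊥ := ringKrullDim_ne_bot
  have hD_top : ringKrullDim (Localization.AtPrime q) ≠ ⊤ := ringKrullDim_ne_top
  have hD_bot : ringKrullDim (Localization.AtPrime q) ≠ ⊥ := ringKrullDim_ne_bot
  have key : ∀ x : WithBot ℕ∞, x ≠ ⊤ → x ≠ ⊥ → ∃ d : ℕ, x = d := by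
    intro x h1 h2
    obtain ⟨d', hd'⟩ := WithBot.ne_bot_iff_exists.mp h2
    have : d' ≠ ⊤ := by
      rintro rfl
      exact h1 hd'.symm
    exact ⟨d'.toNat, by rw [← hd']; exact_mod_cast (ENat.natCast_toNat this).symm⟩
  obtain ⟨c, hc⟩ := key _ hC_top hC_bot
  obtain ⟨d, hd⟩ := key _ hD_top hD_bot
  rw [hc] at hn ⊢
  rw [hd] at h1 ⊢
  have h1' : d + tB ≤ n := by exact_mod_cast h1
  have hn' : n ≤ c + tA := by exact_mod_cast hn
  have : d ≤ c := by omega
  exact_mod_cast this

theorem isEtaleAt_of_surjective (k : Type u) [Field k] (n : ℕ) (A : Type u) [CommRing A]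
    [Algebra k A] [Algebra.FiniteType k A] [Algebra (MvPolynomial (Fin n) k) A]
    [IsScalarTower k (MvPolynomial (Fin n) k) A] (p : Ideal A) [p.IsPrime]
    (hn : (n : WithBot ℕ∞) ≤ FlatMor.localDim (PrimeSpectrum A) ⟨p, inferInstance⟩)
    (B : Type u) [CommRing B] [Algebra (MvPolynomial (Fin n) k) B]
    [Algebra.Etale (MvPolynomial (Fin n) k) B] (q : Ideal B) [q.IsPrime]
    (ψ : Localization.AtPrime q →ₐ[MvPolynomial (Fin n) k] Localization.AtPrime p)
    (hψ : Function.Surjective ψ) : Algebra.IsEtaleAt (MvPolynomial (Fin n) k) p := by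
  letI : Algebra k B :=
    ((algebraMap (MvPolynomial (Fin n) k) B).comp (algebraMap k (MvPolynomial (Fin n) k))).toAlgebra
  haveI : IsScalarTower k (MvPolynomial (Fin n) k) B := IsScalarTower.of_algebraMap_eq' rfl
  have hinj := injective_of_surjective k n A p hn B q ψ hψ
  let e : Localization.AtPrime q ≃ₐ[MvPolynomial (Fin n) k] Localization.AtPrime p :=
    AlgEquiv.ofBijective ψ ⟨hinj, hψ⟩
  haveI : Algebra.FormallyEtale B (Localization.AtPrime q) :=
    Algebra.FormallyEtale.of_isLocalization q.primeCompl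
  haveI : Algebra.FormallyEtale (MvPolynomial (Fin n) k) (Localization.AtPrime q) :=
    Algebra.FormallyEtale.comp (MvPolynomial (Fin n) k) B _
  exact Algebra.FormallyEtale.of_equiv e

/-- **Key lemma**: a finite type `k`-algebra that is unramified over `k[X₁..Xₙ]` at a point of local
dimension `≥ n` is étale there. -/
theorem isEtaleAt_of_isUnramifiedAt (k : Type u) [Field k] (n : ℕ) (A : Type u) [CommRing A]
    [Algebra k A] [Algebra.FiniteType k A] [Algebra (MvPolynomial (Fin n) k) A]
    [IsScalarTower k (MvPolynomial (Fin n) k) A] (p : Ideal A) [p.IsPrime]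
    (hn : (n : WithBot ℕ∞) ≤ FlatMor.localDim (PrimeSpectrum A) ⟨p, inferInstance⟩)
    [Algebra.IsUnramifiedAt (MvPolynomial (Fin n) k) p] :
    Algebra.IsEtaleAt (MvPolynomial (Fin n) k) p := by
  haveI : Algebra.FiniteType (MvPolynomial (Fin n) k) A :=
    Algebra.FiniteType.of_restrictScalars_finiteType k _ A
  obtain ⟨f, hf, Pr, φ, hφ⟩ :=
    Algebra.IsUnramifiedAt.exists_hasStandardEtaleSurjectionOn (R := MvPolynomial (Fin n) k) p
  -- the map `A_f → A_p`
  have hunit : ∀ y : Submonoid.powers f, IsUnit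
      ((IsScalarTower.toAlgHom (MvPolynomial (Fin n) k) A (Localization.AtPrime p)) y) := by
    rintro ⟨y, m, rfl⟩
    have : IsUnit (algebraMap A (Localization.AtPrime p) f) :=
      IsLocalization.map_units (Localization.AtPrime p) (⟨f, hf⟩ : p.primeCompl)
    simpa using this.pow m
  let χ : Localization.Away f →ₐ[MvPolynomial (Fin n) k] Localization.AtPrime p :=
    IsLocalization.liftAlgHom (M := Submonoid.powers f) hunit
  have hχ : ∀ a : A, χ (algebraMap A (Localization.Away f) a) =
      algebraMap A (Localization.AtPrime p) a := by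
    intro a
    simp [χ, IsLocalization.liftAlgHom_apply]
  let ψ₀ : Pr.Ring →ₐ[MvPolynomial (Fin n) k] Localization.AtPrime p := χ.comp φ
  let q : Ideal Pr.Ring := (IsLocalRing.maximalIdeal (Localization.AtPrime p)).comap ψ₀.toRingHom
  haveI : q.IsPrime := Ideal.comap_isPrime _ _
  have hunit' : ∀ y : q.primeCompl, IsUnit (ψ₀ y) := by
    rintro ⟨y, hy⟩
    by_contra h
    exact hy ((IsLocalRing.mem_maximalIdeal _).mpr h)
  let ψ : Localization.AtPrime q →ₐ[MvPolynomial (Fin n) k] Localization.AtPrime p :=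
    IsLocalization.liftAlgHom (M := q.primeCompl) hunit'
  have hψ₀ : ∀ b : Pr.Ring, ψ (algebraMap _ _ b) = ψ₀ b := by
    intro b
    simp [ψ, IsLocalization.liftAlgHom_apply]
  have hψ : Function.Surjective ψ := by
    intro x
    obtain ⟨a, s, rfl⟩ := IsLocalization.exists_mk'_eq p.primeCompl x
    obtain ⟨b, hb⟩ := hφ (algebraMap A _ a)
    obtain ⟨b', hb'⟩ := hφ (algebraMap A _ (s : A))
    have h1 : ψ₀ b = algebraMap A (Localization.AtPrime p) a := by
      show χ (φ b) = _
      rw [hb, hχ]
    have h2 : ψ₀ b' = algebraMap A (Localization.AtPrime p) (s : A) := by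
      show χ (φ b') = _
      rw [hb', hχ]
    have hsu : IsUnit (algebraMap A (Localization.AtPrime p) (s : A)) :=
      IsLocalization.map_units _ s
    have hb'q : b' ∈ q.primeCompl := by
      intro hmem
      have : ψ₀ b' ∈ IsLocalRing.maximalIdeal (Localization.AtPrime p) := hmem
      rw [h2] at this
      exact (IsLocalRing.mem_maximalIdeal _).mp this hsu
    refine ⟨IsLocalization.mk' _ b ⟨b', hb'q⟩, ?_⟩
    have h3 : ψ (IsLocalization.mk' (Localization.AtPrime q) b ⟨b', hb'q⟩) *
        algebraMap A (Localization.AtPrime p) (s : A) = algebraMap A (Localization.AtPrime p) a := by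
      rw [← h2, ← hψ₀, ← map_mul, IsLocalization.mk'_spec, hψ₀, h1]
    rw [IsLocalization.eq_mk'_iff_mul_eq]
    exact h3
  exact isEtaleAt_of_surjective k n A p hn Pr.Ring q ψ hψ

end Groth.Agent.H14.EtaleDim
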