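import Groth.Agent.H14.EtaleDim
set_option autoImplicit false
universe u
namespace Groth.Agent.H14.EtaleDim2
open Algebra

/-- Local dimension of a domain of finite type over a field is its dimension. -/
theorem localDim_eq_ringKrullDim_of_isDomain (k : Type u) [Field k] (A : Type u) [CommRing A]
    [IsDomain A] [Algebra k A] [Algebra.FiniteType k A] (p : PrimeSpectrum A) :
    FlatMor.localDim (PrimeSpectrum A) p = ringKrullDim A := by
  rw [Groth.Agent.H9.LocalDimField.localDim_eq_iSup k A p]
  have hbot : ringKrullDim (A ⧸ (⊥ : Ideal A)) = ringKrullDim A :=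
    ringKrullDim_eq_of_ringEquiv (RingEquiv.quotientBot A)
  apply le_antisymm
  · apply iSup_le
    rintro ⟨q0, hq0, -⟩
    rw [IsDomain.minimalPrimes_eq_singleton_bot, Set.mem_singleton_iff] at hq0
    rw [hq0, hbot]
  · have hmem : (⊥ : Ideal A) ∈ minimalPrimes A := by
      rw [IsDomain.minimalPrimes_eq_singleton_bot]; rfl
    refine le_trans hbot.ge (le_iSup (fun q0 : {q0 : PrimeSpectrum A //
      q0.asIdeal ∈ minimalPrimes A ∧ q0 ≤ p} => ringKrullDim (A ⧸ q0.1.asIdeal))
      ⟨⟨⊥, Ideal.isPrime_bot⟩, hmem, bot_le⟩)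

theorem mvPolynomial_dim_add_trdeg (k : Type u) [Field k] (n : ℕ)
    (q : Ideal (MvPolynomial (Fin n) k)) [q.IsPrime] (t : ℕ)
    (ht : Algebra.trdeg k q.ResidueField = t) :
    ringKrullDim (Localization.AtPrime q) + (t : WithBot ℕ∞) = n := by
  rw [← Groth.Agent.S2141.result q t ht, localDim_eq_ringKrullDim_of_isDomain k,
    MvPolynomial.ringKrullDim_of_isNoetherianRing, ringKrullDim_eq_zero_of_field]
  simp

end Groth.Agent.H14.EtaleDim2

namespace Groth.Agent.H14.EtaleDim2
open Algebra

theorem etale_dim_add_trdeg (k : Type u) [Field k] (n : ℕ) (B : Type u) [CommRing B] [Algebra k B]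
    [Algebra (MvPolynomial (Fin n) k) B] [IsScalarTower k (MvPolynomial (Fin n) k) B]
    [Algebra.Etale (MvPolynomial (Fin n) k) B]
    (q : Ideal B) [q.IsPrime] (t : ℕ) (ht : Algebra.trdeg k q.ResidueField = t) :
    ringKrullDim (Localization.AtPrime q) + (t : WithBot ℕ∞) = n := by
  haveI : Algebra.FiniteType k B :=
    Algebra.FiniteType.trans (inferInstance : Algebra.FiniteType k (MvPolynomial (Fin n) k))
      inferInstance
  haveI : IsNoetherianRing B := Algebra.FiniteType.isNoetherianRing k B
  apply le_antisymm (EtaleDim.dim_add_trdeg_le k n B q t ht)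
  obtain ⟨t', ht'⟩ := EtaleDim.exists_trdeg_eq k (MvPolynomial (Fin n) k)
    (q.under (MvPolynomial (Fin n) k))
  rw [← mvPolynomial_dim_add_trdeg k n (q.under (MvPolynomial (Fin n) k)) t' ht']
  have htt : t' ≤ t := by
    let f : (q.under (MvPolynomial (Fin n) k)).ResidueField →ₐ[k] q.ResidueField :=
      Ideal.ResidueField.mapₐ _ q (IsScalarTower.toAlgHom k (MvPolynomial (Fin n) k) B) rfl
    have := trdeg_le_of_injective f f.toRingHom.injective
    rw [ht, ht'] at this
    exact_mod_cast this
  have hht : (q.under (MvPolynomial (Fin n) k)).height ≤ q.height := by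
    rw [Ideal.height_eq_height_add_of_liesOver_of_hasGoingDown (q.under (MvPolynomial (Fin n) k)) q]
    exact le_self_add
  rw [IsLocalization.AtPrime.ringKrullDim_eq_height q (Localization.AtPrime q),
    IsLocalization.AtPrime.ringKrullDim_eq_height (q.under (MvPolynomial (Fin n) k))
      (Localization.AtPrime (q.under (MvPolynomial (Fin n) k)))]
  gcongr
  exact_mod_cast hht

end Groth.Agent.H14.EtaleDim2
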