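import Mathlib

set_option autoImplicit false
universe u

namespace Groth.Agent.H14

open TensorProduct Polynomial

section Section

variable {A A' : Type u} [CommRing A] [CommRing A'] [Algebra A A'] [Algebra.Etale A A']

/-- An étale algebra with a section modulo `I`: the kernel of the section is, modulo `I`, cut out by
an element `a` mapping to `1`. -/
theorem exists_section_elt (I : Ideal A) (φ : A' →ₐ[A] A ⧸ I) :
    ∃ a : A', φ a = 1 ∧ ∀ x, φ x = 0 → a * x ∈ I.map (algebraMap A A') := by
  let σ : (A ⧸ I) ⊗[A] A' →ₐ[A ⧸ I] A ⧸ I :=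
    Algebra.TensorProduct.lift (AlgHom.id (A ⧸ I) (A ⧸ I)) φ (fun _ _ => Commute.all _ _)
  have hσt : ∀ (r : A ⧸ I) (x : A'), σ (r ⊗ₜ x) = r * φ x := fun r x => by
    simp [σ]
  have hσ : Function.Surjective σ := fun y => ⟨y ⊗ₜ 1, by rw [hσt]; simp⟩
  have hfg : (RingHom.ker σ.toRingHom).FG :=
    Algebra.FinitePresentation.ker_fG_of_surjective σ hσ
  let _ : Algebra ((A ⧸ I) ⊗[A] A') (A ⧸ I) := σ.toRingHom.toAlgebra
  have : IsScalarTower (A ⧸ I) ((A ⧸ I) ⊗[A] A') (A ⧸ I) :=
    .of_algebraMap_eq fun r => (σ.commutes r).symm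
  have : Algebra.Etale ((A ⧸ I) ⊗[A] A') (A ⧸ I) :=
    Algebra.Etale.of_restrictScalars (A ⧸ I) ((A ⧸ I) ⊗[A] A') (A ⧸ I)
  have hidem : IsIdempotentElem (RingHom.ker (algebraMap ((A ⧸ I) ⊗[A] A') (A ⧸ I))) :=
    (Algebra.FormallyEtale.iff_of_surjective hσ).mp inferInstance
  obtain ⟨r, hr1, hr2⟩ := Submodule.exists_sub_one_mem_and_smul_eq_zero_of_fg_of_le_smul
    (RingHom.ker (algebraMap ((A ⧸ I) ⊗[A] A') (A ⧸ I)))
    (RingHom.ker (algebraMap ((A ⧸ I) ⊗[A] A') (A ⧸ I))) hfg
    (by rw [Ideal.smul_eq_mul, hidem.eq])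
  obtain ⟨a, rfl⟩ := Algebra.TensorProduct.includeRight_surjective (R := A) (S := A ⧸ I) A'
    (fun y => by obtain ⟨x, rfl⟩ := Ideal.Quotient.mk_surjective y; exact ⟨x, rfl⟩) r
  have h0 : σ (Algebra.TensorProduct.includeRight a - 1) = 0 := hr1
  rw [map_sub, map_one, sub_eq_zero, Algebra.TensorProduct.includeRight_apply, hσt, one_mul] at h0
  refine ⟨a, h0, fun x hx => ?_⟩
  have hxK : (1 : A ⧸ I) ⊗ₜ[A] x ∈ RingHom.ker (algebraMap ((A ⧸ I) ⊗[A] A') (A ⧸ I)) := by
    rw [RingHom.mem_ker]
    show σ (1 ⊗ₜ x) = 0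
    rw [hσt, hx, mul_zero]
  have h2 := hr2 _ hxK
  rw [smul_eq_mul, Algebra.TensorProduct.includeRight_apply, Algebra.TensorProduct.tmul_mul_tmul,
    mul_one] at h2
  have h3 : Algebra.TensorProduct.quotIdealMapEquivQuotTensor A' I
      (Ideal.Quotient.mk _ (a * x)) = 0 := by
    rw [Algebra.TensorProduct.quotIdealMapEquivQuotTensor_mk]; exact h2
  exact Ideal.Quotient.eq_zero_iff_mem.mp (EmbeddingLike.map_eq_zero_iff.mp h3)

omit [Algebra.Etale A A'] in
/-- Localizing away from an element as in `exists_section_elt` gives an isomorphism modulo `I`. -/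
theorem bijective_of_away (I : Ideal A) (φ : A' →ₐ[A] A ⧸ I) (c : A') (hc : IsUnit (φ c))
    (hcx : ∀ x, φ x = 0 → c * x ∈ I.map (algebraMap A A'))
    (A'' : Type u) [CommRing A''] [Algebra A' A''] [Algebra A A''] [IsScalarTower A A' A'']
    [IsLocalization.Away c A''] :
    ∃ ψ : A'' →ₐ[A] A ⧸ I, (∀ x, ψ (algebraMap A' A'' x) = φ x) ∧
      Function.Bijective (algebraMap (A ⧸ I) (A'' ⧸ I.map (algebraMap A A''))) ∧
      ∀ y : A'', algebraMap (A ⧸ I) (A'' ⧸ I.map (algebraMap A A'')) (ψ y) =
        Ideal.Quotient.mk _ y := by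
  let ψ : A'' →ₐ[A] A ⧸ I := IsLocalization.Away.liftAlgHom c (f := φ) hc
  have hψ : ∀ x : A', ψ (algebraMap A' A'' x) = φ x := fun x =>
    IsLocalization.Away.lift_eq c hc x
  have hker : ∀ z : A'', ψ z = 0 → z ∈ I.map (algebraMap A A'') := by
    intro z hz
    obtain ⟨⟨x, s⟩, rfl⟩ := IsLocalization.mk'_surjective (Submonoid.powers c) z
    have hs : IsUnit (algebraMap A' A'' (s : A')) := IsLocalization.map_units A'' s
    have hcu : IsUnit (algebraMap A' A'' c) :=
      IsLocalization.map_units A'' (⟨c, Submonoid.mem_powers c⟩ : Submonoid.powers c)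
    have hx : φ x = 0 := by
      have : ψ (IsLocalization.mk' A'' x s * algebraMap A' A'' s) = 0 := by
        rw [map_mul, hz, zero_mul]
      rwa [IsLocalization.mk'_spec, hψ] at this
    have h1 : algebraMap A' A'' (c * x) ∈ I.map (algebraMap A A'') := by
      have h2 := Ideal.mem_map_of_mem (algebraMap A' A'') (hcx x hx)
      rwa [Ideal.map_map, ← IsScalarTower.algebraMap_eq] at h2
    have h3 : IsLocalization.mk' A'' x s * (algebraMap A' A'' s * algebraMap A' A'' c) ∈
        I.map (algebraMap A A'') := by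
      have : IsLocalization.mk' A'' x s * (algebraMap A' A'' s * algebraMap A' A'' c) =
          algebraMap A' A'' (c * x) := by
        rw [← mul_assoc, IsLocalization.mk'_spec, map_mul, mul_comm]
      rw [this]; exact h1
    exact (Ideal.mul_unit_mem_iff_mem _ (hs.mul hcu)).mp h3
  have hmk : ∀ y : A'', algebraMap (A ⧸ I) (A'' ⧸ I.map (algebraMap A A'')) (ψ y) =
      Ideal.Quotient.mk _ y := by
    intro y
    obtain ⟨r, hr⟩ := Ideal.Quotient.mk_surjective (ψ y)
    rw [← hr]
    have : algebraMap (A ⧸ I) (A'' ⧸ I.map (algebraMap A A'')) (Ideal.Quotient.mk I r) =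
        Ideal.Quotient.mk _ (algebraMap A A'' r) := rfl
    rw [this, eq_comm, Ideal.Quotient.eq]
    apply hker
    rw [map_sub, AlgHom.commutes, Ideal.Quotient.algebraMap_eq, hr, sub_self]
  have hψI : ∀ z ∈ I.map (algebraMap A A''), ψ z = 0 := by
    intro z hz
    have : I.map (algebraMap A A'') ≤ RingHom.ker (ψ : A'' →+* A ⧸ I) := by
      rw [Ideal.map_le_iff_le_comap]
      intro i hi
      rw [Ideal.mem_comap, RingHom.mem_ker]
      show ψ (algebraMap A A'' i) = 0
      rw [AlgHom.commutes, Ideal.Quotient.algebraMap_eq, Ideal.Quotient.eq_zero_iff_mem]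
      exact hi
    exact this hz
  refine ⟨ψ, hψ, ⟨?_, ?_⟩, hmk⟩
  · rw [injective_iff_map_eq_zero]
    intro r hr
    obtain ⟨r, rfl⟩ := Ideal.Quotient.mk_surjective r
    have hr' : Ideal.Quotient.mk (I.map (algebraMap A A'')) (algebraMap A A'' r) = 0 := hr
    have h0 := hψI _ (Ideal.Quotient.eq_zero_iff_mem.mp hr')
    rwa [AlgHom.commutes, Ideal.Quotient.algebraMap_eq] at h0
  · intro y
    obtain ⟨y, rfl⟩ := Ideal.Quotient.mk_surjective y
    exact ⟨ψ y, hmk y⟩

/-- Étale neighbourhood of `V(I)` from an étale algebra with a section modulo `I`; a prescribed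
element which is a unit modulo `I` can be made a unit. -/
theorem exists_etale_bijective_of_section (I : Ideal A) (φ : A' →ₐ[A] A ⧸ I) (b : A')
    (hb : IsUnit (φ b)) :
    ∃ (A'' : Type u) (_ : CommRing A'') (_ : Algebra A A'') (_ : Algebra.Etale A A'')
      (ι : A' →ₐ[A] A'') (ψ : A'' →ₐ[A] A ⧸ I),
      ψ.comp ι = φ ∧ IsUnit (ι b) ∧
      Function.Bijective (algebraMap (A ⧸ I) (A'' ⧸ I.map (algebraMap A A''))) ∧
      ∀ y : A'', algebraMap (A ⧸ I) (A'' ⧸ I.map (algebraMap A A'')) (ψ y) =
        Ideal.Quotient.mk _ y := by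
  obtain ⟨a, ha1, ha2⟩ := exists_section_elt I φ
  have hc : IsUnit (φ (a * b)) := by rw [map_mul, ha1, one_mul]; exact hb
  have hcx : ∀ x, φ x = 0 → (a * b) * x ∈ I.map (algebraMap A A') := fun x hx => by
    have h' : (a * b) * x = b * (a * x) := by ring
    rw [h']; exact Ideal.mul_mem_left _ _ (ha2 x hx)
  obtain ⟨ψ, hψ, hbij, hmk⟩ := bijective_of_away I φ (a * b) hc hcx (Localization.Away (a * b))
  refine ⟨Localization.Away (a * b), inferInstance, inferInstance, inferInstance,
    IsScalarTower.toAlgHom A A' (Localization.Away (a * b)), ψ, ?_, ?_, hbij, hmk⟩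
  · exact AlgHom.ext fun x => hψ x
  · have hcu : IsUnit (algebraMap A' (Localization.Away (a * b)) (a * b)) :=
      IsLocalization.map_units _ (⟨a * b, Submonoid.mem_powers _⟩ : Submonoid.powers (a * b))
    rw [map_mul] at hcu
    exact isUnit_of_mul_isUnit_right hcu

end Section

section UCFR

open Polynomial.UniversalCoprimeFactorizationRing

variable {R : Type u} [CommRing R] (S : Type u) [CommRing S] [Algebra R S]
  {n : ℕ} (m k : ℕ) (hn : n = m + k) (p : Polynomial.MonicDegreeEq R n)

set_option backward.isDefEq.respectTransparency.types false in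
lemma ucfr_homEquiv_fst (f : Polynomial.UniversalCoprimeFactorizationRing m k hn p →ₐ[R] S) :
    (homEquiv S m k hn p f).1.1.1 = (factor₁ m k hn p).1.map (f : _ →+* S) := by
  simp [homEquiv, UniversalFactorizationRing.homEquiv, factor₁,
    MonicDegreeEq.map, Polynomial.map_map]
  rfl

set_option backward.isDefEq.respectTransparency.types false in
lemma ucfr_homEquiv_snd (f : Polynomial.UniversalCoprimeFactorizationRing m k hn p →ₐ[R] S) :
    (homEquiv S m k hn p f).1.2.1 = (factor₂ m k hn p).1.map (f : _ →+* S) := by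
  simp [homEquiv, UniversalFactorizationRing.homEquiv, factor₂,
    MonicDegreeEq.map, Polynomial.map_map]
  rfl

end UCFR


section Factor

open Polynomial.UniversalCoprimeFactorizationRing

/-- Étale-local lifting of a coprime monic factorization modulo an ideal; a prescribed element
which is a unit modulo `I` is made a unit. -/
theorem exists_etale_lift_monic_factorization {A : Type u} [CommRing A] (I : Ideal A) (f : A[X])
    (hf : f.Monic) (g h : (A ⧸ I)[X]) (hg : g.Monic) (hh : h.Monic) (hcop : IsCoprime g h)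
    (hfgh : f.map (Ideal.Quotient.mk I) = g * h) (r : A) (hr : IsUnit (Ideal.Quotient.mk I r)) :
    ∃ (A' : Type u) (_ : CommRing A') (_ : Algebra A A'), Algebra.Etale A A' ∧
      IsUnit (algebraMap A A' r) ∧
      Function.Bijective (algebraMap (A ⧸ I) (A' ⧸ I.map (algebraMap A A'))) ∧
      ∃ g' h' : A'[X], g'.Monic ∧ h'.Monic ∧ IsCoprime g' h' ∧
        f.map (algebraMap A A') = g' * h' ∧
        g'.map (Ideal.Quotient.mk (I.map (algebraMap A A'))) =
          g.map (algebraMap (A ⧸ I) (A' ⧸ I.map (algebraMap A A'))) ∧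
        h'.map (Ideal.Quotient.mk (I.map (algebraMap A A'))) =
          h.map (algebraMap (A ⧸ I) (A' ⧸ I.map (algebraMap A A'))) := by
  by_cases hI : Nontrivial (A ⧸ I)
  swap
  · rw [not_nontrivial_iff_subsingleton] at hI
    have h1 : (1 : A) ∈ I :=
      Ideal.Quotient.eq_zero_iff_mem.mp (Subsingleton.elim (Ideal.Quotient.mk I 1) 0)
    have hI' : I.map (algebraMap A (Localization.Away r)) = ⊤ := by
      rw [Ideal.eq_top_iff_one]
      simpa using Ideal.mem_map_of_mem (algebraMap A (Localization.Away r)) h1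
    have hsub : Subsingleton (Localization.Away r ⧸ I.map (algebraMap A (Localization.Away r))) :=
      Ideal.Quotient.subsingleton_iff.mpr hI'
    refine ⟨Localization.Away r, inferInstance, inferInstance, inferInstance, ?_,
      ⟨fun x y _ => Subsingleton.elim x y, fun y => ⟨0, Subsingleton.elim _ _⟩⟩,
      f.map (algebraMap A _), 1, hf.map _, monic_one, isCoprime_one_right, (mul_one _).symm, ?_, ?_⟩
    · exact IsLocalization.map_units _ (⟨r, Submonoid.mem_powers r⟩ : Submonoid.powers r)
    · exact Polynomial.ext fun n => Subsingleton.elim _ _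
    · exact Polynomial.ext fun n => Subsingleton.elim _ _
  · have hn : f.natDegree = g.natDegree + h.natDegree := by
      have := congrArg Polynomial.natDegree hfgh
      rwa [hf.natDegree_map, hg.natDegree_mul hh] at this
    let p : Polynomial.MonicDegreeEq A f.natDegree := .mk f hf rfl
    let G : Polynomial.MonicDegreeEq (A ⧸ I) g.natDegree := .mk g hg rfl
    let H : Polynomial.MonicDegreeEq (A ⧸ I) h.natDegree := .mk h hh rfl
    let q : { q : Polynomial.MonicDegreeEq (A ⧸ I) g.natDegree ×
        Polynomial.MonicDegreeEq (A ⧸ I) h.natDegree //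
        q.1.1 * q.2.1 = p.1.map (algebraMap A (A ⧸ I)) ∧ IsCoprime q.1.1 q.2.1 } :=
      ⟨(G, H), hfgh.symm, hcop⟩
    let φ := (homEquiv (A ⧸ I) g.natDegree h.natDegree hn p).symm q
    have hφ : homEquiv (A ⧸ I) g.natDegree h.natDegree hn p φ = q := Equiv.apply_symm_apply _ _
    have hg1 : (factor₁ g.natDegree h.natDegree hn p).1.map (φ : _ →+* A ⧸ I) = g := by
      rw [← ucfr_homEquiv_fst, hφ]
      rfl
    have hh1 : (factor₂ g.natDegree h.natDegree hn p).1.map (φ : _ →+* A ⧸ I) = h := by
      rw [← ucfr_homEquiv_snd, hφ]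
      rfl
    have hb : IsUnit (φ (algebraMap A _ r)) := by
      rw [AlgHom.commutes]; exact hr
    obtain ⟨A'', i1, i2, hA'', ι, ψ, hψι, hu, hbij, hmk⟩ :=
      exists_etale_bijective_of_section I φ (algebraMap A _ r) hb
    have hcomp : ((algebraMap (A ⧸ I) (A'' ⧸ I.map (algebraMap A A''))).comp
        (φ : _ →+* A ⧸ I)) =
        (Ideal.Quotient.mk (I.map (algebraMap A A''))).comp (ι : UniversalCoprimeFactorizationRing g.natDegree h.natDegree hn p →+* A'') := by
      ext x
      have hx : φ x = ψ (ι x) := (AlgHom.congr_fun hψι x).symm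
      simp only [RingHom.comp_apply, RingHom.coe_coe]
      rw [hx, hmk]
    refine ⟨A'', i1, i2, hA'', ?_, hbij,
      (factor₁ g.natDegree h.natDegree hn p).1.map (ι : UniversalCoprimeFactorizationRing g.natDegree h.natDegree hn p →+* A''),
      (factor₂ g.natDegree h.natDegree hn p).1.map (ι : UniversalCoprimeFactorizationRing g.natDegree h.natDegree hn p →+* A''),
      (factor₁ g.natDegree h.natDegree hn p).monic.map _,
      (factor₂ g.natDegree h.natDegree hn p).monic.map _, ?_, ?_, ?_, ?_⟩
    · rw [← ι.commutes r]; exact hu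
    · simpa using (isCoprime_factor₁_factor₂ g.natDegree h.natDegree hn p).map
        (Polynomial.mapRingHom (ι : UniversalCoprimeFactorizationRing g.natDegree h.natDegree hn p →+* A''))
    · have := congrArg (Polynomial.map (ι : UniversalCoprimeFactorizationRing g.natDegree h.natDegree hn p →+* A''))
        (factor₁_mul_factor₂ g.natDegree h.natDegree hn p)
      rw [Polynomial.map_mul] at this
      rw [this]
      show f.map _ = (f.map (algebraMap A _)).map _
      rw [Polynomial.map_map, AlgHom.comp_algebraMap]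
    · have := congrArg (Polynomial.map (algebraMap (A ⧸ I) (A'' ⧸ I.map (algebraMap A A'')))) hg1
      rw [Polynomial.map_map, hcomp, ← Polynomial.map_map] at this
      exact this
    · have := congrArg (Polynomial.map (algebraMap (A ⧸ I) (A'' ⧸ I.map (algebraMap A A'')))) hh1
      rw [Polynomial.map_map, hcomp, ← Polynomial.map_map] at this
      exact this

end Factor

end Groth.Agent.H14
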