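import Mathlib

set_option autoImplicit false
universe u

namespace Groth.Agent.H14.EtaleSpan

open scoped TensorProduct
open KaehlerDifferential

/-- The range of `T ⊗ Ω[k[X]/k] → Ω[T/k]` is spanned by the `d(Xᵢ)`. -/
theorem range_mapBaseChange (k : Type*) [CommRing k] (σ : Type*) (T : Type*) [CommRing T]
    [Algebra k T] [Algebra (MvPolynomial σ k) T] [IsScalarTower k (MvPolynomial σ k) T] :
    LinearMap.range (mapBaseChange k (MvPolynomial σ k) T) =
      Submodule.span T (Set.range fun i : σ =>
        KaehlerDifferential.D k T (algebraMap (MvPolynomial σ k) T (MvPolynomial.X i))) := by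
  have h1 : ∀ i : σ, mapBaseChange k (MvPolynomial σ k) T
      (((mvPolynomialBasis k σ).baseChange T) i) =
      KaehlerDifferential.D k T (algebraMap (MvPolynomial σ k) T (MvPolynomial.X i)) := by
    intro i
    rw [Module.Basis.baseChange_apply, mvPolynomialBasis_apply, mapBaseChange_tmul, one_smul,
      map_D]
  rw [LinearMap.range_eq_map, ← ((mvPolynomialBasis k σ).baseChange T).span_eq,
    Submodule.map_span, ← Set.range_comp]
  congr 2
  ext i
  exact h1 i

/-- `T` is formally unramified over `k[X]` iff the `d(Xᵢ)` span `Ω[T/k]`. -/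
theorem formallyUnramified_iff_span (k : Type*) [CommRing k] (σ : Type*) (T : Type*) [CommRing T]
    [Algebra k T] [Algebra (MvPolynomial σ k) T] [IsScalarTower k (MvPolynomial σ k) T] :
    Algebra.FormallyUnramified (MvPolynomial σ k) T ↔
      Submodule.span T (Set.range fun i : σ =>
        KaehlerDifferential.D k T (algebraMap (MvPolynomial σ k) T (MvPolynomial.X i))) = ⊤ := by
  rw [← range_mapBaseChange, Algebra.formallyUnramified_iff,
    (exact_mapBaseChange_map k (MvPolynomial σ k) T).linearMap_ker_eq.symm]
  constructor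
  · intro h
    exact LinearMap.ker_eq_top.mpr (Subsingleton.elim _ _)
  · intro h
    have h0 : KaehlerDifferential.map k (MvPolynomial σ k) T T = 0 := LinearMap.ker_eq_top.mp h
    refine ⟨fun x y => ?_⟩
    obtain ⟨x', rfl⟩ := KaehlerDifferential.map_surjective k (MvPolynomial σ k) T x
    obtain ⟨y', rfl⟩ := KaehlerDifferential.map_surjective k (MvPolynomial σ k) T y
    rw [h0]; rfl

end Groth.Agent.H14.EtaleSpan
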