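import Mathlib
import Groth.Prelude
import Groth.Agent.H94.EffCartierDense

set_option autoImplicit false
universe u
open CategoryTheory CategoryTheory.Limits AlgebraicGeometry

namespace Groth.Agent.H14.FB_SUPP

/-- The complement of the support of an effective Cartier ideal is dense. -/
theorem dense_compl_support {Y : Scheme.{u}} (L : Y.IdealSheafData)
    (hL : BlowUp.IsEffCartierIdeal L) : Dense ((L.support : Set Y)ᶜ) := by
  rw [dense_iff_inter_open]
  rintro W hW ⟨x, hx⟩
  obtain ⟨V, hxV, t, ht, hLt⟩ := hL x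
  obtain ⟨g, hgW, hxg⟩ := V.2.exists_basicOpen_le (V := ⟨W, hW⟩) ⟨x, hx⟩ hxV
  have hD : L.support.compl ⊓ V.1 = Y.basicOpen t :=
    Groth.Agent.H94.EffCartierDense.compl_inf_eq_basicOpen L V t hLt
  by_contra hempty
  rw [Set.not_nonempty_iff_eq_empty] at hempty
  -- `D(g * t) = ∅`
  have hbot : Y.basicOpen (g * t) = ⊥ := by
    rw [Scheme.basicOpen_mul, ← hD]
    ext y
    simp only [TopologicalSpace.Opens.coe_inf, TopologicalSpace.Opens.coe_bot,
      Set.mem_empty_iff_false, iff_false]
    rintro ⟨hyg, hyc, -⟩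
    have : y ∈ W ∩ (L.support : Set Y)ᶜ := ⟨hgW hyg, hyc⟩
    rw [hempty] at this
    exact this
  have hnil : IsNilpotent (g * t) :=
    (Scheme.isNilpotent_iff_basicOpen_eq_bot_of_isCompact V.2.isCompact (g * t)).mpr hbot
  obtain ⟨m, hm⟩ := hnil
  rw [mul_pow] at hm
  have htm : t ^ m ∈ nonZeroDivisors Γ(Y, V.1) := pow_mem ht m
  have hgm : g ^ m = 0 := (mem_nonZeroDivisors_iff_right.mp htm) _ hm
  have hgbot : Y.basicOpen g = ⊥ :=
    (Scheme.isNilpotent_iff_basicOpen_eq_bot_of_isCompact V.2.isCompact g).mp ⟨m, hgm⟩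
  rw [hgbot] at hxg
  exact hxg

/-- (SUPP) -/
theorem SUPP {X Y : Scheme.{u}} (f : X ⟶ Y) [IsFinite f] (L : Y.IdealSheafData)
    (hL : BlowUp.IsEffCartierIdeal L) (hiso : IsIso (f ∣_ L.support.compl)) (n : ℕ)
    (hn : 1 ≤ n) : (((L ^ n).comap f).map f).support = L.support := by
  -- `f` is surjective
  have hrange_closed : IsClosed (Set.range f) := f.isClosedMap.isClosed_range
  have hsub : (L.support : Set Y)ᶜ ⊆ Set.range f := by
    intro y hy
    haveI := hiso
    have hsurj : Function.Surjective (f ∣_ L.support.compl) :=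
      (f ∣_ L.support.compl).surjective
    obtain ⟨x', hx'⟩ := hsurj ⟨y, hy⟩
    refine ⟨x'.1, ?_⟩
    have := morphismRestrict_base_coe f L.support.compl x'
    rw [hx'] at this
    exact this.symm
  have hsurj : Set.range f = Set.univ := by
    apply Set.eq_univ_of_univ_subset
    rw [← (dense_compl_support L hL).closure_eq]
    exact closure_minimal hsub hrange_closed
  ext1
  rw [Scheme.IdealSheafData.support_map, Scheme.IdealSheafData.support_comap,
    Scheme.IdealSheafData.support_pow _ _ (by omega)]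
  rw [TopologicalSpace.Closeds.coe_closure, TopologicalSpace.Closeds.coe_preimage,
    Set.image_preimage_eq_inter_range, hsurj, Set.inter_univ]
  exact L.support.isClosed.closure_eq

end Groth.Agent.H14.FB_SUPP
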