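import Mathlib

set_option autoImplicit false
universe u

namespace Groth.Agent.H14.FormalALG

/-- the `J^c`-torsion submodule -/
def tors {B : Type u} [CommRing B] (J : Ideal B) (c : ℕ) (N : Type u) [AddCommGroup N]
    [Module B N] : Submodule B N where
  carrier := {y | ∀ a ∈ J ^ c, a • y = 0}
  add_mem' := by
    intro x y hx hy a ha
    rw [smul_add, hx a ha, hy a ha, add_zero]
  zero_mem' := by
    intro a _
    exact smul_zero a
  smul_mem' := by
    intro b x hx a ha
    rw [smul_comm, hx a ha, smul_zero]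

theorem mem_tors {B : Type u} [CommRing B] (J : Ideal B) (c : ℕ) {N : Type u} [AddCommGroup N]
    [Module B N] (y : N) : y ∈ tors J c N ↔ ∀ a ∈ J ^ c, a • y = 0 := Iff.rfl

/-- (a) Artin–Rees: the torsion meets a high power trivially. -/
theorem exists_tors_inf_eq_bot {B : Type u} [CommRing B] [IsNoetherianRing B] (J : Ideal B)
    (c : ℕ) (N : Type u) [AddCommGroup N] [Module B N] [Module.Finite B N] :
    ∃ k0 : ℕ, ∀ y ∈ tors J c N, y ∈ J ^ k0 • (⊤ : Submodule B N) → y = 0 := by
  obtain ⟨k, hk⟩ := Ideal.exists_pow_inf_eq_pow_smul J (tors J c N)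
  refine ⟨k + c, fun y hyT hy => ?_⟩
  have h1 : y ∈ J ^ (k + c) • (⊤ : Submodule B N) ⊓ tors J c N := ⟨hy, hyT⟩
  rw [hk (k + c) (Nat.le_add_right k c), Nat.add_sub_cancel_left] at h1
  have h2 : J ^ c • (J ^ k • (⊤ : Submodule B N) ⊓ tors J c N) ≤ ⊥ := by
    rw [Submodule.smul_le]
    intro a ha z hz
    rw [Submodule.mem_bot]
    exact hz.2 a ha
  simpa using h2 h1

theorem mem_smul_top_pi {B : Type u} [CommRing B] (I : Ideal B) {ι : Type u} [Fintype ι]
    [DecidableEq ι]
    {N : Type u} [AddCommGroup N] [Module B N] (v : ι → N)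
    (hv : ∀ i, v i ∈ I • (⊤ : Submodule B N)) : v ∈ I • (⊤ : Submodule B (ι → N)) := by
  have : v = ∑ i, LinearMap.single B (fun _ : ι => N) i (v i) := by
    ext j
    simp [Finset.sum_apply, Pi.single_apply]
  rw [this]
  refine Submodule.sum_mem _ fun i _ => ?_
  have h1 : LinearMap.single B (fun _ : ι => N) i (v i) ∈
      Submodule.map (LinearMap.single B (fun _ : ι => N) i) (I • (⊤ : Submodule B N)) :=
    Submodule.mem_map_of_mem (hv i)
  rw [Submodule.map_smul''] at h1
  exact Submodule.smul_mono le_rfl le_top h1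

/-- (b) -/
theorem exists_approx {B : Type u} [CommRing B] [IsNoetherianRing B] (J : Ideal B)
    (c : ℕ) (N : Type u) [AddCommGroup N] [Module B N] [Module.Finite B N] :
    ∃ k : ℕ, ∀ (n : ℕ) (x : N), (∀ a ∈ J ^ c, a • x ∈ J ^ (n + k) • (⊤ : Submodule B N)) →
      ∃ y ∈ tors J c N, x - y ∈ J ^ n • (⊤ : Submodule B N) := by
  classical
  obtain ⟨s, hs⟩ : (J ^ c).FG := IsNoetherian.noetherian _
  let ι : Type u := ↥s
  let g : N →ₗ[B] (ι → N) := LinearMap.pi fun a => LinearMap.lsmul B N a.1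
  have hg : ∀ x (a : ι), g x a = a.1 • x := fun x a => rfl
  obtain ⟨k, hk⟩ := Ideal.exists_pow_inf_eq_pow_smul J (LinearMap.range g)
  refine ⟨k, fun n x hx => ?_⟩
  have h1 : g x ∈ J ^ (n + k) • (⊤ : Submodule B (ι → N)) ⊓ LinearMap.range g := by
    refine ⟨mem_smul_top_pi _ _ fun a => ?_, LinearMap.mem_range_self g x⟩
    rw [hg]
    refine hx _ ?_
    rw [← hs]
    exact Ideal.subset_span a.2
  rw [hk (n + k) (Nat.le_add_left k n), Nat.add_sub_cancel] at h1
  have h2 : g x ∈ J ^ n • LinearMap.range g :=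
    Submodule.smul_mono le_rfl inf_le_right h1
  rw [LinearMap.range_eq_map, ← Submodule.map_smul''] at h2
  obtain ⟨z, hz, hzx⟩ := h2
  refine ⟨x - z, ?_, by simpa using hz⟩
  -- x - z ∈ ker g ⊆ T
  have hker : g (x - z) = 0 := by rw [map_sub, hzx, sub_self]
  intro a ha
  rw [← hs] at ha
  refine Submodule.span_induction (p := fun a _ => a • (x - z) = 0) ?_ ?_ ?_ ?_ ha
  · intro a has
    have := congrFun hker ⟨a, has⟩
    simpa [hg] using this
  · exact zero_smul _ _
  · intro a b _ _ h1 h2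
    rw [add_smul, h1, h2, add_zero]
  · intro r a _ h1
    rw [smul_eq_mul, mul_smul, h1, smul_zero]

theorem exists_unique_lift {B : Type u} [CommRing B] [IsNoetherianRing B] (J : Ideal B) (c : ℕ)
    {M N : Type u} [AddCommGroup M] [Module B M] [AddCommGroup N] [Module B N] [Module.Finite B N]
    (hM : ∀ a ∈ J ^ c, ∀ m : M, a • m = 0)
    (Q : ℕ → Type u) [∀ n, AddCommGroup (Q n)] [∀ n, Module B (Q n)]
    (p : ∀ n, N →ₗ[B] Q n) (hp : ∀ n, Function.Surjective (p n))
    (hker : ∀ n, LinearMap.ker (p n) = J ^ (n + 1) • (⊤ : Submodule B N))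
    (f : ∀ n, M →ₗ[B] Q n)
    (hcompat : ∀ n (m : M) (x : N), p (n + 1) x = f (n + 1) m → p n x = f n m) :
    ∃! φ : M →ₗ[B] N, ∀ n m, p n (φ m) = f n m := by
  classical
  -- iterate compatibility
  have hdown : ∀ (d n : ℕ) (m : M) (x : N), p (n + d) x = f (n + d) m → p n x = f n m := by
    intro d
    induction d with
    | zero => intro n m x h; exact h
    | succ d ih =>
      intro n m x h
      exact ih n m x (hcompat (n + d) m x h)
  have hdown' : ∀ (n n' : ℕ), n ≤ n' → ∀ (m : M) (x : N), p n' x = f n' m → p n x = f n m := by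
    intro n n' h m x hx
    obtain ⟨d, rfl⟩ := Nat.exists_eq_add_of_le h
    exact hdown d n m x hx
  obtain ⟨k0, hk0⟩ := exists_tors_inf_eq_bot J c N
  obtain ⟨k, hk⟩ := exists_approx J c N
  -- existence at each level
  have hex : ∀ (n : ℕ) (m : M), ∃ y ∈ tors J c N, p n y = f n m := by
    intro n m
    obtain ⟨x, hx⟩ := hp (n + k) (f (n + k) m)
    have h1 : ∀ a ∈ J ^ c, a • x ∈ J ^ (n + 1 + k) • (⊤ : Submodule B N) := by
      intro a ha
      have : a • x ∈ LinearMap.ker (p (n + k)) := by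
        rw [LinearMap.mem_ker, map_smul, hx, ← map_smul, hM a ha m, map_zero]
      rw [hker] at this
      have e : n + 1 + k = n + k + 1 := by omega
      rw [e]
      exact this
    obtain ⟨y, hyT, hy⟩ := hk (n + 1) x h1
    refine ⟨y, hyT, ?_⟩
    have h2 : p n x = f n m := hdown k n m x hx
    rw [← h2]
    have h3 : x - y ∈ LinearMap.ker (p n) := by rw [hker]; exact hy
    rw [LinearMap.mem_ker, map_sub, sub_eq_zero] at h3
    exact h3.symm
  -- uniqueness at levels ≥ k0
  have huniq : ∀ (n : ℕ), k0 ≤ n → ∀ y ∈ tors J c N, ∀ y' ∈ tors J c N, p n y = p n y' →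
      y = y' := by
    intro n hn y hy y' hy' h
    have h1 : y - y' ∈ LinearMap.ker (p n) := by
      rw [LinearMap.mem_ker, map_sub, h, sub_self]
    rw [hker] at h1
    have h2 : y - y' ∈ J ^ k0 • (⊤ : Submodule B N) :=
      Submodule.smul_mono_left (Ideal.pow_le_pow_right (by omega)) h1
    exact sub_eq_zero.mp (hk0 _ (Submodule.sub_mem _ hy hy') h2)
  choose ψ hψT hψ using hex k0
  let φ : M →ₗ[B] N :=
    { toFun := ψ
      map_add' := by
        intro m m'
        refine huniq k0 le_rfl _ (hψT _) _ (Submodule.add_mem _ (hψT m) (hψT m')) ?_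
        rw [hψ, map_add, map_add, hψ, hψ]
      map_smul' := by
        intro b m
        refine huniq k0 le_rfl _ (hψT _) _ (Submodule.smul_mem _ b (hψT m)) ?_
        rw [hψ, map_smul, RingHom.id_apply, map_smul, hψ] }
  have hφ : ∀ m, φ m = ψ m := fun m => rfl
  refine ⟨φ, ?_, ?_⟩
  · intro n m
    rcases le_total n k0 with h | h
    · exact hdown' n k0 h m _ (hψ m)
    · obtain ⟨y', hy'T, hy'⟩ := hex n m
      have h1 : p k0 y' = f k0 m := hdown' k0 n h m y' hy'
      have h2 : y' = ψ m := huniq k0 le_rfl _ hy'T _ (hψT m) (by rw [h1, hψ])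
      rw [hφ, ← h2, hy']
  · intro φ' hφ'
    refine LinearMap.ext fun m => ?_
    have hT : φ' m ∈ tors J c N := by
      intro a ha
      rw [← map_smul, hM a ha m, map_zero]
    exact huniq k0 le_rfl _ hT _ (hψT m) (by rw [hφ' k0 m, hφ, hψ])

end Groth.Agent.H14.FormalALG
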