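import Mathlib

set_option autoImplicit false

namespace Groth.Agent.H14.FreeQuot

universe u

open IsLocalRing TensorProduct

theorem one_tmul_eq_zero {P L W : Type*} [CommRing P] [CommRing L] [Algebra P L]
    [AddCommGroup W] [Module P W] (hs : Function.Surjective (algebraMap P L)) (w : W)
    (h : (1 : L) ⊗ₜ[P] w = 0) :
    w ∈ (RingHom.ker (algebraMap P L)) • (⊤ : Submodule P W) := by
  have hs' : Function.Surjective (Algebra.ofId P L) := hs
  let e1 : (P ⧸ RingHom.ker (Algebra.ofId P L)) ≃ₐ[P] L :=
    Ideal.quotientKerAlgEquivOfSurjective hs'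
  have h1 : (e1.symm.toLinearEquiv.rTensor W) ((1 : L) ⊗ₜ[P] w) = 0 := by rw [h, map_zero]
  rw [LinearEquiv.rTensor_tmul] at h1
  have h2 : e1.symm.toLinearEquiv (1 : L) = 1 := map_one e1.symm
  rw [h2] at h1
  have h3 := congrArg (TensorProduct.quotTensorEquivQuotSMul W (RingHom.ker (Algebra.ofId P L))) h1
  rw [map_zero] at h3
  have h4 : TensorProduct.quotTensorEquivQuotSMul W (RingHom.ker (Algebra.ofId P L))
      ((1 : P ⧸ RingHom.ker (Algebra.ofId P L)) ⊗ₜ[P] w) = Submodule.Quotient.mk w :=
    (TensorProduct.quotTensorEquivQuotSMul_mk_tmul (RingHom.ker (Algebra.ofId P L)) 1 w).trans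
      (by rw [one_smul])
  rw [h4, Submodule.Quotient.mk_eq_zero] at h3
  exact h3

theorem one_tmul_eq_zero_of_mem {P L W : Type*} [CommRing P] [CommRing L] [Algebra P L]
    [AddCommGroup W] [Module P W] (w : W)
    (h : w ∈ (RingHom.ker (algebraMap P L)) • (⊤ : Submodule P W)) : (1 : L) ⊗ₜ[P] w = 0 := by
  refine Submodule.smul_induction_on h (fun a ha z _ => ?_) (fun y z hy hz => ?_)
  · rw [TensorProduct.tmul_smul, TensorProduct.smul_tmul', Algebra.smul_def, mul_one,
      (RingHom.mem_ker).mp ha, TensorProduct.zero_tmul]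
  · rw [TensorProduct.tmul_add, hy, hz, add_zero]

section

variable {A : Type u} [CommRing A] [IsLocalRing A]

/-- Key step: a surjection from a finite module onto a projective module over `A/I`, injective
modulo the maximal ideal, is injective. -/
theorem injective_of_projective {I : Ideal A} (hI : I ≤ maximalIdeal A)
    {F N : Type u} [AddCommGroup F] [Module A F] [Module.Finite A F] [AddCommGroup N] [Module A N]
    (i : F →ₗ[A] N) (hi : Function.Surjective i)
    (hmod : ∀ y : F, i y ∈ maximalIdeal A • (⊤ : Submodule A N) →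
      y ∈ maximalIdeal A • (⊤ : Submodule A F))
    [Module.Projective (A ⧸ I) ((A ⧸ I) ⊗[A] N)] :
    Function.Injective (i.baseChange (A ⧸ I)) := by
  have hsurj : Function.Surjective (i.baseChange (A ⧸ I)) := i.lTensor_surjective _ hi
  obtain ⟨s, hs⟩ := Module.projective_lifting_property (i.baseChange (A ⧸ I)) LinearMap.id hsurj
  -- everything as `A`-linear maps
  let iA : (A ⧸ I) ⊗[A] F →ₗ[A] (A ⧸ I) ⊗[A] N := (i.baseChange (A ⧸ I)).restrictScalars A
  let sA : (A ⧸ I) ⊗[A] N →ₗ[A] (A ⧸ I) ⊗[A] F := s.restrictScalars A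
  have hsA : ∀ n, iA (sA n) = n := fun n => LinearMap.congr_fun hs n
  let ρ : (A ⧸ I) ⊗[A] F →ₗ[A] (A ⧸ I) ⊗[A] F := LinearMap.id - sA ∘ₗ iA
  have hρ : ∀ z, iA (ρ z) = 0 := by
    intro z
    show iA (z - sA (iA z)) = 0
    rw [map_sub, hsA, sub_self]
  have hρ' : ∀ z, iA z = 0 → ρ z = z := by
    intro z hz
    show z - sA (iA z) = z
    rw [hz, map_zero, sub_zero]
  have hqs : Function.Surjective (algebraMap A (A ⧸ I)) := Ideal.Quotient.mk_surjective
  have hqk : RingHom.ker (algebraMap A (A ⧸ I)) = I := by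
    rw [Ideal.Quotient.algebraMap_eq, Ideal.mk_ker]
  -- (a) the kernel lies in `𝔪 • ⊤`
  have ha : LinearMap.ker iA ≤ maximalIdeal A • (⊤ : Submodule A ((A ⧸ I) ⊗[A] F)) := by
    intro z hz
    obtain ⟨y, rfl⟩ := TensorProduct.mk_surjective A F (A ⧸ I) hqs z
    have h1 : (1 : A ⧸ I) ⊗ₜ[A] i y = 0 := hz
    have h2 := one_tmul_eq_zero hqs _ h1
    rw [hqk] at h2
    have h3 : i y ∈ maximalIdeal A • (⊤ : Submodule A N) := Submodule.smul_mono_left hI h2
    have h4 := hmod y h3
    have h5 : Submodule.map (TensorProduct.mk A (A ⧸ I) F 1)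
        (maximalIdeal A • (⊤ : Submodule A F)) ≤
        maximalIdeal A • (⊤ : Submodule A ((A ⧸ I) ⊗[A] F)) := by
      rw [Submodule.map_smul'']
      exact Submodule.smul_mono le_rfl le_top
    exact h5 ⟨y, h4, rfl⟩
  -- (b) kernel ≤ 𝔪 • kernel
  have hb : LinearMap.ker iA ≤ maximalIdeal A • LinearMap.ker iA := by
    intro z hz
    have h1 := ha hz
    have h2 : Submodule.map ρ (maximalIdeal A • (⊤ : Submodule A ((A ⧸ I) ⊗[A] F))) ≤
        maximalIdeal A • LinearMap.ker iA := by
      rw [Submodule.map_smul'']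
      refine Submodule.smul_mono le_rfl ?_
      rintro _ ⟨w, _, rfl⟩
      exact hρ w
    have h3 := h2 ⟨z, h1, rfl⟩
    rwa [hρ' z hz] at h3
  -- (c) kernel is f.g.
  have hc : (LinearMap.ker iA).FG := by
    have h1 : LinearMap.ker iA = LinearMap.range ρ := by
      apply le_antisymm
      · intro z hz
        exact ⟨z, hρ' z hz⟩
      · rintro _ ⟨w, rfl⟩
        exact hρ w
    rw [h1]
    exact Module.Finite.fg_top.map ρ |> fun h => by rwa [Submodule.map_top] at h
  have hd := Submodule.eq_bot_of_le_smul_of_le_jacobson_bot (maximalIdeal A) _ hc hb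
    (maximalIdeal_le_jacobson _)
  intro z w hzw
  have h1 : z - w ∈ LinearMap.ker iA := by
    show (i.baseChange (A ⧸ I)) (z - w) = 0
    rw [map_sub, hzw, sub_self]
  rw [hd, Submodule.mem_bot, sub_eq_zero] at h1
  exact h1

/-- A finite module over a Noetherian local ring all of whose reductions modulo powers of the
maximal ideal are projective is free. -/
theorem free_of_forall_projective_quotient [IsNoetherianRing A] {N : Type u} [AddCommGroup N]
    [Module A N] [Module.Finite A N]
    (h : ∀ j : ℕ, Module.Projective (A ⧸ maximalIdeal A ^ (j + 1))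
      ((A ⧸ maximalIdeal A ^ (j + 1)) ⊗[A] N)) :
    Module.Free A N := by
  classical
  obtain ⟨n, s, hs⟩ := Module.Finite.exists_fin (R := A) (M := N)
  have hspan : Submodule.span (ResidueField A)
      (Set.range (TensorProduct.mk A (ResidueField A) N 1 ∘ s)) = ⊤ := by
    have h1 := (IsLocalRing.map_tensorProduct_mk_eq_top
      (N := Submodule.span A (Set.range s))).mpr hs
    rw [← Submodule.span_image, ← Set.range_comp, eq_top_iff, ← SetLike.coe_subset_coe,
      Submodule.top_coe] at h1
    rw [eq_top_iff]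
    exact Set.Subset.trans h1 (Submodule.span_subset_span _ _ _)
  obtain ⟨κ, a, ha, hsp, hli⟩ := exists_linearIndependent' (ResidueField A)
    (TensorProduct.mk A (ResidueField A) N 1 ∘ s)
  rw [hspan] at hsp
  let bk : Module.Basis κ (ResidueField A) (ResidueField A ⊗[A] N) := Module.Basis.mk hli (by rw [hsp])
  haveI : Finite κ := Module.Finite.finite_basis bk
  letI : Fintype κ := Fintype.ofFinite κ
  let i := Finsupp.linearCombination A (s ∘ a)
  have hi : Function.Surjective i := by
    rw [← LinearMap.range_eq_top, Finsupp.range_linearCombination]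
    refine IsLocalRing.span_eq_top_of_tmul_eq_basis (R := A) (f := s ∘ a) bk
      (fun _ ↦ by simp [bk])
  have hsK : Function.Surjective (i.baseChange (ResidueField A)) := i.lTensor_surjective _ hi
  have hi' : Function.Bijective (i.baseChange (ResidueField A)) := by
    refine ⟨?_, hsK⟩
    rw [← LinearMap.ker_eq_bot (M := ResidueField A ⊗[A] (κ →₀ A))
        (f := i.baseChange (ResidueField A)),
      ← Submodule.finrank_eq_zero (R := ResidueField A) (M := ResidueField A ⊗[A] (κ →₀ A)),
      ← Nat.add_right_inj (n := Module.finrank (ResidueField A)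
        (LinearMap.range <| i.baseChange (ResidueField A))),
      LinearMap.finrank_range_add_finrank_ker (V := ResidueField A ⊗[A] (κ →₀ A)),
      LinearMap.range_eq_top.mpr hsK, finrank_top]
    simp only [Module.finrank_tensorProduct, Module.finrank_self,
      Module.finrank_finsupp_self, one_mul, add_zero]
    rw [Module.finrank_eq_card_basis bk]
  have hKs : Function.Surjective (algebraMap A (ResidueField A)) := residue_surjective
  have hKk : RingHom.ker (algebraMap A (ResidueField A)) = maximalIdeal A := ker_residue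
  have hmod : ∀ y : κ →₀ A, i y ∈ maximalIdeal A • (⊤ : Submodule A N) →
      y ∈ maximalIdeal A • (⊤ : Submodule A (κ →₀ A)) := by
    intro y hy
    rw [← hKk] at hy
    have h1 := one_tmul_eq_zero_of_mem (L := ResidueField A) _ hy
    have h2 : (i.baseChange (ResidueField A)) ((1 : ResidueField A) ⊗ₜ[A] y) = 0 := h1
    have h3 := hi'.1 (h2.trans (map_zero _).symm)
    have h4 := one_tmul_eq_zero hKs _ h3
    rwa [hKk] at h4
  have hinj : Function.Injective i := by
    rw [injective_iff_map_eq_zero]
    intro x hx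
    have hall : ∀ j : ℕ, x ∈ (maximalIdeal A ^ j • ⊤ : Submodule A (κ →₀ A)) := by
      intro j
      cases j with
      | zero => rw [pow_zero, Ideal.one_eq_top, Submodule.top_smul]; exact Submodule.mem_top
      | succ j =>
        haveI := h j
        have h1 := injective_of_projective (I := maximalIdeal A ^ (j + 1))
          (Ideal.pow_le_self (Nat.succ_ne_zero j)) i hi hmod
        have h2 : (i.baseChange (A ⧸ maximalIdeal A ^ (j + 1)))
            ((1 : A ⧸ maximalIdeal A ^ (j + 1)) ⊗ₜ[A] x) = 0 := by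
          rw [LinearMap.baseChange_tmul, hx, TensorProduct.tmul_zero]
        have h3 := h1 (h2.trans (map_zero _).symm)
        have h4 := one_tmul_eq_zero (L := A ⧸ maximalIdeal A ^ (j + 1))
          Ideal.Quotient.mk_surjective _ h3
        rwa [Ideal.Quotient.algebraMap_eq, Ideal.mk_ker] at h4
    have hk := Ideal.iInf_pow_smul_eq_bot_of_isLocalRing (R := A) (M := κ →₀ A)
      (maximalIdeal A) (maximalIdeal.isMaximal A).ne_top
    have h5 : x ∈ (⨅ j : ℕ, maximalIdeal A ^ j • ⊤ : Submodule A (κ →₀ A)) :=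
      (Submodule.mem_iInf _).mpr hall
    rwa [hk, Submodule.mem_bot] at h5
  exact Module.Free.of_equiv (LinearEquiv.ofBijective i ⟨hinj, hi⟩)

end

section completion

variable {R : Type u} [CommRing R] (I : Ideal R) (M : Type u) [AddCommGroup M] [Module R M]

/-- Reduction of the completion modulo `I ^ n` agrees with the reduction of the module. -/
noncomputable def quotTensorCompletionEquiv (hI : I.FG) (n : ℕ) :
    (R ⧸ I ^ n) ⊗[R] AdicCompletion I M ≃ₗ[R ⧸ I ^ n] (R ⧸ I ^ n) ⊗[R] M :=
  LinearEquiv.extendScalarsOfSurjective Ideal.Quotient.mk_surjective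
    ((TensorProduct.quotTensorEquivQuotSMul (AdicCompletion I M) (I ^ n)) ≪≫ₗ
      (Submodule.quotEquivOfEq _ _ (AdicCompletion.pow_smul_top_eq_ker_eval hI)) ≪≫ₗ
      ((AdicCompletion.eval I M n).quotKerEquivOfSurjective (AdicCompletion.eval_surjective I M n)) ≪≫ₗ
      (TensorProduct.quotTensorEquivQuotSMul M (I ^ n)).symm)

/-- Variant with an ideal only propositionally equal to a power. -/
noncomputable def quotTensorCompletionEquiv' (hI : I.FG) (n : ℕ) (J : Ideal R) (hJ : J = I ^ n) :
    (R ⧸ J) ⊗[R] AdicCompletion I M ≃ₗ[R ⧸ J] (R ⧸ J) ⊗[R] M :=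
  LinearEquiv.extendScalarsOfSurjective Ideal.Quotient.mk_surjective
    ((TensorProduct.quotTensorEquivQuotSMul (AdicCompletion I M) J) ≪≫ₗ
      (Submodule.quotEquivOfEq _ _
        (by rw [hJ]; exact AdicCompletion.pow_smul_top_eq_ker_eval hI)) ≪≫ₗ
      ((AdicCompletion.eval I M n).quotKerEquivOfSurjective (AdicCompletion.eval_surjective I M n)) ≪≫ₗ
      (Submodule.quotEquivOfEq _ _ (by rw [hJ])) ≪≫ₗ
      (TensorProduct.quotTensorEquivQuotSMul M J).symm)

end completion

section residue

open IsLocalRing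

variable {A : Type u} [CommRing A] [IsLocalRing A] (M : Type u) [AddCommGroup M] [Module A M]

theorem finrank_residueField_tensor_completion (hI : (maximalIdeal A).FG) :
    Module.finrank (ResidueField A) (ResidueField A ⊗[A] AdicCompletion (maximalIdeal A) M) =
      Module.finrank (ResidueField A) (ResidueField A ⊗[A] M) :=
  LinearEquiv.finrank_eq
    (quotTensorCompletionEquiv' (maximalIdeal A) M hI 1 (maximalIdeal A) (pow_one _).symm)

end residue

end Groth.Agent.H14.FreeQuot
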