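import Groth.Agent.H14.LocalKaehler
import Groth.Agent.Lead.GeomReg

set_option autoImplicit false
universe u

namespace Groth.Agent.H14.LocalKaehler

open IsLocalRing KaehlerDifferential TensorProduct

/-- Nakayama: the `1 ⊗ d(G i)` span `κ ⊗ Ω[T/k]` iff the `d(G i)` span `Ω[T/k]`. -/
theorem span_Φ_eq_top_iff {k T : Type*} [CommRing k] [CommRing T] [IsLocalRing T] [Algebra k T]
    [Module.Finite T Ω[T⁄k]] {ι : Type*} (G : ι → T) :
    Submodule.span (ResidueField T) (Set.range fun i => Φ k (G i)) = ⊤ ↔
      Submodule.span T (Set.range fun i => D k T (G i)) = ⊤ := by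
  rw [← IsLocalRing.map_tensorProduct_mk_eq_top
      (N := Submodule.span T (Set.range fun i => D k T (G i))), Submodule.map_span,
    ← Submodule.restrictScalars_span T (ResidueField T) Ideal.Quotient.mk_surjective,
    Submodule.restrictScalars_eq_top_iff, ← Set.range_comp]
  rfl

/-- For `T` formally étale over `k[X]`, the `1 ⊗ d(Xᵢ)` form a basis of `κ ⊗ Ω[T/k]`. -/
theorem basis_of_formallyEtale (k : Type*) [CommRing k] (σ : Type*) (T : Type*) [CommRing T]
    [IsLocalRing T] [Algebra k T] [Algebra (MvPolynomial σ k) T]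
    [IsScalarTower k (MvPolynomial σ k) T] [Algebra.FormallyEtale (MvPolynomial σ k) T] :
    LinearIndependent (ResidueField T)
        (fun i : σ => Φ k (algebraMap (MvPolynomial σ k) T (MvPolynomial.X i))) ∧
      Submodule.span (ResidueField T)
        (Set.range fun i : σ => Φ k (algebraMap (MvPolynomial σ k) T (MvPolynomial.X i))) = ⊤ := by
  let b0 : Module.Basis σ T Ω[T⁄k] :=
    ((mvPolynomialBasis k σ).baseChange T).map
      (tensorKaehlerEquivOfFormallyEtale k (MvPolynomial σ k) T)
  let b : Module.Basis σ (ResidueField T) (ResidueField T ⊗[T] Ω[T⁄k]) :=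
    b0.baseChange (ResidueField T)
  have hb : ∀ i, b i = Φ k (algebraMap (MvPolynomial σ k) T (MvPolynomial.X i)) := by
    intro i
    simp only [b, b0, Module.Basis.baseChange_apply, Module.Basis.map_apply, mvPolynomialBasis_apply,
      tensorKaehlerEquivOfFormallyEtale_apply, mapBaseChange_tmul, one_smul, map_D, Φ]
  simp only [← hb]
  exact ⟨b.linearIndependent, b.span_eq⟩

/-- A formally smooth Noetherian local algebra over a field is regular. -/
theorem isRegularLocalRing_of_formallySmooth (k T : Type u) [Field k] [CommRing T] [IsLocalRing T]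
    [IsNoetherianRing T] [Algebra k T] [Algebra.FormallySmooth k T] : IsRegularLocalRing T := by
  apply Groth.Agent.Lead.GeomReg.regular_of_fs (k := k)
  intro C _ _ J hJ ψ _
  exact Algebra.FormallySmooth.exists_lift J ⟨2, hJ⟩ ψ

end Groth.Agent.H14.LocalKaehler
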