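import Groth.Agent.H14.EtaleDim2
import Groth.Agent.H14.EtaleSpan
import Groth.Agent.H14.LocalKaehler2
import Groth.Agent.H9.FibDimTop

set_option autoImplicit false
universe u

namespace Groth.Agent.H14.JacCrit

open IsLocalRing KaehlerDifferential TensorProduct
open Groth.Agent.H14.LocalKaehler

/-- `κ(q) ⊗_S Ω[S/k] ≃ κ(q) ⊗_{S_q} Ω[S_q/k]`. -/
noncomputable def fibreEquiv (k S : Type*) [CommRing k] [CommRing S] [Algebra k S] (q : Ideal S)
    [q.IsPrime] :
    (q.ResidueField ⊗[S] Ω[S⁄k]) ≃ₗ[q.ResidueField]
      (q.ResidueField ⊗[Localization.AtPrime q] Ω[Localization.AtPrime q⁄k]) :=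
  haveI : Algebra.FormallyEtale S (Localization.AtPrime q) :=
    Algebra.FormallyEtale.of_isLocalization q.primeCompl
  (AlgebraTensorModule.cancelBaseChange S (Localization.AtPrime q) q.ResidueField q.ResidueField
      Ω[S⁄k]).symm ≪≫ₗ
    AlgebraTensorModule.congr (LinearEquiv.refl q.ResidueField q.ResidueField)
      (tensorKaehlerEquivOfFormallyEtale k S (Localization.AtPrime q))

/-- The `1 ⊗ d(s/1)`, `s ∈ S`, span `κ(q) ⊗ Ω[S_q/k]`. -/
theorem span_Φ_algebraMap (k S : Type*) [CommRing k] [CommRing S] [Algebra k S] (q : Ideal S)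
    [q.IsPrime] [Module.Finite (Localization.AtPrime q) Ω[Localization.AtPrime q⁄k]] :
    Submodule.span q.ResidueField
      (Set.range fun s : S => Φ k (algebraMap S (Localization.AtPrime q) s)) = ⊤ := by
  rw [span_Φ_eq_top_iff]
  have := span_range_map_derivation_of_isLocalization k S (Localization.AtPrime q) q.primeCompl
  rw [← this]
  congr 2
  ext s
  simp

/-- **Jacobian criterion**: if `κ(q) ⊗ Ω[S_q/k]` has dimension at most `n ≤ dim_q Spec S`, then
`S` is smooth over `k` at `q`. -/
theorem isSmoothAt_of_finrank_le (k S : Type u) [Field k] [CommRing S] [Algebra k S]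
    [Algebra.FiniteType k S] (q : Ideal S) [q.IsPrime] (n : ℕ)
    (hn : (n : WithBot ℕ∞) ≤ FlatMor.localDim (PrimeSpectrum S) ⟨q, inferInstance⟩)
    (hrank : Module.finrank q.ResidueField
      (q.ResidueField ⊗[Localization.AtPrime q] Ω[Localization.AtPrime q⁄k]) ≤ n) :
    Algebra.IsSmoothAt k q := by
  haveI : Algebra.EssFiniteType k (Localization.AtPrime q) := Algebra.EssFiniteType.comp k S _
  obtain ⟨κ', a, -, hsp, hli⟩ := exists_linearIndependent' q.ResidueField
    (fun s : S => Φ k (algebraMap S (Localization.AtPrime q) s))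
  rw [span_Φ_algebraMap] at hsp
  let b := Module.Basis.mk hli hsp.ge
  haveI : Finite κ' := Module.Finite.finite_basis b
  have hcard : Nat.card κ' = Module.finrank q.ResidueField
      (q.ResidueField ⊗[Localization.AtPrime q] Ω[Localization.AtPrime q⁄k]) :=
    (Module.finrank_eq_nat_card_basis b).symm
  let e := Finite.equivFin κ'
  let G : Fin n → S := fun i => if h : (i : ℕ) < Nat.card κ' then a (e.symm ⟨i, h⟩) else 0
  have hG : ∀ x : κ', ∃ i : Fin n, G i = a x := fun x =>
    ⟨⟨e x, lt_of_lt_of_le (e x).2 (hcard ▸ hrank)⟩, by simp [G]⟩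
  have hspanG : Submodule.span q.ResidueField
      (Set.range fun i => Φ k (algebraMap S (Localization.AtPrime q) (G i))) = ⊤ := by
    rw [eq_top_iff, ← hsp]
    refine Submodule.span_le.mpr ?_
    rintro _ ⟨x, rfl⟩
    obtain ⟨i, hi⟩ := hG x
    exact Submodule.subset_span ⟨i, by simp [hi]⟩
  rw [span_Φ_eq_top_iff] at hspanG
  let φ : MvPolynomial (Fin n) k →ₐ[k] S := MvPolynomial.aeval G
  letI : Algebra (MvPolynomial (Fin n) k) S := φ.toRingHom.toAlgebra
  haveI : IsScalarTower k (MvPolynomial (Fin n) k) S :=
    IsScalarTower.of_algebraMap_eq' φ.comp_algebraMap.symm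
  have hX : ∀ i, algebraMap (MvPolynomial (Fin n) k) (Localization.AtPrime q) (MvPolynomial.X i) =
      algebraMap S (Localization.AtPrime q) (G i) := by
    intro i
    rw [IsScalarTower.algebraMap_apply (MvPolynomial (Fin n) k) S (Localization.AtPrime q)]
    congr 1
    exact MvPolynomial.aeval_X G i
  haveI : Algebra.IsUnramifiedAt (MvPolynomial (Fin n) k) q :=
    (Groth.Agent.H14.EtaleSpan.formallyUnramified_iff_span k (Fin n) (Localization.AtPrime q)).mpr
      (by simp only [hX]; exact hspanG)
  haveI : Algebra.FormallyEtale (MvPolynomial (Fin n) k) (Localization.AtPrime q) :=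
    Groth.Agent.H14.EtaleDim.isEtaleAt_of_isUnramifiedAt k n S q hn
  exact Algebra.FormallySmooth.comp k (MvPolynomial (Fin n) k) (Localization.AtPrime q)

/-- At a smooth point, the fibre of the differentials has dimension the local dimension. -/
theorem finrank_eq_localDim_of_isSmoothAt (k S : Type u) [Field k] [CommRing S] [Algebra k S]
    [Algebra.FiniteType k S] (q : Ideal S) [q.IsPrime] [Algebra.IsSmoothAt k q] :
    ((Module.finrank q.ResidueField
      (q.ResidueField ⊗[Localization.AtPrime q] Ω[Localization.AtPrime q⁄k]) : ℕ) : WithBot ℕ∞) =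
      FlatMor.localDim (PrimeSpectrum S) ⟨q, inferInstance⟩ := by
  haveI : Algebra.FinitePresentation k S := Algebra.FinitePresentation.of_finiteType.mp inferInstance
  obtain ⟨f, hf, n, alg, tower, hse⟩ :=
    Algebra.IsSmoothAt.exists_isStandardEtale_mvPolynomial (R := k) (p := q)
  have hle : Submonoid.powers f ≤ q.primeCompl := by
    rintro _ ⟨m, rfl⟩
    exact fun h => hf (Ideal.IsPrime.mem_of_pow_mem inferInstance m h)
  have hdisj : Disjoint (Submonoid.powers f : Set S) (q : Set S) := by
    rw [Set.disjoint_left]
    intro x hx hxq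
    exact hle hx hxq
  haveI hq' : (q.map (algebraMap S (Localization.Away f))).IsPrime :=
    IsLocalization.isPrime_of_isPrime_disjoint (Submonoid.powers f) _ q inferInstance hdisj
  have hcomap : (q.map (algebraMap S (Localization.Away f))).comap
      (algebraMap S (Localization.Away f)) = q :=
    IsLocalization.under_map_of_isPrime_disjoint (Submonoid.powers f) _ inferInstance hdisj
  -- the local dimension is `n`
  have hdim : FlatMor.localDim (PrimeSpectrum S) ⟨q, inferInstance⟩ = n := by
    have h1 := Groth.Agent.H9.FibDim.localDim_of_isOpenEmbedding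
      (PrimeSpectrum.localization_away_isOpenEmbedding (Localization.Away f) f)
      ⟨q.map (algebraMap S (Localization.Away f)), hq'⟩
    have h2 : PrimeSpectrum.comap (algebraMap S (Localization.Away f))
        ⟨q.map (algebraMap S (Localization.Away f)), hq'⟩ = ⟨q, inferInstance⟩ :=
      PrimeSpectrum.ext hcomap
    rw [h2] at h1
    rw [← h1]
    obtain ⟨t, ht⟩ := Groth.Agent.H14.EtaleDim.exists_trdeg_eq k (Localization.Away f)
      (q.map (algebraMap S (Localization.Away f)))
    rw [Groth.Agent.S2141.result _ t ht]
    exact Groth.Agent.H14.EtaleDim2.etale_dim_add_trdeg k n (Localization.Away f) _ t ht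
  rw [hdim]
  -- `S_q` is formally étale over the polynomial ring
  letI : Algebra (Localization.Away f) (Localization.AtPrime q) :=
    IsLocalization.localizationAlgebraOfSubmonoidLe (Localization.Away f) (Localization.AtPrime q)
      (Submonoid.powers f) q.primeCompl hle
  haveI : IsScalarTower S (Localization.Away f) (Localization.AtPrime q) :=
    IsLocalization.localization_isScalarTower_of_submonoid_le (Localization.Away f)
      (Localization.AtPrime q) (Submonoid.powers f) q.primeCompl hle
  haveI : IsLocalization (q.primeCompl.map (algebraMap S (Localization.Away f)))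
      (Localization.AtPrime q) :=
    IsLocalization.isLocalization_of_submonoid_le (Localization.Away f) (Localization.AtPrime q)
      (Submonoid.powers f) q.primeCompl hle
  haveI : Algebra.FormallyEtale (Localization.Away f) (Localization.AtPrime q) :=
    Algebra.FormallyEtale.of_isLocalization (q.primeCompl.map (algebraMap S (Localization.Away f)))
  letI : Algebra (MvPolynomial (Fin n) k) (Localization.AtPrime q) :=
    ((algebraMap (Localization.Away f) (Localization.AtPrime q)).comp
      (algebraMap (MvPolynomial (Fin n) k) (Localization.Away f))).toAlgebra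
  haveI : IsScalarTower (MvPolynomial (Fin n) k) (Localization.Away f) (Localization.AtPrime q) :=
    IsScalarTower.of_algebraMap_eq' rfl
  haveI : IsScalarTower k (MvPolynomial (Fin n) k) (Localization.AtPrime q) := by
    refine IsScalarTower.of_algebraMap_eq (fun x => ?_)
    rw [IsScalarTower.algebraMap_apply (MvPolynomial (Fin n) k) (Localization.Away f)
      (Localization.AtPrime q),
      ← IsScalarTower.algebraMap_apply k (MvPolynomial (Fin n) k) (Localization.Away f),
      IsScalarTower.algebraMap_apply k S (Localization.Away f),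
      ← IsScalarTower.algebraMap_apply S (Localization.Away f) (Localization.AtPrime q),
      ← IsScalarTower.algebraMap_apply k S (Localization.AtPrime q)]
  haveI : Algebra.FormallyEtale (MvPolynomial (Fin n) k) (Localization.AtPrime q) :=
    Algebra.FormallyEtale.comp (MvPolynomial (Fin n) k) (Localization.Away f) _
  obtain ⟨hli, hsp⟩ := basis_of_formallyEtale k (Fin n) (Localization.AtPrime q)
  let b := Module.Basis.mk hli hsp.ge
  rw [Module.finrank_eq_card_basis b]
  simp

end Groth.Agent.H14.JacCrit
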