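import Mathlib
import Groth.Agent.H73.KrullAkizuki

set_option autoImplicit false
set_option maxHeartbeats 1000000
set_option linter.style.haveILetI false
set_option linter.unusedSectionVars false
set_option linter.unusedVariables false

/-! Noetherianity of integral closures in reduced composita (Krull–Akizuki + Artinian
decomposition), towards `EtAlg.integralClosure_noetherian_of_essFiniteType_extension`. -/

namespace Groth.Agent.H14.IntClosNoeth

universe u

open TensorProduct Polynomial

/-- An element of a finite product is integral iff its components are. -/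
theorem isIntegral_pi {ι : Type*} [Finite ι] (R : Type*) [CommRing R] (S : ι → Type*)
    [∀ i, CommRing (S i)] [∀ i, Algebra R (S i)] (y : ∀ i, S i)
    (h : ∀ i, IsIntegral R (y i)) : IsIntegral R y := by
  classical
  cases nonempty_fintype ι
  choose p hp hpy using h
  refine ⟨∏ i, p i, Polynomial.monic_prod_of_monic Finset.univ p (fun i _ => hp i), ?_⟩
  rw [← Polynomial.aeval_def]
  funext i
  have h1 : (Polynomial.aeval y (∏ j, p j)) i = Polynomial.aeval (y i) (∏ j, p j) := by
    have := Polynomial.aeval_algHom_apply (Pi.evalAlgHom R S i) y (∏ j, p j)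
    simpa using this.symm
  rw [h1, map_prod]
  have h2 : Polynomial.aeval (y i) (p i) = 0 := by
    rw [Polynomial.aeval_def]; exact hpy i
  exact Finset.prod_eq_zero (Finset.mem_univ i) h2

/-- Essentially of finite type over a Noetherian ring is Noetherian. -/
theorem isNoetherianRing_of_essFiniteType (R S : Type u) [CommRing R] [CommRing S] [Algebra R S]
    [IsNoetherianRing R] [Algebra.EssFiniteType R S] : IsNoetherianRing S := by
  haveI : IsNoetherianRing (Algebra.EssFiniteType.subalgebra R S) :=
    Algebra.FiniteType.isNoetherianRing R _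
  exact IsLocalization.isNoetherianRing (Algebra.EssFiniteType.submonoid R S) S inferInstance

/-- One field factor. -/
theorem noeth_factor (A B K' F : Type u) [CommRing A] [CommRing B] [IsDomain B]
    [Ring.KrullDimLE 1 B] [Algebra A B] [Algebra.EssFiniteType A B]
    [Field K'] [Algebra A K'] (hA' : IsNoetherianRing (integralClosure A K'))
    (hK' : ∀ k : K', ∃ a : A, algebraMap A K' a ≠ 0 ∧ IsIntegral A (algebraMap A K' a * k))
    [Field F] [Algebra K' F] [Algebra B F] [Algebra A F] [IsScalarTower A B F]
    [IsScalarTower A K' F]
    (hgen : ∀ z : F, z ∈ Subfield.closure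
      (Set.range (algebraMap B F) ∪ Set.range (algebraMap K' F))) :
    IsNoetherianRing (integralClosure B F) := by
  classical
  haveI := hA'
  -- the Noetherian ring `B ⊗ A'`
  haveI h1 : IsNoetherianRing ((integralClosure A K') ⊗[A] B) :=
    isNoetherianRing_of_essFiniteType (integralClosure A K') _
  haveI h2 : IsNoetherianRing (B ⊗[A] (integralClosure A K')) :=
    isNoetherianRing_of_ringEquiv _
      (Algebra.TensorProduct.comm A (integralClosure A K') B).toRingEquiv
  let g : (integralClosure A K') →ₐ[A] F :=
    (IsScalarTower.toAlgHom A K' F).comp (integralClosure A K').val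
  let θ : B ⊗[A] (integralClosure A K') →ₐ[B] F :=
    Algebra.TensorProduct.productLeftAlgHom (Algebra.ofId B F) g
  have hθ : ∀ (b : B) (a : integralClosure A K'),
      θ (b ⊗ₜ a) = algebraMap B F b * algebraMap K' F (a : K') := by
    intro b a
    simp [θ, g, Algebra.ofId_apply]
  let D : Subalgebra B F := θ.range
  haveI hDn : IsNoetherianRing D :=
    isNoetherianRing_of_surjective _ _ θ.rangeRestrict.toRingHom θ.rangeRestrict_surjective
  -- `D` is integral over `B`
  have hDint : ∀ x : F, x ∈ D → IsIntegral B x := by
    rintro x ⟨t, rfl⟩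
    induction t using TensorProduct.induction_on with
    | zero => rw [map_zero]; exact isIntegral_zero
    | tmul b a =>
      show IsIntegral B (θ (b ⊗ₜ a))
      rw [hθ]
      refine IsIntegral.mul isIntegral_algebraMap ?_
      have ha : IsIntegral A (algebraMap K' F (a : K')) :=
        a.2.map (IsScalarTower.toAlgHom A K' F)
      exact ha.tower_top
    | add x y hx hy => rw [map_add]; exact hx.add hy
  haveI hDint' : Algebra.IsIntegral B D := ⟨fun x => by
    have := hDint x.1 x.2
    exact (isIntegral_algebraMap_iff (A := D) (B := F) Subtype.val_injective).mp this⟩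
  -- dimension
  haveI hDdim : Ring.KrullDimLE 1 D := by
    apply Ring.KrullDimLE.mk₁'
    intro I hI0 hIp
    haveI := hIp
    obtain ⟨x, hxI, hx0⟩ := Submodule.exists_mem_ne_zero_of_ne_bot hI0
    have hc : I.comap (algebraMap B D) ≠ ⊥ :=
      Ideal.comap_ne_bot_of_integral_mem hx0 hxI (Algebra.IsIntegral.isIntegral x)
    have hcm : (I.comap (algebraMap B D)).IsMaximal :=
      Ideal.IsPrime.isMaximal_of_ne_bot (Ideal.comap_isPrime _ _) hc
    exact Ideal.isMaximal_of_isIntegral_of_isMaximal_comap I hcm
  -- fraction field
  have hBD : ∀ b : B, algebraMap B F b ∈ D := fun b => D.algebraMap_mem b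
  have hAD : ∀ a : integralClosure A K', algebraMap K' F (a : K') ∈ D := by
    intro a
    refine ⟨(1 : B) ⊗ₜ a, ?_⟩
    show θ ((1 : B) ⊗ₜ a) = _
    rw [hθ, map_one, one_mul]
  have hcl : ∀ z : F, z ∈ Subfield.closure (D : Set F) := by
    intro z
    have hz := hgen z
    have hle : Subfield.closure (Set.range (algebraMap B F) ∪ Set.range (algebraMap K' F)) ≤
        Subfield.closure (D : Set F) := by
      rw [Subfield.closure_le]
      rintro x (⟨b, rfl⟩ | ⟨k, rfl⟩)
      · exact Subfield.subset_closure (hBD b)
      · obtain ⟨a, ha0, haint⟩ := hK' k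
        have h3 : algebraMap K' F (algebraMap A K' a * k) ∈ Subfield.closure (D : Set F) :=
          Subfield.subset_closure (hAD ⟨_, haint⟩)
        have h4 : algebraMap K' F (algebraMap A K' a) ∈ Subfield.closure (D : Set F) := by
          refine Subfield.subset_closure (hAD ⟨algebraMap A K' a, isIntegral_algebraMap⟩)
        have h5 : algebraMap K' F (algebraMap A K' a) ≠ 0 := by
          rw [Ne, map_eq_zero]; exact ha0
        have h6 : algebraMap K' F k =
            algebraMap K' F (algebraMap A K' a * k) / algebraMap K' F (algebraMap A K' a) := by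
          rw [map_mul, mul_div_assoc, mul_comm, div_mul_cancel₀ _ h5]
        rw [h6]
        exact div_mem h3 h4
    exact hle hz
  haveI hfaith : FaithfulSMul D F :=
    (faithfulSMul_iff_algebraMap_injective D F).mpr Subtype.val_injective
  haveI hfr : IsFractionRing D F := by
    refine IsFractionRing.of_field (R := D) F ?_
    intro z
    obtain ⟨y, hy, w, hw, rfl⟩ := Subfield.mem_closure_iff.mp (hcl z)
    have hSD : Subring.closure (D : Set F) = D.toSubring := Subring.closure_eq D.toSubring
    rw [hSD] at hy hw
    exact ⟨⟨y, hy⟩, ⟨w, hw⟩, rfl⟩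
  -- Krull–Akizuki
  have hKA : IsNoetherianRing (integralClosure D F) :=
    Groth.Agent.H73.KA.isNoetherianRing (R := D) (L := F) (integralClosure D F)
  haveI := hKA
  have hsub : ∀ x : integralClosure D F, ((integralClosure D F).val.toRingHom x) ∈
      integralClosure B F := by
    intro x
    exact isIntegral_trans (A := D) _ x.2
  let ψ : integralClosure D F →+* integralClosure B F :=
    RingHom.codRestrict ((integralClosure D F).val.toRingHom) (integralClosure B F) hsub
  refine isNoetherianRing_of_surjective _ _ ψ ?_
  intro y
  have hy : IsIntegral D (y : F) := IsIntegral.tower_top (R := B) y.2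
  exact ⟨⟨y, hy⟩, Subtype.ext rfl⟩

end Groth.Agent.H14.IntClosNoeth
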