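import Mathlib
import Groth.Agent.H14.IntClosNoeth

set_option autoImplicit false
set_option maxHeartbeats 1000000
set_option linter.style.haveILetI false
set_option linter.unusedSectionVars false
set_option linter.unusedVariables false

/-! Assembly for `EtAlg.integralClosure_noetherian_of_essFiniteType_extension`. -/

namespace Groth.Agent.H14.IntClosNoeth

universe u

open TensorProduct

theorem main (A B K L : Type u) [CommRing A] [IsDomain A]
    [IsDiscreteValuationRing A] [CommRing B] [IsDomain B] [IsDiscreteValuationRing B] [Algebra A B]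
    [Algebra.EssFiniteType A B]
    [Field K] [Field L] [Algebra A K] [IsFractionRing A K] [Algebra B L] [IsFractionRing B L]
    [Algebra K L] [Algebra A L] [IsScalarTower A K L] [IsScalarTower A B L]
    (K' : Type u) [Field K'] [Algebra K K'] [Algebra A K'] [IsScalarTower A K K']
    [Algebra.IsAlgebraic K K']
    (hA' : IsNoetherianRing (integralClosure A K'))
    (L' : Type u) [CommRing L'] [IsReduced L'] [Algebra K L'] [Algebra L L'] [Algebra K' L']
    [Algebra B L']
    [IsScalarTower K L L'] [IsScalarTower K K' L'] [IsScalarTower B L L']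
    (q : L ⊗[K] K' →ₐ[K] L') (hq : Function.Surjective q)
    (hqL : ∀ y : L, q (y ⊗ₜ 1) = algebraMap L L' y)
    (hqK : ∀ z : K', q (1 ⊗ₜ z) = algebraMap K' L' z) :
    IsNoetherianRing (integralClosure B L') := by
  classical
  letI aAL' : Algebra A L' := ((algebraMap K L').comp (algebraMap A K)).toAlgebra
  haveI tAKL' : IsScalarTower A K L' := IsScalarTower.of_algebraMap_eq (fun _ => rfl)
  haveI tAK'L' : IsScalarTower A K' L' := IsScalarTower.of_algebraMap_eq (fun a => by
    show algebraMap K L' (algebraMap A K a) = algebraMap K' L' (algebraMap A K' a)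
    rw [IsScalarTower.algebraMap_apply A K K', ← IsScalarTower.algebraMap_apply K K' L'])
  haveI tABL' : IsScalarTower A B L' := IsScalarTower.of_algebraMap_eq (fun a => by
    show algebraMap K L' (algebraMap A K a) = algebraMap B L' (algebraMap A B a)
    rw [IsScalarTower.algebraMap_apply B L L', ← IsScalarTower.algebraMap_apply A B L,
      IsScalarTower.algebraMap_apply A K L, ← IsScalarTower.algebraMap_apply K L L'])
  have hqt : ∀ (l : L) (k : K'), q (l ⊗ₜ k) = algebraMap L L' l * algebraMap K' L' k := by
    intro l k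
    rw [← hqL, ← hqK, ← map_mul, Algebra.TensorProduct.tmul_mul_tmul, mul_one, one_mul]
  -- `L'` is Noetherian
  haveI : Algebra.EssFiniteType B L :=
    Algebra.EssFiniteType.of_isLocalization L (nonZeroDivisors B)
  haveI : Algebra.EssFiniteType A L := Algebra.EssFiniteType.comp A B L
  haveI : Algebra.EssFiniteType K L := Algebra.EssFiniteType.of_comp A K L
  haveI : IsNoetherianRing (K' ⊗[K] L) := isNoetherianRing_of_essFiniteType K' _
  haveI : IsNoetherianRing (L ⊗[K] K') :=
    isNoetherianRing_of_ringEquiv _ (Algebra.TensorProduct.comm K K' L).toRingEquiv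
  haveI hL'n : IsNoetherianRing L' := isNoetherianRing_of_surjective _ _ q.toRingHom hq
  -- `L'` is integral over `L`
  have hint : ∀ x : L', IsIntegral L x := by
    intro x
    obtain ⟨t, rfl⟩ := hq x
    induction t using TensorProduct.induction_on with
    | zero => rw [map_zero]; exact isIntegral_zero
    | tmul l k =>
      rw [hqt]
      refine IsIntegral.mul isIntegral_algebraMap ?_
      have hk : IsIntegral K k := (Algebra.IsAlgebraic.isAlgebraic k).isIntegral
      have hk' : IsIntegral K (algebraMap K' L' k) := hk.map (IsScalarTower.toAlgHom K K' L')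
      exact hk'.tower_top
    | add x y hx hy => rw [map_add]; exact hx.add hy
  haveI : Algebra.IsIntegral L L' := ⟨hint⟩
  haveI hdim0 : Ring.KrullDimLE 0 L' := by
    rw [Ring.krullDimLE_zero_iff]
    intro I hI
    haveI := hI
    refine Ideal.isMaximal_of_isIntegral_of_isMaximal_comap (R := L) I ?_
    haveI : (I.comap (algebraMap L L')).IsPrime := Ideal.comap_isPrime _ _
    have : I.comap (algebraMap L L') = ⊥ := Ideal.eq_bot_of_prime _
    rw [this]; exact Ideal.bot_isMaximal
  haveI : IsArtinianRing L' :=
    isArtinianRing_iff_isNoetherianRing_krullDimLE_zero.mpr ⟨hL'n, hdim0⟩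
  -- the factors
  have hfac : ∀ m : MaximalSpectrum L',
      IsNoetherianRing (integralClosure B (L' ⧸ m.asIdeal)) := by
    intro m
    haveI := m.isMaximal
    letI : Field (L' ⧸ m.asIdeal) := Ideal.Quotient.field m.asIdeal
    refine noeth_factor A B K' (L' ⧸ m.asIdeal) hA' ?_ ?_
    · intro k
      have hk : IsAlgebraic A k :=
        (IsFractionRing.isAlgebraic_iff A K K').mpr (Algebra.IsAlgebraic.isAlgebraic k)
      obtain ⟨a, ha0, hai⟩ := hk.exists_integral_multiple
      refine ⟨a, ?_, ?_⟩
      · rw [IsScalarTower.algebraMap_apply A K K', Ne, map_eq_zero,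
          map_eq_zero_iff _ (IsFractionRing.injective A K)]
        exact ha0
      · rwa [Algebra.smul_def] at hai
    · intro z
      obtain ⟨z', rfl⟩ := Ideal.Quotient.mk_surjective z
      obtain ⟨t, rfl⟩ := hq z'
      induction t using TensorProduct.induction_on with
      | zero => rw [map_zero, map_zero]; exact zero_mem _
      | tmul l k =>
        rw [hqt, map_mul]
        refine mul_mem ?_ ?_
        · let φ : L →+* (L' ⧸ m.asIdeal) := (Ideal.Quotient.mk m.asIdeal).comp (algebraMap L L')
          have hφB : ∀ b : B, φ (algebraMap B L b) = algebraMap B (L' ⧸ m.asIdeal) b := by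
            intro b
            show Ideal.Quotient.mk m.asIdeal (algebraMap L L' (algebraMap B L b)) =
              Ideal.Quotient.mk m.asIdeal (algebraMap B L' b)
            rw [← IsScalarTower.algebraMap_apply B L L']
          obtain ⟨b, s, hs, rfl⟩ := IsFractionRing.div_surjective (A := B) l
          show φ (algebraMap B L b / algebraMap B L s) ∈ _
          rw [map_div₀, hφB, hφB]
          exact div_mem (Subfield.subset_closure (Or.inl ⟨b, rfl⟩))
            (Subfield.subset_closure (Or.inl ⟨s, rfl⟩))
        · exact Subfield.subset_closure (Or.inr ⟨k, rfl⟩)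
      | add x y hx hy => rw [map_add, map_add]; exact add_mem hx hy
  haveI := hfac
  haveI hprod : IsNoetherianRing
      (∀ m : MaximalSpectrum L', integralClosure B (L' ⧸ m.asIdeal)) := inferInstance
  let eB : L' ≃ₐ[B] (∀ m : MaximalSpectrum L', L' ⧸ m.asIdeal) :=
    (IsArtinianRing.equivPi L').restrictScalars B
  let ι : (∀ m : MaximalSpectrum L', integralClosure B (L' ⧸ m.asIdeal)) →+*
      (∀ m : MaximalSpectrum L', L' ⧸ m.asIdeal) :=
    RingHom.pi (fun m => ((integralClosure B (L' ⧸ m.asIdeal)).val.toRingHom).comp
      (Pi.evalRingHom _ m))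
  have hmem : ∀ y, (eB.symm.toAlgHom.toRingHom.comp ι) y ∈ integralClosure B L' := by
    intro y
    have h1 : IsIntegral B (ι y) := isIntegral_pi B _ _ (fun m => (y m).2)
    exact h1.map eB.symm.toAlgHom
  let ψ := RingHom.codRestrict (eB.symm.toAlgHom.toRingHom.comp ι) (integralClosure B L') hmem
  refine isNoetherianRing_of_surjective _ _ ψ ?_
  intro x
  have hx : ∀ m, IsIntegral B (eB x.1 m) := fun m => by
    have h2 : IsIntegral B (eB x.1) := x.2.map eB.toAlgHom
    exact h2.map (Pi.evalAlgHom B _ m)
  refine ⟨fun m => ⟨eB x.1 m, hx m⟩, ?_⟩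
  apply Subtype.ext
  show eB.symm (ι (fun m => ⟨eB x.1 m, hx m⟩)) = x.1
  have h3 : ι (fun m => ⟨eB x.1 m, hx m⟩) = eB x.1 := rfl
  rw [h3, AlgEquiv.symm_apply_apply]

end Groth.Agent.H14.IntClosNoeth
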