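import Mathlib
import Groth.Agent.H26.IrrISO

/-! (IRRF) for helper38's S0419 cluster: irreducibility of the geometric generic fibre of the
hypersurface model forces absolute irreducibility of `F`. -/

set_option autoImplicit false
set_option maxHeartbeats 800000
set_option linter.style.haveILetI false
universe u
open TensorProduct

namespace Groth.Agent.H14.IrrIRRF

/-- separability transfers along an injective map of domains. -/
theorem sep_transfer {P Q : Type*} [CommRing P] [IsDomain P] [CommRing Q] [IsDomain Q]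
    (φ : P →+* Q) (hφ : Function.Injective φ) (KP : Type*) [Field KP] [Algebra P KP]
    [IsFractionRing P KP] (E : Type*) [Field E] [Algebra Q E] [IsFractionRing Q E]
    (F : Polynomial P) (hsep : (F.map (algebraMap P KP)).Separable) :
    ((F.map φ).map (algebraMap Q E)).Separable := by
  have hcinj : Function.Injective ((algebraMap Q E).comp φ) :=
    (IsFractionRing.injective Q E).comp hφ
  let κ : KP →+* E := IsFractionRing.lift hcinj
  have h1 := hsep.map (f := κ)
  rw [Polynomial.map_map] at h1
  have hκ : κ.comp (algebraMap P KP) = (algebraMap Q E).comp φ :=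
    RingHom.ext (fun x => IsFractionRing.lift_algebraMap hcinj x)
  rw [hκ, ← Polynomial.map_map] at h1
  exact h1

/-- the core argument. -/
theorem core {Q : Type*} [CommRing Q] [IsDomain Q] (E : Type*) [Field E] [Algebra Q E]
    [IsFractionRing Q E] (FΩ : Polynomial Q) (hFΩm : FΩ.Monic)
    (hsepΩ : (FΩ.map (algebraMap Q E)).Separable) {T : Type*} [CommRing T]
    (ψ : AdjoinRoot FΩ →+* T) (hψinj : Function.Injective ψ) (hnil : (nilradical T).IsPrime) :
    Irreducible (FΩ.map (algebraMap Q E)) := by
  classical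
  have hEinj : Function.Injective (algebraMap Q E) := IsFractionRing.injective _ _
  set FE := FΩ.map (algebraMap Q E) with hFE
  have hFdeg : FΩ.natDegree ≠ 0 := by
    intro h0
    have h1 : FΩ = 1 := (Polynomial.Monic.natDegree_eq_zero hFΩm).mp h0
    have h2 : (1 : AdjoinRoot FΩ) = 0 := by
      have e1 : AdjoinRoot.mk FΩ FΩ = AdjoinRoot.mk FΩ 1 := congrArg (AdjoinRoot.mk FΩ) h1
      rw [AdjoinRoot.mk_self, map_one] at e1
      exact e1.symm
    have h3 : (1 : T) = 0 := by
      have := congrArg ψ h2
      rwa [map_one, map_zero] at this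
    have h4 : (1 : T) ∈ nilradical T := by
      rw [h3]; exact Ideal.zero_mem _
    exact hnil.ne_top ((Ideal.eq_top_iff_one _).mpr h4)
  have hFEdeg : FE.natDegree = FΩ.natDegree := hFΩm.natDegree_map _
  rw [irreducible_iff]
  refine ⟨fun hu => ?_, ?_⟩
  · have := Polynomial.natDegree_eq_zero_of_isUnit hu
    rw [hFEdeg] at this
    exact hFdeg this
  · intro a b hab
    by_contra hcon
    push Not at hcon
    obtain ⟨hau, hbu⟩ := hcon
    obtain ⟨d₁, hd₁, hG⟩ := IsLocalization.integerNormalization_spec (nonZeroDivisors Q) a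
    obtain ⟨d₂, hd₂, hH⟩ := IsLocalization.integerNormalization_spec (nonZeroDivisors Q) b
    set G := IsLocalization.integerNormalization (nonZeroDivisors Q) a
    set H := IsLocalization.integerNormalization (nonZeroDivisors Q) b
    have hsm : ∀ (d : Q) (x : Polynomial E), d • x = Polynomial.C (algebraMap Q E d) * x := by
      intro d x
      rw [Algebra.smul_def, IsScalarTower.algebraMap_apply Q E (Polynomial E)]
      rfl
    have hGH : G * H = Polynomial.C (d₁ * d₂) * FΩ := by
      apply Polynomial.map_injective _ hEinj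
      rw [Polynomial.map_mul, hG, hH, Polynomial.map_mul, Polynomial.map_C, ← hFE, hab, hsm, hsm,
        map_mul, Polynomial.C_mul]
      ring
    have hmk : AdjoinRoot.mk FΩ G * AdjoinRoot.mk FΩ H = 0 := by
      rw [← map_mul, hGH, map_mul, AdjoinRoot.mk_self, mul_zero]
    have hψ0 : ψ (AdjoinRoot.mk FΩ G) * ψ (AdjoinRoot.mk FΩ H) ∈ nilradical T := by
      rw [← map_mul, hmk, map_zero]; exact Ideal.zero_mem _
    have hd₁E : algebraMap Q E d₁ ≠ 0 := by
      intro h0
      exact nonZeroDivisors.ne_zero hd₁ (hEinj (by rw [h0, map_zero]))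
    have hd₂E : algebraMap Q E d₂ ≠ 0 := by
      intro h0
      exact nonZeroDivisors.ne_zero hd₂ (hEinj (by rw [h0, map_zero]))
    have hcop : IsCoprime a b := by
      rw [hab] at hsepΩ
      exact hsepΩ.isCoprime
    have key : ∀ (a b : Polynomial E) (G : Polynomial Q) (d : Q), algebraMap Q E d ≠ 0 →
        G.map (algebraMap Q E) = d • a → b ∣ FE → IsCoprime a b →
        ψ (AdjoinRoot.mk FΩ G) ∈ nilradical T → IsUnit b := by
      intro a b G d hd hGa hbF hcop hn
      obtain ⟨m, hm⟩ := hn
      rw [← map_pow] at hm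
      have h1 : AdjoinRoot.mk FΩ G ^ m = 0 := hψinj (by rw [hm, map_zero])
      rw [← map_pow, AdjoinRoot.mk_eq_zero] at h1
      have h2 : FE ∣ (d • a) ^ m := by
        rw [← hGa, ← Polynomial.map_pow]
        exact Polynomial.map_dvd _ h1
      have h3 : b ∣ a ^ m := by
        have h4 : b ∣ (d • a) ^ m := hbF.trans h2
        rw [hsm, mul_pow, ← map_pow] at h4
        have hu : IsUnit (algebraMap Q E d ^ m) := (IsUnit.mk0 _ hd).pow m
        exact (IsUnit.dvd_mul_left (Polynomial.isUnit_C.mpr hu)).mp h4
      exact (hcop.pow_left (m := m)).isUnit_of_dvd' h3 dvd_rfl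
    rcases hnil.mem_or_mem hψ0 with hn | hn
    · exact hbu (key a b G d₁ hd₁E hG ⟨a, by rw [hab, mul_comm]⟩ hcop hn)
    · exact hau (key b a H d₂ hd₂E hH ⟨b, hab⟩ hcop.symm hn)

theorem irreducible_map_of_irreducibleSpace_tensor {A : Type u} [CommRing A] [IsDomain A] {r : ℕ}
    (F : Polynomial (MvPolynomial (Fin r) A)) (hF : F.Monic)
    (hsep : (F.map (algebraMap (MvPolynomial (Fin r) A)
        (FractionRing (MvPolynomial (Fin r) A)))).Separable)
    (g : AdjoinRoot F) (hg : g ∈ nonZeroDivisors (AdjoinRoot F))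
    {Ω : Type u} [Field Ω] [Algebra A Ω] (hinj : Function.Injective (algebraMap A Ω))
    (h : IrreducibleSpace (PrimeSpectrum (Ω ⊗[A] Localization.Away g))) :
    Irreducible ((F.map (MvPolynomial.map (algebraMap A Ω))).map
      (algebraMap (MvPolynomial (Fin r) Ω) (FractionRing (MvPolynomial (Fin r) Ω)))) := by
  classical
  have hφinj : Function.Injective (MvPolynomial.map (σ := Fin r) (algebraMap A Ω)) :=
    MvPolynomial.map_injective _ hinj
  have hsepΩ := sep_transfer (MvPolynomial.map (σ := Fin r) (algebraMap A Ω)) hφinj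
    (FractionRing (MvPolynomial (Fin r) A)) (FractionRing (MvPolynomial (Fin r) Ω)) F hsep
  obtain ⟨ι, e, -, -⟩ := Groth.Agent.H26.IrrISO.exists_tensor_adjoinRoot_equiv F Ω
  -- flatness of `Ω` over `A`
  letI : Algebra (FractionRing A) Ω := (IsFractionRing.lift hinj).toAlgebra
  haveI : IsScalarTower A (FractionRing A) Ω :=
    IsScalarTower.of_algebraMap_eq (fun x => (IsFractionRing.lift_algebraMap hinj x).symm)
  haveI : Module.Flat A (FractionRing A) := IsLocalization.flat _ (nonZeroDivisors A)
  haveI : Module.Flat A Ω := Module.Flat.trans A (FractionRing A) Ω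
  let j : AdjoinRoot F →ₐ[A] Localization.Away g :=
    IsScalarTower.toAlgHom A (AdjoinRoot F) (Localization.Away g)
  have hjinj : Function.Injective j :=
    IsLocalization.injective (Localization.Away g) (Submonoid.powers_le.mpr hg)
  let ψ₀ : Ω ⊗[A] AdjoinRoot F →ₐ[A] Ω ⊗[A] Localization.Away g :=
    Algebra.TensorProduct.map (AlgHom.id A Ω) j
  have hψ₀ : ψ₀.toLinearMap = LinearMap.lTensor Ω j.toLinearMap :=
    TensorProduct.ext' (fun a b => by simp [ψ₀])
  have hψ₀inj : Function.Injective ψ₀ := by
    have h2 := Module.Flat.lTensor_preserves_injective_linearMap (M := Ω) j.toLinearMap hjinj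
    intro x y hxy
    apply h2
    rw [← hψ₀]
    exact hxy
  have hnil : (nilradical (Ω ⊗[A] Localization.Away g)).IsPrime :=
    PrimeSpectrum.irreducibleSpace_iff_isPrime_nilradical.mp h
  exact core (FractionRing (MvPolynomial (Fin r) Ω)) _ (hF.map _) hsepΩ
    (ψ₀.toRingHom.comp e.symm.toRingHom) (hψ₀inj.comp e.symm.injective) hnil

end Groth.Agent.H14.IrrIRRF
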