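import Mathlib

set_option autoImplicit false
universe u

namespace Groth.Agent.H14

open MvPolynomial

section Jac

variable {A : Type u} [CommRing A] {n : ℕ} (P : Fin n → MvPolynomial (Fin n) A)

/-- The Jacobian determinant of a square system of polynomials. -/
noncomputable def jacDet : MvPolynomial (Fin n) A :=
  (Matrix.of fun i j => pderiv j (P i)).det

/-- The quotient of the polynomial ring by the system. -/
abbrev JacQuot : Type u := MvPolynomial (Fin n) A ⧸ Ideal.span (Set.range P)

/-- The naive presubmersive presentation of the quotient by a square system. -/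
noncomputable def jacPres : Algebra.PreSubmersivePresentation A (JacQuot P) (Fin n) (Fin n) where
  toPresentation := Algebra.Presentation.naive (v := P)
  map := id
  map_inj := Function.injective_id

lemma jacPres_jacobian : (jacPres P).jacobian = Ideal.Quotient.mk _ (jacDet P) := by
  rw [Algebra.PreSubmersivePresentation.jacobian_eq_jacobiMatrix_det]
  have : (jacPres P).jacobiMatrix = (Matrix.of fun i j => pderiv j (P i)).transpose := by
    ext i j
    rw [Algebra.PreSubmersivePresentation.jacobiMatrix_apply]
    rfl
  rw [this, Matrix.det_transpose]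
  rfl

/-- The étale algebra of solutions of a square system with invertible Jacobian. -/
abbrev JacRing : Type u := Localization.Away (jacPres P).jacobian

instance : Algebra.Etale A (JacRing P) := by
  have hΔ : IsUnit (algebraMap (JacQuot P) (JacRing P) (jacPres P).jacobian) :=
    IsLocalization.Away.algebraMap_isUnit _
  let Q : Algebra.SubmersivePresentation A (JacRing P) _ _ :=
    { toPreSubmersivePresentation :=
        .comp (.localizationAway (JacRing P) (jacPres P).jacobian) (jacPres P),
      jacobian_isUnit := by simpa [Algebra.smul_def, -isUnit_map_iff, hΔ] }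
  have : Algebra.IsStandardSmoothOfRelativeDimension 0 A (JacRing P) :=
    ⟨_, _, _, inferInstance, Q, by
      simp only [Algebra.PreSubmersivePresentation.dimension_comp_eq_dimension_add_dimension, Q]
      simp [Algebra.Presentation.dimension]⟩
  infer_instance

/-- The coordinate functions in the étale algebra. -/
noncomputable def jacX (j : Fin n) : JacRing P :=
  algebraMap (JacQuot P) (JacRing P) (Ideal.Quotient.mk _ (X j))

variable {B : Type*} [CommRing B] [Algebra A B]

/-- The algebra map induced by a solution with invertible Jacobian. -/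
noncomputable def jacLift (b : Fin n → B)
    (hb : ∀ i, aeval b (P i) = 0) (hu : IsUnit (aeval b (jacDet P))) : JacRing P →ₐ[A] B :=
  IsLocalization.Away.liftAlgHom (jacPres P).jacobian
    (f := Ideal.Quotient.liftₐ (Ideal.span (Set.range P)) (aeval b) (fun x hx => by
      have : Ideal.span (Set.range P) ≤
          RingHom.ker (aeval b : MvPolynomial (Fin n) A →ₐ[A] B).toRingHom :=
        Ideal.span_le.mpr (by rintro _ ⟨i, rfl⟩; exact hb i)
      exact this hx))
    (by rw [jacPres_jacobian]; simpa using hu)

lemma jacLift_jacX (b : Fin n → B)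
    (hb : ∀ i, aeval b (P i) = 0) (hu : IsUnit (aeval b (jacDet P))) (j : Fin n) :
    jacLift P b hb hu (jacX P j) = b j := by
  simp [jacLift, jacX]

lemma aeval_jacRing_hom (σ : JacRing P →ₐ[A] B) (p : MvPolynomial (Fin n) A) :
    aeval (fun j => σ (jacX P j)) p =
      σ (algebraMap (JacQuot P) (JacRing P) (Ideal.Quotient.mk _ p)) := by
  let Φ : MvPolynomial (Fin n) A →ₐ[A] B :=
    σ.comp ((IsScalarTower.toAlgHom A (JacQuot P) (JacRing P)).comp (Ideal.Quotient.mkₐ A _))
  have := MvPolynomial.aeval_unique Φ
  exact (AlgHom.congr_fun this p).symm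

lemma aeval_jacRing_hom_eq_zero (σ : JacRing P →ₐ[A] B) (i : Fin n) :
    aeval (fun j => σ (jacX P j)) (P i) = 0 := by
  rw [aeval_jacRing_hom]
  have : Ideal.Quotient.mk (Ideal.span (Set.range P)) (P i) = 0 :=
    Ideal.Quotient.eq_zero_iff_mem.mpr (Ideal.subset_span ⟨i, rfl⟩)
  rw [this, map_zero, map_zero]

lemma isUnit_aeval_jacDet (σ : JacRing P →ₐ[A] B) :
    IsUnit (aeval (fun j => σ (jacX P j)) (jacDet P)) := by
  rw [aeval_jacRing_hom, ← jacPres_jacobian]
  exact (IsLocalization.Away.algebraMap_isUnit _).map σ

end Jac

end Groth.Agent.H14
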