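import Groth.Agent.H14.JacCrit
import Groth.Agent.H14.SepField
import Groth.Agent.S2451
import Groth.Agent.S2141
import Groth.Agent.H54.IntegralDim

set_option autoImplicit false
universe u

namespace Groth.Agent.H14.KaehlerGen

open IsLocalRing KaehlerDifferential TensorProduct
open Groth.Agent.H14.LocalKaehler

/-- Over a perfect field `k`, for `S` of finite type and `q` a prime with residue field of
transcendence degree `t`: `dim κ(q) ⊗ Ω[S_q/k] ≤ embdim S_q + t`. -/
theorem finrank_le_spanFinrank_add (k S : Type u) [Field k] [PerfectField k] [CommRing S]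
    [Algebra k S] [Algebra.FiniteType k S] (q : Ideal S) [q.IsPrime] (t : ℕ)
    (ht : Algebra.trdeg k q.ResidueField = t) :
    Module.finrank q.ResidueField
      (q.ResidueField ⊗[Localization.AtPrime q] Ω[Localization.AtPrime q⁄k]) ≤
        (maximalIdeal (Localization.AtPrime q)).spanFinrank + t := by
  haveI : IsNoetherianRing S := Algebra.FiniteType.isNoetherianRing k S
  haveI : Algebra.EssFiniteType k q.ResidueField := Algebra.EssFiniteType.comp k S _
  obtain ⟨hfin, hle, hiff⟩ := Groth.Agent.H14.SepField.field_lemma k q.ResidueField t ht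
  haveI : Algebra.FormallySmooth k q.ResidueField := Algebra.FormallySmooth.of_perfectField
  have hsep : Algebra.IsGeometricallyReduced k q.ResidueField :=
    (Groth.Agent.S2451.result (k := k) (K := q.ResidueField)).mp inferInstance
  set r := (maximalIdeal (Localization.AtPrime q)).spanFinrank with hr
  obtain ⟨s, hs1, hs2⟩ := Submodule.FG.exists_span_finset_card_eq_spanFinrank
    (p := IsLocalRing.maximalIdeal (Localization.AtPrime q)) (IsNoetherian.noetherian _)
  rw [← hr] at hs1
  let f₁ : Fin r → Localization.AtPrime q := fun j => (s.equivFin.symm (Fin.cast hs1.symm j) : _)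
  have hf₁ : Set.range f₁ = (s : Set (Localization.AtPrime q)) := by
    ext x
    constructor
    · rintro ⟨j, rfl⟩
      exact (s.equivFin.symm (Fin.cast hs1.symm j)).2
    · intro hx
      refine ⟨Fin.cast hs1 (s.equivFin ⟨x, hx⟩), ?_⟩
      simp [f₁]
  have hdim := hiff.mp hsep
  obtain ⟨κ', a, -, hsp, hli⟩ := exists_linearIndependent' q.ResidueField
    (fun x : q.ResidueField => KaehlerDifferential.D k q.ResidueField x)
  rw [KaehlerDifferential.span_range_derivation] at hsp
  let b := Module.Basis.mk hli hsp.ge
  haveI : Finite κ' := Module.Finite.finite_basis b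
  have hcard : Nat.card κ' = t := by rw [← Module.finrank_eq_nat_card_basis b, hdim]
  let e := Finite.equivFinOfCardEq hcard
  let f₂ : Fin t → Localization.AtPrime q := fun j =>
    Function.surjInv (IsLocalRing.residue_surjective (R := Localization.AtPrime q)) (a (e.symm j))
  have hf₂ : ∀ j, IsLocalRing.residue (Localization.AtPrime q) (f₂ j) = a (e.symm j) := fun j =>
    Function.surjInv_eq _ _
  have hspan := span_Φ_eq_top (k := k) (r + t) r (Fin.append f₁ f₂) (by
      rw [Groth.Agent.H14.SepField.image_lt]
      simp only [Fin.append_left]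
      rw [show (fun j => f₁ j) = f₁ from rfl, hf₁]
      exact hs2) (by
      rw [Groth.Agent.H14.SepField.image_ge r t (fun i => KaehlerDifferential.D k q.ResidueField
        (IsLocalRing.residue (Localization.AtPrime q) (Fin.append f₁ f₂ i)))]
      simp only [Fin.append_right, hf₂]
      rw [← hsp]
      congr 1
      exact e.symm.surjective.range_comp (fun x => KaehlerDifferential.D k q.ResidueField (a x)))
  have := finrank_range_le_card (R := q.ResidueField)
    (fun i : Fin (r + t) => Φ k (Fin.append f₁ f₂ i))
  rw [Set.finrank, hspan, finrank_top] at this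
  simpa using this

/-- Hypersurface singularities over a perfect field: `dim κ(q) ⊗ Ω[S_q/k] ≤ dim S + 1`. -/
theorem finrank_le_dim_succ (k S : Type u) [Field k] [PerfectField k] [CommRing S]
    [Algebra k S] [Algebra.FiniteType k S] (q : Ideal S) [q.IsPrime] (d : ℕ)
    (hd : ringKrullDim S ≤ d)
    (hhyp : (Module.finrank (IsLocalRing.ResidueField (Localization.AtPrime q))
          (IsLocalRing.CotangentSpace (Localization.AtPrime q)) : ℕ∞) ≤ q.height + 1) :
    Module.finrank q.ResidueField
      (q.ResidueField ⊗[Localization.AtPrime q] Ω[Localization.AtPrime q⁄k]) ≤ d + 1 := by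
  haveI : IsNoetherianRing S := Algebra.FiniteType.isNoetherianRing k S
  obtain ⟨t, ht⟩ := Groth.Agent.H14.EtaleDim.exists_trdeg_eq k S q
  have h1 := finrank_le_spanFinrank_add k S q t ht
  rw [IsLocalRing.spanFinrank_maximalIdeal_eq_finrank_cotangentSpace] at h1
  have h2 := Groth.Agent.S2141.result q t ht
  rw [IsLocalization.AtPrime.ringKrullDim_eq_height q (Localization.AtPrime q)] at h2
  have h3 := Groth.Agent.H14.EtaleDim.localDim_le_ringKrullDim S ⟨q, inferInstance⟩
  rw [h2] at h3
  have h4 : ((q.height : WithBot ℕ∞)) + (t : WithBot ℕ∞) ≤ (d : WithBot ℕ∞) := h3.trans hd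
  have h5 : q.height + (t : ℕ∞) ≤ (d : ℕ∞) := by exact_mod_cast h4
  have h6 : (Module.finrank (IsLocalRing.ResidueField (Localization.AtPrime q))
          (IsLocalRing.CotangentSpace (Localization.AtPrime q)) : ℕ∞) + (t : ℕ∞) ≤ d + 1 := by
    calc _ ≤ q.height + 1 + (t : ℕ∞) := by gcongr
      _ = q.height + (t : ℕ∞) + 1 := by ring
      _ ≤ d + 1 := by gcongr
  have h7 : Module.finrank (IsLocalRing.ResidueField (Localization.AtPrime q))
          (IsLocalRing.CotangentSpace (Localization.AtPrime q)) + t ≤ d + 1 := by exact_mod_cast h6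
  exact h1.trans h7

/-- Fibre dimension is invariant under base change of the module. -/
theorem finrank_fibre_baseChange (A B : Type u) [CommRing A] [CommRing B] [Algebra A B]
    (M : Type u) [AddCommGroup M] [Module A M] (p : Ideal A) [p.IsPrime] (P : Ideal B) [P.IsPrime]
    (h : p = P.comap (algebraMap A B)) :
    Module.finrank P.ResidueField (P.ResidueField ⊗[B] (B ⊗[A] M)) =
      Module.finrank p.ResidueField (p.ResidueField ⊗[A] M) := by
  letI : Algebra p.ResidueField P.ResidueField :=
    (Ideal.ResidueField.map p P (algebraMap A B) h).toAlgebra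
  haveI : IsScalarTower A p.ResidueField P.ResidueField := IsScalarTower.of_algebraMap_eq' (by
    ext a
    simp [RingHom.algebraMap_toAlgebra, IsScalarTower.algebraMap_apply A B P.ResidueField])
  let e1 : P.ResidueField ⊗[B] (B ⊗[A] M) ≃ₗ[P.ResidueField] P.ResidueField ⊗[A] M :=
    AlgebraTensorModule.cancelBaseChange A B P.ResidueField P.ResidueField M
  let e2 : P.ResidueField ⊗[p.ResidueField] (p.ResidueField ⊗[A] M) ≃ₗ[P.ResidueField]
      P.ResidueField ⊗[A] M :=
    AlgebraTensorModule.cancelBaseChange A p.ResidueField P.ResidueField P.ResidueField M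
  rw [e1.finrank_eq, ← e2.finrank_eq, Module.finrank_baseChange]

/-- Nakayama: a bound on the fibre dimension bounds the number of generators of the
localized module. -/
theorem exists_finset_span (A : Type u) [CommRing A] (M : Type u) [AddCommGroup M] [Module A M]
    [Module.Finite A M] (p : Ideal A) [p.IsPrime] (N : ℕ)
    (h : Module.finrank p.ResidueField (p.ResidueField ⊗[A] M) ≤ N) :
    ∃ s : Finset (LocalizedModule p.primeCompl M), s.card ≤ N ∧
      Submodule.span (Localization.AtPrime p) (s : Set (LocalizedModule p.primeCompl M)) = ⊤ := by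
  classical
  have hbc := IsLocalizedModule.isBaseChange p.primeCompl (Localization.AtPrime p)
    (LocalizedModule.mkLinearMap p.primeCompl M)
  let e1 : p.ResidueField ⊗[Localization.AtPrime p] (LocalizedModule p.primeCompl M)
      ≃ₗ[p.ResidueField] p.ResidueField ⊗[A] M :=
    AlgebraTensorModule.congr (LinearEquiv.refl p.ResidueField p.ResidueField) hbc.equiv.symm ≪≫ₗ
      AlgebraTensorModule.cancelBaseChange A (Localization.AtPrime p) p.ResidueField
        p.ResidueField M
  haveI : Module.Finite (Localization.AtPrime p) (LocalizedModule p.primeCompl M) :=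
    Module.Finite.of_isLocalizedModule p.primeCompl (LocalizedModule.mkLinearMap p.primeCompl M)
  let b := Module.finBasis p.ResidueField
    (p.ResidueField ⊗[Localization.AtPrime p] (LocalizedModule p.primeCompl M))
  choose f hf using fun i => TensorProduct.mk_surjective (Localization.AtPrime p)
    (LocalizedModule p.primeCompl M) p.ResidueField
    (IsLocalRing.residue_surjective (R := Localization.AtPrime p)) (b i)
  have hspan := IsLocalRing.span_eq_top_of_tmul_eq_basis f b hf
  refine ⟨Finset.univ.image f, ?_, by simpa using hspan⟩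
  refine Finset.card_image_le.trans ?_
  rw [Finset.card_univ, Fintype.card_fin, e1.finrank_eq]
  exact h

end Groth.Agent.H14.KaehlerGen
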