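import Mathlib

set_option autoImplicit false
open CategoryTheory CategoryTheory.Limits AlgebraicGeometry
universe u

namespace Groth.Agent.H14.KumFS_CHART

/-- (CHARTA) the open immersion `Spec Γ(S,U)[t] ⟶ 𝔸(σ; S)` over an affine open `U` of `S`. -/
theorem exists_openImmersion_affineSpace {S : Scheme.{u}} (σ : Type u) (U : S.Opens)
    (hU : IsAffineOpen U) :
    ∃ θ : Spec (CommRingCat.of (MvPolynomial σ Γ(S, U))) ⟶ AffineSpace σ S, IsOpenImmersion θ ∧
      θ ≫ (AffineSpace σ S ↘ S) = Spec.map (CommRingCat.ofHom MvPolynomial.C) ≫ hU.fromSpec ∧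
      ∀ j, (Scheme.ΓSpecIso _).hom.hom (θ.appTop.hom (AffineSpace.coord S j)) =
        MvPolynomial.X j := by
  have hopen : IsOpenImmersion (AffineSpace.map σ hU.fromSpec) :=
    MorphismProperty.of_isPullback (P := @IsOpenImmersion)
      (AffineSpace.isPullback_map (n := σ) hU.fromSpec).flip inferInstance
  refine ⟨(AffineSpace.SpecIso σ Γ(S, U)).inv ≫ AffineSpace.map σ hU.fromSpec, inferInstance, ?_, ?_⟩
  · rw [Category.assoc, AffineSpace.map_over, AffineSpace.SpecIso_inv_over_assoc]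
  · intro j
    have h1 : ((AffineSpace.SpecIso σ Γ(S, U)).inv ≫ AffineSpace.map σ hU.fromSpec).appTop.hom
        (AffineSpace.coord S j) =
        (AffineSpace.SpecIso σ Γ(S, U)).inv.appTop.hom
          ((AffineSpace.map σ hU.fromSpec).appTop.hom (AffineSpace.coord S j)) := by
      rw [Scheme.Hom.comp_appTop]; rfl
    rw [h1]
    have h2 : (AffineSpace.map σ hU.fromSpec).appTop.hom (AffineSpace.coord S j) =
        AffineSpace.coord _ j := AffineSpace.map_appTop_coord _ _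
    rw [h2]
    have h3 : (AffineSpace.SpecIso σ Γ(S, U)).inv.appTop.hom (AffineSpace.coord _ j) =
        (Scheme.ΓSpecIso (.of _)).inv (.X j) := AffineSpace.SpecIso_inv_appTop_coord _ _
    rw [h3]
    have h4 := (Scheme.ΓSpecIso (CommRingCat.of (MvPolynomial σ Γ(S, U)))).inv_hom_id
    have h5 := congrArg (fun φ : CommRingCat.of (MvPolynomial σ Γ(S, U)) ⟶
      CommRingCat.of (MvPolynomial σ Γ(S, U)) => φ.hom (MvPolynomial.X j)) h4
    simpa using h5

/-- (CHART) -/
theorem exists_chart {X S : Scheme.{u}} (f : X ⟶ S) (W : X.Opens) (d : ℕ)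
    (v : ULift.{u} (Fin d) → Γ(W, ⊤))
    (het : Etale (AffineSpace.homOfVector (W.ι ≫ f) v)) (x : X) (hx : x ∈ W) :
    ∃ (U : S.Opens) (_ : IsAffineOpen U) (W₀ : X.Opens) (_ : IsAffineOpen W₀) (hW₀W : W₀ ≤ W)
      (hW₀U : W₀ ≤ f ⁻¹ᵁ U), x ∈ W₀ ∧
      (MvPolynomial.eval₂Hom (f.appLE U W₀ hW₀U).hom
        (fun j => (X.presheaf.map (homOfLE hW₀W).op).hom (W.topIso.hom.hom (v j)))).Etale := by
  obtain ⟨_, ⟨U, hU, rfl⟩, hfxU, -⟩ :=
    S.isBasis_affineOpens.exists_subset_of_mem_open (Set.mem_univ (f.base x)) isOpen_univ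
  obtain ⟨_, ⟨W₀, hW₀, rfl⟩, hxW₀, hW₀le⟩ :=
    X.isBasis_affineOpens.exists_subset_of_mem_open (a := x)
      (show x ∈ ((W ⊓ f ⁻¹ᵁ U : X.Opens) : Set X) from ⟨hx, hfxU⟩) (W ⊓ f ⁻¹ᵁ U).isOpen
  replace hU : IsAffineOpen U := hU
  replace hW₀ : IsAffineOpen W₀ := hW₀
  have hW₀W : W₀ ≤ W := fun y hy => (hW₀le hy).1
  have hW₀U : W₀ ≤ f ⁻¹ᵁ U := fun y hy => (hW₀le hy).2
  refine ⟨U, hU, W₀, hW₀, hW₀W, hW₀U, hxW₀, ?_⟩
  set w : ULift.{u} (Fin d) → Γ(X, W₀) :=
    fun j => (X.presheaf.map (homOfLE hW₀W).op).hom (W.topIso.hom.hom (v j)) with hw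
  set ρ : MvPolynomial (ULift.{u} (Fin d)) Γ(S, U) →+* Γ(X, W₀) :=
    MvPolynomial.eval₂Hom (f.appLE U W₀ hW₀U).hom w with hρ
  obtain ⟨θ, hθ, hθover, hθcoord⟩ := exists_openImmersion_affineSpace (ULift.{u} (Fin d)) U hU
  let j : (W₀ : Scheme.{u}) ⟶ Spec (CommRingCat.of (MvPolynomial (ULift.{u} (Fin d)) Γ(S, U))) :=
    hW₀.isoSpec.hom ≫ Spec.map (CommRingCat.ofHom ρ)
  have key : j ≫ θ = X.homOfLE hW₀W ≫ AffineSpace.homOfVector (W.ι ≫ f) v := by
    apply AffineSpace.hom_ext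
    · have h1 : Spec.map (CommRingCat.ofHom ρ) ≫ Spec.map (CommRingCat.ofHom MvPolynomial.C) =
          Spec.map (f.appLE U W₀ hW₀U) := by
        rw [← Spec.map_comp]
        congr 1
        ext a
        simp [hρ]
      simp only [j, Category.assoc, AffineSpace.homOfVector_over, hθover]
      rw [reassoc_of% h1, IsAffineOpen.SpecMap_appLE_fromSpec f hU hW₀ hW₀U,
        ← Category.assoc, ← Category.assoc, Scheme.homOfLE_ι]
      congr 1
      exact IsAffineOpen.isoSpec_hom_fromSpec hW₀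
    · intro i
      have hres : W.topIso.hom ≫ X.presheaf.map (homOfLE hW₀W).op ≫ (Scheme.Opens.topIso W₀).inv =
          (X.homOfLE hW₀W).appTop := by
        rw [Scheme.homOfLE_appTop]
        simp only [Scheme.Opens.topIso_hom, Scheme.Opens.topIso_inv]
        erw [← Functor.map_comp, ← Functor.map_comp]
        rfl
      have hθi : θ.appTop.hom (AffineSpace.coord S i) =
          (Scheme.ΓSpecIso (CommRingCat.of (MvPolynomial (ULift.{u} (Fin d)) Γ(S, U)))).inv.hom (MvPolynomial.X i) := by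
        rw [← hθcoord i]
        have h4 := (Scheme.ΓSpecIso (CommRingCat.of (MvPolynomial (ULift.{u} (Fin d)) Γ(S, U)))).hom_inv_id
        have h5 := congrArg (fun φ : Γ(Spec (CommRingCat.of (MvPolynomial (ULift.{u} (Fin d)) Γ(S, U))), ⊤) ⟶
          Γ(Spec (CommRingCat.of (MvPolynomial (ULift.{u} (Fin d)) Γ(S, U))), ⊤) =>
            φ.hom (θ.appTop.hom (AffineSpace.coord S i))) h4
        simpa using h5.symm
      have hL : (j ≫ θ).appTop.hom (AffineSpace.coord S i) = (Scheme.Opens.topIso W₀).inv.hom (w i) := by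
        have e1 : (j ≫ θ).appTop.hom (AffineSpace.coord S i) =
            j.appTop.hom (θ.appTop.hom (AffineSpace.coord S i)) := by
          rw [Scheme.Hom.comp_appTop]; rfl
        rw [e1, hθi]
        have e2 : j.appTop = (Spec.map (CommRingCat.ofHom ρ)).appTop ≫ hW₀.isoSpec.hom.appTop := by
          simp only [j, Scheme.Hom.comp_appTop]
        have e3 : (Scheme.ΓSpecIso (CommRingCat.of (MvPolynomial (ULift.{u} (Fin d)) Γ(S, U)))).inv ≫
            (Spec.map (CommRingCat.ofHom ρ)).appTop =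
            CommRingCat.ofHom ρ ≫ (Scheme.ΓSpecIso Γ(X, W₀)).inv :=
          (Scheme.ΓSpecIso_inv_naturality (CommRingCat.ofHom ρ)).symm
        have e4 : (Scheme.ΓSpecIso (CommRingCat.of (MvPolynomial (ULift.{u} (Fin d)) Γ(S, U)))).inv ≫ j.appTop =
            CommRingCat.ofHom ρ ≫ (Scheme.Opens.topIso W₀).inv := by
          rw [e2, reassoc_of% e3, IsAffineOpen.isoSpec_hom_appTop, Iso.inv_hom_id_assoc]
        have e5 := congrArg (fun φ : CommRingCat.of (MvPolynomial (ULift.{u} (Fin d)) Γ(S, U)) ⟶ Γ((W₀ : Scheme.{u}), ⊤) =>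
          φ.hom (MvPolynomial.X i)) e4
        simp only [CommRingCat.hom_comp, RingHom.comp_apply, CommRingCat.hom_ofHom] at e5
        rw [e5, hρ, MvPolynomial.coe_eval₂Hom, MvPolynomial.eval₂_X]
      have hR : (X.homOfLE hW₀W ≫ AffineSpace.homOfVector (W.ι ≫ f) v).appTop.hom
          (AffineSpace.coord S i) = (X.homOfLE hW₀W).appTop.hom (v i) := by
        rw [Scheme.Hom.comp_appTop]
        have := AffineSpace.homOfVector_appTop_coord (W.ι ≫ f) v i
        simp only [CommRingCat.hom_comp, RingHom.comp_apply]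
        exact congrArg _ this
      show (j ≫ θ).appTop.hom (AffineSpace.coord S i) =
        (X.homOfLE hW₀W ≫ AffineSpace.homOfVector (W.ι ≫ f) v).appTop.hom (AffineSpace.coord S i)
      rw [hL, hR, ← hres]
      rfl
  -- étaleness
  haveI := het
  haveI : Etale (j ≫ θ) := by rw [key]; infer_instance
  haveI : Etale j := Etale.of_comp j θ
  have hsp : Etale (Spec.map (CommRingCat.ofHom ρ)) := by
    have : Spec.map (CommRingCat.ofHom ρ) = hW₀.isoSpec.inv ≫ j := by
      simp only [j, Iso.inv_hom_id_assoc]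
    rw [this]; infer_instance
  have hfin := (HasRingHomProperty.Spec_iff (P := @Etale)).mp hsp
  rw [CommRingCat.hom_ofHom] at hfin
  exact hfin

end Groth.Agent.H14.KumFS_CHART
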