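import Mathlib
import Groth.Agent.H34.RelLen

set_option autoImplicit false
set_option linter.style.haveILetI false
set_option linter.unusedSectionVars false
set_option linter.unusedVariables false

/-! Length of `B/bB` is unchanged when enlarging `B` to a finite overring `B'` with `cB' ⊆ B`
(lemma (B) for helper34's S1847). -/

namespace Groth.Agent.H14.LenQuotInj

universe u

open Groth.Agent.H34.RelLen

theorem length_quot_eq_of_injective {A : Type u} [CommRing A] [IsNoetherianRing A]
    [Ring.KrullDimLE 1 A] {B B' : Type u} [CommRing B] [CommRing B'] [Algebra A B] [Algebra A B']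
    [Module.Finite A B'] (f : B →ₐ[A] B') (hf : Function.Injective f) (c : A)
    (hc : c ∈ nonZeroDivisors A) (hcB : ∀ y : B', ∃ z : B, f z = c • y) (b : B)
    (hb : f b ∈ nonZeroDivisors B') :
    Module.length A (B ⧸ Ideal.span {b}) = Module.length A (B' ⧸ Ideal.span {f b}) := by
  classical
  set N : Submodule A B' := LinearMap.range f.toLinearMap with hN
  set μ : B' →ₗ[A] B' := LinearMap.mulLeft A (f b) with hμ
  have hμinj : Function.Injective μ := by
    intro x y hxy
    have h1 : f b * (x - y) = 0 := by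
      rw [mul_sub, sub_eq_zero]; exact hxy
    have h2 := (mul_right_mem_nonZeroDivisors_eq_zero_iff hb).mp (by rw [mul_comm]; exact h1)
    exact sub_eq_zero.mp h2
  have hμN_le_N : N.map μ ≤ N := by
    rintro _ ⟨_, ⟨z, rfl⟩, rfl⟩
    exact ⟨b * z, by simp [hμ]⟩
  have hμN_le : N.map μ ≤ (⊤ : Submodule A B').map μ := Submodule.map_mono le_top
  have e1 : rl (⊤ : Submodule A B') (N.map μ) = rl N (N.map μ) + rl ⊤ N :=
    rl_add hμN_le_N le_top
  have e2 : rl (⊤ : Submodule A B') (N.map μ) =
      rl ((⊤ : Submodule A B').map μ) (N.map μ) + rl ⊤ ((⊤ : Submodule A B').map μ) :=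
    rl_add hμN_le le_top
  have e3 : rl ((⊤ : Submodule A B').map μ) (N.map μ) = rl ⊤ N := rl_map μ hμinj ⊤ N
  have hfin : rl (⊤ : Submodule A B') N ≠ ⊤ := by
    refine rl_ne_top ⊤ N Module.Finite.fg_top c hc ?_
    intro x _
    obtain ⟨z, hz⟩ := hcB x
    exact ⟨z, hz⟩
  have key : rl N (N.map μ) = rl ⊤ ((⊤ : Submodule A B').map μ) := by
    rw [e2, e3, add_comm (rl ⊤ N)] at e1
    exact (WithTop.add_right_cancel hfin e1).symm
  -- identify both sides
  have hL : Module.length A (B ⧸ Ideal.span {b}) = rl N (N.map μ) := by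
    unfold rl
    have eA : (B ⧸ (Ideal.span {b}).restrictScalars A) ≃ₗ[A] (B ⧸ Ideal.span {b}) :=
      Submodule.Quotient.restrictScalarsEquiv A (Ideal.span {b})
    suffices h : Nonempty ((B ⧸ (Ideal.span {b}).restrictScalars A) ≃ₗ[A]
        (↥N ⧸ (N.map μ).submoduleOf N)) by
      obtain ⟨eB⟩ := h
      exact (eA.symm.trans eB).length_eq
    refine ⟨Submodule.Quotient.equiv _ _ (LinearEquiv.ofInjective f.toLinearMap hf) ?_⟩
    ext ⟨y, hy⟩
    constructor
    · rintro ⟨x, hx, hxy⟩
      have hx' : x ∈ Ideal.span {b} := hx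
      rw [Ideal.mem_span_singleton'] at hx'
      obtain ⟨w, rfl⟩ := hx'
      have h1 : f (w * b) = y := congrArg Subtype.val hxy
      refine ⟨f w, ⟨w, rfl⟩, ?_⟩
      show f b * f w = y
      rw [← h1, map_mul, mul_comm]
    · rintro ⟨_, ⟨w, rfl⟩, hwy⟩
      have h1 : f b * f w = y := hwy
      refine ⟨w * b, ?_, Subtype.ext ?_⟩
      · show w * b ∈ Ideal.span {b}
        exact Ideal.mem_span_singleton'.mpr ⟨w, rfl⟩
      · show f (w * b) = y
        rw [← h1, map_mul, mul_comm]
  have hR : Module.length A (B' ⧸ Ideal.span {f b}) = rl ⊤ ((⊤ : Submodule A B').map μ) := by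
    unfold rl
    have eA : (B' ⧸ (Ideal.span {f b}).restrictScalars A) ≃ₗ[A] (B' ⧸ Ideal.span {f b}) :=
      Submodule.Quotient.restrictScalarsEquiv A (Ideal.span {f b})
    suffices h : Nonempty ((B' ⧸ (Ideal.span {f b}).restrictScalars A) ≃ₗ[A]
        (↥(⊤ : Submodule A B') ⧸ ((⊤ : Submodule A B').map μ).submoduleOf ⊤)) by
      obtain ⟨eB⟩ := h
      exact (eA.symm.trans eB).length_eq
    refine ⟨Submodule.Quotient.equiv _ _ (Submodule.topEquiv (R := A) (M := B')).symm ?_⟩
    ext ⟨y, hy⟩
    constructor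
    · rintro ⟨x, hx, hxy⟩
      have hx' : x ∈ Ideal.span {f b} := hx
      rw [Ideal.mem_span_singleton'] at hx'
      obtain ⟨w, rfl⟩ := hx'
      have h1 : w * f b = y := congrArg Subtype.val hxy
      refine ⟨w, trivial, ?_⟩
      show f b * w = y
      rw [← h1, mul_comm]
    · rintro ⟨w, -, hwy⟩
      have h1 : f b * w = y := hwy
      refine ⟨w * f b, ?_, Subtype.ext ?_⟩
      · show w * f b ∈ Ideal.span {f b}
        exact Ideal.mem_span_singleton'.mpr ⟨w, rfl⟩
      · show w * f b = y
        rw [← h1, mul_comm]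
  rw [hL, hR, key]

end Groth.Agent.H14.LenQuotInj
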