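import Mathlib

/-!
# Lifting standard smooth algebras along a surjection `R → R/I` (helper14)

`exists_lift_submersive`: a submersive presentation over `R ⧸ I` lifts to a submersive
presentation (of the same dimension) of an `R`-algebra `S` with `(R ⧸ I) ⊗[R] S ≃ Sb`.
-/

set_option autoImplicit false
universe u
open scoped TensorProduct
open MvPolynomial Algebra

namespace Groth.Agent.H14

theorem exists_lift_submersive {R : Type u} [CommRing R] (I : Ideal R) {Sb : Type u} [CommRing Sb]
    [Algebra (R ⧸ I) Sb] {ι σ : Type} [Finite ι] [Finite σ]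
    (Pb : SubmersivePresentation (R ⧸ I) Sb ι σ) :
    ∃ (S : Type u) (_ : CommRing S) (_ : Algebra R S)
      (P : SubmersivePresentation R S (Unit ⊕ ι) (Unit ⊕ σ)),
      P.dimension = Pb.dimension ∧ Nonempty (((R ⧸ I) ⊗[R] S) ≃ₐ[R ⧸ I] Sb) := by
  classical
  cases nonempty_fintype σ
  letI : Algebra R Sb := Algebra.compHom Sb (Ideal.Quotient.mk I)
  haveI : IsScalarTower R (R ⧸ I) Sb := IsScalarTower.of_algebraMap_eq (fun _ => rfl)
  have hsurj : Function.Surjective
      (MvPolynomial.map (Ideal.Quotient.mk I) : MvPolynomial ι R → MvPolynomial ι (R ⧸ I)) :=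
    MvPolynomial.map_surjective _ Ideal.Quotient.mk_surjective
  choose v hv using fun j => hsurj (Pb.relation j)
  have hev : ∀ p : MvPolynomial ι R, aeval (R := R) Pb.val p =
      aeval (R := R ⧸ I) Pb.val (MvPolynomial.map (Ideal.Quotient.mk I) p) := by
    intro p
    exact (MvPolynomial.aeval_map_algebraMap (R := R) (R ⧸ I) Pb.val p).symm
  let P' : PreSubmersivePresentation R (MvPolynomial ι R ⧸ Ideal.span (Set.range v)) ι σ :=
    PreSubmersivePresentation.naive Pb.map Pb.map_inj
  have hker : ∀ a ∈ Ideal.span (Set.range v), aeval (R := R) Pb.val a = 0 := by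
    intro a ha
    have hle : Ideal.span (Set.range v) ≤ RingHom.ker (aeval (R := R) Pb.val) := by
      rw [Ideal.span_le]
      rintro _ ⟨j, rfl⟩
      rw [SetLike.mem_coe, RingHom.mem_ker, hev, hv]
      exact Pb.aeval_val_relation j
    exact hle ha
  let φ' : (MvPolynomial ι R ⧸ Ideal.span (Set.range v)) →ₐ[R] Sb :=
    Ideal.Quotient.liftₐ _ (aeval (R := R) Pb.val) hker
  have hφ'mk : ∀ p, φ' (Ideal.Quotient.mk _ p) = aeval (R := R) Pb.val p := fun p => rfl
  have hjac : φ' P'.jacobian = Pb.jacobian := by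
    rw [PreSubmersivePresentation.jacobian_eq_jacobiMatrix_det,
      PreSubmersivePresentation.jacobian_eq_jacobiMatrix_det]
    show φ' (Ideal.Quotient.mk _ P'.jacobiMatrix.det) = algebraMap Pb.Ring Sb Pb.jacobiMatrix.det
    rw [hφ'mk, hev, Generators.algebraMap_apply]
    congr 1
    rw [RingHom.map_det]
    congr 1
    refine Matrix.ext fun i j => ?_
    rw [RingHom.mapMatrix_apply, Matrix.map_apply, PreSubmersivePresentation.jacobiMatrix_naive,
      PreSubmersivePresentation.jacobiMatrix_apply, ← hv j, MvPolynomial.pderiv_map]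
  let Q : SubmersivePresentation (MvPolynomial ι R ⧸ Ideal.span (Set.range v))
      (Localization.Away P'.jacobian) Unit Unit :=
    SubmersivePresentation.localizationAway (Localization.Away P'.jacobian) P'.jacobian
  let PP : PreSubmersivePresentation R (Localization.Away P'.jacobian) (Unit ⊕ ι) (Unit ⊕ σ) :=
    Q.toPreSubmersivePresentation.comp P'
  have hPPjac : IsUnit PP.jacobian := by
    rw [PreSubmersivePresentation.comp_jacobian_eq_jacobian_smul_jacobian, Algebra.smul_def,
      IsUnit.mul_iff]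
    exact ⟨IsLocalization.Away.algebraMap_isUnit _, Q.jacobian_isUnit⟩
  let PS : SubmersivePresentation R (Localization.Away P'.jacobian) (Unit ⊕ ι) (Unit ⊕ σ) :=
    { toPreSubmersivePresentation := PP, jacobian_isUnit := hPPjac }
  have hdim : PS.dimension = Pb.dimension := by
    show PP.dimension = _
    rw [PreSubmersivePresentation.dimension_comp_eq_dimension_add_dimension]
    have hQ : Q.dimension = 0 :=
      Presentation.localizationAway_dimension_zero (S := Localization.Away P'.jacobian)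
        P'.jacobian
    rw [hQ, zero_add]
    rfl
  have hunit : ∀ y : Submonoid.powers P'.jacobian, IsUnit (φ' y) := by
    rintro ⟨_, n, rfl⟩
    rw [map_pow, hjac]
    exact Pb.jacobian_isUnit.pow n
  let φ : Localization.Away P'.jacobian →ₐ[R] Sb := IsLocalization.liftAlgHom hunit
  have hφ : ∀ s', φ (algebraMap _ (Localization.Away P'.jacobian) s') = φ' s' :=
    fun s' => IsLocalization.lift_eq _ s'
  let ψ : (R ⧸ I) ⊗[R] (Localization.Away P'.jacobian) →ₐ[R ⧸ I] Sb :=
    Algebra.TensorProduct.lift (Algebra.ofId (R ⧸ I) Sb) φ (fun _ _ => Commute.all _ _)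
  let g : MvPolynomial ι R →ₐ[R] Localization.Away P'.jacobian :=
    (IsScalarTower.toAlgHom R (MvPolynomial ι R ⧸ Ideal.span (Set.range v))
      (Localization.Away P'.jacobian)).comp (Ideal.Quotient.mkₐ R _)
  have hgmk : ∀ p, g p = algebraMap _ (Localization.Away P'.jacobian)
      (Ideal.Quotient.mk (Ideal.span (Set.range v)) p) := fun p => rfl
  have hgv : ∀ j, g (v j) = 0 := by
    intro j
    rw [hgmk, Ideal.Quotient.eq_zero_iff_mem.mpr (Ideal.subset_span (Set.mem_range_self j)), map_zero]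
  let incl : Localization.Away P'.jacobian →ₐ[R] (R ⧸ I) ⊗[R] (Localization.Away P'.jacobian) :=
    Algebra.TensorProduct.includeRight
  let χ₀ : MvPolynomial ι (R ⧸ I) →ₐ[R ⧸ I] (R ⧸ I) ⊗[R] (Localization.Away P'.jacobian) :=
    aeval (fun i => incl (g (X i)))
  have hχ₀ : ∀ p : MvPolynomial ι R,
      χ₀ (MvPolynomial.map (Ideal.Quotient.mk I) p) = incl (g p) := by
    intro p
    have h1 : χ₀ (MvPolynomial.map (Ideal.Quotient.mk I) p) =
        aeval (R := R) (fun i => incl (g (X i))) p :=
      MvPolynomial.aeval_map_algebraMap (R := R) (R ⧸ I) _ p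
    rw [h1]
    have h2 : (aeval (R := R) (fun i => incl (g (X i))) : MvPolynomial ι R →ₐ[R] _) =
        incl.comp g := by
      apply MvPolynomial.algHom_ext
      intro i
      simp
    rw [h2]
    rfl
  have hχ₀ker : ∀ a ∈ RingHom.ker (aeval (R := R ⧸ I) Pb.val), χ₀ a = 0 := by
    intro a ha
    rw [← Generators.ker_eq_ker_aeval_val, ← Pb.span_range_relation_eq_ker] at ha
    have hle : Ideal.span (Set.range Pb.relation) ≤ RingHom.ker χ₀ := by
      rw [Ideal.span_le]
      rintro _ ⟨j, rfl⟩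
      rw [SetLike.mem_coe, RingHom.mem_ker, ← hv j, hχ₀, hgv, map_zero]
    exact hle ha
  let χ : Sb →ₐ[R ⧸ I] (R ⧸ I) ⊗[R] (Localization.Away P'.jacobian) :=
    (Ideal.Quotient.liftₐ _ χ₀ hχ₀ker).comp
      (Ideal.quotientKerAlgEquivOfSurjective (f := aeval (R := R ⧸ I) Pb.val)
        Pb.aeval_val_surjective).symm.toAlgHom
  have hχ : ∀ p, χ (aeval (R := R ⧸ I) Pb.val p) = χ₀ p := by
    intro p
    show Ideal.Quotient.liftₐ _ χ₀ hχ₀ker
      ((Ideal.quotientKerAlgEquivOfSurjective (f := aeval (R := R ⧸ I) Pb.val)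
        Pb.aeval_val_surjective).symm (aeval Pb.val p)) = _
    rw [Ideal.quotientKerAlgEquivOfSurjective_symm_apply]
    rfl
  have hψincl : ∀ s, ψ ((1 : R ⧸ I) ⊗ₜ s) = φ s := by
    intro s
    show Algebra.TensorProduct.lift (Algebra.ofId (R ⧸ I) Sb) φ (fun _ _ => Commute.all _ _)
      ((1 : R ⧸ I) ⊗ₜ s) = φ s
    rw [Algebra.TensorProduct.lift_tmul, map_one, one_mul]
  have h1 : ψ.comp χ = AlgHom.id (R ⧸ I) Sb := by
    apply (AlgHom.cancel_right Pb.aeval_val_surjective).mp
    apply MvPolynomial.algHom_ext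
    intro i
    show ψ (χ (aeval Pb.val (X i))) = aeval Pb.val (X i)
    rw [hχ]
    show ψ (aeval (fun i => incl (g (X i))) (X i)) = _
    rw [aeval_X, aeval_X]
    show ψ ((1 : R ⧸ I) ⊗ₜ g (X i)) = Pb.val i
    rw [hψincl, hgmk, hφ, hφ'mk, aeval_X]
  have h2 : χ.comp ψ = AlgHom.id (R ⧸ I) ((R ⧸ I) ⊗[R] (Localization.Away P'.jacobian)) := by
    apply Algebra.TensorProduct.ext
    · ext
    · apply AlgHom.coe_ringHom_injective
      apply IsLocalization.ringHom_ext (Submonoid.powers P'.jacobian)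
      refine RingHom.ext fun s' => ?_
      obtain ⟨p, rfl⟩ := Ideal.Quotient.mk_surjective s'
      show χ (ψ ((1 : R ⧸ I) ⊗ₜ (algebraMap _ (Localization.Away P'.jacobian)
        (Ideal.Quotient.mk _ p)))) = (1 : R ⧸ I) ⊗ₜ (algebraMap _ (Localization.Away P'.jacobian)
        (Ideal.Quotient.mk _ p))
      rw [hψincl, hφ, hφ'mk, hev, hχ, hχ₀]
      rfl
  exact ⟨Localization.Away P'.jacobian, inferInstance, inferInstance, PS, hdim,
    ⟨AlgEquiv.ofAlgHom ψ χ h1 h2⟩⟩

end Groth.Agent.H14
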