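import Mathlib

set_option autoImplicit false

namespace Groth.Agent.H14

universe u

open AlgebraicGeometry CategoryTheory IsLocalRing

/-- A morphism from the spectrum of a local ring whose closed point lands in an affine open `V`
factors through `V`. -/
theorem exists_chart {X : Scheme.{u}} {V : X.Opens} (hV : IsAffineOpen V) {B : Type u}
    [CommRing B] [IsLocalRing B] (α : Spec (CommRingCat.of B) ⟶ X)
    (h : α.base (closedPoint B) ∈ V) :
    ∃ a : Γ(X, V) ⟶ CommRingCat.of B, Spec.map a ≫ hV.fromSpec = α := by
  refine ⟨X.presheaf.germ V _ h ≫ Scheme.stalkClosedPointTo α, ?_⟩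
  rw [Spec.map_comp, Category.assoc]
  have := Scheme.Spec_stalkClosedPointTo_fromSpecStalk α
  rw [← hV.fromSpecStalk_eq_fromSpecStalk h] at this
  exact this

/-- The prime of `Γ(X, V)` cut out by a chart. -/
theorem comap_chart {X : Scheme.{u}} {V : X.Opens} (hV : IsAffineOpen V) {B : Type u}
    [CommRing B] [IsLocalRing B] (a : Γ(X, V) ⟶ CommRingCat.of B) (x : X) (hx : x ∈ V)
    (h : (Spec.map a ≫ hV.fromSpec).base (closedPoint B) = x) :
    (maximalIdeal B).comap a.hom = (hV.primeIdealOf ⟨x, hx⟩).asIdeal := by
  have h1 : hV.fromSpec.base ((Spec.map a).base (closedPoint B)) =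
      hV.fromSpec.base (hV.primeIdealOf ⟨x, hx⟩) := by
    rw [hV.fromSpec_primeIdealOf ⟨x, hx⟩]
    exact h
  have h2 := hV.fromSpec.isOpenEmbedding.injective h1
  rw [← h2]
  rfl

theorem closedPoint_of_surjective {B B' : Type u} [CommRing B] [CommRing B'] [IsLocalRing B]
    [IsLocalRing B'] (φ : B' →+* B) (hφ : Function.Surjective φ) :
    (Spec.map (CommRingCat.ofHom φ)).base (closedPoint B) = closedPoint B' := by
  haveI : IsLocalHom φ := IsLocalHom.of_surjective φ hφ
  exact IsLocalRing.comap_closedPoint φ


set_option backward.isDefEq.respectTransparency.types false in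
/-- Formal unramifiedness of the restriction to an affine open lying over an affine open is a
property of the ring map. -/
theorem formallyUnramified_ι_comp_iff {X Y : Scheme.{u}} (f : X ⟶ Y) {U : Y.Opens}
    (hU : IsAffineOpen U) {V : X.Opens} (hV : IsAffineOpen V) (e : V ≤ f ⁻¹ᵁ U) :
    FormallyUnramified (V.ι ≫ f) ↔ (f.appLE U V e).hom.FormallyUnramified := by
  have h1 : FormallyUnramified (V.ι ≫ f) ↔ FormallyUnramified (hV.fromSpec ≫ f) := by
    have : hV.fromSpec ≫ f = hV.isoSpec.inv ≫ V.ι ≫ f := by
      rw [IsAffineOpen.fromSpec, Category.assoc]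
    rw [this]
    exact (MorphismProperty.cancel_left_of_respectsIso @FormallyUnramified
      hV.isoSpec.inv _).symm
  rw [h1, ← IsAffineOpen.SpecMap_appLE_fromSpec f hU hV e,
    ← HasRingHomProperty.Spec_iff (P := @FormallyUnramified)]
  constructor
  · intro h
    exact FormallyUnramified.of_comp _ hU.fromSpec
  · intro h
    exact MorphismProperty.comp_mem @FormallyUnramified _ _ h inferInstance

set_option backward.isDefEq.respectTransparency.types false in
/-- Formal unramifiedness passes to smaller opens. -/
theorem formallyUnramified_ι_comp_of_le {X Y : Scheme.{u}} (f : X ⟶ Y) {V W : X.Opens}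
    (hVW : V ≤ W) [FormallyUnramified (W.ι ≫ f)] : FormallyUnramified (V.ι ≫ f) := by
  rw [← X.homOfLE_ι hVW, Category.assoc]
  exact MorphismProperty.comp_mem @FormallyUnramified _ _ inferInstance inferInstance

end Groth.Agent.H14
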