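import Mathlib

set_option autoImplicit false
universe u

namespace Groth.Agent.H14.LocalKaehler

open IsLocalRing KaehlerDifferential TensorProduct

variable (k : Type*) {T : Type*} [CommRing k] [CommRing T] [IsLocalRing T] [Algebra k T]

/-- `Φ x = 1 ⊗ dx` in `κ ⊗ Ω[T/k]`. -/
noncomputable def Φ (x : T) : ResidueField T ⊗[T] Ω[T⁄k] :=
  (1 : ResidueField T) ⊗ₜ[T] D k T x

lemma Φ_add (x y : T) : Φ k (x + y) = Φ k x + Φ k y := by
  simp [Φ, tmul_add]

lemma Φ_zero : Φ k (0 : T) = 0 := by simp [Φ]

lemma one_tmul_smul (a : T) (ω : Ω[T⁄k]) :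
    (1 : ResidueField T) ⊗ₜ[T] (a • ω) = residue T a • ((1 : ResidueField T) ⊗ₜ[T] ω) := by
  rw [← TensorProduct.smul_tmul, TensorProduct.smul_tmul', Algebra.smul_def, mul_one, smul_eq_mul,
    mul_one]
  rfl

lemma Φ_mul (a x : T) : Φ k (a * x) = residue T a • Φ k x + residue T x • Φ k a := by
  simp only [Φ, Derivation.leibniz, tmul_add, one_tmul_smul]

lemma Φ_mul_of_mem (a : T) {x : T} (hx : x ∈ maximalIdeal T) :
    Φ k (a * x) = residue T a • Φ k x := by
  rw [Φ_mul, (residue_eq_zero_iff x).mpr hx, zero_smul, add_zero]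

lemma Φ_sum {ι : Type*} (s : Finset ι) (f : ι → T) : Φ k (∑ i ∈ s, f i) = ∑ i ∈ s, Φ k (f i) := by
  classical
  induction s using Finset.induction_on with
  | empty => simp [Φ_zero]
  | insert a s ha ih => rw [Finset.sum_insert ha, Finset.sum_insert ha, Φ_add, ih]

lemma Φ_eq_zero_of_mem_sq {x : T} (hx : x ∈ maximalIdeal T ^ 2) : Φ k x = 0 := by
  rw [pow_two] at hx
  refine Submodule.mul_induction_on hx (fun a ha b hb => ?_) (fun a b ha hb => ?_)
  · rw [Φ_mul, (residue_eq_zero_iff a).mpr ha, (residue_eq_zero_iff b).mpr hb]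
    simp
  · rw [Φ_add, ha, hb, add_zero]

/-- `π (Φ x) = d (residue x)`. -/
lemma mapBaseChange_Φ (x : T) :
    mapBaseChange k T (ResidueField T) (Φ k x) = D k (ResidueField T) (residue T x) := by
  rw [Φ, mapBaseChange_tmul, one_smul, map_D]
  rfl

/-- The kernel of `π : κ ⊗ Ω[T/k] → Ω[κ/k]` consists of the `Φ x`, `x ∈ m`. -/
lemma exists_of_mapBaseChange_eq_zero (v : ResidueField T ⊗[T] Ω[T⁄k])
    (hv : mapBaseChange k T (ResidueField T) v = 0) :
    ∃ x ∈ maximalIdeal T, v = Φ k x := by
  have hex := exact_kerCotangentToTensor_mapBaseChange k T (ResidueField T)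
    (residue_surjective (R := T))
  obtain ⟨c, hc⟩ := (hex v).mp hv
  obtain ⟨⟨x, hx⟩, rfl⟩ := Ideal.toCotangent_surjective _ c
  refine ⟨x, ?_, ?_⟩
  · have : residue T x = 0 := hx
    exact (residue_eq_zero_iff x).mp this
  · rw [← hc, kerCotangentToTensor_toCotangent]
    rfl

variable {k}

/-- If the `G i`, `i < r`, generate the maximal ideal and the `d(residue (G i))`, `i ≥ r`, span
`Ω[κ/k]`, then the `1 ⊗ d(G i)` span `κ ⊗ Ω[T/k]`. -/
theorem span_Φ_eq_top (n r : ℕ) (G : Fin n → T)
    (h1 : Ideal.span (G '' {i : Fin n | (i : ℕ) < r}) = maximalIdeal T)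
    (h2 : Submodule.span (ResidueField T)
      ((fun i : Fin n => D k (ResidueField T) (residue T (G i))) '' {i : Fin n | r ≤ (i : ℕ)}) = ⊤) :
    Submodule.span (ResidueField T) (Set.range fun i => Φ k (G i)) = ⊤ := by
  -- Step A
  have hA : ∀ x ∈ maximalIdeal T,
      Φ k x ∈ Submodule.span (ResidueField T) (Set.range fun i => Φ k (G i)) := by
    let I' : Ideal T :=
      { carrier := {x | x ∈ maximalIdeal T ∧
          Φ k x ∈ Submodule.span (ResidueField T) (Set.range fun i => Φ k (G i))}
        add_mem' := fun {a b} ha hb => ⟨Ideal.add_mem _ ha.1 hb.1, by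
          rw [Φ_add]; exact Submodule.add_mem _ ha.2 hb.2⟩
        zero_mem' := ⟨Ideal.zero_mem _, by rw [Φ_zero]; exact Submodule.zero_mem _⟩
        smul_mem' := fun a x hx => ⟨Ideal.mul_mem_left _ a hx.1, by
          rw [smul_eq_mul, Φ_mul_of_mem k a hx.1]; exact Submodule.smul_mem _ _ hx.2⟩ }
    have hle : Ideal.span (G '' {i : Fin n | (i : ℕ) < r}) ≤ I' := by
      refine Ideal.span_le.mpr ?_
      rintro _ ⟨i, hi, rfl⟩
      exact ⟨h1 ▸ Ideal.subset_span ⟨i, hi, rfl⟩, Submodule.subset_span ⟨i, rfl⟩⟩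
    intro x hx
    rw [← h1] at hx
    exact (hle hx).2
  -- Step B
  rw [eq_top_iff]
  intro v _
  have hB : (⊤ : Submodule (ResidueField T) Ω[ResidueField T⁄k]) ≤
      (Submodule.span (ResidueField T) (Set.range fun i => Φ k (G i))).map
        (mapBaseChange k T (ResidueField T)) := by
    rw [← h2, Submodule.map_span]
    refine Submodule.span_mono ?_
    rintro _ ⟨i, -, rfl⟩
    exact ⟨Φ k (G i), ⟨i, rfl⟩, mapBaseChange_Φ k (G i)⟩
  obtain ⟨v', hv', hvv'⟩ := hB (Submodule.mem_top (x := mapBaseChange k T (ResidueField T) v))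
  obtain ⟨x, hx, hxv⟩ := exists_of_mapBaseChange_eq_zero k (v - v') (by rw [map_sub, hvv', sub_self])
  have : v = v' + Φ k x := by rw [← hxv]; abel
  rw [this]
  exact Submodule.add_mem _ hv' (hA x hx)

/-- Conversely, if the `1 ⊗ d(G i)` form a basis of `κ ⊗ Ω[T/k]`, `G i ∈ m` for `i < r` and
`dim m/m² = r`, then the `G i`, `i < r`, generate the maximal ideal and the `d(residue (G i))`,
`i ≥ r`, span `Ω[κ/k]`. -/
theorem conditions_of_basis [IsNoetherianRing T] (n r : ℕ) (hrn : r ≤ n) (G : Fin n → T)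
    (hg : ∀ i : Fin n, (i : ℕ) < r → G i ∈ maximalIdeal T)
    (hspan : Submodule.span (ResidueField T) (Set.range fun i => Φ k (G i)) = ⊤)
    (hli : LinearIndependent (ResidueField T) (fun i => Φ k (G i)))
    (hreg : Module.finrank (ResidueField T) (CotangentSpace T) = r) :
    Ideal.span (G '' {i : Fin n | (i : ℕ) < r}) = maximalIdeal T ∧
    Submodule.span (ResidueField T)
      ((fun i : Fin n => D k (ResidueField T) (residue T (G i))) '' {i : Fin n | r ≤ (i : ℕ)}) = ⊤ := by
  constructor
  · -- the classes of `G i`, `i < r`, in `m/m²`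
    have hg' : ∀ j : Fin r, G (Fin.castLE hrn j) ∈ maximalIdeal T := fun j => hg _ (by simp)
    let b : Fin r → CotangentSpace T := fun j =>
      (maximalIdeal T).toCotangent ⟨G (Fin.castLE hrn j), hg' j⟩
    have hbli : LinearIndependent (ResidueField T) b := by
      rw [linearIndependent_iff']
      intro s c hc j hj
      choose a ha using fun j => residue_surjective (R := T) (c j)
      have h0 : (maximalIdeal T).toCotangent
          ⟨∑ j ∈ s, a j * G (Fin.castLE hrn j),
            Ideal.sum_mem _ fun j _ => Ideal.mul_mem_left _ _ (hg' j)⟩ = 0 := by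
        rw [← hc]
        have : (⟨∑ j ∈ s, a j * G (Fin.castLE hrn j),
            Ideal.sum_mem _ fun j _ => Ideal.mul_mem_left _ _ (hg' j)⟩ : maximalIdeal T) =
            ∑ j ∈ s, a j • (⟨G (Fin.castLE hrn j), hg' j⟩ : maximalIdeal T) := by
          ext
          simp
        rw [this, map_sum]
        refine Finset.sum_congr rfl fun j _ => ?_
        rw [map_smul, ← ha j]
        rfl
      rw [Ideal.toCotangent_eq_zero] at h0
      have h1 := Φ_eq_zero_of_mem_sq k h0
      rw [Φ_sum] at h1
      have h2 : ∑ j ∈ s, c j • Φ k (G (Fin.castLE hrn j)) = 0 := by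
        rw [← h1]
        refine Finset.sum_congr rfl fun j _ => ?_
        rw [Φ_mul_of_mem k (a j) (hg' j), ha j]
      have hli' : LinearIndependent (ResidueField T) (fun j : Fin r => Φ k (G (Fin.castLE hrn j))) :=
        hli.comp (Fin.castLE hrn) (Fin.castLE_injective hrn)
      exact linearIndependent_iff'.mp hli' s c h2 j hj
    have hbspan : Submodule.span (ResidueField T) (Set.range b) = ⊤ :=
      hbli.span_eq_top_of_card_eq_finrank' (by simp [hreg])
    have hrange : Set.range b = (maximalIdeal T).toCotangent ''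
        (Set.range fun j : Fin r => (⟨G (Fin.castLE hrn j), hg' j⟩ : maximalIdeal T)) := by
      rw [← Set.range_comp]; rfl
    rw [hrange, CotangentSpace.span_image_eq_top_iff] at hbspan
    apply le_antisymm
    · refine Ideal.span_le.mpr ?_
      rintro _ ⟨i, hi, rfl⟩
      exact hg i hi
    · intro x hx
      have hmem : (⟨x, hx⟩ : maximalIdeal T) ∈ Submodule.span T
          (Set.range fun j : Fin r => (⟨G (Fin.castLE hrn j), hg' j⟩ : maximalIdeal T)) := by
        rw [hbspan]; trivial
      have := Submodule.mem_map_of_mem (f := (maximalIdeal T).subtype) hmem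
      rw [Submodule.map_span] at this
      refine Submodule.span_mono ?_ this
      rintro _ ⟨_, ⟨j, rfl⟩, rfl⟩
      exact ⟨Fin.castLE hrn j, by simp, rfl⟩
  · have hsurj : Function.Surjective (mapBaseChange k T (ResidueField T)) :=
      mapBaseChange_surjective k T (ResidueField T) (residue_surjective (R := T))
    rw [eq_top_iff, ← LinearMap.range_eq_top.mpr hsurj, LinearMap.range_eq_map, ← hspan,
      Submodule.map_span]
    refine Submodule.span_le.mpr ?_
    rintro _ ⟨_, ⟨i, rfl⟩, rfl⟩
    rw [mapBaseChange_Φ]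
    by_cases hi : (i : ℕ) < r
    · rw [(residue_eq_zero_iff _).mpr (hg i hi), map_zero]
      exact Submodule.zero_mem _
    · exact Submodule.subset_span ⟨i, not_lt.mp hi, rfl⟩

end Groth.Agent.H14.LocalKaehler
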