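import Mathlib

set_option autoImplicit false

namespace Groth.Agent.H14

universe u

open IsLocalRing

/-- Ring level: if `S_q` is formally smooth over `R`, local square-zero lifting problems based at
`q` have solutions. -/
theorem exists_lift_of_formallySmooth_localization {R S : Type u} [CommRing R] [CommRing S]
    [Algebra R S] (q : Ideal S) [q.IsPrime]
    [Algebra.FormallySmooth R (Localization.AtPrime q)]
    {B B' : Type u} [CommRing B] [CommRing B'] [IsLocalRing B] [IsLocalRing B'] (φ : B' →+* B)
    (hφ : Function.Surjective φ) (hker : RingHom.ker φ ^ 2 = ⊥)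
    (a : S →+* B) (ha : (maximalIdeal B).comap a = q) (b : R →+* B')
    (hab : φ.comp b = a.comp (algebraMap R S)) :
    ∃ c : S →+* B', φ.comp c = a ∧ c.comp (algebraMap R S) = b := by
  letI : Algebra R B' := b.toAlgebra
  letI : Algebra R B := (φ.comp b).toAlgebra
  let φ' : B' →ₐ[R] B := { φ with commutes' := fun r => rfl }
  have hunit : ∀ y : q.primeCompl, IsUnit (a y) := by
    intro y
    by_contra hy
    have : (y : S) ∈ (maximalIdeal B).comap a := hy
    rw [ha] at this
    exact y.2 this
  let a₀ : Localization.AtPrime q →+* B := IsLocalization.lift (M := q.primeCompl) hunit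
  let a' : Localization.AtPrime q →ₐ[R] B :=
    { a₀ with
      commutes' := fun r => by
        change a₀ (algebraMap R (Localization.AtPrime q) r) = φ (b r)
        rw [IsScalarTower.algebraMap_apply R S (Localization.AtPrime q), IsLocalization.lift_eq]
        exact (RingHom.congr_fun hab r).symm }
  let l := Algebra.FormallySmooth.liftOfSurjective a' φ' hφ ⟨2, hker⟩
  refine ⟨l.toRingHom.comp (algebraMap S (Localization.AtPrime q)), ?_, ?_⟩
  · ext s
    have := Algebra.FormallySmooth.liftOfSurjective_apply a' φ' hφ ⟨2, hker⟩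
      (algebraMap S (Localization.AtPrime q) s)
    change φ (l _) = a s
    change φ (l _) = a₀ _ at this
    rw [this, IsLocalization.lift_eq]
  · ext r
    change l (algebraMap S (Localization.AtPrime q) (algebraMap R S r)) = b r
    rw [← IsScalarTower.algebraMap_apply R S (Localization.AtPrime q), l.commutes]
    rfl


/-- Abstract step: a solution of the universal lifting problem gives a section. -/
theorem exists_section_of_exists_lift {R S : Type u} [CommRing R] [CommRing S]
    [Algebra R S] (q : Ideal S) [q.IsPrime]
    (H : ∀ (B B' : Type u) [CommRing B] [CommRing B'] [IsLocalRing B] [IsLocalRing B']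
      (φ : B' →+* B), Function.Surjective φ → RingHom.ker φ ^ 2 = ⊥ →
      ∀ (a : S →+* B) (b : R →+* B'), (maximalIdeal B).comap a = q →
        φ.comp b = a.comp (algebraMap R S) →
        ∃ c : S →+* B', φ.comp c = a ∧ c.comp (algebraMap R S) = b)
    (B' : Type u) [CommRing B'] [IsLocalRing B'] [Algebra R B']
    (φ : B' →ₐ[R] Localization.AtPrime q) (hφ : Function.Surjective φ)
    (sqz : RingHom.ker φ.toRingHom ^ 2 = ⊥) :
    ∃ g : Localization.AtPrime q →ₐ[R] B', φ.comp g = AlgHom.id R _ := by
  have h1 : Function.Surjective φ.toRingHom := hφ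
  have h2 : (maximalIdeal (Localization.AtPrime q)).comap (algebraMap S (Localization.AtPrime q))
      = q := IsLocalization.AtPrime.comap_maximalIdeal (Localization.AtPrime q) q
  have h3 : φ.toRingHom.comp (algebraMap R B') =
      (algebraMap S (Localization.AtPrime q)).comp (algebraMap R S) := by
    ext r
    change φ (algebraMap R _ r) = algebraMap S _ (algebraMap R S r)
    rw [φ.commutes, ← IsScalarTower.algebraMap_apply]
  obtain ⟨c, hc1, hc2⟩ := H (Localization.AtPrime q) B' φ.toRingHom h1 sqz
    (algebraMap S (Localization.AtPrime q)) (algebraMap R B') h2 h3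
  haveI : IsLocalHom φ.toRingHom := IsLocalHom.of_surjective φ.toRingHom h1
  have hunit : ∀ y : q.primeCompl, IsUnit (c y) := by
    intro y
    apply isUnit_of_map_unit φ.toRingHom
    rw [← RingHom.comp_apply, hc1]
    exact IsLocalization.map_units _ y
  let g₀ : Localization.AtPrime q →+* B' :=
    IsLocalization.lift (M := q.primeCompl) hunit
  let g : Localization.AtPrime q →ₐ[R] B' :=
    { g₀ with
      commutes' := fun r => by
        change g₀ (algebraMap R (Localization.AtPrime q) r) = _
        rw [IsScalarTower.algebraMap_apply R S (Localization.AtPrime q), IsLocalization.lift_eq]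
        exact RingHom.congr_fun hc2 r }
  refine ⟨g, ?_⟩
  apply AlgHom.coe_ringHom_injective
  apply IsLocalization.ringHom_ext q.primeCompl
  ext s
  change φ (g₀ (algebraMap S _ s)) = algebraMap S _ s
  rw [IsLocalization.lift_eq]
  exact RingHom.congr_fun hc1 s

/-- Ring level converse: if local square-zero lifting problems based at `q` have solutions, then
`S_q` is formally smooth over `R`. -/
theorem formallySmooth_localization_of_exists_lift {R S : Type u} [CommRing R] [CommRing S]
    [Algebra R S] (q : Ideal S) [q.IsPrime]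
    (H : ∀ (B B' : Type u) [CommRing B] [CommRing B'] [IsLocalRing B] [IsLocalRing B']
      (φ : B' →+* B), Function.Surjective φ → RingHom.ker φ ^ 2 = ⊥ →
      ∀ (a : S →+* B) (b : R →+* B'), (maximalIdeal B).comap a = q →
        φ.comp b = a.comp (algebraMap R S) →
        ∃ c : S →+* B', φ.comp c = a ∧ c.comp (algebraMap R S) = b) :
    Algebra.FormallySmooth R (Localization.AtPrime q) := by
  let π : MvPolynomial S R →ₐ[R] S := MvPolynomial.aeval id
  have hπ : Function.Surjective π := fun s => ⟨MvPolynomial.X s, by simp [π]⟩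
  let 𝔫 : Ideal (MvPolynomial S R) := q.comap π
  haveI : 𝔫.IsPrime := Ideal.comap_isPrime _ _
  let f : Localization.AtPrime 𝔫 →ₐ[R] Localization.AtPrime q :=
    Localization.localAlgHom 𝔫 q π rfl
  have hf : Function.Surjective f := by
    intro z
    obtain ⟨s, t, rfl⟩ := IsLocalization.exists_mk'_eq q.primeCompl z
    obtain ⟨p, rfl⟩ := hπ s
    obtain ⟨p', hp'⟩ := hπ t
    have hp'n : p' ∈ 𝔫.primeCompl := by
      intro h
      apply t.2
      rw [← hp']
      exact h
    refine ⟨IsLocalization.mk' _ p ⟨p', hp'n⟩, ?_⟩
    rw [Localization.localAlgHom_apply]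
    refine (Localization.localRingHom_mk' 𝔫 q π.toRingHom rfl p ⟨p', hp'n⟩).trans ?_
    congr 1
    exact Subtype.ext hp'
  have hφ : Function.Surjective f.kerSquareLift := by
    intro z
    obtain ⟨y, rfl⟩ := hf z
    exact ⟨Ideal.Quotient.mk _ y, rfl⟩
  have sqz : RingHom.ker f.kerSquareLift.toRingHom ^ 2 = ⊥ := by
    rw [AlgHom.ker_kerSquareLift, Ideal.cotangentIdeal_square]
  haveI : Nontrivial (Localization.AtPrime 𝔫 ⧸ RingHom.ker f.toRingHom ^ 2) :=
    RingHom.domain_nontrivial f.kerSquareLift.toRingHom
  haveI : IsLocalRing (Localization.AtPrime 𝔫 ⧸ RingHom.ker f.toRingHom ^ 2) :=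
    IsLocalRing.of_surjective' (Ideal.Quotient.mk _) Ideal.Quotient.mk_surjective
  obtain ⟨g, hg⟩ := exists_section_of_exists_lift q H
    (Localization.AtPrime 𝔫 ⧸ RingHom.ker f.toRingHom ^ 2) f.kerSquareLift hφ sqz
  haveI : Algebra.FormallyEtale (MvPolynomial S R) (Localization.AtPrime 𝔫) :=
    Algebra.FormallyEtale.of_isLocalization 𝔫.primeCompl
  haveI : Algebra.FormallySmooth R (Localization.AtPrime 𝔫) :=
    Algebra.FormallySmooth.comp R (MvPolynomial S R) (Localization.AtPrime 𝔫)
  exact Algebra.FormallySmooth.of_split f g hg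

end Groth.Agent.H14
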