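import Mathlib

set_option autoImplicit false

namespace Groth.Agent.H14

universe u

open IsLocalRing

section tsze

variable {R L M : Type*} [CommRing R] [CommRing L] [Algebra R L] [AddCommGroup M] [Module L M]
  [Module Lᵐᵒᵖ M] [IsCentralScalar L M] [Module R M] [IsScalarTower R L M]

/-- The ring hom `a ↦ a + ε d(a)` attached to a derivation. -/
def derivRingHom (d : Derivation R L M) : L →+* TrivSqZeroExt L M where
  toFun a := TrivSqZeroExt.inl a + TrivSqZeroExt.inr (d a)
  map_one' := by ext <;> simp
  map_mul' a b := by
    ext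
    · simp
    · simp [add_comm]
  map_zero' := by ext <;> simp
  map_add' a b := by
    ext
    · simp
    · simp

@[simp] theorem fst_derivRingHom (d : Derivation R L M) (a : L) :
    (derivRingHom d a).fst = a := by simp [derivRingHom]

@[simp] theorem snd_derivRingHom (d : Derivation R L M) (a : L) :
    (derivRingHom d a).snd = d a := by simp [derivRingHom]

theorem isLocalRing_tsze [IsLocalRing L] : IsLocalRing (TrivSqZeroExt L M) := by
  apply IsLocalRing.of_nonunits_add
  intro a b ha hb
  rw [mem_nonunits_iff, TrivSqZeroExt.isUnit_iff_isUnit_fst] at ha hb ⊢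
  rw [TrivSqZeroExt.fst_add]
  exact nonunits_add ha hb

end tsze


/-- Ring level: if `S_q` is formally unramified over `R`, two local square-zero lifts based at `q`
agree. -/
theorem lift_unique_of_formallyUnramified_localization {R S : Type u} [CommRing R] [CommRing S]
    [Algebra R S] (q : Ideal S) [q.IsPrime]
    [Algebra.FormallyUnramified R (Localization.AtPrime q)]
    {B B' : Type u} [CommRing B] [CommRing B'] [IsLocalRing B] [IsLocalRing B'] (φ : B' →+* B)
    (hφ : Function.Surjective φ) (hker : RingHom.ker φ ^ 2 = ⊥)
    (c₁ c₂ : S →+* B') (h12 : φ.comp c₁ = φ.comp c₂)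
    (hq : (maximalIdeal B).comap (φ.comp c₁) = q)
    (hR : c₁.comp (algebraMap R S) = c₂.comp (algebraMap R S)) : c₁ = c₂ := by
  letI : Algebra R B' := (c₁.comp (algebraMap R S)).toAlgebra
  haveI : IsLocalHom φ := IsLocalHom.of_surjective φ hφ
  have hunit1 : ∀ y : q.primeCompl, IsUnit (c₁ y) := by
    intro y
    apply isUnit_of_map_unit φ
    by_contra hy
    have : (y : S) ∈ (maximalIdeal B).comap (φ.comp c₁) := hy
    rw [hq] at this
    exact y.2 this
  have hunit2 : ∀ y : q.primeCompl, IsUnit (c₂ y) := by
    intro y
    apply isUnit_of_map_unit φ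
    have := hunit1 y
    have h := RingHom.congr_fun h12 y
    simp only [RingHom.comp_apply] at h
    rw [← h]
    exact (hunit1 y).map φ
  let g₁₀ : Localization.AtPrime q →+* B' := IsLocalization.lift (M := q.primeCompl) hunit1
  let g₂₀ : Localization.AtPrime q →+* B' := IsLocalization.lift (M := q.primeCompl) hunit2
  let g₁ : Localization.AtPrime q →ₐ[R] B' :=
    { g₁₀ with
      commutes' := fun r => by
        change g₁₀ (algebraMap R (Localization.AtPrime q) r) = _
        rw [IsScalarTower.algebraMap_apply R S (Localization.AtPrime q), IsLocalization.lift_eq]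
        rfl }
  let g₂ : Localization.AtPrime q →ₐ[R] B' :=
    { g₂₀ with
      commutes' := fun r => by
        change g₂₀ (algebraMap R (Localization.AtPrime q) r) = _
        rw [IsScalarTower.algebraMap_apply R S (Localization.AtPrime q), IsLocalization.lift_eq]
        exact (RingHom.congr_fun hR r).symm }
  have hg : g₁ = g₂ := by
    apply Algebra.FormallyUnramified.ext' φ ⟨2, hker⟩ g₁ g₂
    intro x
    have : φ.comp g₁₀ = φ.comp g₂₀ := by
      apply IsLocalization.ringHom_ext q.primeCompl
      ext s
      change φ (g₁₀ (algebraMap S _ s)) = φ (g₂₀ (algebraMap S _ s))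
      rw [IsLocalization.lift_eq, IsLocalization.lift_eq]
      exact RingHom.congr_fun h12 s
    exact RingHom.congr_fun this x
  ext s
  have h1 : g₁ (algebraMap S _ s) = c₁ s := IsLocalization.lift_eq _ _
  have h2 : g₂ (algebraMap S _ s) = c₂ s := IsLocalization.lift_eq _ _
  rw [← h1, ← h2, hg]

/-- Ring level converse: uniqueness of local square-zero lifts based at `q` implies `S_q` is
formally unramified over `R`. -/
theorem formallyUnramified_localization_of_lift_unique {R S : Type u} [CommRing R] [CommRing S]
    [Algebra R S] (q : Ideal S) [q.IsPrime]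
    (H : ∀ (B B' : Type u) [CommRing B] [CommRing B'] [IsLocalRing B] [IsLocalRing B']
      (φ : B' →+* B), Function.Surjective φ → RingHom.ker φ ^ 2 = ⊥ →
      ∀ (c₁ c₂ : S →+* B'), φ.comp c₁ = φ.comp c₂ →
        (maximalIdeal B).comap (φ.comp c₁) = q →
        c₁.comp (algebraMap R S) = c₂.comp (algebraMap R S) → c₁ = c₂) :
    Algebra.FormallyUnramified R (Localization.AtPrime q) := by
  letI : Module (Localization.AtPrime q)ᵐᵒᵖ (Ω[Localization.AtPrime q⁄R]) :=
    Module.compHom _ ((RingHom.id (Localization.AtPrime q)).fromOpposite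
      (fun _ _ => Commute.all _ _))
  haveI : IsCentralScalar (Localization.AtPrime q) (Ω[Localization.AtPrime q⁄R]) :=
    ⟨fun _ _ => rfl⟩
  haveI : IsLocalRing (TrivSqZeroExt (Localization.AtPrime q) (Ω[Localization.AtPrime q⁄R])) :=
    isLocalRing_tsze
  let d := KaehlerDifferential.D R (Localization.AtPrime q)
  let φ : TrivSqZeroExt (Localization.AtPrime q) (Ω[Localization.AtPrime q⁄R]) →+*
      Localization.AtPrime q :=
    (TrivSqZeroExt.fstHom (Localization.AtPrime q) (Localization.AtPrime q)
      (Ω[Localization.AtPrime q⁄R])).toRingHom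
  have hφ : Function.Surjective φ := fun x => ⟨TrivSqZeroExt.inl x, rfl⟩
  have hker : RingHom.ker φ ^ 2 = ⊥ := by
    rw [eq_bot_iff, pow_two, Ideal.mul_le]
    intro x hx y hy
    rw [Ideal.mem_bot]
    have hx' : x.fst = 0 := hx
    have hy' : y.fst = 0 := hy
    ext
    · simp [hx']
    · simp [hx', hy']
  let c₁ : S →+* TrivSqZeroExt (Localization.AtPrime q) (Ω[Localization.AtPrime q⁄R]) :=
    (TrivSqZeroExt.inlHom _ _).comp (algebraMap S (Localization.AtPrime q))
  let c₂ : S →+* TrivSqZeroExt (Localization.AtPrime q) (Ω[Localization.AtPrime q⁄R]) :=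
    (derivRingHom d).comp (algebraMap S (Localization.AtPrime q))
  have h12 : φ.comp c₁ = φ.comp c₂ := by
    ext s
    change (c₁ s).fst = (c₂ s).fst
    simp [c₁, c₂]
  have hq : (maximalIdeal (Localization.AtPrime q)).comap (φ.comp c₁) = q := by
    have : φ.comp c₁ = algebraMap S (Localization.AtPrime q) := by
      ext s
      rfl
    rw [this]
    exact IsLocalization.AtPrime.comap_maximalIdeal (Localization.AtPrime q) q
  have hR : c₁.comp (algebraMap R S) = c₂.comp (algebraMap R S) := by
    ext r
    · simp [c₁, c₂]
    · change (0 : Ω[Localization.AtPrime q⁄R]) =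
        (derivRingHom d (algebraMap S (Localization.AtPrime q) (algebraMap R S r))).snd
      rw [snd_derivRingHom, ← IsScalarTower.algebraMap_apply, Derivation.map_algebraMap]
  have h := H _ _ φ hφ hker c₁ c₂ h12 hq hR
  have hd : ∀ s : S, d (algebraMap S (Localization.AtPrime q) s) = 0 := by
    intro s
    have := congrArg TrivSqZeroExt.snd (RingHom.congr_fun h s)
    change (0 : Ω[Localization.AtPrime q⁄R]) =
      (derivRingHom d (algebraMap S (Localization.AtPrime q) s)).snd at this
    rw [snd_derivRingHom] at this
    exact this.symm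
  have hd' : ∀ l : Localization.AtPrime q, d l = 0 := by
    intro l
    obtain ⟨s, t, rfl⟩ := IsLocalization.exists_mk'_eq q.primeCompl l
    have h1 : algebraMap S (Localization.AtPrime q) t * IsLocalization.mk' _ s t =
        algebraMap S _ s := by
      rw [mul_comm, IsLocalization.mk'_spec]
    have h2 := congrArg d h1
    rw [Derivation.leibniz, hd, hd, smul_zero, add_zero] at h2
    have hu : IsUnit (algebraMap S (Localization.AtPrime q) t) := IsLocalization.map_units _ t
    exact (hu.smul_eq_zero).mp h2
  constructor
  have htop := KaehlerDifferential.span_range_derivation R (Localization.AtPrime q)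
  have hbot : Submodule.span (Localization.AtPrime q)
      (Set.range (KaehlerDifferential.D R (Localization.AtPrime q))) = ⊥ := by
    rw [Submodule.span_eq_bot]
    rintro _ ⟨l, rfl⟩
    exact hd' l
  rw [hbot] at htop
  exact (Submodule.subsingleton_iff (Localization.AtPrime q)).mp (subsingleton_of_bot_eq_top htop)

end Groth.Agent.H14
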