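import Mathlib
import Groth.Prelude.Def_EtRam
import Groth.Agent.H14.EppTri1

set_option autoImplicit false
set_option maxHeartbeats 1000000
set_option linter.style.haveILetI false
set_option linter.unusedSectionVars false
set_option linter.unusedVariables false

/-! Setup for the purely inseparable step (S7151): a good generator. -/

namespace Groth.Agent.H14.PIStepA

universe u

open Polynomial

theorem exists_gen (p : ℕ) (hp : p.Prime) (A K K₁ K₂ : Type u) [CommRing A] [IsDomain A] [Field K]
    [Algebra A K] [IsFractionRing A K] [Field K₁] [Field K₂] [Algebra K K₁] [Algebra K K₂]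
    [Algebra K₁ K₂] [IsScalarTower K K₁ K₂] [FiniteDimensional K K₁] [FiniteDimensional K₁ K₂]
    [IsPurelyInseparable K₁ K₂] (hdeg : Module.finrank K₁ K₂ = p) :
    ∃ x : K₂, x ∉ (algebraMap K₁ K₂).range ∧ x ^ p ∈ (algebraMap K₁ K₂).range ∧
      ((algebraMap K K₂).comp (algebraMap A K)).IsIntegralElem x := by
  letI : Algebra A K₂ := ((algebraMap K K₂).comp (algebraMap A K)).toAlgebra
  haveI : IsScalarTower A K K₂ := IsScalarTower.of_algebraMap_eq (fun _ => rfl)
  haveI : FiniteDimensional K K₂ := FiniteDimensional.trans K K₁ K₂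
  obtain ⟨x₀, hx₀⟩ : ∃ x₀ : K₂, x₀ ∉ (algebraMap K₁ K₂).range := by
    by_contra hcon
    push Not at hcon
    have hs : Function.Surjective (algebraMap K₁ K₂) := fun y => hcon y
    have h1 : (⊥ : Subalgebra K₁ K₂) = ⊤ := (Algebra.surjective_algebraMap_iff.mp hs).symm
    have h2 := Subalgebra.bot_eq_top_iff_finrank_eq_one.mp h1
    rw [hdeg] at h2
    exact hp.one_lt.ne' h2
  have halgK : IsAlgebraic K x₀ := Algebra.IsAlgebraic.isAlgebraic x₀
  have halgA : IsAlgebraic A x₀ := (IsFractionRing.isAlgebraic_iff A K K₂).mpr halgK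
  have hinj : Function.Injective (algebraMap A K₂) := by
    rw [IsScalarTower.algebraMap_eq A K K₂]
    exact (algebraMap K K₂).injective.comp (IsFractionRing.injective A K)
  obtain ⟨a, ha0, hay⟩ := halgA.exists_integral_multiple
  rw [Algebra.smul_def] at hay
  refine ⟨algebraMap A K₂ a * x₀, ?_, ?_, ?_⟩
  · rintro ⟨w, hw⟩
    apply hx₀
    have ha1 : algebraMap K K₁ (algebraMap A K a) ≠ 0 := by
      intro h
      apply ha0
      apply IsFractionRing.injective A K
      rw [map_zero]
      exact (algebraMap K K₁).injective (by rw [h, map_zero])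
    refine ⟨w / algebraMap K K₁ (algebraMap A K a), ?_⟩
    rw [map_div₀, hw, ← IsScalarTower.algebraMap_apply K K₁ K₂,
      ← IsScalarTower.algebraMap_apply A K K₂]
    have : algebraMap A K₂ a ≠ 0 := fun h => ha0 (hinj (by rw [h, map_zero]))
    field_simp
  · obtain ⟨l, hl⟩ := Groth.Agent.H14.EppTri1.pow_mem_range p hp K₁ K₂ hdeg (algebraMap A K₂ a * x₀)
    exact ⟨l, hl⟩
  · exact hay

end Groth.Agent.H14.PIStepA
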