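import Mathlib
import Groth.Prelude.Def_EtRam

set_option autoImplicit false
set_option maxHeartbeats 1000000
set_option linter.style.haveILetI false
set_option linter.unusedSectionVars false
set_option linter.unusedVariables false

/-! The model fields `L·σ(K₂) ⊆ AlgebraicClosure L` for the purely inseparable step (S7151). -/

namespace Groth.Agent.H14.PIStepB

universe u

variable {K L K₂ : Type u} [Field K] [Field L] [Field K₂] [Algebra K L] [Algebra K K₂]

/-- The model field `L(σ K₂)` inside the algebraic closure of `L`. -/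
noncomputable abbrev Mod (σ : K₂ →ₐ[K] AlgebraicClosure L) : IntermediateField L (AlgebraicClosure L) :=
  IntermediateField.adjoin L (Set.range σ)

/-- The structure map `K₂ → Mod σ`. -/
noncomputable def toMod (σ : K₂ →ₐ[K] AlgebraicClosure L) : K₂ →+* Mod σ :=
  RingHom.codRestrict σ.toRingHom (Mod σ)
    (fun y => IntermediateField.subset_adjoin L (Set.range σ) ⟨y, rfl⟩)

@[reducible] noncomputable def algMod (σ : K₂ →ₐ[K] AlgebraicClosure L) : Algebra K₂ (Mod σ) :=
  (toMod σ).toAlgebra

attribute [local instance] algMod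

theorem coe_algebraMap (σ : K₂ →ₐ[K] AlgebraicClosure L) (y : K₂) :
    ((algebraMap K₂ (Mod σ) y : Mod σ) : AlgebraicClosure L) = σ y := rfl

instance towerMod (σ : K₂ →ₐ[K] AlgebraicClosure L) : IsScalarTower K K₂ (Mod σ) :=
  IsScalarTower.of_algebraMap_eq (fun a => Subtype.ext (by
    show algebraMap K (AlgebraicClosure L) a = σ (algebraMap K K₂ a)
    rw [σ.commutes]))

theorem adjoin_eq_top (σ : K₂ →ₐ[K] AlgebraicClosure L) :
    Algebra.adjoin L (Set.range (algebraMap K₂ (Mod σ))) = ⊤ := by
  rw [eq_top_iff]
  rintro ⟨v, hv⟩ -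
  have hv' : v ∈ Algebra.adjoin L (Set.range σ) := by
    rw [← IntermediateField.adjoin_toSubalgebra]; exact hv
  revert hv
  induction hv' using Algebra.adjoin_induction with
  | mem y hy =>
    intro h
    obtain ⟨w, rfl⟩ := hy
    exact Algebra.subset_adjoin ⟨w, rfl⟩
  | algebraMap l =>
    intro h
    exact Subalgebra.algebraMap_mem _ l
  | add a b ha hb iha ihb =>
    intro h
    have ha' : a ∈ Mod σ := by
      show a ∈ (Mod σ).toSubalgebra
      rw [IntermediateField.adjoin_toSubalgebra]; exact ha
    have hb' : b ∈ Mod σ := by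
      show b ∈ (Mod σ).toSubalgebra
      rw [IntermediateField.adjoin_toSubalgebra]; exact hb
    exact add_mem (iha ha') (ihb hb')
  | mul a b ha hb iha ihb =>
    intro h
    have ha' : a ∈ Mod σ := by
      show a ∈ (Mod σ).toSubalgebra
      rw [IntermediateField.adjoin_toSubalgebra]; exact ha
    have hb' : b ∈ Mod σ := by
      show b ∈ (Mod σ).toSubalgebra
      rw [IntermediateField.adjoin_toSubalgebra]; exact hb
    exact mul_mem (iha ha') (ihb hb')

end Groth.Agent.H14.PIStepB
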