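import Mathlib
import Groth.Prelude.Def_EtRam
import Groth.Agent.H43.PI_RP
import Groth.Agent.H14.PIStepB

set_option autoImplicit false
set_option maxHeartbeats 1000000
set_option linter.style.haveILetI false
set_option linter.unusedSectionVars false
set_option linter.unusedVariables false

/-! Representation lemmas for the purely inseparable step (S7151). -/

namespace Groth.Agent.H14.PIStepC

universe u

open Groth.Agent.H43.PI

/-- (HK) a generator satisfying a degree-`p` relation gives `p`-term representations. -/
theorem exists_coeffs {F E : Type u} [Field F] [Field E] [Algebra F E] (p : ℕ) (y : E)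
    (hgen : Algebra.adjoin F {y} = ⊤) (a : Fin p → F)
    (hy : y ^ p = ∑ j, algebraMap F E (a j) * y ^ (j : ℕ)) (b : E) :
    ∃ c : Fin p → F, b = ∑ j, algebraMap F E (c j) * y ^ (j : ℕ) := by
  have hb : b ∈ Subring.closure (((algebraMap F E).range : Set E) ∪ {y}) := by
    have hb' : b ∈ Algebra.adjoin F {y} := by rw [hgen]; exact Algebra.mem_top
    induction hb' using Algebra.adjoin_induction with
    | mem w hw =>
      rw [Set.mem_singleton_iff] at hw
      subst hw
      exact Subring.subset_closure (Or.inr rfl)
    | algebraMap l => exact Subring.subset_closure (Or.inl ⟨l, rfl⟩)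
    | add u v _ _ hu hv => exact add_mem hu hv
    | mul u v _ _ hu hv => exact mul_mem hu hv
  obtain ⟨c, hc, hbc⟩ := exists_repr (algebraMap F E).range y p (fun j => algebraMap F E (a j))
    (fun j => ⟨a j, rfl⟩) hy b hb
  choose c' hc' using hc
  refine ⟨c', ?_⟩
  rw [hbc]
  exact Finset.sum_congr rfl (fun j _ => by rw [hc'])

/-- `K₂ = K₁[x]` for a prime degree extension and `x ∉ K₁`. -/
theorem adjoin_eq_top_of_prime {F E : Type u} [Field F] [Field E] [Algebra F E]
    [FiniteDimensional F E] (p : ℕ) (hp : p.Prime) (hdeg : Module.finrank F E = p) (x : E)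
    (hx : x ∉ (algebraMap F E).range) : Algebra.adjoin F {x} = ⊤ := by
  haveI := IntermediateField.isSimpleOrder_of_finrank_prime F E (hdeg ▸ hp)
  have h1 : IntermediateField.adjoin F {x} = ⊤ := by
    rcases eq_bot_or_eq_top (IntermediateField.adjoin F {x}) with h | h
    · exfalso
      have hxm : x ∈ IntermediateField.adjoin F {x} :=
        IntermediateField.subset_adjoin F {x} rfl
      rw [h, IntermediateField.mem_bot] at hxm
      exact hx hxm
    · exact h
  have h2 := IntermediateField.adjoin_toSubalgebra (F := F) (E := E) {x}
  rw [h1] at h2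
  rw [← h2]
  rfl

end Groth.Agent.H14.PIStepC
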