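import Mathlib
import Groth.Prelude.Def_EtRam
import Groth.Agent.H20.PI_CP
import Groth.Agent.H20.PI_TW
import Groth.Agent.H20.PI_TR
import Groth.Agent.H14.PIStepB
import Groth.Agent.H14.PIStepC
import Groth.Agent.H10.ValDVR
import Groth.Agent.H78.ValExt

set_option autoImplicit false
set_option maxHeartbeats 1000000
set_option linter.style.haveILetI false
set_option linter.unusedSectionVars false
set_option linter.unusedVariables false

/-! The local step for the purely inseparable step (S7151). -/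

namespace Groth.Agent.H14.PIStepD

universe u

open Groth.Agent.H20.PI Groth.Agent.H14.PIStepB Groth.Agent.H14.PIStepC

attribute [local instance] Groth.Agent.H14.PIStepB.algMod

theorem local_step (p : ℕ) (hp : p.Prime) (B K L : Type u) [CommRing B] [IsLocalRing B]
    [Field K] [Field L] [Algebra B L] [Algebra K L] [CharP K p]
    (K₁ K₂ K₃ : Type u) [Field K₁] [Field K₂] [Field K₃] [Algebra K K₁] [Algebra K K₂]
    [Algebra K₁ K₂] [IsScalarTower K K₁ K₂] [Algebra K K₃] [Algebra K₁ K₃] [IsScalarTower K K₁ K₃]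
    [FiniteDimensional K K₁] [FiniteDimensional K₁ K₂] [FiniteDimensional K₁ K₃]
    (hsol : EtRam.IsSolution B K L K₂) (hdeg : Module.finrank K₁ K₂ = p)
    (x : K₂) (ξ : K₁) (hξ : algebraMap K₁ K₂ ξ = x ^ p) (hx : x ∉ (algebraMap K₁ K₂).range)
    (ϖ : B) (hϖ0 : algebraMap B L ϖ ≠ 0) (hϖm : ϖ ∈ IsLocalRing.maximalIdeal B) (ϖK : K)
    (hϖK : algebraMap K L ϖK = algebraMap B L ϖ)
    (hxW : ∀ (σ : K₂ →ₐ[K] AlgebraicClosure L) (W : ValuationSubring (AlgebraicClosure L)),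
      EtRam.Dominates B ((algebraMap L (AlgebraicClosure L)).comp (algebraMap B L)) W → σ x ∈ W)
    (t : (K₂ →ₐ[K] AlgebraicClosure L) → ℕ)
    (ht : ∀ (σ : K₂ →ₐ[K] AlgebraicClosure L) (W : ValuationSubring (Mod σ)),
      EtRam.Dominates B ((algebraMap L (Mod σ)).comp (algebraMap B L)) W →
      ∀ c : Fin p → Mod σ,
        (∀ i, c i ∈ Algebra.adjoin L
          (Set.range ((algebraMap K₂ (Mod σ)).comp (algebraMap K₁ K₂)))) →
        ∀ i, ∃ w ∈ W, algebraMap L (Mod σ) (algebraMap B L ϖ) ^ (t σ) * c i =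
          w * ∑ j, c j * algebraMap K₂ (Mod σ) x ^ (j : ℕ))
    (N : ℕ) (hN : ∀ σ, p * t σ < N) (z : K₃)
    (hz : z ^ p = algebraMap K₁ K₃ (algebraMap K K₁ ϖK) ^ N * z + algebraMap K₁ K₃ ξ)
    (hzgen : Algebra.adjoin K₁ {z} = ⊤)
    (M₃ : Type u) [Field M₃] [Algebra K M₃] [Algebra L M₃] [Algebra K₃ M₃] [IsScalarTower K L M₃]
    [IsScalarTower K K₃ M₃] (hgen₃ : Algebra.adjoin L (Set.range (algebraMap K₃ M₃)) = ⊤)
    (W₃ : ValuationSubring M₃)
    (hW₃ : EtRam.Dominates B ((algebraMap L M₃).comp (algebraMap B L)) W₃) :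
    letI : Algebra (W₃.comap (algebraMap K₃ M₃)) W₃ :=
      (EtRam.inclOfComap W₃ (algebraMap K₃ M₃)).toAlgebra
    EtRam.IsWeaklyUnramified (W₃.comap (algebraMap K₃ M₃)) W₃ ∧
      @Algebra.IsGeometricallyReduced (IsLocalRing.ResidueField (W₃.comap (algebraMap K₃ M₃)))
        (IsLocalRing.ResidueField W₃) _ _
        (IsLocalRing.ResidueField.map (EtRam.inclOfComap W₃ (algebraMap K₃ M₃))).toAlgebra := by
  classical
  haveI : FiniteDimensional K K₃ := FiniteDimensional.trans K K₁ K₃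
  haveI : FiniteDimensional K K₂ := FiniteDimensional.trans K K₁ K₂
  haveI : FiniteDimensional L M₃ := Groth.Agent.H10.ValDVR.finite_of_adjoin_eq_top K L K₃ M₃ hgen₃
  -- the ambient field
  let τ : M₃ →ₐ[L] AlgebraicClosure L := IsAlgClosed.lift
  letI aM₃Ω : Algebra M₃ (AlgebraicClosure L) := τ.toRingHom.toAlgebra
  obtain ⟨W, hWc⟩ := Groth.Agent.H78.ValExt.exists_ext (L := M₃) (M := AlgebraicClosure L) W₃
  subst hWc
  letI aK₁M₃ : Algebra K₁ M₃ := ((algebraMap K₃ M₃).comp (algebraMap K₁ K₃)).toAlgebra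
  letI aK₁Ω : Algebra K₁ (AlgebraicClosure L) :=
    (τ.toRingHom.comp (algebraMap K₁ M₃)).toAlgebra
  let ι₂ : K₂ →ₐ[K₁] AlgebraicClosure L := IsAlgClosed.lift
  haveI : IsScalarTower K K₁ (AlgebraicClosure L) := IsScalarTower.of_algebraMap_eq (fun a => by
    show algebraMap K (AlgebraicClosure L) a =
      τ (algebraMap K₃ M₃ (algebraMap K₁ K₃ (algebraMap K K₁ a)))
    rw [← IsScalarTower.algebraMap_apply K K₁ K₃, ← IsScalarTower.algebraMap_apply K K₃ M₃,
      IsScalarTower.algebraMap_apply K L M₃, τ.commutes,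
      ← IsScalarTower.algebraMap_apply K L (AlgebraicClosure L)])
  let σ : K₂ →ₐ[K] AlgebraicClosure L := ι₂.restrictScalars K
  have hσ : ∀ y : K₂, σ y = ι₂ y := fun _ => rfl
  have hσ₁ : ∀ y : K₁, σ (algebraMap K₁ K₂ y) = algebraMap K₁ (AlgebraicClosure L) y :=
    fun y => ι₂.commutes y
  have hK₁Ω : ∀ y : K₁, algebraMap K₁ (AlgebraicClosure L) y =
      τ (algebraMap K₃ M₃ (algebraMap K₁ K₃ y)) := fun _ => rfl
  let j₂ : Mod σ →+* AlgebraicClosure L := algebraMap (Mod σ) (AlgebraicClosure L)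
  let j₃ : M₃ →+* AlgebraicClosure L := algebraMap M₃ (AlgebraicClosure L)
  have hj₃ : ∀ a : M₃, j₃ a = τ a := fun _ => rfl
  have hj₂ : ∀ b : Mod σ, j₂ b = (b : AlgebraicClosure L) := fun _ => rfl
  -- domination
  have hWdom : EtRam.Dominates B
      ((algebraMap L (AlgebraicClosure L)).comp (algebraMap B L)) W := by
    refine ⟨fun b => ?_, fun b hb => ?_⟩
    · have h := hW₃.1 b
      rw [ValuationSubring.mem_comap] at h
      have e : algebraMap M₃ (AlgebraicClosure L) (((algebraMap L M₃).comp (algebraMap B L)) b) =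
          ((algebraMap L (AlgebraicClosure L)).comp (algebraMap B L)) b := τ.commutes _
      rw [← e]; exact h
    · have h := hW₃.2 b hb
      rw [Groth.Agent.H78.ValExt.comap_valuation_lt_one_iff] at h
      have e : algebraMap M₃ (AlgebraicClosure L) (((algebraMap L M₃).comp (algebraMap B L)) b) =
          ((algebraMap L (AlgebraicClosure L)).comp (algebraMap B L)) b := τ.commutes _
      rw [← e]; exact h
  have hW₂dom : EtRam.Dominates B ((algebraMap L (Mod σ)).comp (algebraMap B L))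
      (W.comap j₂) := by
    have := (Groth.Agent.H78.ValExt.dominates_comap_iff (L := Mod σ) (M := AlgebraicClosure L)
      ((algebraMap L (Mod σ)).comp (algebraMap B L)) W).mpr
    exact this hWdom
  have h2 := hsol (Mod σ) (adjoin_eq_top σ) (W.comap j₂) hW₂dom
  have hb := ht σ (W.comap j₂) hW₂dom
  -- the subring `L·K₁`
  let S₁ : Subring (AlgebraicClosure L) :=
    (Algebra.adjoin L (Set.range (algebraMap K₁ (AlgebraicClosure L)))).toSubring
  have hS₁mem : ∀ u, u ∈ S₁ ↔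
      u ∈ Algebra.adjoin L (Set.range (algebraMap K₁ (AlgebraicClosure L))) := fun _ => Iff.rfl
  let ϖΩ : AlgebraicClosure L := algebraMap L (AlgebraicClosure L) (algebraMap B L ϖ)
  have hϖΩ0 : ϖΩ ≠ 0 := fun h => hϖ0 ((algebraMap L (AlgebraicClosure L)).injective
    (by rw [map_zero]; exact h))
  have hϖΩ : W.valuation ϖΩ < 1 := hWdom.2 ϖ hϖm
  have hϖΩS : ϖΩ ∈ S₁ := Subalgebra.algebraMap_mem _ _
  have hg₂x : j₂ (algebraMap K₂ (Mod σ) x) = σ x := rfl
  have hxW' : j₂ (algebraMap K₂ (Mod σ) x) ∈ W := hxW σ W hWdom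
  have hxpΩ : j₂ (algebraMap K₂ (Mod σ) x) ^ p = algebraMap K₁ (AlgebraicClosure L) ξ := by
    rw [hg₂x, ← map_pow, ← hξ, hσ₁]
  have hxpS : j₂ (algebraMap K₂ (Mod σ) x) ^ p ∈ S₁ := by
    rw [hxpΩ]; exact Algebra.subset_adjoin ⟨ξ, rfl⟩
  have hϖ₁ : algebraMap K₁ (AlgebraicClosure L) (algebraMap K K₁ ϖK) = ϖΩ := by
    rw [← IsScalarTower.algebraMap_apply K K₁ (AlgebraicClosure L),
      IsScalarTower.algebraMap_apply K L (AlgebraicClosure L), hϖK]
  have hzΩ : j₃ (algebraMap K₃ M₃ z) ^ p =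
      ϖΩ ^ N * j₃ (algebraMap K₃ M₃ z) + j₂ (algebraMap K₂ (Mod σ) x) ^ p := by
    have h := congrArg (fun w => j₃ (algebraMap K₃ M₃ w)) hz
    simp only [map_add, map_mul, map_pow] at h
    rw [h, hxpΩ, ← hϖ₁]
    rfl
  have hS₁Mod : ∀ u, u ∈ Algebra.adjoin L (Set.range (algebraMap K₁ (AlgebraicClosure L))) →
      ∃ b : Mod σ, (b : AlgebraicClosure L) = u ∧ b ∈ Algebra.adjoin L
        (Set.range ((algebraMap K₂ (Mod σ)).comp (algebraMap K₁ K₂))) := by
    intro u hu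
    induction hu using Algebra.adjoin_induction with
    | mem w hw =>
      obtain ⟨y, rfl⟩ := hw
      exact ⟨algebraMap K₂ (Mod σ) (algebraMap K₁ K₂ y), hσ₁ y, Algebra.subset_adjoin ⟨y, rfl⟩⟩
    | algebraMap l => exact ⟨algebraMap L (Mod σ) l, rfl, Subalgebra.algebraMap_mem _ l⟩
    | add u v _ _ hu hv =>
      obtain ⟨b, rfl, hb⟩ := hu
      obtain ⟨b', rfl, hb'⟩ := hv
      exact ⟨b + b', rfl, add_mem hb hb'⟩
    | mul u v _ _ hu hv =>
      obtain ⟨b, rfl, hb⟩ := hu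
      obtain ⟨b', rfl, hb'⟩ := hv
      exact ⟨b * b', rfl, mul_mem hb hb'⟩
  have hbound : ∀ c : Fin p → AlgebraicClosure L, (∀ i, c i ∈ S₁) → ∀ i, ∃ w ∈ W,
      ϖΩ ^ (t σ) * c i = w * ∑ j, c j * j₂ (algebraMap K₂ (Mod σ) x) ^ (j : ℕ) := by
    intro c hc i
    choose c' hc'1 hc'2 using fun i => hS₁Mod (c i) (hc i)
    obtain ⟨w, hw, hwe⟩ := hb c' hc'2 i
    refine ⟨j₂ w, hw, ?_⟩
    have h := congrArg j₂ hwe
    simp only [map_mul, map_pow, map_sum] at h
    have e1 : j₂ (algebraMap L (Mod σ) (algebraMap B L ϖ)) = ϖΩ := rfl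
    rw [e1] at h
    have e2 : ∀ i, j₂ (c' i) = c i := hc'1
    simp only [e2] at h
    exact h
  -- representations in K₂ and K₃
  have hp2 : 2 ≤ p := hp.two_le
  have hk2 : ∀ b : K₂, ∃ c : Fin p → K₁, b = ∑ j, algebraMap K₁ K₂ (c j) * x ^ (j : ℕ) := by
    intro b
    refine exists_coeffs p x (adjoin_eq_top_of_prime p hp hdeg x hx)
      (fun j => if (j : ℕ) = 0 then ξ else 0) ?_ b
    rw [Finset.sum_eq_single (⟨0, by omega⟩ : Fin p)]
    · simp [hξ]
    · intro j _ hj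
      have : (j : ℕ) ≠ 0 := fun h => hj (Fin.ext h)
      simp [this]
    · intro h; exact absurd (Finset.mem_univ _) h
  have hk3 : ∀ a : K₃, ∃ c : Fin p → K₁, a = ∑ j, algebraMap K₁ K₃ (c j) * z ^ (j : ℕ) := by
    intro a
    refine exists_coeffs p z hzgen
      (fun j => if (j : ℕ) = 0 then ξ else if (j : ℕ) = 1 then (algebraMap K K₁ ϖK) ^ N else 0)
      ?_ a
    rw [hz]
    have h01 : (⟨0, by omega⟩ : Fin p) ≠ ⟨1, by omega⟩ := by
      intro h; exact absurd (congrArg Fin.val h) (by simp)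
    rw [← Finset.add_sum_erase _ _ (Finset.mem_univ (⟨0, by omega⟩ : Fin p)),
      ← Finset.add_sum_erase _ _ (Finset.mem_erase.mpr ⟨h01.symm, Finset.mem_univ
        (⟨1, by omega⟩ : Fin p)⟩),
      Finset.sum_eq_zero]
    · simp [add_comm]
    · intro j hj
      rw [Finset.mem_erase, Finset.mem_erase] at hj
      have h0 : (j : ℕ) ≠ 0 := fun h => hj.2.1 (Fin.ext h)
      have h1 : (j : ℕ) ≠ 1 := fun h => hj.1 (Fin.ext h)
      simp [h0, h1]
  have hcomm : ∀ y : K₁, j₂ (algebraMap K₂ (Mod σ) (algebraMap K₁ K₂ y)) =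
      j₃ (algebraMap K₃ M₃ (algebraMap K₁ K₃ y)) := fun y => hσ₁ y
  have hS₁ : ∀ y : K₁, j₂ (algebraMap K₂ (Mod σ) (algebraMap K₁ K₂ y)) ∈ S₁ := by
    intro y
    have e : j₂ (algebraMap K₂ (Mod σ) (algebraMap K₁ K₂ y)) =
        algebraMap K₁ (AlgebraicClosure L) y := hσ₁ y
    rw [e]
    exact Algebra.subset_adjoin ⟨y, rfl⟩
  have hm2 : ∀ b : Mod σ, j₂ b ∈ Subring.closure
      ((S₁ : Set (AlgebraicClosure L)) ∪ {j₂ (algebraMap K₂ (Mod σ) x)}) := by
    rintro ⟨v, hv⟩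
    have hbm : v ∈ Algebra.adjoin L (Set.range σ) := by
      rw [← IntermediateField.adjoin_toSubalgebra]; exact hv
    rw [hj₂]
    show v ∈ _
    clear hv
    induction hbm using Algebra.adjoin_induction with
    | mem w hw =>
      obtain ⟨y, rfl⟩ := hw
      obtain ⟨c, rfl⟩ := hk2 y
      have e : σ (∑ j, algebraMap K₁ K₂ (c j) * x ^ (j : ℕ)) =
          ∑ j, σ (algebraMap K₁ K₂ (c j)) * (σ x) ^ (j : ℕ) := by
        simp only [map_sum, map_mul, map_pow]
      rw [e]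
      refine sum_mem (fun j _ => ?_)
      have h1 : σ x ∈ Subring.closure
          ((S₁ : Set (AlgebraicClosure L)) ∪ {j₂ (algebraMap K₂ (Mod σ) x)}) :=
        Subring.subset_closure (Set.mem_union_right _ rfl)
      have h2 : σ (algebraMap K₁ K₂ (c j)) ∈ Subring.closure
          ((S₁ : Set (AlgebraicClosure L)) ∪ {j₂ (algebraMap K₂ (Mod σ) x)}) :=
        Subring.subset_closure (Set.mem_union_left _ (hS₁ (c j)))
      exact mul_mem h2 (pow_mem h1 _)
    | algebraMap l =>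
      exact Subring.subset_closure (Set.mem_union_left _ (Subalgebra.algebraMap_mem _ l))
    | add u v _ _ hu hv => exact add_mem hu hv
    | mul u v _ _ hu hv => exact mul_mem hu hv
  have hm2' : ∀ u ∈ S₁, ∃ b : Mod σ, j₂ b = u := by
    intro u hu
    obtain ⟨b, hb, -⟩ := hS₁Mod u hu
    exact ⟨b, hb⟩
  have hm3 : ∀ a : M₃, j₃ a ∈ Subring.closure
      ((S₁ : Set (AlgebraicClosure L)) ∪ {j₃ (algebraMap K₃ M₃ z)}) := by
    intro a
    have ham : a ∈ Algebra.adjoin L (Set.range (algebraMap K₃ M₃)) := by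
      rw [hgen₃]; exact Algebra.mem_top
    induction ham using Algebra.adjoin_induction with
    | mem w hw =>
      obtain ⟨y, rfl⟩ := hw
      obtain ⟨c, rfl⟩ := hk3 y
      have e : j₃ (algebraMap K₃ M₃ (∑ j, algebraMap K₁ K₃ (c j) * z ^ (j : ℕ))) =
          ∑ j, j₃ (algebraMap K₃ M₃ (algebraMap K₁ K₃ (c j))) *
            (j₃ (algebraMap K₃ M₃ z)) ^ (j : ℕ) := by
        simp only [map_sum, map_mul, map_pow]
      rw [e]
      refine sum_mem (fun j _ => ?_)
      have h1 : j₃ (algebraMap K₃ M₃ z) ∈ Subring.closure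
          ((S₁ : Set (AlgebraicClosure L)) ∪ {j₃ (algebraMap K₃ M₃ z)}) :=
        Subring.subset_closure (Set.mem_union_right _ rfl)
      have h2 : j₃ (algebraMap K₃ M₃ (algebraMap K₁ K₃ (c j))) ∈ Subring.closure
          ((S₁ : Set (AlgebraicClosure L)) ∪ {j₃ (algebraMap K₃ M₃ z)}) := by
        rw [← hcomm]
        exact Subring.subset_closure (Set.mem_union_left _ (hS₁ (c j)))
      exact mul_mem h2 (pow_mem h1 _)
    | algebraMap l =>
      refine Subring.subset_closure (Set.mem_union_left _ ?_)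
      have e : j₃ (algebraMap L M₃ l) = algebraMap L (AlgebraicClosure L) l := τ.commutes l
      rw [e]
      exact Subalgebra.algebraMap_mem _ l
    | add u v _ _ hu hv => rw [map_add]; exact add_mem hu hv
    | mul u v _ _ hu hv => rw [map_mul]; exact mul_mem hu hv
  have hm3' : ∀ u ∈ S₁, ∃ a : M₃, j₃ a = u := by
    intro u hu
    have hle : Algebra.adjoin L (Set.range (algebraMap K₁ (AlgebraicClosure L))) ≤ τ.range := by
      apply Algebra.adjoin_le
      rintro _ ⟨y, rfl⟩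
      exact ⟨algebraMap K₃ M₃ (algebraMap K₁ K₃ y), rfl⟩
    obtain ⟨a, ha⟩ := hle hu
    exact ⟨a, ha⟩
  haveI : CharP (AlgebraicClosure L) p :=
    charP_of_injective_algebraMap (algebraMap K (AlgebraicClosure L)).injective p
  obtain ⟨c1, c2, c3, c4⟩ := closeness p hp W j₂ j₃ (algebraMap K₂ (Mod σ)) (algebraMap K₃ M₃)
    (algebraMap K₁ K₂) (algebraMap K₁ K₃) hcomm S₁ hS₁ x z ϖΩ N (t σ) (hN σ) hϖΩ0 hϖΩ hϖΩS hxW'
    hxpS hzΩ hbound hm2 hm2' hm3 hm3' hk2 hk3
  exact ⟨transfer_weak W j₂ j₃ (algebraMap K₂ (Mod σ)) (algebraMap K₃ M₃) c1 c4 h2.1,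
    transfer_res W j₂ j₃ (algebraMap K₂ (Mod σ)) (algebraMap K₃ M₃) c1 c2 c3 c4 h2.2⟩

end Groth.Agent.H14.PIStepD
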