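import Mathlib
import Groth.Prelude.Def_EtRam
import Groth.Prelude.Def_Found
import Groth.Agent.H14.PIStepA
import Groth.Agent.H14.PIStepD
import Groth.Agent.H14.EppTri3
import Groth.Agent.H68.PI_K3
import Groth.Agent.H68.PI_NI
import Groth.Agent.Lead.PI_ND

set_option autoImplicit false
set_option maxHeartbeats 1000000
set_option linter.style.haveILetI false
set_option linter.unusedSectionVars false
set_option linter.unusedVariables false

/-! The purely inseparable step (S7151): main theorem. -/

namespace Groth.Agent.H14.PIStepE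

universe u

open IsLocalRing Groth.Agent.H14.PIStepB

attribute [local instance] Groth.Agent.H14.PIStepB.algMod

theorem main (p : ℕ) (hp : p.Prime) (A B K L : Type u)
    [CommRing A] [IsDomain A] [IsDiscreteValuationRing A] [CommRing B] [IsDomain B]
    [IsDiscreteValuationRing B]
    [Algebra A B] (hinj : Function.Injective (algebraMap A B)) [IsLocalHom (algebraMap A B)]
    [Field K] [Field L] [Algebra A K] [IsFractionRing A K] [Algebra B L] [IsFractionRing B L]
    [Algebra K L] [Algebra A L] [IsScalarTower A K L] [IsScalarTower A B L] [CharP K p]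
    [Algebra.IsGeometricallyReduced K L] (hB : CAlg.IsNagata B)
    (K₁ K₂ : Type u) [Field K₁] [Field K₂] [Algebra K K₁] [Algebra K K₂] [Algebra K₁ K₂]
    [IsScalarTower K K₁ K₂]
    [FiniteDimensional K K₁] [FiniteDimensional K₁ K₂] (hsol : EtRam.IsSolution B K L K₂)
    [IsPurelyInseparable K₁ K₂] (hdeg : Module.finrank K₁ K₂ = p) :
    ∃ (K₃ : Type u) (_ : Field K₃) (_ : Algebra K K₃) (_ : Algebra K₁ K₃)
      (_ : IsScalarTower K K₁ K₃),
      FiniteDimensional K₁ K₃ ∧ Algebra.IsSeparable K₁ K₃ ∧ EtRam.IsSolution B K L K₃ := by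
  classical
  obtain ⟨x, hx, hxp, hxint⟩ := Groth.Agent.H14.PIStepA.exists_gen p hp A K K₁ K₂ hdeg
  obtain ⟨ξ, hξ⟩ := hxp
  obtain ⟨π, hπ⟩ := IsDiscreteValuationRing.exists_irreducible A
  have hπm : π ∈ maximalIdeal A := by
    rw [hπ.maximalIdeal_eq]; exact Ideal.mem_span_singleton_self π
  have hϖ0 : algebraMap A B π ≠ 0 := fun h => hπ.ne_zero (hinj (by rw [map_zero]; exact h))
  have hϖm : algebraMap A B π ∈ maximalIdeal B := by
    rw [mem_maximalIdeal, mem_nonunits_iff]
    intro hu
    exact (mem_maximalIdeal _).mp hπm (isUnit_of_map_unit (algebraMap A B) π hu)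
  have hϖK : algebraMap K L (algebraMap A K π) = algebraMap B L (algebraMap A B π) := by
    rw [← IsScalarTower.algebraMap_apply A K L, IsScalarTower.algebraMap_apply A B L]
  have hϖL0 : algebraMap B L (algebraMap A B π) ≠ 0 := fun h =>
    hϖ0 (IsFractionRing.injective B L (by rw [map_zero]; exact h))
  haveI : FiniteDimensional K K₂ := FiniteDimensional.trans K K₁ K₂
  -- the bounds
  have hND : ∀ σ : K₂ →ₐ[K] AlgebraicClosure L, ∃ t : ℕ, ∀ W : ValuationSubring (Mod σ),
      EtRam.Dominates B ((algebraMap L (Mod σ)).comp (algebraMap B L)) W →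
      ∀ c : Fin p → Mod σ,
        (∀ i, c i ∈ Algebra.adjoin L
          (Set.range ((algebraMap K₂ (Mod σ)).comp (algebraMap K₁ K₂)))) →
        ∀ i, ∃ w ∈ W, algebraMap L (Mod σ) (algebraMap B L (algebraMap A B π)) ^ t * c i =
          w * ∑ j, c j * algebraMap K₂ (Mod σ) x ^ (j : ℕ) := by
    intro σ
    have hNI := Groth.Agent.H68.PI.root_not_mem_core p hp K L K₁ K₂ x hx ⟨ξ, hξ⟩ (Mod σ)
    exact Groth.Agent.Lead.PI_ND.bounded_denominators p hp B K L K₁ K₂ x hx ⟨ξ, hξ⟩ (Mod σ)
      (adjoin_eq_top σ) hdeg hNI hB (algebraMap A B π) hϖ0 hϖm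
  choose t ht using hND
  -- integrality of `x`
  have hxW : ∀ (σ : K₂ →ₐ[K] AlgebraicClosure L) (W : ValuationSubring (AlgebraicClosure L)),
      EtRam.Dominates B ((algebraMap L (AlgebraicClosure L)).comp (algebraMap B L)) W →
      σ x ∈ W := by
    intro σ W hW
    refine Groth.Agent.H14.EppTri3.mem_of_isIntegralElem W
      ((algebraMap K (AlgebraicClosure L)).comp (algebraMap A K)) ?_ (σ x) ?_
    · intro a
      have e : ((algebraMap K (AlgebraicClosure L)).comp (algebraMap A K)) a =
          ((algebraMap L (AlgebraicClosure L)).comp (algebraMap B L)) (algebraMap A B a) := by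
        show algebraMap K (AlgebraicClosure L) (algebraMap A K a) =
          algebraMap L (AlgebraicClosure L) (algebraMap B L (algebraMap A B a))
        rw [IsScalarTower.algebraMap_apply K L (AlgebraicClosure L),
          ← IsScalarTower.algebraMap_apply A K L, IsScalarTower.algebraMap_apply A B L]
      rw [e]
      exact hW.1 _
    · obtain ⟨q, hq, hqx⟩ := hxint
      refine ⟨q, hq, ?_⟩
      have h := congrArg (σ : K₂ →+* AlgebraicClosure L) hqx
      rw [Polynomial.hom_eval₂, map_zero] at h
      have e : (σ : K₂ →+* AlgebraicClosure L).comp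
          ((algebraMap K K₂).comp (algebraMap A K)) =
          (algebraMap K (AlgebraicClosure L)).comp (algebraMap A K) := by
        ext a
        exact σ.commutes _
      rw [← e]
      exact h
  -- the separable extension
  haveI : CharP K₁ p := charP_of_injective_algebraMap (algebraMap K K₁).injective p
  have hϖ₁0 : algebraMap K K₁ (algebraMap A K π) ≠ 0 := by
    intro h
    apply hπ.ne_zero
    apply IsFractionRing.injective A K
    rw [map_zero]
    exact (algebraMap K K₁).injective (by rw [h, map_zero])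
  obtain ⟨K₃, fK₃, aK₁K₃, z, hfin₃, hsep₃, hz, hzgen⟩ :=
    Groth.Agent.H68.PI.exists_K3 p hp ξ (algebraMap K K₁ (algebraMap A K π)) hϖ₁0
      (p * Finset.univ.sup t + 1)
  letI := fK₃
  letI := aK₁K₃
  letI aKK₃ : Algebra K K₃ := ((algebraMap K₁ K₃).comp (algebraMap K K₁)).toAlgebra
  haveI tower : IsScalarTower K K₁ K₃ := IsScalarTower.of_algebraMap_eq (fun _ => rfl)
  refine ⟨K₃, fK₃, aKK₃, aK₁K₃, tower, hfin₃, hsep₃, ?_⟩
  have hN : ∀ σ, p * t σ < p * Finset.univ.sup t + 1 := by
    intro σ
    have : t σ ≤ Finset.univ.sup t := Finset.le_sup (Finset.mem_univ σ)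
    have := Nat.mul_le_mul_left p this
    omega
  intro M₃ _ _ _ _ _ _ hgen₃ W₃ hW₃
  exact Groth.Agent.H14.PIStepD.local_step p hp B K L K₁ K₂ K₃ hsol hdeg x ξ hξ hx
    (algebraMap A B π) hϖL0 hϖm (algebraMap A K π) hϖK hxW t ht (p * Finset.univ.sup t + 1) hN z hz
    hzgen M₃ hgen₃ W₃ hW₃

end Groth.Agent.H14.PIStepE
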