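import Mathlib
import Groth.Agent.H42.FPKernel
import Groth.Prelude.Def_CohB1

/-!
# Finite presentation is preserved by restriction to an open subscheme (helper14)

Transport lemma for helper90's (RP) piece of S7275:
`isFP_restrict j M hM : CohB1.IsFP ((Scheme.Modules.restrictFunctor j).obj M)` for an open immersion `j`.
-/

set_option autoImplicit false
universe u
open CategoryTheory CategoryTheory.Limits AlgebraicGeometry

namespace Groth.Agent.H14.RelPerfTransport

/-- `CohB1.IsFP` is invariant under isomorphism. -/
theorem isFP_of_iso {Z : Scheme.{u}} {M N : Z.Modules} (e : M ≅ N) (h : CohB1.IsFP M) :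
    CohB1.IsFP N :=
  (SheafOfModules.isFinitePresentation (R := Z.ringCatSheaf)).prop_of_iso e h

/-- The restriction of a finitely presented module along an open immersion is finitely presented. -/
theorem isFP_restrict {U Z : Scheme.{u}} (j : U ⟶ Z) [IsOpenImmersion j] (M : Z.Modules)
    (hM : CohB1.IsFP M) : CohB1.IsFP ((Scheme.Modules.restrictFunctor j).obj M) :=
  isFP_of_iso ((Scheme.Modules.restrictFunctorIsoPullback j).symm.app M)
    (Groth.Agent.H42.FPKernel.isFP_pullback j M hM)

end Groth.Agent.H14.RelPerfTransport
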