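import Mathlib
import Groth.Prelude.Def_EtRam
import Groth.Agent.H25.GeomRedArt
import Groth.Agent.H10.ValDVR
import Groth.Agent.H10.UnramExt
import Groth.Agent.H11.NagataEFT
import Groth.Agent.H73.NagataField
import Groth.Agent.H78.ValExt

set_option autoImplicit false
set_option maxHeartbeats 1000000
set_option linter.style.haveILetI false
set_option linter.unusedSectionVars false
set_option linter.unusedVariables false

/-! Field-level and valuation-level helper lemmas for `EtAlg.separable_solution_of_solution`. -/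

namespace Groth.Agent.H14.SepDesc3

universe u

open TensorProduct IsLocalRing

/-- The compositum of a separable extension `M₃/K₃` with a finite purely inseparable extension
`K₂/K₃` is the tensor product, which is a field. -/
theorem exists_compositum (K₃ K₂ M₃ : Type u) [Field K₃] [Field K₂] [Field M₃] [Algebra K₃ K₂]
    [Algebra K₃ M₃] [IsPurelyInseparable K₃ K₂] [Algebra.IsSeparable K₃ M₃]
    [FiniteDimensional K₃ K₂] :
    ∃ (M₂ : Type u) (_ : Field M₂) (_ : Algebra M₃ M₂) (_ : Algebra K₂ M₂) (_ : Algebra K₃ M₂)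
      (_ : IsScalarTower K₃ M₃ M₂) (_ : IsScalarTower K₃ K₂ M₂) (_ : Module.Finite M₃ M₂),
      Module.finrank M₃ M₂ = Module.finrank K₃ K₂ ∧
      Algebra.adjoin M₃ (Set.range (algebraMap K₂ M₂)) = ⊤ := by
  classical
  haveI hred : IsReduced (M₃ ⊗[K₃] K₂) :=
    Groth.Agent.H25.GeomRed.isReduced_tensor_of_isSeparable (k := K₃) M₃ K₂
  have hrk : Module.finrank M₃ (M₃ ⊗[K₃] K₂) = Module.finrank K₃ K₂ := Module.finrank_baseChange
  have hpos : 0 < Module.finrank M₃ (M₃ ⊗[K₃] K₂) := hrk ▸ Module.finrank_pos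
  haveI : Nontrivial (M₃ ⊗[K₃] K₂) := Module.nontrivial_of_finrank_pos hpos
  let e : (M₃ ⊗[K₃] K₂) ≃ₐ[K₃] K₂ ⊗[K₃] M₃ := Algebra.TensorProduct.comm K₃ M₃ K₂
  haveI : Nontrivial (K₂ ⊗[K₃] M₃) := e.symm.toEquiv.nontrivial
  have hnu : ∀ z : M₃ ⊗[K₃] K₂, IsNilpotent z ∨ IsUnit z := by
    intro z
    have hM : ∀ r : M₃, IsNilpotent r ∨ IsUnit r := by
      intro r
      by_cases hr : r = 0
      · left; rw [hr]; exact IsNilpotent.zero
      · right; exact isUnit_iff_ne_zero.mpr hr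
    rcases Groth.Agent.H25.GeomRed.isNilpotent_or_isUnit_tensor (k := K₃) (E := K₂) (R := M₃)
      hM (e z) with h | h
    · left
      have := h.map e.symm
      rwa [AlgEquiv.symm_apply_apply] at this
    · right
      have := h.map e.symm
      rwa [AlgEquiv.symm_apply_apply] at this
  have hunit : ∀ z : M₃ ⊗[K₃] K₂, z ≠ 0 → IsUnit z := by
    intro z hz
    rcases hnu z with h | h
    · exact absurd (hred.eq_zero z h) hz
    · exact h
  obtain ⟨𝔫, h𝔫⟩ := Ideal.exists_maximal (M₃ ⊗[K₃] K₂)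
  have hbot : 𝔫 = ⊥ := by
    rw [eq_bot_iff]
    intro z hz
    by_contra hz0
    exact h𝔫.ne_top (Ideal.eq_top_of_isUnit_mem _ hz (hunit z hz0))
  letI : Field ((M₃ ⊗[K₃] K₂) ⧸ 𝔫) := Ideal.Quotient.field 𝔫
  letI algK₂ : Algebra K₂ ((M₃ ⊗[K₃] K₂) ⧸ 𝔫) :=
    ((Ideal.Quotient.mk 𝔫).comp
      (Algebra.TensorProduct.includeRight : K₂ →ₐ[K₃] M₃ ⊗[K₃] K₂).toRingHom).toAlgebra
  haveI t1 : IsScalarTower K₃ M₃ ((M₃ ⊗[K₃] K₂) ⧸ 𝔫) := inferInstance
  haveI t2 : IsScalarTower K₃ K₂ ((M₃ ⊗[K₃] K₂) ⧸ 𝔫) := IsScalarTower.of_algebraMap_eq (fun k => by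
    show Ideal.Quotient.mk 𝔫 (algebraMap K₃ (M₃ ⊗[K₃] K₂) k) =
      Ideal.Quotient.mk 𝔫 ((Algebra.TensorProduct.includeRight : K₂ →ₐ[K₃] M₃ ⊗[K₃] K₂)
        (algebraMap K₃ K₂ k))
    rw [AlgHom.commutes])
  have hsurj : Function.Surjective (Ideal.Quotient.mkₐ M₃ 𝔫).toLinearMap :=
    Ideal.Quotient.mkₐ_surjective M₃ 𝔫
  have hinj : Function.Injective (Ideal.Quotient.mkₐ M₃ 𝔫).toLinearMap := by
    have h1 : Function.Injective (Ideal.Quotient.mk 𝔫) := by
      rw [RingHom.injective_iff_ker_eq_bot, Ideal.mk_ker]; exact hbot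
    intro a b hab
    exact h1 hab
  haveI fin : Module.Finite M₃ ((M₃ ⊗[K₃] K₂) ⧸ 𝔫) :=
    Module.Finite.of_surjective (Ideal.Quotient.mkₐ M₃ 𝔫).toLinearMap hsurj
  refine ⟨(M₃ ⊗[K₃] K₂) ⧸ 𝔫, inferInstance, inferInstance, algK₂, inferInstance, t1, t2, fin, ?_, ?_⟩
  · rw [← hrk]
    exact (LinearEquiv.finrank_eq (LinearEquiv.ofBijective _ ⟨hinj, hsurj⟩)).symm
  · rw [eq_top_iff]
    rintro z -
    obtain ⟨t, rfl⟩ := Ideal.Quotient.mk_surjective z
    induction t using TensorProduct.induction_on with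
    | zero => rw [map_zero]; exact zero_mem _
    | tmul a b =>
      have h1 : (Ideal.Quotient.mk 𝔫 (a ⊗ₜ[K₃] b) : (M₃ ⊗[K₃] K₂) ⧸ 𝔫) =
          a • algebraMap K₂ ((M₃ ⊗[K₃] K₂) ⧸ 𝔫) b := by
        show _ = a • (Ideal.Quotient.mkₐ M₃ 𝔫) ((1 : M₃) ⊗ₜ[K₃] b)
        rw [← map_smul, TensorProduct.smul_tmul', smul_eq_mul, mul_one]
        rfl
      rw [h1]
      exact Subalgebra.smul_mem _ (Algebra.subset_adjoin (Set.mem_range_self b)) a
    | add x y hx hy => rw [map_add]; exact add_mem hx hy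

/-- In a compositum of `M₃` with a purely inseparable `K₂/K₃`, every element has a `p`-power in
`M₃`. -/
theorem pow_mem_of_adjoin (p : ℕ) (K₃ K₂ M₃ M₂ : Type u) [Field K₃] [Field K₂] [Field M₃]
    [Field M₂] [Algebra K₃ K₂] [Algebra K₃ M₃] [Algebra M₃ M₂] [Algebra K₂ M₂] [Algebra K₃ M₂]
    [IsScalarTower K₃ M₃ M₂] [IsScalarTower K₃ K₂ M₂] [IsPurelyInseparable K₃ K₂] [ExpChar K₃ p]
    (hadj : Algebra.adjoin M₃ (Set.range (algebraMap K₂ M₂)) = ⊤) (z : M₂) :
    ∃ n : ℕ, z ^ p ^ n ∈ (algebraMap M₃ M₂).range := by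
  haveI : ExpChar M₂ p := expChar_of_injective_algebraMap (algebraMap K₃ M₂).injective p
  haveI : ExpChar M₃ p := expChar_of_injective_algebraMap (algebraMap K₃ M₃).injective p
  have hz : z ∈ Algebra.adjoin M₃ (Set.range (algebraMap K₂ M₂)) := by rw [hadj]; trivial
  induction hz using Algebra.adjoin_induction with
  | mem x hx =>
    obtain ⟨k, rfl⟩ := hx
    obtain ⟨n, y, hy⟩ := IsPurelyInseparable.pow_mem K₃ p k
    refine ⟨n, algebraMap K₃ M₃ y, ?_⟩
    rw [← map_pow, ← hy, ← IsScalarTower.algebraMap_apply, ← IsScalarTower.algebraMap_apply]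
  | algebraMap m => exact ⟨0, m, by simp⟩
  | add x y _ _ hx hy =>
    obtain ⟨n, a, ha⟩ := hx
    obtain ⟨m, b, hb⟩ := hy
    refine ⟨n + m, a ^ p ^ m + b ^ p ^ n, ?_⟩
    rw [add_pow_expChar_pow, map_add, map_pow, map_pow, ha, hb, ← pow_mul, ← pow_mul,
      ← pow_add, ← pow_add, add_comm m n]
  | mul x y _ _ hx hy =>
    obtain ⟨n, a, ha⟩ := hx
    obtain ⟨m, b, hb⟩ := hy
    refine ⟨n + m, a ^ p ^ m * b ^ p ^ n, ?_⟩
    rw [mul_pow, map_mul, map_pow, map_pow, ha, hb, ← pow_mul, ← pow_mul,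
      ← pow_add, ← pow_add, add_comm m n]

/-- A compositum of two separable extensions is separable. -/
theorem isSeparable_compositum (K L K₃ M₃ : Type u) [Field K] [Field L] [Field K₃] [Field M₃]
    [Algebra K L] [Algebra K K₃] [Algebra K M₃] [Algebra L M₃] [Algebra K₃ M₃]
    [IsScalarTower K L M₃] [IsScalarTower K K₃ M₃] [Algebra.IsSeparable K L]
    [Algebra.IsSeparable K K₃]
    (hadj : Algebra.adjoin L (Set.range (algebraMap K₃ M₃)) = ⊤) : Algebra.IsSeparable K M₃ := by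
  have key : ∀ z : M₃, z ∈ separableClosure K M₃ := by
    intro z
    have hz : z ∈ Algebra.adjoin L (Set.range (algebraMap K₃ M₃)) := by rw [hadj]; trivial
    induction hz using Algebra.adjoin_induction with
    | mem x hx =>
      obtain ⟨k, rfl⟩ := hx
      rw [mem_separableClosure_iff]
      have h := Algebra.IsSeparable.isSeparable K k
      unfold IsSeparable at h ⊢
      rwa [minpoly.algebraMap_eq (algebraMap K₃ M₃).injective]
    | algebraMap l =>
      rw [mem_separableClosure_iff]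
      have h := Algebra.IsSeparable.isSeparable K l
      unfold IsSeparable at h ⊢
      rwa [minpoly.algebraMap_eq (algebraMap L M₃).injective]
    | add x y _ _ hx hy => exact add_mem hx hy
    | mul x y _ _ hx hy => exact mul_mem hx hy
  exact ⟨fun z => mem_separableClosure_iff.mp (key z)⟩

/-- Generation of the big compositum. -/
theorem adjoin_top_compositum (K L K₃ K₂ M₃ M₂ : Type u) [Field K] [Field L] [Field K₃] [Field K₂]
    [Field M₃] [Field M₂] [Algebra K₃ K₂] [Algebra L M₃] [Algebra K₃ M₃] [Algebra M₃ M₂]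
    [Algebra K₂ M₂] [Algebra K₃ M₂] [Algebra L M₂]
    [IsScalarTower K₃ M₃ M₂] [IsScalarTower K₃ K₂ M₂] [IsScalarTower L M₃ M₂]
    (hadj : Algebra.adjoin L (Set.range (algebraMap K₃ M₃)) = ⊤)
    (hadj' : Algebra.adjoin M₃ (Set.range (algebraMap K₂ M₂)) = ⊤) :
    Algebra.adjoin L (Set.range (algebraMap K₂ M₂)) = ⊤ := by
  rw [eq_top_iff]
  rintro z -
  have hz : z ∈ Algebra.adjoin M₃ (Set.range (algebraMap K₂ M₂)) := by rw [hadj']; trivial
  induction hz using Algebra.adjoin_induction with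
  | mem x hx => exact Algebra.subset_adjoin hx
  | algebraMap m =>
    have hm : m ∈ Algebra.adjoin L (Set.range (algebraMap K₃ M₃)) := by rw [hadj]; trivial
    induction hm using Algebra.adjoin_induction with
    | mem x hx =>
      obtain ⟨k, rfl⟩ := hx
      refine Algebra.subset_adjoin ⟨algebraMap K₃ K₂ k, ?_⟩
      rw [← IsScalarTower.algebraMap_apply, ← IsScalarTower.algebraMap_apply]
    | algebraMap l =>
      rw [← IsScalarTower.algebraMap_apply]
      exact Subalgebra.algebraMap_mem _ l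
    | add x y _ _ hx hy => rw [map_add]; exact add_mem hx hy
    | mul x y _ _ hx hy => rw [map_mul]; exact mul_mem hx hy
  | add x y _ _ hx hy => exact add_mem hx hy
  | mul x y _ _ hx hy => exact mul_mem hx hy

end Groth.Agent.H14.SepDesc3
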