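import Mathlib
import Groth.Prelude.Def_EtRam
import Groth.Agent.H14.SepDesc2
import Groth.Agent.H14.SepDesc3

set_option autoImplicit false
set_option maxHeartbeats 1000000
set_option linter.style.haveILetI false
set_option linter.unusedSectionVars false
set_option linter.unusedVariables false

/-! Valuation-ring bookkeeping for `EtAlg.separable_solution_of_solution`. -/

namespace Groth.Agent.H14.SepDesc4

universe u

open TensorProduct IsLocalRing

section Val

variable {F F' : Type u} [Field F] [Field F']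

/-- The ring map between valuation subrings induced by a field map. -/
def vmap (V : ValuationSubring F) (V' : ValuationSubring F') (g : F →+* F')
    (h : ∀ x, x ∈ V → g x ∈ V') : V →+* V' :=
  RingHom.codRestrict (g.comp V.subtype) V' (fun x => h x x.2)

theorem vmap_injective (V : ValuationSubring F) (V' : ValuationSubring F') (g : F →+* F')
    (h : ∀ x, x ∈ V → g x ∈ V') : Function.Injective (vmap V V' g h) :=
  fun a b hab => Subtype.ext (g.injective (congrArg Subtype.val hab))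

theorem inclOfComap_injective (W : ValuationSubring F') (g : F →+* F') :
    Function.Injective (EtRam.inclOfComap W g) :=
  fun a b hab => Subtype.ext (g.injective (congrArg Subtype.val hab))

theorem isLocalHom_vmap (V : ValuationSubring F) (V' : ValuationSubring F') (g : F →+* F')
    (h : ∀ x, x ∈ V → g x ∈ V') (h' : ∀ x, g x ∈ V' → x ∈ V) : IsLocalHom (vmap V V' g h) := by
  have hV : V = V'.comap g := by
    ext x; exact ⟨h x, h' x⟩
  subst hV
  have : vmap (V'.comap g) V' g h = EtRam.inclOfComap V' g := RingHom.ext (fun x => rfl)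
  rw [this]
  exact EtRam.isLocalHom_inclOfComap V' g

end Val

/-- `W ∩ K₁ → W` is algebraic when `M/K₁` is. -/
theorem isAlgebraic_comap {K₁ M : Type u} [Field K₁] [Field M] [Algebra K₁ M]
    [Algebra.IsAlgebraic K₁ M] (W : ValuationSubring M) :
    letI : Algebra (W.comap (algebraMap K₁ M)) W :=
      (EtRam.inclOfComap W (algebraMap K₁ M)).toAlgebra
    Algebra.IsAlgebraic (W.comap (algebraMap K₁ M)) W := by
  letI alg : Algebra (W.comap (algebraMap K₁ M)) W :=
    (EtRam.inclOfComap W (algebraMap K₁ M)).toAlgebra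
  letI algM : Algebra (W.comap (algebraMap K₁ M)) M :=
    ((algebraMap W M).comp (algebraMap (W.comap (algebraMap K₁ M)) W)).toAlgebra
  haveI : IsScalarTower (W.comap (algebraMap K₁ M)) W M :=
    IsScalarTower.of_algebraMap_eq (fun _ => rfl)
  haveI : IsScalarTower (W.comap (algebraMap K₁ M)) K₁ M :=
    IsScalarTower.of_algebraMap_eq (fun _ => rfl)
  refine ⟨fun w => ?_⟩
  have h1 : IsAlgebraic K₁ (algebraMap W M w) := Algebra.IsAlgebraic.isAlgebraic _
  have h2 : IsAlgebraic (W.comap (algebraMap K₁ M)) (algebraMap W M w) :=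
    (IsFractionRing.isAlgebraic_iff (W.comap (algebraMap K₁ M)) K₁ M).mpr h1
  exact (isAlgebraic_algebraMap_iff (IsFractionRing.injective W M)).mp h2

/-- Nagata: `W₂` is finite over `W₂ ∩ M₃` when `M₂/M₃` is finite purely inseparable. -/
theorem finite_of_isNagata (M₃ M₂ : Type u) [Field M₃] [Field M₂] [Algebra M₃ M₂]
    [Module.Finite M₃ M₂] (W₂ : ValuationSubring M₂)
    (hN : CAlg.IsNagata (W₂.comap (algebraMap M₃ M₂)))
    [IsNoetherianRing (W₂.comap (algebraMap M₃ M₂))]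
    (p : ℕ) (hp : 0 < p) (hpow : ∀ z : M₂, ∃ n : ℕ, z ^ p ^ n ∈ (algebraMap M₃ M₂).range) :
    letI : Algebra (W₂.comap (algebraMap M₃ M₂)) W₂ :=
      (EtRam.inclOfComap W₂ (algebraMap M₃ M₂)).toAlgebra
    Module.Finite (W₂.comap (algebraMap M₃ M₂)) W₂ := by
  letI alg : Algebra (W₂.comap (algebraMap M₃ M₂)) W₂ :=
    (EtRam.inclOfComap W₂ (algebraMap M₃ M₂)).toAlgebra
  letI algM : Algebra (W₂.comap (algebraMap M₃ M₂)) M₂ :=
    ((algebraMap M₃ M₂).comp (algebraMap (W₂.comap (algebraMap M₃ M₂)) M₃)).toAlgebra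
  haveI : IsScalarTower (W₂.comap (algebraMap M₃ M₂)) M₃ M₂ :=
    IsScalarTower.of_algebraMap_eq (fun _ => rfl)
  haveI : IsScalarTower (W₂.comap (algebraMap M₃ M₂)) W₂ M₂ :=
    IsScalarTower.of_algebraMap_eq (fun _ => rfl)
  have hK : ∀ z : M₃, ∃ a b : (W₂.comap (algebraMap M₃ M₂)),
      algebraMap (W₂.comap (algebraMap M₃ M₂)) M₃ b ≠ 0 ∧
      z * algebraMap (W₂.comap (algebraMap M₃ M₂)) M₃ b =
        algebraMap (W₂.comap (algebraMap M₃ M₂)) M₃ a := by
    intro z
    rcases (W₂.comap (algebraMap M₃ M₂)).mem_or_inv_mem z with hz | hz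
    · exact ⟨⟨z, hz⟩, 1, by rw [map_one]; exact one_ne_zero, by rw [map_one, mul_one]; rfl⟩
    · by_cases hz0 : z = 0
      · exact ⟨0, 1, by rw [map_one]; exact one_ne_zero, by rw [hz0, map_zero, zero_mul]⟩
      · exact ⟨1, ⟨z⁻¹, hz⟩, inv_ne_zero hz0, by rw [map_one]; exact mul_inv_cancel₀ hz0⟩
  haveI hfinIC : Module.Finite (W₂.comap (algebraMap M₃ M₂))
      (integralClosure (W₂.comap (algebraMap M₃ M₂)) M₂) :=
    Groth.Agent.H73.NagataFin.finite_integralClosure_of_isNagata_field _ hN M₃ M₂ hK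
  have hint : ∀ w : W₂, (IsScalarTower.toAlgHom (W₂.comap (algebraMap M₃ M₂)) W₂ M₂) w ∈
      integralClosure (W₂.comap (algebraMap M₃ M₂)) M₂ := by
    intro w
    obtain ⟨n, m, hm⟩ := hpow (w : M₂)
    have hmW : m ∈ W₂.comap (algebraMap M₃ M₂) := by
      show algebraMap M₃ M₂ m ∈ W₂
      rw [hm]; exact pow_mem w.2 _
    show IsIntegral _ (w : M₂)
    refine IsIntegral.of_pow (pow_pos hp n) ?_
    rw [← hm]
    exact isIntegral_algebraMap (x := (⟨m, hmW⟩ : W₂.comap (algebraMap M₃ M₂)))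
  let φ : W₂ →ₐ[W₂.comap (algebraMap M₃ M₂)] integralClosure (W₂.comap (algebraMap M₃ M₂)) M₂ :=
    (IsScalarTower.toAlgHom _ W₂ M₂).codRestrict _ hint
  refine Module.Finite.of_injective φ.toLinearMap ?_
  intro a b hab
  have : (a : M₂) = (b : M₂) :=
    congrArg (fun x : integralClosure (W₂.comap (algebraMap M₃ M₂)) M₂ => (x : M₂)) hab
  exact Subtype.ext this

/-- Both `W ∩ K₁` and `W` are DVRs. -/
theorem dvr_pair (A B K L K₁ M : Type u) [CommRing A] [IsDomain A] [IsDiscreteValuationRing A]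
    [CommRing B] [IsDomain B] [IsDiscreteValuationRing B] [Algebra A B]
    [IsLocalHom (algebraMap A B)]
    [Field K] [Field L] [Algebra A K] [IsFractionRing A K] [Algebra B L] [IsFractionRing B L]
    [Algebra K L] [Algebra A L] [IsScalarTower A K L] [IsScalarTower A B L]
    [Field K₁] [Algebra K K₁] [FiniteDimensional K K₁] [Field M] [Algebra K M] [Algebra L M]
    [Algebra K₁ M] [IsScalarTower K L M] [IsScalarTower K K₁ M]
    (hadj : Algebra.adjoin L (Set.range (algebraMap K₁ M)) = ⊤) (W : ValuationSubring M)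
    (hW : EtRam.Dominates B ((algebraMap L M).comp (algebraMap B L)) W) :
    IsDiscreteValuationRing (W.comap (algebraMap K₁ M)) ∧ IsDiscreteValuationRing W := by
  letI algAK₁ : Algebra A K₁ := ((algebraMap K K₁).comp (algebraMap A K)).toAlgebra
  haveI : IsScalarTower A K K₁ := IsScalarTower.of_algebraMap_eq (fun _ => rfl)
  letI algBM : Algebra B M := ((algebraMap L M).comp (algebraMap B L)).toAlgebra
  haveI : IsScalarTower B L M := IsScalarTower.of_algebraMap_eq (fun _ => rfl)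
  have hcompat : ∀ a : A, algebraMap K₁ M (algebraMap A K₁ a) =
      algebraMap B M (algebraMap A B a) := by
    intro a
    show algebraMap K₁ M (algebraMap K K₁ (algebraMap A K a)) =
      algebraMap L M (algebraMap B L (algebraMap A B a))
    rw [← IsScalarTower.algebraMap_apply K K₁ M, IsScalarTower.algebraMap_apply K L M,
      ← IsScalarTower.algebraMap_apply A K L, ← IsScalarTower.algebraMap_apply A B L]
  have hWB : EtRam.Dominates B (algebraMap B M) W := hW
  have hV : EtRam.Dominates A (algebraMap A K₁) (W.comap (algebraMap K₁ M)) := by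
    rw [Groth.Agent.H78.ValExt.dominates_comap_iff]
    refine ⟨fun a => ?_, fun a ha => ?_⟩
    · show algebraMap K₁ M (algebraMap A K₁ a) ∈ W
      rw [hcompat]; exact hWB.1 _
    · show W.valuation (algebraMap K₁ M (algebraMap A K₁ a)) < 1
      rw [hcompat]
      exact hWB.2 _ ((IsLocalRing.mem_maximalIdeal _).mpr (fun hu =>
        ((IsLocalRing.mem_maximalIdeal _).mp ha) (isUnit_of_map_unit (algebraMap A B) a hu)))
  haveI hfinLM : FiniteDimensional L M :=
    Groth.Agent.H10.ValDVR.finite_of_adjoin_eq_top K L K₁ M hadj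
  exact ⟨Groth.Agent.H10.ValDVR.isDVR_of_dominates_finite A K K₁ _ hV,
    Groth.Agent.H10.ValDVR.isDVR_of_dominates_finite B L M W hWB⟩

/-- A valuation ring of a finite separable extension dominating a Nagata DVR is Nagata. -/
theorem isNagata_of_dominates (B L M : Type u) [CommRing B] [IsDomain B]
    [IsDiscreteValuationRing B] [Field L] [Algebra B L] [IsFractionRing B L] [Field M]
    [Algebra L M] [FiniteDimensional L M] [Algebra.IsSeparable L M] (hB : CAlg.IsNagata B)
    (W : ValuationSubring M)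
    (hW : EtRam.Dominates B ((algebraMap L M).comp (algebraMap B L)) W) : CAlg.IsNagata W := by
  letI algBM : Algebra B M := ((algebraMap L M).comp (algebraMap B L)).toAlgebra
  haveI : IsScalarTower B L M := IsScalarTower.of_algebraMap_eq (fun _ => rfl)
  have hWB : EtRam.Dominates B (algebraMap B M) W := hW
  letI algBW : Algebra B W := (RingHom.codRestrict (algebraMap B M) W hWB.1).toAlgebra
  haveI : Algebra.EssFiniteType B W :=
    Groth.Agent.H10.UnramExt.essFiniteType_of_dominates B L M W hWB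
  exact Groth.Agent.H11.NagataEFT.isNagata_of_essFiniteType B hB W

section DV

variable (K₃ K₂ M₃ M₂ : Type u) [Field K₃] [Field K₂] [Field M₃] [Field M₂]
  [Algebra K₃ K₂] [Algebra K₃ M₃] [Algebra M₃ M₂] [Algebra K₂ M₂] [Algebra K₃ M₂]
  [IsScalarTower K₃ K₂ M₂] [IsScalarTower K₃ M₃ M₂] [FiniteDimensional K₃ K₂]
  (W₂ : ValuationSubring M₂)

local notation "W₃" => (ValuationSubring.comap W₂ (algebraMap M₃ M₂))
local notation "V₂" => (ValuationSubring.comap W₂ (algebraMap K₂ M₂))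
local notation "V₃" =>
  (ValuationSubring.comap (ValuationSubring.comap W₂ (algebraMap M₃ M₂)) (algebraMap K₃ M₃))

/-- Descent for valuation subrings. -/
theorem descent_val
    [IsDiscreteValuationRing V₃] [IsDiscreteValuationRing V₂] [IsDiscreteValuationRing W₃]
    [IsDiscreteValuationRing W₂]
    (hfin : letI : Algebra W₃ W₂ := (EtRam.inclOfComap W₂ (algebraMap M₃ M₂)).toAlgebra
      Module.Finite W₃ W₂)
    (hq : Module.finrank M₃ M₂ = Module.finrank K₃ K₂)
    [Algebra.IsAlgebraic K₂ M₂]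
    (h₂ : letI : Algebra V₂ W₂ := (EtRam.inclOfComap W₂ (algebraMap K₂ M₂)).toAlgebra
      EtRam.IsWeaklyUnramified V₂ W₂ ∧
        @Algebra.IsGeometricallyReduced (ResidueField V₂) (ResidueField W₂) _ _
          (ResidueField.map (EtRam.inclOfComap W₂ (algebraMap K₂ M₂))).toAlgebra)
    (p : ℕ) (hp : p.Prime) [CharP K₃ p]
    (hpow : ∀ z : M₂, ∃ n : ℕ, z ^ p ^ n ∈ (algebraMap M₃ M₂).range) :
    letI : Algebra V₃ W₃ := (EtRam.inclOfComap W₃ (algebraMap K₃ M₃)).toAlgebra
    EtRam.IsWeaklyUnramified V₃ W₃ ∧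
      @Algebra.IsGeometricallyReduced (ResidueField V₃) (ResidueField W₃) _ _
        (ResidueField.map (EtRam.inclOfComap W₃ (algebraMap K₃ M₃))).toAlgebra := by
  classical
  have hcompat : ∀ x : K₃, algebraMap K₂ M₂ (algebraMap K₃ K₂ x) =
      algebraMap M₃ M₂ (algebraMap K₃ M₃ x) := by
    intro x
    rw [← IsScalarTower.algebraMap_apply, ← IsScalarTower.algebraMap_apply]
  have hmem32 : ∀ x : K₃, x ∈ V₃ → algebraMap K₃ K₂ x ∈ V₂ := by
    intro x hx
    show algebraMap K₂ M₂ (algebraMap K₃ K₂ x) ∈ W₂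
    rw [hcompat]; exact hx
  have hmem32' : ∀ x : K₃, algebraMap K₃ K₂ x ∈ V₂ → x ∈ V₃ := by
    intro x hx
    have h1 : algebraMap K₂ M₂ (algebraMap K₃ K₂ x) ∈ W₂ := hx
    rw [hcompat] at h1; exact h1
  letI a32 : Algebra V₃ V₂ := (vmap V₃ V₂ (algebraMap K₃ K₂) hmem32).toAlgebra
  haveI l32 : IsLocalHom (algebraMap V₃ V₂) :=
    isLocalHom_vmap V₃ V₂ (algebraMap K₃ K₂) hmem32 hmem32'
  letI a3W : Algebra V₃ W₃ := (EtRam.inclOfComap W₃ (algebraMap K₃ M₃)).toAlgebra
  haveI l3W : IsLocalHom (algebraMap V₃ W₃) :=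
    EtRam.isLocalHom_inclOfComap W₃ (algebraMap K₃ M₃)
  letI aWW : Algebra W₃ W₂ := (EtRam.inclOfComap W₂ (algebraMap M₃ M₂)).toAlgebra
  haveI lWW : IsLocalHom (algebraMap W₃ W₂) :=
    EtRam.isLocalHom_inclOfComap W₂ (algebraMap M₃ M₂)
  letI a2W : Algebra V₂ W₂ := (EtRam.inclOfComap W₂ (algebraMap K₂ M₂)).toAlgebra
  haveI l2W : IsLocalHom (algebraMap V₂ W₂) :=
    EtRam.isLocalHom_inclOfComap W₂ (algebraMap K₂ M₂)
  letI a3W₂ : Algebra V₃ W₂ := ((algebraMap W₃ W₂).comp (algebraMap V₃ W₃)).toAlgebra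
  haveI l3W₂ : IsLocalHom (algebraMap V₃ W₂) :=
    RingHom.isLocalHom_comp (algebraMap W₃ W₂) (algebraMap V₃ W₃)
  haveI t1 : IsScalarTower V₃ W₃ W₂ := IsScalarTower.of_algebraMap_eq (fun _ => rfl)
  haveI t2 : IsScalarTower V₃ V₂ W₂ :=
    IsScalarTower.of_algebraMap_eq (fun x => Subtype.ext (hcompat x.1).symm)
  letI a3K₂ : Algebra V₃ K₂ := ((algebraMap K₃ K₂).comp (algebraMap V₃ K₃)).toAlgebra
  haveI t3 : IsScalarTower V₃ K₃ K₂ := IsScalarTower.of_algebraMap_eq (fun _ => rfl)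
  haveI t4 : IsScalarTower V₃ V₂ K₂ := IsScalarTower.of_algebraMap_eq (fun _ => rfl)
  letI aWM₂ : Algebra W₃ M₂ := ((algebraMap M₃ M₂).comp (algebraMap W₃ M₃)).toAlgebra
  haveI t5 : IsScalarTower W₃ M₃ M₂ := IsScalarTower.of_algebraMap_eq (fun _ => rfl)
  haveI t6 : IsScalarTower W₃ W₂ M₂ := IsScalarTower.of_algebraMap_eq (fun _ => rfl)
  haveI hfin' : Module.Finite W₃ W₂ := hfin
  obtain ⟨hw, hgr⟩ := h₂
  have heq2 : (ResidueField.instAlgebra : Algebra (ResidueField V₂) (ResidueField W₂)) =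
      (ResidueField.map (EtRam.inclOfComap W₂ (algebraMap K₂ M₂))).toAlgebra := by
    apply Algebra.algebra_ext
    intro r
    obtain ⟨x, rfl⟩ := residue_surjective r
    rfl
  haveI hgr' : Algebra.IsGeometricallyReduced (ResidueField V₂) (ResidueField W₂) := by
    rw [heq2]; exact hgr
  haveI halg : Algebra.IsAlgebraic V₂ W₂ := isAlgebraic_comap (K₁ := K₂) W₂
  haveI halgres : Algebra.IsAlgebraic (ResidueField V₂) (ResidueField W₂) :=
    Groth.Agent.H14.SepDesc1.residue_isAlgebraic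
      (inclOfComap_injective W₂ (algebraMap K₂ M₂))
  haveI : CharP K₂ p := charP_of_injective_algebraMap (algebraMap K₃ K₂).injective p
  have hp0 : ((p : ℕ) : ResidueField V₂) = 0 := by
    have h1 : ((p : ℕ) : V₂) = 0 := by
      apply Subtype.ext
      have h2 : (((p : ℕ) : V₂) : K₂) = ((p : ℕ) : K₂) := map_natCast (algebraMap V₂ K₂) p
      rw [h2]
      exact CharP.cast_eq_zero K₂ p
    rw [← map_natCast (residue V₂), h1, map_zero]
  haveI : CharP (ResidueField V₂) p := (CharP.charP_iff_prime_eq_zero hp).mpr hp0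
  haveI : ExpChar (ResidueField V₂) p := ExpChar.prime hp
  have hpi : ∀ w : W₂, ∃ (n : ℕ) (w₃ : W₃), w ^ p ^ n = algebraMap W₃ W₂ w₃ := by
    intro w
    obtain ⟨n, m, hm⟩ := hpow (w : M₂)
    have hmW : m ∈ W₃ := by
      show algebraMap M₃ M₂ m ∈ W₂
      rw [hm]; exact pow_mem w.2 _
    exact ⟨n, ⟨m, hmW⟩, Subtype.ext hm.symm⟩
  obtain ⟨h1, h2⟩ := Groth.Agent.H14.SepDesc2.descent V₃ V₂ W₃ W₂ K₃ K₂ M₃ M₂
    (vmap_injective V₃ V₂ (algebraMap K₃ K₂) hmem32)
    (inclOfComap_injective W₃ (algebraMap K₃ M₃))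
    (inclOfComap_injective W₂ (algebraMap M₃ M₂))
    (inclOfComap_injective W₂ (algebraMap K₂ M₂)) hq hw p hpi
  refine ⟨h1, ?_⟩
  have heq3 : (ResidueField.instAlgebra : Algebra (ResidueField V₃) (ResidueField W₃)) =
      (ResidueField.map (EtRam.inclOfComap W₃ (algebraMap K₃ M₃))).toAlgebra := by
    apply Algebra.algebra_ext
    intro r
    obtain ⟨x, rfl⟩ := residue_surjective r
    rfl
  rw [← heq3]
  exact h2

end DV

open Groth.Agent.H14.SepDesc3 in
/-- The separable closure `K₃` of `K` in a solution `K₂` is again a solution. -/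
theorem main_step (A B K L : Type u) [CommRing A] [IsDomain A] [IsDiscreteValuationRing A]
    [CommRing B] [IsDomain B] [IsDiscreteValuationRing B] [Algebra A B]
    [IsLocalHom (algebraMap A B)]
    [Field K] [Field L] [Algebra A K] [IsFractionRing A K] [Algebra B L] [IsFractionRing B L]
    [Algebra K L] [Algebra A L] [IsScalarTower A K L] [IsScalarTower A B L]
    [Algebra.IsSeparable K L] (hB : CAlg.IsNagata B)
    (K₂ : Type u) [Field K₂] [Algebra K K₂] [FiniteDimensional K K₂]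
    (h₂ : EtRam.IsSolution B K L K₂)
    (K₃ : Type u) [Field K₃] [Algebra K K₃] [Algebra K₃ K₂] [IsScalarTower K K₃ K₂]
    [FiniteDimensional K K₃] [Algebra.IsSeparable K K₃] [IsPurelyInseparable K₃ K₂]
    (p : ℕ) (hp : p.Prime) [CharP K p] :
    EtRam.IsSolution B K L K₃ := by
  classical
  intro M₃ _ _ _ _ _ _ hadj W₃ hW₃
  haveI : FiniteDimensional K₃ K₂ := Module.Finite.right K K₃ K₂
  haveI hsepKM : Algebra.IsSeparable K M₃ := isSeparable_compositum K L K₃ M₃ hadj
  haveI hsepK₃M : Algebra.IsSeparable K₃ M₃ :=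
    Algebra.isSeparable_tower_top_of_isSeparable K K₃ M₃
  haveI hsepLM : Algebra.IsSeparable L M₃ :=
    Algebra.isSeparable_tower_top_of_isSeparable K L M₃
  haveI hfinLM₃ : FiniteDimensional L M₃ :=
    Groth.Agent.H10.ValDVR.finite_of_adjoin_eq_top K L K₃ M₃ hadj
  obtain ⟨M₂, fM₂, aM₃M₂, aK₂M₂, aK₃M₂, t1, t2, hfinM, hq, hadj'⟩ :=
    exists_compositum K₃ K₂ M₃
  letI aKM₂ : Algebra K M₂ := ((algebraMap M₃ M₂).comp (algebraMap K M₃)).toAlgebra
  letI aLM₂ : Algebra L M₂ := ((algebraMap M₃ M₂).comp (algebraMap L M₃)).toAlgebra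
  haveI t3 : IsScalarTower K M₃ M₂ := IsScalarTower.of_algebraMap_eq (fun _ => rfl)
  haveI t4 : IsScalarTower L M₃ M₂ := IsScalarTower.of_algebraMap_eq (fun _ => rfl)
  haveI t5 : IsScalarTower K L M₂ := IsScalarTower.of_algebraMap_eq (fun k => by
    show algebraMap M₃ M₂ (algebraMap K M₃ k) =
      algebraMap M₃ M₂ (algebraMap L M₃ (algebraMap K L k))
    rw [← IsScalarTower.algebraMap_apply K L M₃])
  haveI t6 : IsScalarTower K K₂ M₂ := IsScalarTower.of_algebraMap_eq (fun k => by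
    show algebraMap M₃ M₂ (algebraMap K M₃ k) = algebraMap K₂ M₂ (algebraMap K K₂ k)
    rw [IsScalarTower.algebraMap_apply K K₃ M₃, ← IsScalarTower.algebraMap_apply K₃ M₃ M₂,
      IsScalarTower.algebraMap_apply K₃ K₂ M₂, ← IsScalarTower.algebraMap_apply K K₃ K₂])
  have hadj₂ : Algebra.adjoin L (Set.range (algebraMap K₂ M₂)) = ⊤ :=
    adjoin_top_compositum K L K₃ K₂ M₃ M₂ hadj hadj'
  obtain ⟨W₂, rfl⟩ := Groth.Agent.H78.ValExt.exists_ext (M := M₂) W₃
  have hW₂ : EtRam.Dominates B ((algebraMap L M₂).comp (algebraMap B L)) W₂ :=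
    (Groth.Agent.H78.ValExt.dominates_comap_iff
      ((algebraMap L M₃).comp (algebraMap B L)) W₂).mp hW₃
  obtain ⟨dV₃, dW₃⟩ := dvr_pair A B K L K₃ M₃ hadj _ hW₃
  obtain ⟨dV₂, dW₂⟩ := dvr_pair A B K L K₂ M₂ hadj₂ W₂ hW₂
  have hNag : CAlg.IsNagata (W₂.comap (algebraMap M₃ M₂)) :=
    isNagata_of_dominates B L M₃ hB _ hW₃
  haveI : CharP K₃ p := charP_of_injective_algebraMap (algebraMap K K₃).injective p
  haveI : ExpChar K₃ p := ExpChar.prime hp
  have hpow := pow_mem_of_adjoin p K₃ K₂ M₃ M₂ hadj'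
  have hfin := finite_of_isNagata M₃ M₂ W₂ hNag p hp.pos hpow
  haveI : FiniteDimensional L M₂ :=
    Groth.Agent.H10.ValDVR.finite_of_adjoin_eq_top K L K₂ M₂ hadj₂
  haveI : Algebra.IsAlgebraic K M₂ := Algebra.IsAlgebraic.trans K L M₂
  haveI : Algebra.IsAlgebraic K₂ M₂ := Algebra.IsAlgebraic.tower_top (K := K) K₂
  exact descent_val K₃ K₂ M₃ M₂ W₂ hfin hq (h₂ M₂ hadj₂ W₂ hW₂) p hp hpow

end Groth.Agent.H14.SepDesc4
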