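import Mathlib
import Groth.Prelude.Def_EtRam
import Groth.Prelude.Def_Hensel
import Groth.Agent.Lead.SH_UD
import Groth.Agent.H81.SH_CO
import Groth.Agent.H84.SH_EN
import Groth.Agent.H14.PIStepB
import Groth.Agent.H80.SolTower
import Groth.Agent.H78.ValExt
import Groth.Agent.H10.ValDVR
import Groth.Agent.S1988

set_option autoImplicit false
set_option maxHeartbeats 1000000
set_option linter.style.haveILetI false
set_option linter.unusedSectionVars false
set_option linter.unusedVariables false

/-! Descent of solutions from the strict henselizations (S7162). -/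

namespace Groth.Agent.H14.SHDesc

universe u

open IsLocalRing Polynomial Groth.Agent.H14.PIStepB

attribute [local instance] Groth.Agent.H14.PIStepB.algMod

theorem descent (A B A' B' K L K' L' : Type u)
    [CommRing A] [IsDomain A] [IsDiscreteValuationRing A] [CommRing B] [IsDomain B]
    [IsDiscreteValuationRing B] [Algebra A B] (hinj : Function.Injective (algebraMap A B))
    [IsLocalHom (algebraMap A B)]
    [CommRing A'] [IsDomain A'] [IsDiscreteValuationRing A'] [CommRing B'] [IsDomain B']
    [IsDiscreteValuationRing B']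
    [Algebra A A'] [Algebra B B'] [Algebra A' B'] [Algebra A B'] [IsScalarTower A B B']
    [IsScalarTower A A' B']
    [IsLocalHom (algebraMap A A')] [IsLocalHom (algebraMap B B')] [IsLocalHom (algebraMap A' B')]
    (hB' : Function.Injective (algebraMap B B')) (hAB' : Function.Injective (algebraMap A' B'))
    [Hensel.IsStrictHenselization A A']
    [Field K] [Field L] [Field K'] [Field L'] [Algebra A K] [IsFractionRing A K] [Algebra B L]
    [IsFractionRing B L] [Algebra K L] [Algebra A L] [IsScalarTower A K L] [IsScalarTower A B L]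
    [Algebra A' K'] [IsFractionRing A' K'] [Algebra B' L'] [IsFractionRing B' L'] [Algebra K' L']
    [Algebra A' L'] [IsScalarTower A' K' L'] [IsScalarTower A' B' L']
    [Algebra K K'] [Algebra A K'] [IsScalarTower A K K'] [IsScalarTower A A' K']
    [Algebra L L'] [Algebra B L'] [IsScalarTower B L L'] [IsScalarTower B B' L']
    [Algebra.IsSeparable K K']
    (K₁ : Type u) [Field K₁] [Algebra K' K₁] [FiniteDimensional K' K₁]
    (hsol : EtRam.IsSolution B' K' L' K₁) :
    ∃ (K₀ : Type u) (_ : Field K₀) (_ : Algebra K K₀), FiniteDimensional K K₀ ∧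
      (Algebra.IsSeparable K' K₁ → Algebra.IsSeparable K K₀) ∧ EtRam.IsSolution B K L K₀ := by
  classical
  letI aKL' : Algebra K L' := ((algebraMap K' L').comp (algebraMap K K')).toAlgebra
  haveI tKK'L' : IsScalarTower K K' L' := IsScalarTower.of_algebraMap_eq (fun _ => rfl)
  haveI tKLL' : IsScalarTower K L L' := by
    refine IsScalarTower.of_algebraMap_eq' ?_
    apply IsLocalization.ringHom_ext (nonZeroDivisors A)
    refine RingHom.ext fun a => ?_
    show algebraMap K' L' (algebraMap K K' (algebraMap A K a)) =
      algebraMap L L' (algebraMap K L (algebraMap A K a))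
    rw [← IsScalarTower.algebraMap_apply A K K', IsScalarTower.algebraMap_apply A A' K',
      ← IsScalarTower.algebraMap_apply A' K' L', IsScalarTower.algebraMap_apply A' B' L',
      ← IsScalarTower.algebraMap_apply A A' B', IsScalarTower.algebraMap_apply A B B',
      ← IsScalarTower.algebraMap_apply B B' L', IsScalarTower.algebraMap_apply B L L',
      ← IsScalarTower.algebraMap_apply A B L, IsScalarTower.algebraMap_apply A K L]
  letI aKK₁ : Algebra K K₁ := ((algebraMap K' K₁).comp (algebraMap K K')).toAlgebra
  haveI tKK'K₁ : IsScalarTower K K' K₁ := IsScalarTower.of_algebraMap_eq (fun _ => rfl)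
  let ι : K₁ →ₐ[K'] AlgebraicClosure L' := IsAlgClosed.lift
  let b := Module.finBasis K' K₁
  have hθint : ∀ i, IsIntegral K (ι (b i)) := by
    intro i
    haveI : Algebra.IsAlgebraic K K₁ := Algebra.IsAlgebraic.trans K K' K₁
    have h1 : IsIntegral K (b i) := Algebra.IsIntegral.isIntegral (b i)
    exact h1.map (ι.restrictScalars K)
  let f : K[X] := ∏ i, minpoly K (ι (b i))
  have hf0 : f ≠ 0 := Finset.prod_ne_zero_iff.mpr (fun i _ => minpoly.ne_zero (hθint i))
  let N : IntermediateField K (AlgebraicClosure L') :=
    IntermediateField.adjoin K (f.rootSet (AlgebraicClosure L'))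
  haveI hsplit : IsSplittingField K N f :=
    IntermediateField.adjoin_rootSet_isSplittingField (IsAlgClosed.splits _)
  haveI hnormal : Normal K N := Normal.of_isSplittingField f
  haveI hfinN : FiniteDimensional K N := IsSplittingField.finiteDimensional N f
  have hθN : ∀ i, ι (b i) ∈ N := by
    intro i
    apply IntermediateField.subset_adjoin
    rw [Polynomial.mem_rootSet]
    refine ⟨hf0, ?_⟩
    show aeval (ι (b i)) (∏ j, minpoly K (ι (b j))) = 0
    rw [map_prod]
    exact Finset.prod_eq_zero (Finset.mem_univ i) (minpoly.aeval K _)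
  refine ⟨N, inferInstance, inferInstance, inferInstance, ?_, ?_⟩
  · intro hsepK₁
    haveI := hsepK₁
    haveI : Algebra.IsSeparable K K₁ := Algebra.IsSeparable.trans K K' K₁
    show Algebra.IsSeparable K (IntermediateField.adjoin K (f.rootSet (AlgebraicClosure L')))
    rw [IntermediateField.isSeparable_adjoin_iff_isSeparable]
    intro x hx
    rw [Polynomial.mem_rootSet] at hx
    obtain ⟨-, hx⟩ := hx
    have hx' : aeval x (∏ j, minpoly K (ι (b j))) = 0 := hx
    rw [map_prod, Finset.prod_eq_zero_iff] at hx'
    obtain ⟨i, -, hi⟩ := hx'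
    have hsep_i : (minpoly K (ι (b i))).Separable := by
      have h1 : minpoly K ((ι.restrictScalars K) (b i)) = minpoly K (b i) :=
        minpoly.algHom_eq (ι.restrictScalars K) (ι.restrictScalars K).injective (b i)
      have h2 : minpoly K (ι (b i)) = minpoly K (b i) := h1
      rw [h2]
      exact Algebra.IsSeparable.isSeparable K (b i)
    exact hsep_i.of_dvd (minpoly.dvd K x hi)
  · -- the field `K₂ = K'·N`
    let K₂ : IntermediateField K' (AlgebraicClosure L') :=
      IntermediateField.adjoin K' (f.rootSet (AlgebraicClosure L'))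
    have hrootint : ∀ x ∈ f.rootSet (AlgebraicClosure L'), IsIntegral K x := by
      intro x hx
      rw [Polynomial.mem_rootSet] at hx
      exact (IsAlgebraic.isIntegral ⟨f, hx.1, hx.2⟩)
    haveI hfinK₂ : FiniteDimensional K' K₂ :=
      IntermediateField.finiteDimensional_adjoin (fun x hx => (hrootint x hx).tower_top)
    have hNK₂ : ∀ n ∈ N, n ∈ K₂ := by
      have hle : N ≤ IntermediateField.restrictScalars K K₂ := by
        rw [IntermediateField.adjoin_le_iff]
        intro x hx
        exact IntermediateField.subset_adjoin K' _ hx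
      exact fun n hn => hle hn
    have hιK₂ : ∀ x : K₁, ι x ∈ K₂ := by
      intro x
      rw [← b.sum_repr x, map_sum]
      refine sum_mem (fun i _ => ?_)
      rw [map_smul]
      exact K₂.smul_mem (hNK₂ _ (hθN i))
    let φ : K₁ →ₐ[K'] K₂ := ι.codRestrict K₂.toSubalgebra hιK₂
    have hsol₂ : EtRam.IsSolution B' K' L' K₂ :=
      Groth.Agent.H84.SH_EN.solution_enlarge A' B' K' L' hAB' K₁ K₂ φ hsol
    let σ₂ : K₂ →ₐ[K'] AlgebraicClosure L' := K₂.val
    refine (Groth.Agent.S1988.result A B B' K L L' N hinj hB').2 ?_
    intro M _ _ _ _ _ _ hgen W hW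
    haveI : FiniteDimensional L' M :=
      Groth.Agent.H10.ValDVR.finite_of_adjoin_eq_top K L' N M hgen
    let τ : M →ₐ[L'] AlgebraicClosure L' := IsAlgClosed.lift
    letI aMΩ : Algebra M (AlgebraicClosure L') := τ.toRingHom.toAlgebra
    obtain ⟨WΩ, hWΩ⟩ := Groth.Agent.H78.ValExt.exists_ext (L := M) (M := AlgebraicClosure L') W
    subst hWΩ
    -- the embedding of `N`
    let h : N →ₐ[K] AlgebraicClosure L' :=
      { toRingHom := τ.toRingHom.comp (algebraMap N M)
        commutes' := fun k => by
          show τ (algebraMap N M (algebraMap K N k)) = algebraMap K (AlgebraicClosure L') k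
          rw [← IsScalarTower.algebraMap_apply K N M, IsScalarTower.algebraMap_apply K L' M,
            τ.commutes, ← IsScalarTower.algebraMap_apply K L' (AlgebraicClosure L')] }
    have hh : ∀ n : N, h n = τ (algebraMap N M n) := fun _ => rfl
    have hrange : h.fieldRange = N := AlgHom.fieldRange_of_normal h
    have hmem : ∀ n : N, h n ∈ N := by
      intro n
      have h1 : h n ∈ h.fieldRange := ⟨n, rfl⟩
      exact (SetLike.ext_iff.mp hrange (h n)).mp h1
    have hsurj : ∀ y ∈ N, ∃ n : N, h n = y := by
      intro y hy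
      have h1 : y ∈ h.fieldRange := (SetLike.ext_iff.mp hrange y).mpr hy
      exact h1
    -- `τ(M) ⊆ Mod σ₂`
    have hK₂Mod : ∀ y ∈ K₂, y ∈ Mod σ₂ := fun y hy =>
      IntermediateField.subset_adjoin L' (Set.range σ₂) ⟨⟨y, hy⟩, rfl⟩
    have hτ : ∀ m : M, τ.toRingHom m ∈ Mod σ₂ := by
      intro m
      have hm : m ∈ Algebra.adjoin L' (Set.range (algebraMap N M)) := by
        rw [hgen]; exact Algebra.mem_top
      induction hm using Algebra.adjoin_induction with
      | mem x hx =>
        obtain ⟨n, rfl⟩ := hx
        exact hK₂Mod _ (hNK₂ _ (hmem n))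
      | algebraMap l =>
        show τ (algebraMap L' M l) ∈ Mod σ₂
        rw [τ.commutes]
        exact (Mod σ₂).algebraMap_mem l
      | add x y _ _ hx hy => rw [map_add]; exact add_mem hx hy
      | mul x y _ _ hx hy => rw [map_mul]; exact mul_mem hx hy
    let τ' : M →+* Mod σ₂ := RingHom.codRestrict τ.toRingHom (Mod σ₂) hτ
    let h₂ : N →ₐ[K] K₂ :=
      { toFun := fun n => ⟨h n, hNK₂ _ (hmem n)⟩
        map_one' := Subtype.ext (map_one h)
        map_mul' := fun x y => Subtype.ext (map_mul h x y)
        map_zero' := Subtype.ext (map_zero h)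
        map_add' := fun x y => Subtype.ext (map_add h x y)
        commutes' := fun k => Subtype.ext (h.commutes k) }
    have hgen₂ : Algebra.adjoin K' (Set.range h₂) = ⊤ := by
      rw [eq_top_iff]
      rintro ⟨v, hv⟩ -
      have hv' : v ∈ Algebra.adjoin K' (f.rootSet (AlgebraicClosure L')) := by
        rw [← IntermediateField.adjoin_toSubalgebra_of_isAlgebraic
          (fun x hx => ((hrootint x hx).tower_top (A := K')).isAlgebraic)]
        exact hv
      have hmemK₂ : ∀ w, w ∈ Algebra.adjoin K' (f.rootSet (AlgebraicClosure L')) → w ∈ K₂ := by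
        intro w hw
        show w ∈ K₂.toSubalgebra
        rw [IntermediateField.adjoin_toSubalgebra_of_isAlgebraic
          (fun x hx => ((hrootint x hx).tower_top (A := K')).isAlgebraic)]
        exact hw
      revert hv
      induction hv' using Algebra.adjoin_induction with
      | mem x hx =>
        intro hv
        have hxN : x ∈ N := IntermediateField.subset_adjoin K _ hx
        obtain ⟨n, hn⟩ := hsurj x hxN
        exact Algebra.subset_adjoin ⟨n, Subtype.ext hn⟩
      | algebraMap c =>
        intro hv
        exact Subalgebra.algebraMap_mem _ c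
      | add x y hx hy ihx ihy =>
        intro hv
        exact add_mem (ihx (hmemK₂ x hx)) (ihy (hmemK₂ y hy))
      | mul x y hx hy ihx ihy =>
        intro hv
        exact mul_mem (ihx (hmemK₂ x hx)) (ihy (hmemK₂ y hy))
    let j₂ : Mod σ₂ →+* AlgebraicClosure L' := algebraMap (Mod σ₂) (AlgebraicClosure L')
    have hWdom : EtRam.Dominates B'
        ((algebraMap L' (AlgebraicClosure L')).comp (algebraMap B' L')) WΩ := by
      refine ⟨fun b => ?_, fun b hb => ?_⟩
      · have h1 := hW.1 b
        rw [ValuationSubring.mem_comap] at h1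
        have e : algebraMap M (AlgebraicClosure L') (((algebraMap L' M).comp (algebraMap B' L')) b) =
            ((algebraMap L' (AlgebraicClosure L')).comp (algebraMap B' L')) b := τ.commutes _
        rw [← e]; exact h1
      · have h1 := hW.2 b hb
        rw [Groth.Agent.H78.ValExt.comap_valuation_lt_one_iff] at h1
        have e : algebraMap M (AlgebraicClosure L') (((algebraMap L' M).comp (algebraMap B' L')) b) =
            ((algebraMap L' (AlgebraicClosure L')).comp (algebraMap B' L')) b := τ.commutes _
        rw [← e]; exact h1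
    have hW₂dom : EtRam.Dominates B' ((algebraMap L' (Mod σ₂)).comp (algebraMap B' L'))
        (WΩ.comap j₂) := by
      have := (Groth.Agent.H78.ValExt.dominates_comap_iff (L := Mod σ₂)
        (M := AlgebraicClosure L') ((algebraMap L' (Mod σ₂)).comp (algebraMap B' L')) WΩ).mpr
      exact this hWdom
    have h2 := hsol₂ (Mod σ₂) (adjoin_eq_top σ₂) (WΩ.comap j₂) hW₂dom
    have hV₂dom : EtRam.Dominates A' ((algebraMap K' K₂).comp (algebraMap A' K'))
        ((WΩ.comap j₂).comap (algebraMap K₂ (Mod σ₂))) := by
      have key : ∀ a : A', j₂ (algebraMap K₂ (Mod σ₂)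
          (((algebraMap K' K₂).comp (algebraMap A' K')) a)) =
          ((algebraMap L' (AlgebraicClosure L')).comp (algebraMap B' L')) (algebraMap A' B' a) := by
        intro a
        show algebraMap K' (AlgebraicClosure L') (algebraMap A' K' a) =
          algebraMap L' (AlgebraicClosure L') (algebraMap B' L' (algebraMap A' B' a))
        rw [IsScalarTower.algebraMap_apply K' L' (AlgebraicClosure L'),
          ← IsScalarTower.algebraMap_apply A' K' L', IsScalarTower.algebraMap_apply A' B' L']
      refine ⟨fun a => ?_, fun a ha => ?_⟩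
      · show j₂ (algebraMap K₂ (Mod σ₂) (((algebraMap K' K₂).comp (algebraMap A' K')) a)) ∈ WΩ
        rw [key]
        exact hWdom.1 _
      · rw [Groth.Agent.H80.SolTower.val_comap_lt_one_iff,
          Groth.Agent.H80.SolTower.val_comap_lt_one_iff, key]
        apply hWdom.2
        rw [mem_maximalIdeal, mem_nonunits_iff]
        intro hu
        exact (mem_maximalIdeal _).mp ha (isUnit_of_map_unit (algebraMap A' B') a hu)
    obtain ⟨u1, u2⟩ := Groth.Agent.Lead.SH_UD.unramified_direction A A' K K' N K₂ h₂ hgen₂
      ((WΩ.comap j₂).comap (algebraMap K₂ (Mod σ₂))) hV₂dom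
    obtain ⟨c1, c2⟩ := Groth.Agent.H81.SH_CO.comp_good (WΩ.comap j₂) (algebraMap K₂ (Mod σ₂)) (h₂ : N →+* K₂) u1 u2
      h2.1 h2.2
    have e : (algebraMap K₂ (Mod σ₂)).comp (h₂ : N →+* K₂) = τ'.comp (algebraMap N M) := rfl
    have t1 := Groth.Agent.H80.SolTower.transfer_weak τ' (algebraMap N M) (WΩ.comap j₂) c1
    have t2 := Groth.Agent.H80.SolTower.transfer_geomRed τ' (algebraMap N M) (WΩ.comap j₂) c2
    exact ⟨t1, t2⟩

end Groth.Agent.H14.SHDesc
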