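import Mathlib
import Groth.Prelude.Def_EtRam
import Groth.Prelude.Def_Hensel
import Groth.Agent.H19.SH_SH1
import Groth.Agent.H84.SH_SH2
import Groth.Agent.H14.SHDesc
import Groth.Agent.S0537
import Groth.Agent.S0538
import Groth.Agent.H47.HensSpecialize

set_option autoImplicit false
set_option maxHeartbeats 1000000
set_option linter.style.haveILetI false
set_option linter.unusedSectionVars false
set_option linter.unusedVariables false

/-! Reduction to strictly henselian DVRs (S7162): main theorem. -/

namespace Groth.Agent.H14.SHMain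

universe u

open IsLocalRing

theorem main (A B K L : Type u) [CommRing A] [IsDomain A]
    [IsDiscreteValuationRing A] [CommRing B] [IsDomain B] [IsDiscreteValuationRing B] [Algebra A B]
    (hinj : Function.Injective (algebraMap A B)) [IsLocalHom (algebraMap A B)]
    [Field K] [Field L] [Algebra A K] [IsFractionRing A K] [Algebra B L] [IsFractionRing B L]
    [Algebra K L] [Algebra A L] [IsScalarTower A K L] [IsScalarTower A B L] :
    ∃ (A' B' K' L' : Type u) (_ : CommRing A') (_ : IsDomain A') (_ : IsDiscreteValuationRing A')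
      (_ : CommRing B') (_ : IsDomain B') (_ : IsDiscreteValuationRing B') (_ : Field K') (_ : Field L')
      (_ : Algebra A A') (_ : Algebra B B') (_ : Algebra A' B') (_ : Algebra A B')
      (_ : IsScalarTower A B B') (_ : IsScalarTower A A' B')
      (_ : Algebra A' K') (_ : IsFractionRing A' K') (_ : Algebra B' L') (_ : IsFractionRing B' L')
      (_ : Algebra K' L') (_ : Algebra A' L') (_ : IsScalarTower A' K' L') (_ : IsScalarTower A' B' L')
      (_ : Algebra K K') (_ : Algebra A K') (_ : IsScalarTower A K K') (_ : IsScalarTower A A' K')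
      (_ : Algebra L L') (_ : Algebra B L') (_ : IsScalarTower B L L') (_ : IsScalarTower B B' L')
      (hA : IsLocalHom (algebraMap A A')) (hB : IsLocalHom (algebraMap B B')) (_ : IsLocalHom (algebraMap A' B')),
      Function.Injective (algebraMap A A') ∧ Function.Injective (algebraMap B B') ∧
      Function.Injective (algebraMap A' B') ∧
      Algebra.IsSeparable K K' ∧ Algebra.IsSeparable L L' ∧
      (letI := (IsLocalRing.ResidueField.map (algebraMap A A')).toAlgebra
       IsSepClosure (IsLocalRing.ResidueField A) (IsLocalRing.ResidueField A')) ∧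
      (letI := (IsLocalRing.ResidueField.map (algebraMap B B')).toAlgebra
       IsSepClosure (IsLocalRing.ResidueField B) (IsLocalRing.ResidueField B')) ∧
      ((∃ (K₁ : Type u) (_ : Field K₁) (_ : Algebra K' K₁), FiniteDimensional K' K₁ ∧ EtRam.IsSolution B' K' L' K₁) →
        ∃ (K₁ : Type u) (_ : Field K₁) (_ : Algebra K K₁), FiniteDimensional K K₁ ∧ EtRam.IsSolution B K L K₁) ∧
      ((∃ (K₁ : Type u) (_ : Field K₁) (_ : Algebra K' K₁), FiniteDimensional K' K₁ ∧ Algebra.IsSeparable K' K₁ ∧
          EtRam.IsSolution B' K' L' K₁) →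
        ∃ (K₁ : Type u) (_ : Field K₁) (_ : Algebra K K₁), FiniteDimensional K K₁ ∧ Algebra.IsSeparable K K₁ ∧
          EtRam.IsSolution B K L K₁) := by
  classical
  obtain ⟨A', cA', lA', aAA', hlocA, hshA⟩ := Groth.Agent.S0537.result A
  obtain ⟨B', cB', lB', aBB', hlocB, hshB⟩ := Groth.Agent.S0537.result B
  obtain ⟨hAinj, dA', dvrA'⟩ := Groth.Agent.H19.SH_SH1.isDVR_of_isStrictHenselization A A'
  obtain ⟨hBinj, dB', dvrB'⟩ := Groth.Agent.H19.SH_SH1.isDVR_of_isStrictHenselization B B'
  obtain ⟨φ, hφ⟩ := Groth.Agent.H47.HensSpecialize.exists_map_strictHenselization A B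
    (algebraMap A B) A' B'
  letI aA'B' : Algebra A' B' := φ.toAlgebra
  letI aAB' : Algebra A B' := ((algebraMap B B').comp (algebraMap A B)).toAlgebra
  haveI tABB' : IsScalarTower A B B' := IsScalarTower.of_algebraMap_eq (fun _ => rfl)
  haveI tAA'B' : IsScalarTower A A' B' :=
    IsScalarTower.of_algebraMap_eq (fun a => (RingHom.congr_fun hφ a).symm)
  have hmaxA' : Ideal.map (algebraMap A A') (maximalIdeal A) = maximalIdeal A' :=
    Groth.Agent.S0538.result A A'
  haveI hlocA'B' : IsLocalHom (algebraMap A' B') := by
    constructor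
    intro x hx
    by_contra hnu
    have hxm : x ∈ maximalIdeal A' := (mem_maximalIdeal x).mpr hnu
    rw [← hmaxA'] at hxm
    have hle : Ideal.map (algebraMap A A') (maximalIdeal A) ≤
        (maximalIdeal B').comap (algebraMap A' B') := by
      rw [Ideal.map_le_iff_le_comap]
      intro a ha
      rw [Ideal.mem_comap, Ideal.mem_comap, ← IsScalarTower.algebraMap_apply A A' B',
        IsScalarTower.algebraMap_apply A B B', mem_maximalIdeal, mem_nonunits_iff]
      intro hu
      have h1 : IsUnit (algebraMap A B a) := isUnit_of_map_unit (algebraMap B B') _ hu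
      have h2 : IsUnit a := isUnit_of_map_unit (algebraMap A B) _ h1
      exact (mem_maximalIdeal a).mp ha h2
    have := hle hxm
    rw [Ideal.mem_comap, mem_maximalIdeal, mem_nonunits_iff] at this
    exact this hx
  -- injectivity of `A' → B'`
  obtain ⟨π, hπ⟩ := IsDiscreteValuationRing.exists_irreducible A
  have hπ' : maximalIdeal A' = Ideal.span {algebraMap A A' π} := by
    rw [← hmaxA', hπ.maximalIdeal_eq, Ideal.map_span, Set.image_singleton]
  have hπ'irr : Irreducible (algebraMap A A' π) :=
    (IsDiscreteValuationRing.irreducible_iff_uniformizer _).mpr hπ'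
  have hφπ : algebraMap A' B' (algebraMap A A' π) ≠ 0 := by
    rw [← IsScalarTower.algebraMap_apply A A' B', IsScalarTower.algebraMap_apply A B B']
    intro h0
    exact hπ.ne_zero (hinj (hBinj (by rw [h0, map_zero, map_zero])))
  have hA'B'inj : Function.Injective (algebraMap A' B') := by
    rw [injective_iff_map_eq_zero]
    intro x hx
    by_contra hx0
    obtain ⟨n, u, hu⟩ := IsDiscreteValuationRing.associated_pow_irreducible hx0 hπ'irr
    have h1 : x = algebraMap A A' π ^ n * ↑u⁻¹ := by
      rw [← hu]; simp [mul_assoc]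
    rw [h1, map_mul, map_pow] at hx
    rcases mul_eq_zero.mp hx with h2 | h2
    · exact hφπ (pow_eq_zero_iff'.mp h2).1
    · exact (((u⁻¹).isUnit.map (algebraMap A' B')).ne_zero) h2
  -- fraction fields
  have hA'L'inj : Function.Injective (algebraMap A' (FractionRing B')) := by
    rw [IsScalarTower.algebraMap_eq A' B' (FractionRing B')]
    exact (IsFractionRing.injective B' (FractionRing B')).comp hA'B'inj
  letI aK'L' : Algebra (FractionRing A') (FractionRing B') :=
    (IsFractionRing.lift hA'L'inj).toAlgebra
  haveI tA'K'L' : IsScalarTower A' (FractionRing A') (FractionRing B') :=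
    IsScalarTower.of_algebraMap_eq (fun a => (IsFractionRing.lift_algebraMap hA'L'inj a).symm)
  have hAK'inj : Function.Injective (algebraMap A (FractionRing A')) := by
    rw [IsScalarTower.algebraMap_eq A A' (FractionRing A')]
    exact (IsFractionRing.injective A' (FractionRing A')).comp hAinj
  letI aKK' : Algebra K (FractionRing A') := (IsFractionRing.lift hAK'inj).toAlgebra
  haveI tAKK' : IsScalarTower A K (FractionRing A') :=
    IsScalarTower.of_algebraMap_eq (fun a => (IsFractionRing.lift_algebraMap hAK'inj a).symm)
  have hBL'inj : Function.Injective (algebraMap B (FractionRing B')) := by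
    rw [IsScalarTower.algebraMap_eq B B' (FractionRing B')]
    exact (IsFractionRing.injective B' (FractionRing B')).comp hBinj
  letI aLL' : Algebra L (FractionRing B') := (IsFractionRing.lift hBL'inj).toAlgebra
  haveI tBLL' : IsScalarTower B L (FractionRing B') :=
    IsScalarTower.of_algebraMap_eq (fun a => (IsFractionRing.lift_algebraMap hBL'inj a).symm)
  haveI sepK : Algebra.IsSeparable K (FractionRing A') :=
    Groth.Agent.H84.SH_SH2.isSeparable_fractionField A A' K (FractionRing A')
  haveI sepL : Algebra.IsSeparable L (FractionRing B') :=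
    Groth.Agent.H84.SH_SH2.isSeparable_fractionField B B' L (FractionRing B')
  have sclA : (letI := (IsLocalRing.ResidueField.map (algebraMap A A')).toAlgebra
       IsSepClosure (IsLocalRing.ResidueField A) (IsLocalRing.ResidueField A')) := by
    have e : (ResidueField.instAlgebra : Algebra (ResidueField A) (ResidueField A')) =
        (IsLocalRing.ResidueField.map (algebraMap A A')).toAlgebra := by
      refine Algebra.algebra_ext _ _ (fun r => ?_)
      obtain ⟨r, rfl⟩ := residue_surjective r
      rfl
    rw [← e]
    exact Hensel.IsStrictHenselization.isSepClosure (R := A) (S := A')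
  have sclB : (letI := (IsLocalRing.ResidueField.map (algebraMap B B')).toAlgebra
       IsSepClosure (IsLocalRing.ResidueField B) (IsLocalRing.ResidueField B')) := by
    have e : (ResidueField.instAlgebra : Algebra (ResidueField B) (ResidueField B')) =
        (IsLocalRing.ResidueField.map (algebraMap B B')).toAlgebra := by
      refine Algebra.algebra_ext _ _ (fun r => ?_)
      obtain ⟨r, rfl⟩ := residue_surjective r
      rfl
    rw [← e]
    exact Hensel.IsStrictHenselization.isSepClosure (R := B) (S := B')
  refine ⟨A', B', FractionRing A', FractionRing B', cA', dA', dvrA', cB', dB', dvrB', inferInstance,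
    inferInstance, aAA', aBB', aA'B', aAB', tABB', tAA'B', inferInstance, inferInstance,
    inferInstance, inferInstance, aK'L', inferInstance, tA'K'L', inferInstance, aKK',
    inferInstance, tAKK', inferInstance, aLL', inferInstance, tBLL', inferInstance, hlocA, hlocB,
    hlocA'B', hAinj, hBinj, hA'B'inj, sepK, sepL, sclA, sclB, ?_, ?_⟩
  · rintro ⟨K₁, fK₁, aK₁, hfin, hsol⟩
    letI := fK₁
    letI := aK₁
    obtain ⟨K₀, fK₀, aK₀, h1, -, h3⟩ := Groth.Agent.H14.SHDesc.descent A B A' B' K L
      (FractionRing A') (FractionRing B') hinj hBinj hA'B'inj K₁ hsol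
    exact ⟨K₀, fK₀, aK₀, h1, h3⟩
  · rintro ⟨K₁, fK₁, aK₁, hfin, hsep, hsol⟩
    letI := fK₁
    letI := aK₁
    obtain ⟨K₀, fK₀, aK₀, h1, h2, h3⟩ := Groth.Agent.H14.SHDesc.descent A B A' B' K L
      (FractionRing A') (FractionRing B') hinj hBinj hA'B'inj K₁ hsol
    exact ⟨K₀, fK₀, aK₀, h1, h2 hsep, h3⟩

end Groth.Agent.H14.SHMain
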