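import Groth.Agent.H98.GrCat
import Groth.Agent.H21.SegreCM
import Groth.Agent.H21.SegreMod
import Groth.Prelude.Def_CAlg
import Groth.Prelude.Def_GrSeg
import Groth.Prelude.Def_Wider

/-! (M6) for helper98's S19756 squad: module version of
`Groth.Agent.H21.SegreDepth.exists_irrel_pow_le_span`. -/

set_option autoImplicit false
set_option linter.style.haveILetI false
set_option linter.unusedSectionVars false
universe u
open scoped TensorProduct

namespace Groth.Agent.H14.SegMod_M6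

open Groth.Agent.H21.SegreDim

section

variable {k : Type u} [Field k] {R : Type u} [CommRing R] [Algebra k R]
  (𝒜 : ℤ → Submodule k R) [GradedAlgebra 𝒜]
  {M : Type u} [AddCommGroup M] [Module R M]
  (ℳ : ℤ → AddSubgroup M) [DirectSum.Decomposition ℳ] [SetLike.GradedSMul 𝒜 ℳ]

theorem coe_decompose_congr (z : M) {n n' : ℤ} (h : n = n') :
    ((DirectSum.decompose ℳ z n : ℳ n) : M) = ((DirectSum.decompose ℳ z n' : ℳ n') : M) := by
  subst h; rfl

/-- component of (homogeneous scalar) • (arbitrary element). -/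
theorem coe_decompose_smul_left {e : ℤ} {a : R} (ha : a ∈ 𝒜 e) (y : M) (n : ℤ) :
    ((DirectSum.decompose ℳ (a • y) (e + n) : ℳ (e + n)) : M) =
      a • ((DirectSum.decompose ℳ y n : ℳ n) : M) := by
  classical
  induction y using DirectSum.Decomposition.inductionOn ℳ with
  | zero => simp
  | @homogeneous l y =>
    have h1 : a • (y : M) ∈ ℳ (e + l) := by
      have := SetLike.GradedSMul.smul_mem (A := 𝒜) (B := ℳ) ha y.2
      rwa [vadd_eq_add] at this
    by_cases hl : l = n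
    · subst hl
      rw [DirectSum.decompose_of_mem_same ℳ h1, DirectSum.decompose_of_mem_same ℳ y.2]
    · have hne : e + l ≠ e + n := fun h => hl (add_left_cancel h)
      rw [DirectSum.decompose_of_mem_ne ℳ h1 hne, DirectSum.decompose_of_mem_ne ℳ y.2 hl,
        smul_zero]
  | add y y' hy hy' =>
    rw [smul_add, DirectSum.decompose_add, DirectSum.add_apply, AddMemClass.coe_add, hy, hy',
      DirectSum.decompose_add, DirectSum.add_apply, AddMemClass.coe_add, smul_add]

/-- the colon ideal `(aM : M)`. -/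
def colonI (M : Type u) [AddCommGroup M] [Module R M] (a : R) : Ideal R where
  carrier := {r | ∀ x : M, ∃ y : M, r • x = a • y}
  add_mem' := by
    intro r s hr hs x
    obtain ⟨y, hy⟩ := hr x
    obtain ⟨y', hy'⟩ := hs x
    exact ⟨y + y', by rw [add_smul, hy, hy', smul_add]⟩
  zero_mem' := fun x => ⟨0, by rw [zero_smul, smul_zero]⟩
  smul_mem' := by
    intro c r hr x
    obtain ⟨y, hy⟩ := hr x
    exact ⟨c • y, by rw [smul_eq_mul, mul_smul, hy, smul_comm]⟩

include ℳ in
theorem colonI_isHomogeneous {e : ℤ} {a : R} (ha : a ∈ 𝒜 e) :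
    (colonI M a).IsHomogeneous 𝒜 := by
  classical
  intro i r hr m
  induction m using DirectSum.Decomposition.inductionOn ℳ with
  | zero => exact ⟨0, by rw [smul_zero, smul_zero]⟩
  | @homogeneous j m =>
    obtain ⟨y, hy⟩ := hr (m : M)
    refine ⟨((DirectSum.decompose ℳ y (i + j - e) : ℳ (i + j - e)) : M), ?_⟩
    rw [← coe_decompose_smul_of_mem 𝒜 ℳ m.2 r i, hy,
      coe_decompose_congr ℳ (a • y) (show i + j = e + (i + j - e) by ring),
      coe_decompose_smul_left 𝒜 ℳ ha]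
  | add m m' hm hm' =>
    obtain ⟨y, hy⟩ := hm
    obtain ⟨y', hy'⟩ := hm'
    exact ⟨y + y', by rw [smul_add, hy, hy', smul_add]⟩

end

theorem exists_irrel_pow_smul_le {k : Type u} [Field k] {R : Type u} [CommRing R] [Algebra k R]
    (𝒜 : ℤ → Submodule k R) [GradedAlgebra 𝒜] (hneg : ∀ n : ℤ, n < 0 → 𝒜 n = ⊥)
    (h0 : 𝒜 0 = Submodule.span k {(1 : R)}) [IsNoetherianRing R]
    (M : Type u) [AddCommGroup M] [Module R M] (ℳ : ℤ → AddSubgroup M) [DirectSum.Decomposition ℳ]
    [SetLike.GradedSMul 𝒜 ℳ] [Module.Finite R M] (hdim : Module.supportDim R M ≤ 1)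
    {e : ℤ} {a : R} (ha : a ∈ 𝒜 e) (hreg : IsSMulRegular M a) :
    ∃ N : ℕ, ∀ r ∈ Groth.Agent.H21.SegreDim.irrel 𝒜 hneg ^ N, ∀ x : M, ∃ y : M, r • x = a • y := by
  classical
  suffices h : ∃ N : ℕ, irrel 𝒜 hneg ^ N ≤ colonI M a by
    obtain ⟨N, hN⟩ := h
    exact ⟨N, fun r hr x => hN hr x⟩
  have hIhom : (colonI M a).IsHomogeneous 𝒜 := colonI_isHomogeneous 𝒜 ℳ ha
  have haI : a ∈ colonI M a := fun x => ⟨x, rfl⟩
  have hannI : Module.annihilator R M ≤ colonI M a := by
    intro r hr x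
    exact ⟨0, by rw [Module.mem_annihilator.mp hr x, smul_zero]⟩
  apply Ideal.exists_pow_le_of_le_radical_of_fg _ (IsNoetherian.noetherian _)
  rw [← Ideal.sInf_minimalPrimes]
  apply le_sInf
  intro P hP
  haveI hPprime : P.IsPrime := hP.1.1
  haveI : Nontrivial R := by
    refine nontrivial_of_ne (0 : R) 1 (fun h => hPprime.ne_top ((Ideal.eq_top_iff_one _).mpr ?_))
    rw [← h]; exact P.zero_mem
  haveI hmax : (irrel 𝒜 hneg).IsMaximal := irrel_isMaximal 𝒜 hneg h0
  have haP : a ∈ P := hP.1.2 haI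
  have hPhom : P.IsHomogeneous 𝒜 := isHomogeneous_of_mem_minimalPrimes 𝒜 hIhom hP
  have hPle : P ≤ irrel 𝒜 hneg := le_irrel_of_isHomogeneous 𝒜 hneg h0 hPhom hPprime.ne_top
  have hannP : Module.annihilator R M ≤ P := hannI.trans hP.1.2
  obtain ⟨Q, hQmin, hQP⟩ := Ideal.exists_minimalPrimes_le hannP
  haveI hQprime : Q.IsPrime := hQmin.1.1
  have hQass : Q ∈ associatedPrimes R M :=
    Module.associatedPrimes.minimalPrimes_annihilator_subset_associatedPrimes R M hQmin
  have haQ : a ∉ Q := by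
    intro haQ
    obtain ⟨x, hx⟩ := hQass.2
    rw [hx] at haQ
    obtain ⟨n, hn⟩ := haQ
    rw [Submodule.mem_colon_singleton, Submodule.mem_bot] at hn
    have hx0 : x = 0 := by
      apply (IsSMulRegular.pow n hreg)
      show a ^ n • x = a ^ n • 0
      rw [hn, smul_zero]
    have htop : Q = ⊤ := by
      rw [hx, hx0]
      rw [Ideal.radical_eq_top, Ideal.eq_top_iff_one, Submodule.mem_colon_singleton, smul_zero]
      exact Submodule.zero_mem _
    exact hQprime.ne_top htop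
  -- the three points of the support
  have hsP : (⟨P, hPprime⟩ : PrimeSpectrum R) ∈ Module.support R M :=
    Module.mem_support_iff_of_finite.mpr hannP
  have hsQ : (⟨Q, hQprime⟩ : PrimeSpectrum R) ∈ Module.support R M :=
    Module.mem_support_iff_of_finite.mpr hQmin.1.2
  have hsI : (⟨irrel 𝒜 hneg, hmax.isPrime⟩ : PrimeSpectrum R) ∈ Module.support R M :=
    Module.mem_support_iff_of_finite.mpr (hannP.trans hPle)
  rcases (Order.krullDim_le_one_iff.mp hdim)
    (⟨⟨P, hPprime⟩, hsP⟩ : Module.support R M) with hmin | hmx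
  · exfalso
    have h1 : (⟨⟨P, hPprime⟩, hsP⟩ : Module.support R M) ≤ ⟨⟨Q, hQprime⟩, hsQ⟩ :=
      hmin (show (⟨⟨Q, hQprime⟩, hsQ⟩ : Module.support R M) ≤ ⟨⟨P, hPprime⟩, hsP⟩ from hQP)
    exact haQ (h1 haP)
  · have h1 : (⟨⟨irrel 𝒜 hneg, hmax.isPrime⟩, hsI⟩ : Module.support R M) ≤ ⟨⟨P, hPprime⟩, hsP⟩ :=
      hmx (show (⟨⟨P, hPprime⟩, hsP⟩ : Module.support R M) ≤
        ⟨⟨irrel 𝒜 hneg, hmax.isPrime⟩, hsI⟩ from hPle)
    exact h1

end Groth.Agent.H14.SegMod_M6
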