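import Mathlib
import Groth.Agent.H14.KummerTame

/-!
# A compositum construction used for tame base change
-/

set_option autoImplicit false
set_option linter.style.haveILetI false
universe u

namespace Groth.Agent.H14.TameBC2

open Polynomial TensorProduct

theorem root_pow' {R : Type*} [CommRing R] (c : R) (e : ℕ) :
    (AdjoinRoot.root (X ^ e - C c : R[X])) ^ e = AdjoinRoot.of _ c := by
  have h := AdjoinRoot.eval₂_root (X ^ e - C c : R[X])
  rw [eval₂_sub, eval₂_pow, eval₂_X, eval₂_C, sub_eq_zero] at h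
  exact h

/-- `R[X]/(X^e - c)` is formally unramified over `R` when `e` and `c` are units of `R`. -/
theorem formallyUnramified_adjoinRoot {R : Type*} [CommRing R] (c : R) (hc : IsUnit c) (e : ℕ)
    (he0 : 0 < e) (heu : IsUnit ((e : ℕ) : R)) :
    Algebra.FormallyUnramified R (AdjoinRoot (X ^ e - C c : R[X])) := by
  obtain ⟨m, rfl⟩ : ∃ m, e = m + 1 := ⟨e - 1, by omega⟩
  have hD : KaehlerDifferential.D R (AdjoinRoot (X ^ (m + 1) - C c : R[X]))
      (AdjoinRoot.root _) = 0 := by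
    refine Groth.Agent.H14.KummerTame.D_eq_zero_of_pow (AdjoinRoot.root _) c m ?_ ?_ ?_
    · rw [root_pow']; rfl
    · have := heu.map (algebraMap R (AdjoinRoot (X ^ (m + 1) - C c : R[X])))
      rwa [map_natCast] at this
    · exact hc.map _
  haveI : Subsingleton (Ω[AdjoinRoot (X ^ (m + 1) - C c : R[X])⁄R]) := by
    refine Groth.Agent.H14.KummerTame.gen_subsingleton
      (fun _ : Unit => AdjoinRoot.root (X ^ (m + 1) - C c : R[X])) ?_ (fun _ => hD)
    rw [Set.range_const]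
    exact AdjoinRoot.adjoinRoot_eq_top
  exact ⟨inferInstance⟩

theorem nontrivial_adjoinRoot {R : Type*} [CommRing R] [Nontrivial R] (c : R) (e : ℕ)
    (he0 : 0 < e) : Nontrivial (AdjoinRoot (X ^ e - C c : R[X])) := by
  refine ⟨⟨0, 1, fun h01 => ?_⟩⟩
  have h1 : (X ^ e - C c : R[X]) ∣ 1 :=
    AdjoinRoot.mk_eq_zero.mp (by rw [map_one]; exact h01.symm)
  have h2 := (monic_X_pow_sub_C c he0.ne').eq_one_of_isUnit (isUnit_of_dvd_one h1)
  have h3 := congrArg natDegree h2
  rw [natDegree_X_pow_sub_C, natDegree_one] at h3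
  exact he0.ne' h3

set_option maxHeartbeats 1600000 in
/-- A field containing `F`, `K''` (amalgamated over `K'`) and an `e`-th root of `c ∈ F`, generated
by these, finite separable over `L`. -/
theorem exists_compositum (L F K' K'' : Type u) [Field L] [Field F] [Field K'] [Field K'']
    [Algebra L F] [Algebra K' F] [Algebra K' K''] [FiniteDimensional K' K'']
    [Algebra.IsSeparable K' K''] [FiniteDimensional L F] [Algebra.IsSeparable L F]
    (c : F) (hc : c ≠ 0) (e : ℕ) (he0 : 0 < e) (heF : ((e : ℕ) : F) ≠ 0) :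
    ∃ (F'' : Type u) (_ : Field F'') (_ : Algebra L F'') (jF : F →ₐ[L] F'') (jK : K'' →+* F'')
      (Y : F''),
      (∀ x : K', jF (algebraMap K' F x) = jK (algebraMap K' K'' x)) ∧ Y ^ e = jF c ∧
      (∀ z : F'', z ∈ Subfield.closure (Set.range jF ∪ Set.range jK ∪ {Y})) ∧
      FiniteDimensional L F'' ∧ Algebra.IsSeparable L F'' := by
  classical
  haveI : Algebra.FormallyUnramified K' K'' := Algebra.FormallyUnramified.of_isSeparable K' K''
  haveI : Algebra.FormallyUnramified L F := Algebra.FormallyUnramified.of_isSeparable L F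
  haveI : Nontrivial (F ⊗[K'] K'') :=
    Module.nontrivial_of_finrank_pos (R := F) (by
      rw [Module.finrank_baseChange]; exact Module.finrank_pos)
  obtain ⟨c₁, hc₁def⟩ : ∃ c₁ : F ⊗[K'] K'', c₁ = algebraMap F (F ⊗[K'] K'') c := ⟨_, rfl⟩
  have hc₁u : IsUnit c₁ := hc₁def ▸ (isUnit_iff_ne_zero.mpr hc).map _
  have heu : IsUnit ((e : ℕ) : F ⊗[K'] K'') := by
    have := (isUnit_iff_ne_zero.mpr heF).map (algebraMap F (F ⊗[K'] K''))
    rwa [map_natCast] at this
  haveI := nontrivial_adjoinRoot c₁ e he0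
  haveI hfu₁ : Algebra.FormallyUnramified (F ⊗[K'] K'') (AdjoinRoot (X ^ e - C c₁ : (F ⊗[K'] K'')[X])) :=
    formallyUnramified_adjoinRoot c₁ hc₁u e he0 heu
  haveI hfin₁ : Module.Finite (F ⊗[K'] K'') (AdjoinRoot (X ^ e - C c₁ : (F ⊗[K'] K'')[X])) :=
    (monic_X_pow_sub_C c₁ he0.ne').finite_adjoinRoot
  haveI hfu₂ : Algebra.FormallyUnramified F (AdjoinRoot (X ^ e - C c₁ : (F ⊗[K'] K'')[X])) :=
    Algebra.FormallyUnramified.comp F (F ⊗[K'] K'') _
  haveI hfin₂ : Module.Finite F (AdjoinRoot (X ^ e - C c₁ : (F ⊗[K'] K'')[X])) :=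
    Module.Finite.trans (F ⊗[K'] K'') _
  obtain ⟨𝔪, h𝔪⟩ := Ideal.exists_maximal (AdjoinRoot (X ^ e - C c₁ : (F ⊗[K'] K'')[X]))
  haveI := h𝔪
  letI fld : Field (AdjoinRoot (X ^ e - C c₁ : (F ⊗[K'] K'')[X]) ⧸ 𝔪) := Ideal.Quotient.field 𝔪
  have hsurj : Function.Surjective (Ideal.Quotient.mkₐ F 𝔪) := Ideal.Quotient.mkₐ_surjective F 𝔪
  haveI hfu₃ : Algebra.FormallyUnramified F (AdjoinRoot (X ^ e - C c₁ : (F ⊗[K'] K'')[X]) ⧸ 𝔪) :=
    Algebra.FormallyUnramified.of_surjective (Ideal.Quotient.mkₐ F 𝔪) hsurj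
  haveI hfin₃ : Module.Finite F (AdjoinRoot (X ^ e - C c₁ : (F ⊗[K'] K'')[X]) ⧸ 𝔪) :=
    Module.Finite.of_surjective (Ideal.Quotient.mkₐ F 𝔪).toLinearMap hsurj
  haveI htow : IsScalarTower L F (AdjoinRoot (X ^ e - C c₁ : (F ⊗[K'] K'')[X]) ⧸ 𝔪) :=
    IsScalarTower.of_algebraMap_eq (fun _ => rfl)
  refine ⟨AdjoinRoot (X ^ e - C c₁ : (F ⊗[K'] K'')[X]) ⧸ 𝔪, fld, inferInstance,
    IsScalarTower.toAlgHom L F _,
    (Ideal.Quotient.mk 𝔪).comp ((AdjoinRoot.of _).comp
      (Algebra.TensorProduct.includeRight : K'' →ₐ[K'] F ⊗[K'] K'').toRingHom),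
    Ideal.Quotient.mk 𝔪 (AdjoinRoot.root _), ?_, ?_, ?_, ?_⟩
  · intro x
    show Ideal.Quotient.mk 𝔪 (AdjoinRoot.of _ ((algebraMap K' F x) ⊗ₜ[K'] (1 : K''))) =
      Ideal.Quotient.mk 𝔪 (AdjoinRoot.of _ ((1 : F) ⊗ₜ[K'] (algebraMap K' K'' x)))
    congr 2
    rw [Algebra.algebraMap_eq_smul_one, Algebra.algebraMap_eq_smul_one (A := K''),
      TensorProduct.smul_tmul]
  · subst hc₁def
    rw [← map_pow, root_pow']
    rfl
  · intro z
    obtain ⟨r, rfl⟩ := Ideal.Quotient.mk_surjective z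
    induction r using AdjoinRoot.induction_on with
    | ih p =>
      induction p using Polynomial.induction_on with
      | C a =>
        rw [AdjoinRoot.mk_C]
        induction a using TensorProduct.induction_on with
        | zero => rw [map_zero, map_zero]; exact zero_mem _
        | add x y hx hy => rw [map_add, map_add]; exact add_mem hx hy
        | tmul f k =>
          have hfk : f ⊗ₜ[K'] k = (f ⊗ₜ[K'] (1 : K'')) * ((1 : F) ⊗ₜ[K'] k) := by
            rw [Algebra.TensorProduct.tmul_mul_tmul, mul_one, one_mul]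
          rw [hfk, map_mul, map_mul]
          refine mul_mem ?_ ?_
          · exact Subfield.subset_closure (Or.inl (Or.inl ⟨f, rfl⟩))
          · exact Subfield.subset_closure (Or.inl (Or.inr ⟨k, rfl⟩))
      | add p q hp hq =>
        rw [map_add, map_add]
        exact add_mem hp hq
      | monomial n a hn =>
        rw [pow_succ, ← mul_assoc, map_mul, map_mul, AdjoinRoot.mk_X]
        exact mul_mem hn (Subfield.subset_closure (Or.inr rfl))
  · haveI hfinL : Module.Finite L (AdjoinRoot (X ^ e - C c₁ : (F ⊗[K'] K'')[X]) ⧸ 𝔪) :=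
      Module.Finite.trans F _
    haveI hfuL : Algebra.FormallyUnramified L
        (AdjoinRoot (X ^ e - C c₁ : (F ⊗[K'] K'')[X]) ⧸ 𝔪) :=
      Algebra.FormallyUnramified.comp L F _
    exact ⟨hfinL, Algebra.FormallyUnramified.isSeparable L _⟩

end Groth.Agent.H14.TameBC2
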