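import Mathlib
import Groth.Agent.H14.AbhyankarConv
import Groth.Agent.H14.TameBC2
import Groth.Agent.H10.UnramExt

/-!
# Tame ramification is stable under base change along an extension of DVRs

* `key2`: a variant of `Groth.Agent.H10.UnramExt.key`: `B` a Noetherian local ring with principal
  maximal ideal, `B₂` a formally unramified `B`-algebra essentially of finite type receiving `A`.
* `core`: unramifiedness over `A[π_A^{1/e}]` transfers to unramifiedness over `B[π_B^{1/e}]`.
* `tame_bc`: tameness transfers along an extension of DVRs.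
-/

set_option autoImplicit false
set_option linter.style.haveILetI false
universe u

namespace Groth.Agent.H14.TameBC

open IsLocalRing Polynomial TensorProduct Groth.Agent.H14.Abhyankar Groth.Agent.H14.AbhyankarConv
  Groth.Agent.H78.ValExt Groth.Agent.H14.TameBC2

section Key

variable (A : Type u) {B : Type u} [CommRing A] [CommRing B] [IsLocalRing B] [IsNoetherianRing B]
  (B₂ V W : Type u) [CommRing B₂] [Algebra B B₂] [Algebra A B₂]
  [Algebra.FormallyUnramified B B₂] [Algebra.EssFiniteType B B₂]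
  [CommRing V] [CommRing W] [IsDomain W] [IsLocalRing W]
  [Algebra A V] [Algebra B W] [Algebra A W] [Algebra V W] [Algebra B₂ W]
  [IsScalarTower B B₂ W] [IsScalarTower A B₂ W] [IsScalarTower A V W]
  [IsLocalHom (algebraMap B W)]
  [Algebra.EssFiniteType A V] [Algebra.FormallyUnramified A V]
  (F : Type u) [Field F] [Algebra W F] [IsFractionRing W F]

include A in
set_option maxHeartbeats 1600000 in
/-- Variant of `Groth.Agent.H10.UnramExt.key`. -/
theorem key2 (π : B) (hπ : maximalIdeal B = Ideal.span {π})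
    (hgen : ∀ z : F, z ∈ Subfield.closure
      (Set.range ((algebraMap W F).comp (algebraMap B₂ W)) ∪
        Set.range ((algebraMap W F).comp (algebraMap V W)))) :
    Algebra.FormallyUnramified B W ∧ Algebra.EssFiniteType B W := by
  classical
  let μ : B₂ ⊗[A] V →ₐ[B₂] W :=
    Algebra.TensorProduct.lift (Algebra.ofId B₂ W) (IsScalarTower.toAlgHom A V W)
      (fun _ _ => Commute.all _ _)
  have hμV : ∀ v : V, μ (1 ⊗ₜ v) = algebraMap V W v := by
    intro v; simp [μ]
  let q : Ideal (B₂ ⊗[A] V) := (maximalIdeal W).comap μ.toRingHom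
  haveI : q.IsPrime := Ideal.comap_isPrime _ _
  have hunits : ∀ y : q.primeCompl, IsUnit (μ y) := by
    intro y
    by_contra hy
    exact y.2 (show μ y ∈ maximalIdeal W from (mem_maximalIdeal _).mpr hy)
  let μS : Localization.AtPrime q →ₐ[B₂] W :=
    IsLocalization.liftAlgHom (M := q.primeCompl) (f := μ) hunits
  have hμS : ∀ t, μS (algebraMap (B₂ ⊗[A] V) (Localization.AtPrime q) t) = μ t :=
    fun t => IsLocalization.lift_eq _ t
  have hμSloc : ∀ s, IsUnit (μS s) → IsUnit s := by
    intro y hy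
    obtain ⟨⟨b, s⟩, rfl⟩ := IsLocalization.mk'_surjective q.primeCompl y
    have h1 : μS (IsLocalization.mk' _ b s) * μ s = μ b := by
      rw [← hμS (s : B₂ ⊗[A] V), ← map_mul, IsLocalization.mk'_spec, hμS]
    have hb : IsUnit (μ b) := by rw [← h1]; exact hy.mul (hunits s)
    have hbn : b ∈ q.primeCompl := fun hbn => ((mem_maximalIdeal _).mp hbn) hb
    exact (IsLocalization.AtPrime.isUnit_mk'_iff (Localization.AtPrime q) q b s).mpr hbn
  have hμSB : ∀ b : B, μS (algebraMap B (Localization.AtPrime q) b) = algebraMap B W b := by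
    intro b
    rw [IsScalarTower.algebraMap_apply B B₂ (Localization.AtPrime q), AlgHom.commutes,
      ← IsScalarTower.algebraMap_apply]
  haveI : IsLocalHom (algebraMap B (Localization.AtPrime q)) := ⟨fun b hb => by
    have h2 : IsUnit (μS (algebraMap B (Localization.AtPrime q) b)) := hb.map μS
    rw [hμSB] at h2
    exact isUnit_of_map_unit (algebraMap B W) b h2⟩
  haveI : Algebra.FormallyUnramified (B₂ ⊗[A] V) (Localization.AtPrime q) :=
    Algebra.FormallyUnramified.of_isLocalization q.primeCompl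
  haveI : Algebra.FormallyUnramified B₂ (Localization.AtPrime q) :=
    Algebra.FormallyUnramified.comp B₂ (B₂ ⊗[A] V) (Localization.AtPrime q)
  haveI : Algebra.FormallyUnramified B (Localization.AtPrime q) :=
    Algebra.FormallyUnramified.comp B B₂ (Localization.AtPrime q)
  haveI : Algebra.EssFiniteType B (Localization.AtPrime q) :=
    Algebra.EssFiniteType.comp B B₂ (Localization.AtPrime q)
  have hmS : (maximalIdeal B).map (algebraMap B (Localization.AtPrime q)) =
      maximalIdeal (Localization.AtPrime q) := Algebra.FormallyUnramified.map_maximalIdeal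
  have hmS' : maximalIdeal (Localization.AtPrime q) =
      Ideal.span {algebraMap B (Localization.AtPrime q) π} := by
    rw [← hmS, hπ, Ideal.map_span, Set.image_singleton]
  haveI : IsNoetherianRing (Localization.AtPrime q) :=
    Algebra.EssFiniteType.isNoetherianRing B _
  have hWF : Function.Injective (algebraMap W F) := IsFractionRing.injective W F
  have hsurj : Function.Surjective μS := by
    haveI : (RingHom.ker μS.toRingHom).IsPrime := RingHom.ker_isPrime _
    haveI := Groth.Agent.H10.UnramExt.valuationRing_quotient (RingHom.ker μS.toRingHom) _ hmS'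
    have hj : ∀ s, RingHom.kerLift μS.toRingHom (Ideal.Quotient.mk _ s) = μS s := fun s => rfl
    have hsj : Function.Surjective (RingHom.kerLift μS.toRingHom) := by
      refine Groth.Agent.H10.UnramExt.surjective_of_cond
        (Q := Localization.AtPrime q ⧸ RingHom.ker μS.toRingHom)
        (F := F) hWF (RingHom.kerLift μS.toRingHom) ValuationRing.cond ?_ ?_
      · intro x hx
        obtain ⟨s, rfl⟩ := Ideal.Quotient.mk_surjective x
        exact (hμSloc s hx).map _
      · intro w
        have hz : algebraMap W F w ∈ Subfield.closure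
            (Set.range ((algebraMap W F).comp (RingHom.kerLift μS.toRingHom))) := by
          refine Subfield.closure_mono ?_ (hgen _)
          rintro x (⟨b, rfl⟩ | ⟨v, rfl⟩)
          · refine ⟨Ideal.Quotient.mk _ (algebraMap B₂ (Localization.AtPrime q) b), ?_⟩
            show algebraMap W F (RingHom.kerLift μS.toRingHom
              (Ideal.Quotient.mk _ (algebraMap B₂ _ b))) = _
            rw [hj, AlgHom.commutes]; rfl
          · refine ⟨Ideal.Quotient.mk _ (algebraMap (B₂ ⊗[A] V) (Localization.AtPrime q)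
              (1 ⊗ₜ v)), ?_⟩
            show algebraMap W F (RingHom.kerLift μS.toRingHom
              (Ideal.Quotient.mk _ (algebraMap (B₂ ⊗[A] V) _ (1 ⊗ₜ v)))) = _
            rw [hj, hμS, hμV]; rfl
        rw [Subfield.mem_closure_iff] at hz
        obtain ⟨y, hy, z', hz', hyz⟩ := hz
        rw [← RingHom.coe_range, Subring.closure_eq] at hy hz'
        obtain ⟨a, rfl⟩ := hy
        obtain ⟨b, rfl⟩ := hz'
        exact ⟨a, b, hyz⟩
    intro w
    obtain ⟨x, hx⟩ := hsj w
    obtain ⟨s, rfl⟩ := Ideal.Quotient.mk_surjective x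
    exact ⟨s, hx⟩
  haveI : Algebra.FormallyUnramified B₂ W := Algebra.FormallyUnramified.of_surjective μS hsurj
  haveI : Algebra.EssFiniteType B₂ W := Algebra.EssFiniteType.of_surjective μS hsurj
  exact ⟨Algebra.FormallyUnramified.comp B B₂ W, Algebra.EssFiniteType.comp B B₂ W⟩

end Key

section Core

variable {A B : Type u} [CommRing A] [IsDomain A] [IsDiscreteValuationRing A]
  [CommRing B] [IsDomain B] [IsDiscreteValuationRing B] [Algebra A B] [IsLocalHom (algebraMap A B)]
  {K K'' : Type u} [Field K] [Algebra A K] [IsFractionRing A K] [Field K''] [Algebra K K'']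
  [Algebra A K''] [IsScalarTower A K K''] [FiniteDimensional K K''] [Algebra.IsSeparable K K'']

include K in
set_option maxHeartbeats 3200000 in
/-- If `K''` is unramified over `A[π_A^{1/e}]`, and `F` is a field generated by `K''` and
`B[π_B^{1/e}]`, then `F` is unramified over `B[π_B^{1/e}]`. -/
theorem core (πA : A) (hπA : maximalIdeal A = Ideal.span {πA}) (πB : B)
    (hπB : maximalIdeal B = Ideal.span {πB}) (e : ℕ) (he0 : 0 < e)
    (heκ : (e : ResidueField A) ≠ 0)
    [Algebra (AdjoinRoot (X ^ e - C πA : A[X])) K'']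
    (hcompA : ∀ a : A, algebraMap (AdjoinRoot (X ^ e - C πA : A[X])) K'' (AdjoinRoot.of _ a) =
      algebraMap A K'' a)
    (hunrA : ∀ [IsLocalRing (AdjoinRoot (X ^ e - C πA : A[X]))],
      EtRam.IsUnramifiedExt (AdjoinRoot (X ^ e - C πA : A[X]))
        (algebraMap (AdjoinRoot (X ^ e - C πA : A[X])) K''))
    (F : Type u) [Field F] [Algebra (AdjoinRoot (X ^ e - C πB : B[X])) F] [Algebra K'' F]
    (hcompat : ∀ a : A, algebraMap K'' F (algebraMap A K'' a) =
      algebraMap (AdjoinRoot (X ^ e - C πB : B[X])) F (AdjoinRoot.of _ (algebraMap A B a)))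
    (hgen : ∀ z : F, z ∈ Subfield.closure
      (Set.range (algebraMap (AdjoinRoot (X ^ e - C πB : B[X])) F) ∪
        Set.range (algebraMap K'' F))) :
    ∀ [IsLocalRing (AdjoinRoot (X ^ e - C πB : B[X]))],
      EtRam.IsUnramifiedExt (AdjoinRoot (X ^ e - C πB : B[X]))
        (algebraMap (AdjoinRoot (X ^ e - C πB : B[X])) F) := by
  classical
  intro hlocBe W hW hlocW
  letI algBeW : Algebra (AdjoinRoot (X ^ e - C πB : B[X])) W :=
    (RingHom.codRestrict (algebraMap (AdjoinRoot (X ^ e - C πB : B[X])) F) W hW.1).toAlgebra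
  haveI : IsLocalHom (algebraMap (AdjoinRoot (X ^ e - C πB : B[X])) W) := hlocW
  haveI hlocAe := isLocalRing_adjoinRoot πA hπA e he0
  have hmAe := maximalIdeal_adjoinRoot πA hπA e he0
  have hmBe := maximalIdeal_adjoinRoot πB hπB e he0
  have heA : IsUnit ((e : ℕ) : A) := by
    by_contra hne
    apply heκ
    have h1 : ((e : ℕ) : A) ∈ maximalIdeal A := (mem_maximalIdeal _).mpr hne
    rw [← map_natCast (residue A)]
    exact (residue_eq_zero_iff _).mpr h1
  have hinjAK'' : Function.Injective (algebraMap A K'') := by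
    rw [IsScalarTower.algebraMap_eq A K K'']
    exact (algebraMap K K'').injective.comp (IsFractionRing.injective A K)
  have hπA0 : πA ≠ 0 := by
    intro h0
    apply IsDiscreteValuationRing.not_a_field A
    rw [hπA, h0]
    exact Ideal.span_singleton_eq_bot.mpr rfl
  have hπAF : algebraMap K'' F (algebraMap A K'' πA) ≠ 0 :=
    (map_ne_zero_iff _ (algebraMap K'' F).injective).mpr ((map_ne_zero_iff _ hinjAK'').mpr hπA0)
  have hABne : algebraMap A B πA ≠ 0 := by
    intro h0
    apply hπAF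
    rw [hcompat, h0, map_zero, map_zero]
  obtain ⟨k, u, hu, hdec⟩ := Groth.Agent.H14.KummerTame.exists_eq_pow_mul_unit πB hπB _ hABne
  have hk0 : k ≠ 0 := by
    rintro rfl
    rw [pow_zero, one_mul] at hdec
    have h1 : IsUnit πA := isUnit_of_map_unit (algebraMap A B) πA (hdec ▸ hu)
    have h2 : πA ∈ maximalIdeal A := hπA ▸ Ideal.mem_span_singleton_self πA
    exact (mem_maximalIdeal _).mp h2 h1
  obtain ⟨Y, hYdef⟩ : ∃ Y : F,
    Y = algebraMap (AdjoinRoot (X ^ e - C πB : B[X])) F (AdjoinRoot.root _) := ⟨_, rfl⟩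
  obtain ⟨ϖ, hϖdef⟩ : ∃ ϖ : K'',
    ϖ = algebraMap (AdjoinRoot (X ^ e - C πA : A[X])) K'' (AdjoinRoot.root _) := ⟨_, rfl⟩
  have hYe : Y ^ e = algebraMap _ F (AdjoinRoot.of (X ^ e - C πB : B[X]) πB) := by
    rw [hYdef, ← map_pow, root_pow']
  have hϖe : ϖ ^ e = algebraMap A K'' πA := by
    rw [hϖdef, ← map_pow, root_pow', hcompA]
  have hjϖe : (algebraMap K'' F ϖ) ^ e =
      Y ^ (e * k) * algebraMap _ F (AdjoinRoot.of (X ^ e - C πB : B[X]) u) := by
    rw [← map_pow, hϖe, hcompat, hdec, map_mul, map_mul, map_pow, map_pow, ← hYe, ← pow_mul]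
  have hY0 : Y ≠ 0 := by
    intro h0
    apply hπAF
    rw [← hϖe, map_pow, hjϖe, h0, zero_pow (Nat.mul_ne_zero he0.ne' hk0), zero_mul]
  obtain ⟨Z, hZdef⟩ : ∃ Z : F, Z = algebraMap K'' F ϖ / Y ^ k := ⟨_, rfl⟩
  have hZe : Z ^ e = algebraMap _ F (AdjoinRoot.of (X ^ e - C πB : B[X]) u) := by
    rw [hZdef, div_pow, hjϖe, ← pow_mul, mul_comm k e]
    field_simp
  have hjϖ : algebraMap K'' F ϖ = Z * Y ^ k := by
    rw [hZdef]; field_simp
  have hYlt : W.valuation Y < 1 := by
    rw [hYdef]
    exact hW.2 _ (hmBe ▸ Ideal.mem_span_singleton_self _)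
  have hYW : Y ∈ W := (W.valuation_le_one_iff Y).mp hYlt.le
  have huW : W.valuation (algebraMap _ F (AdjoinRoot.of (X ^ e - C πB : B[X]) u)) = 1 := by
    have h1 : IsUnit (algebraMap (AdjoinRoot (X ^ e - C πB : B[X])) W (AdjoinRoot.of _ u)) :=
      (hu.map _).map _
    exact (W.valuation_eq_one_iff _).mp h1
  have hZ1 : W.valuation Z = 1 := by
    have h1 : W.valuation Z ^ e = 1 := by rw [← map_pow, hZe, huW]
    rcases lt_trichotomy (W.valuation Z) 1 with h | h | h
    · exact absurd h1 (ne_of_lt (pow_lt_one₀ zero_le h he0.ne'))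
    · exact h
    · exact absurd h1 (ne_of_gt (one_lt_pow₀ h he0.ne'))
  have hZW : Z ∈ W := (W.valuation_le_one_iff Z).mp hZ1.le
  have hjϖlt : W.valuation (algebraMap K'' F ϖ) < 1 := by
    rw [hjϖ, map_mul, hZ1, one_mul, map_pow]
    exact pow_lt_one₀ zero_le hYlt hk0
  have hjϖW : algebraMap K'' F ϖ ∈ W := (W.valuation_le_one_iff _).mp hjϖlt.le
  -- the valuation ring `V` of `K''`
  obtain ⟨V, hVdef⟩ : ∃ V : ValuationSubring K'', V = W.comap (algebraMap K'' F) := ⟨_, rfl⟩
  have hψW : ∀ a' : AdjoinRoot (X ^ e - C πA : A[X]),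
      algebraMap K'' F (algebraMap _ K'' a') ∈ W := by
    intro a'
    induction a' using AdjoinRoot.induction_on with
    | ih p =>
      induction p using Polynomial.induction_on with
      | C a =>
        rw [AdjoinRoot.mk_C, hcompA, hcompat]
        exact hW.1 _
      | add p q hp hq =>
        rw [map_add, map_add, map_add]
        exact add_mem hp hq
      | monomial n a hn =>
        rw [pow_succ, ← mul_assoc, map_mul, map_mul, map_mul, AdjoinRoot.mk_X, ← hϖdef]
        exact mul_mem hn hjϖW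
  have hV : EtRam.Dominates (AdjoinRoot (X ^ e - C πA : A[X])) (algebraMap _ K'') V := by
    rw [hVdef, dominates_comap_iff]
    refine ⟨hψW, ?_⟩
    intro a' ha'
    rw [hmAe, Ideal.mem_span_singleton'] at ha'
    obtain ⟨c, rfl⟩ := ha'
    rw [RingHom.comp_apply, map_mul, map_mul, map_mul, ← hϖdef]
    calc W.valuation (algebraMap K'' F (algebraMap _ K'' c)) * W.valuation (algebraMap K'' F ϖ)
        ≤ 1 * W.valuation (algebraMap K'' F ϖ) :=
          mul_le_mul_left ((W.valuation_le_one_iff _).mpr (hψW c)) _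
      _ = W.valuation (algebraMap K'' F ϖ) := one_mul _
      _ < 1 := hjϖlt
  letI algAeV : Algebra (AdjoinRoot (X ^ e - C πA : A[X])) V :=
    (RingHom.codRestrict (algebraMap _ K'') V hV.1).toAlgebra
  haveI hlocAeV : IsLocalHom (algebraMap (AdjoinRoot (X ^ e - C πA : A[X])) V) :=
    isLocalHom_of_dominates _ V hV
  obtain ⟨hwu, hsep⟩ := hunrA V hV
  haveI := hsep
  have hVA : EtRam.Dominates A (algebraMap A K'') V := by
    rw [hVdef, dominates_comap_iff]
    refine ⟨fun a => ?_, fun a ha => ?_⟩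
    · rw [RingHom.comp_apply, hcompat]; exact hW.1 _
    · rw [RingHom.comp_apply, hcompat]
      apply hW.2
      refine of_mem_maximalIdeal πB e he0 _ ((mem_maximalIdeal _).mpr (fun hua => ?_))
      exact (mem_maximalIdeal _).mp ha (isUnit_of_map_unit (algebraMap A B) a hua)
  letI algAV : Algebra A V := (RingHom.codRestrict (algebraMap A K'') V hVA.1).toAlgebra
  haveI hessAV : Algebra.EssFiniteType A V :=
    Groth.Agent.H10.UnramExt.essFiniteType_of_dominates A K K'' V hVA
  haveI : IsScalarTower A (AdjoinRoot (X ^ e - C πA : A[X])) V :=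
    IsScalarTower.of_algebraMap_eq (fun a => Subtype.ext (hcompA a).symm)
  haveI hessAeV : Algebra.EssFiniteType (AdjoinRoot (X ^ e - C πA : A[X])) V :=
    Algebra.EssFiniteType.of_comp A _ V
  haveI hfuAeV : Algebra.FormallyUnramified (AdjoinRoot (X ^ e - C πA : A[X])) V :=
    Algebra.FormallyUnramified.iff_map_maximalIdeal_eq.mpr ⟨hsep, hwu⟩
  -- the `B`-side: `B₂ = B_e[T]/(T^e - u)`
  have heBe : IsUnit ((e : ℕ) : AdjoinRoot (X ^ e - C πB : B[X])) := by
    have := (heA.map (algebraMap A B)).map (algebraMap B (AdjoinRoot (X ^ e - C πB : B[X])))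
    rwa [map_natCast, map_natCast] at this
  obtain ⟨c, hcdef⟩ : ∃ c : AdjoinRoot (X ^ e - C πB : B[X]), c = AdjoinRoot.of _ u := ⟨_, rfl⟩
  have hcu : IsUnit c := hcdef ▸ hu.map _
  haveI hfuB₂ : Algebra.FormallyUnramified (AdjoinRoot (X ^ e - C πB : B[X]))
      (AdjoinRoot (X ^ e - C c : (AdjoinRoot (X ^ e - C πB : B[X]))[X])) :=
    formallyUnramified_adjoinRoot c hcu e he0 heBe
  let φ₂ : AdjoinRoot (X ^ e - C c : (AdjoinRoot (X ^ e - C πB : B[X]))[X]) →+* W :=
    AdjoinRoot.lift (algebraMap (AdjoinRoot (X ^ e - C πB : B[X])) W) ⟨Z, hZW⟩ (by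
      rw [eval₂_sub, eval₂_pow, eval₂_X, eval₂_C, sub_eq_zero]
      apply Subtype.ext
      rw [hcdef]
      exact hZe)
  have hφ₂of : ∀ b, φ₂ (AdjoinRoot.of _ b) = algebraMap (AdjoinRoot (X ^ e - C πB : B[X])) W b :=
    fun b => AdjoinRoot.lift_of _
  have hφ₂root : φ₂ (AdjoinRoot.root _) = ⟨Z, hZW⟩ := AdjoinRoot.lift_root _
  letI algB₂W : Algebra (AdjoinRoot (X ^ e - C c : (AdjoinRoot (X ^ e - C πB : B[X]))[X])) W :=
    φ₂.toAlgebra
  haveI htowBe : IsScalarTower (AdjoinRoot (X ^ e - C πB : B[X]))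
      (AdjoinRoot (X ^ e - C c : (AdjoinRoot (X ^ e - C πB : B[X]))[X])) W :=
    IsScalarTower.of_algebraMap_eq (fun b => by
      show algebraMap (AdjoinRoot (X ^ e - C πB : B[X])) W b =
        φ₂ (algebraMap (AdjoinRoot (X ^ e - C πB : B[X])) _ b)
      rw [AdjoinRoot.algebraMap_eq, hφ₂of])
  -- `A_e → B₂`
  have hρeq : (AdjoinRoot.root (X ^ e - C c : (AdjoinRoot (X ^ e - C πB : B[X]))[X]) *
      (AdjoinRoot.of _ (AdjoinRoot.root (X ^ e - C πB : B[X]))) ^ k) ^ e =
      AdjoinRoot.of _ (AdjoinRoot.of _ (algebraMap A B πA)) := by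
    rw [mul_pow, root_pow', ← pow_mul, mul_comm k e, pow_mul, ← map_pow, root_pow', hdec, hcdef,
      map_mul, map_mul, map_pow, map_pow, mul_comm]
  let ρ : AdjoinRoot (X ^ e - C πA : A[X]) →+*
      AdjoinRoot (X ^ e - C c : (AdjoinRoot (X ^ e - C πB : B[X]))[X]) :=
    AdjoinRoot.lift ((AdjoinRoot.of _).comp ((AdjoinRoot.of _).comp (algebraMap A B)))
      (AdjoinRoot.root _ * (AdjoinRoot.of _ (AdjoinRoot.root (X ^ e - C πB : B[X]))) ^ k) (by
      rw [eval₂_sub, eval₂_pow, eval₂_X, eval₂_C, sub_eq_zero, hρeq]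
      rfl)
  have hρof : ∀ a, ρ (AdjoinRoot.of _ a) =
      AdjoinRoot.of _ (AdjoinRoot.of _ (algebraMap A B a)) := fun a => AdjoinRoot.lift_of _
  have hρroot : ρ (AdjoinRoot.root _) =
      AdjoinRoot.root _ * (AdjoinRoot.of _ (AdjoinRoot.root (X ^ e - C πB : B[X]))) ^ k :=
    AdjoinRoot.lift_root _
  letI algAeB₂ : Algebra (AdjoinRoot (X ^ e - C πA : A[X]))
      (AdjoinRoot (X ^ e - C c : (AdjoinRoot (X ^ e - C πB : B[X]))[X])) := ρ.toAlgebra
  letI algAeW : Algebra (AdjoinRoot (X ^ e - C πA : A[X])) W := (φ₂.comp ρ).toAlgebra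
  haveI : IsScalarTower (AdjoinRoot (X ^ e - C πA : A[X]))
      (AdjoinRoot (X ^ e - C c : (AdjoinRoot (X ^ e - C πB : B[X]))[X])) W :=
    IsScalarTower.of_algebraMap_eq (fun _ => rfl)
  have hVW : ∀ v : V, algebraMap K'' F (v : K'') ∈ W := by
    intro v
    have h3 : (v : K'') ∈ W.comap (algebraMap K'' F) := hVdef ▸ v.2
    exact h3
  letI algVW : Algebra V W :=
    (RingHom.codRestrict ((algebraMap K'' F).comp V.subtype) W hVW).toAlgebra
  have htwo : (W.subtype : W →+* F).comp (φ₂.comp ρ) =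
      (algebraMap K'' F).comp (algebraMap (AdjoinRoot (X ^ e - C πA : A[X])) K'') := by
    apply AdjoinRoot.ringHom_ext
    · ext a
      show ((φ₂ (ρ (AdjoinRoot.of _ a)) : W) : F) =
        algebraMap K'' F (algebraMap _ K'' (AdjoinRoot.of _ a))
      rw [hρof, hcompA, hcompat, hφ₂of]
      rfl
    · show ((φ₂ (ρ (AdjoinRoot.root _)) : W) : F) =
        algebraMap K'' F (algebraMap _ K'' (AdjoinRoot.root _))
      rw [hρroot, map_mul, map_pow, hφ₂root, hφ₂of, ← hϖdef, hjϖ, hYdef]
      rfl
  haveI : IsScalarTower (AdjoinRoot (X ^ e - C πA : A[X])) V W :=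
    IsScalarTower.of_algebraMap_eq (fun a' => Subtype.ext (RingHom.congr_fun htwo a'))
  have hgen' : ∀ z : F, z ∈ Subfield.closure
      (Set.range ((algebraMap W F).comp
        (algebraMap (AdjoinRoot (X ^ e - C c : (AdjoinRoot (X ^ e - C πB : B[X]))[X])) W)) ∪
        Set.range ((algebraMap W F).comp (algebraMap V W))) := by
    intro z
    refine Subfield.closure_le.mpr ?_ (hgen z)
    rintro x (⟨b, rfl⟩ | ⟨x, rfl⟩)
    · apply Subfield.subset_closure
      left
      refine ⟨AdjoinRoot.of _ b, ?_⟩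
      show ((φ₂ (AdjoinRoot.of _ b) : W) : F) = _
      rw [hφ₂of]
      rfl
    · have hVmem : ∀ v : K'', v ∈ V → algebraMap K'' F v ∈ Subfield.closure
          (Set.range ((algebraMap W F).comp
            (algebraMap (AdjoinRoot (X ^ e - C c : (AdjoinRoot (X ^ e - C πB : B[X]))[X])) W)) ∪
            Set.range ((algebraMap W F).comp (algebraMap V W))) := by
        intro v hv
        exact Subfield.subset_closure (Or.inr ⟨⟨v, hv⟩, rfl⟩)
      rcases V.mem_or_inv_mem x with hx | hx
      · exact hVmem x hx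
      · have h1 := hVmem x⁻¹ hx
        rw [map_inv₀] at h1
        have h2 := inv_mem h1
        rwa [inv_inv] at h2
  obtain ⟨hfuW, hessW⟩ := key2 (AdjoinRoot (X ^ e - C πA : A[X]))
    (AdjoinRoot (X ^ e - C c : (AdjoinRoot (X ^ e - C πB : B[X]))[X])) V W F
    (AdjoinRoot.root (X ^ e - C πB : B[X])) hmBe hgen'
  haveI := hfuW
  haveI := hessW
  obtain ⟨h1, h2⟩ := Algebra.FormallyUnramified.iff_map_maximalIdeal_eq
    (R := AdjoinRoot (X ^ e - C πB : B[X])) (S := W) |>.mp inferInstance
  exact ⟨h2, h1⟩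

end Core

end Groth.Agent.H14.TameBC
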