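import Mathlib
import Groth.Agent.H14.TameBC

/-!
# Tame ramification is stable under base change along an extension of DVRs (final form)
-/

set_option autoImplicit false
set_option linter.style.haveILetI false
universe u

namespace Groth.Agent.H14.TameBC3

open IsLocalRing Polynomial TensorProduct Groth.Agent.H14.Abhyankar Groth.Agent.H14.AbhyankarConv
  Groth.Agent.H78.ValExt Groth.Agent.H14.TameBC

set_option maxHeartbeats 1600000 in
theorem tame_bc (A B K L K' F : Type u) [CommRing A] [IsDomain A] [IsDiscreteValuationRing A]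
    [CommRing B] [IsDomain B] [IsDiscreteValuationRing B] [Algebra A B]
    [IsLocalHom (algebraMap A B)]
    [Field K] [Field L] [Field K'] [Algebra A K] [IsFractionRing A K] [Algebra B L]
    [IsFractionRing B L] [Algebra K L] [Algebra A L] [IsScalarTower A K L] [IsScalarTower A B L]
    [Algebra K K'] [FiniteDimensional K K'] [Algebra.IsSeparable K K'] [Algebra A K']
    [IsScalarTower A K K']
    (h : EtRam.IsTamelyRamified A (algebraMap A K'))
    [Field F] [Algebra L F] [Algebra K' F] [Algebra K F] [IsScalarTower K L F]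
    [IsScalarTower K K' F] [Algebra B F] [IsScalarTower B L F] [FiniteDimensional L F]
    [Algebra.IsSeparable L F]
    (hgenF : ∀ z : F, z ∈ Subfield.closure
      (Set.range (algebraMap L F) ∪ Set.range (algebraMap K' F))) :
    EtRam.IsTamelyRamified B (algebraMap B F) := by
  classical
  obtain ⟨πA, hπA'⟩ := IsDiscreteValuationRing.exists_irreducible A
  have hπA := hπA'.maximalIdeal_eq
  obtain ⟨πB, hπB'⟩ := IsDiscreteValuationRing.exists_irreducible B
  have hπB := hπB'.maximalIdeal_eq
  obtain ⟨e, he0, heκ, hdiv⟩ := exists_uniform_exponent (ResidueField A) (Module.finrank K K')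
  obtain ⟨K'', iF, iK, iAe, ι, hfd, hsep, hcomp, hunr⟩ := key πA hπA h e he0 heκ hdiv
  letI := iF
  letI := iK
  letI := iAe
  haveI := hfd
  haveI := hsep
  letI algAK'' : Algebra A K'' := ((algebraMap K K'').comp (algebraMap A K)).toAlgebra
  haveI : IsScalarTower A K K'' := IsScalarTower.of_algebraMap_eq (fun _ => rfl)
  letI algK'K'' : Algebra K' K'' := ι.toRingHom.toAlgebra
  haveI : IsScalarTower K K' K'' := IsScalarTower.of_algebraMap_eq (fun k => (ι.commutes k).symm)
  haveI : FiniteDimensional K' K'' := FiniteDimensional.right K K' K''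
  haveI : Algebra.IsSeparable K' K'' := Algebra.isSeparable_tower_top_of_isSeparable K K' K''
  have heA : IsUnit ((e : ℕ) : A) := by
    by_contra hne
    apply heκ
    have h1 : ((e : ℕ) : A) ∈ maximalIdeal A := (mem_maximalIdeal _).mpr hne
    rw [← map_natCast (residue A)]
    exact (residue_eq_zero_iff _).mpr h1
  have hinjBF : Function.Injective (algebraMap B F) := by
    rw [IsScalarTower.algebraMap_eq B L F]
    exact (algebraMap L F).injective.comp (IsFractionRing.injective B L)
  have hcF : algebraMap B F πB ≠ 0 := (map_ne_zero_iff _ hinjBF).mpr hπB'.ne_zero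
  have heF : ((e : ℕ) : F) ≠ 0 := by
    have := ((heA.map (algebraMap A B)).map (algebraMap B F))
    rw [map_natCast, map_natCast] at this
    exact this.ne_zero
  obtain ⟨F'', iF'', iLF'', jF, jK, Y, hjcomp, hYe, hgenF'', hfdF'', hsepF''⟩ :=
    Groth.Agent.H14.TameBC2.exists_compositum L F K' K'' (algebraMap B F πB) hcF e he0 heF
  letI := iF''
  letI := iLF''
  haveI := hfdF''
  haveI := hsepF''
  letI algK''F'' : Algebra K'' F'' := jK.toAlgebra
  have hroot : eval₂ ((jF : F →+* F'').comp (algebraMap B F)) Y (X ^ e - C πB : B[X]) = 0 := by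
    rw [eval₂_sub, eval₂_pow, eval₂_X, eval₂_C, hYe, sub_eq_zero]
    rfl
  letI algBeF'' : Algebra (AdjoinRoot (X ^ e - C πB : B[X])) F'' :=
    (AdjoinRoot.lift _ Y hroot).toAlgebra
  have hBeof : ∀ b, algebraMap (AdjoinRoot (X ^ e - C πB : B[X])) F'' (AdjoinRoot.of _ b) =
      jF (algebraMap B F b) := fun b => AdjoinRoot.lift_of hroot
  have hBeroot : algebraMap (AdjoinRoot (X ^ e - C πB : B[X])) F'' (AdjoinRoot.root _) = Y :=
    AdjoinRoot.lift_root hroot
  have hcompB : (algebraMap (AdjoinRoot (X ^ e - C πB : B[X])) F'').comp (AdjoinRoot.of _) =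
      (algebraMap L F'').comp (algebraMap B L) := by
    ext b
    rw [RingHom.comp_apply, RingHom.comp_apply, hBeof, IsScalarTower.algebraMap_apply B L F,
      jF.commutes]
  have hcompA : ∀ a : A, algebraMap (AdjoinRoot (X ^ e - C πA : A[X])) K'' (AdjoinRoot.of _ a) =
      algebraMap A K'' a := fun a => RingHom.congr_fun hcomp a
  have hcompat : ∀ a : A, algebraMap K'' F'' (algebraMap A K'' a) =
      algebraMap (AdjoinRoot (X ^ e - C πB : B[X])) F'' (AdjoinRoot.of _ (algebraMap A B a)) := by
    intro a
    rw [hBeof]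
    show jK (algebraMap K K'' (algebraMap A K a)) = _
    rw [IsScalarTower.algebraMap_apply K K' K'', ← hjcomp, ← IsScalarTower.algebraMap_apply K K' F,
      IsScalarTower.algebraMap_apply K L F, ← IsScalarTower.algebraMap_apply A K L,
      IsScalarTower.algebraMap_apply A B L, ← IsScalarTower.algebraMap_apply B L F]
  have hgen : ∀ z : F'', z ∈ Subfield.closure
      (Set.range (algebraMap (AdjoinRoot (X ^ e - C πB : B[X])) F'') ∪
        Set.range (algebraMap K'' F'')) := by
    intro z
    refine Subfield.closure_le.mpr ?_ (hgenF'' z)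
    rintro x ((⟨f, rfl⟩ | ⟨k, rfl⟩) | hx)
    · have h1 : (jF : F →+* F'') f ∈ (Subfield.closure
          (Set.range (algebraMap L F) ∪ Set.range (algebraMap K' F))).map (jF : F →+* F'') :=
        Subfield.mem_map.mpr ⟨f, hgenF f, rfl⟩
      rw [RingHom.map_field_closure] at h1
      refine Subfield.closure_le.mpr ?_ h1
      rintro _ ⟨y, (⟨l, rfl⟩ | ⟨x, rfl⟩), rfl⟩
      · obtain ⟨b1, b2, -, rfl⟩ := IsFractionRing.div_surjective (A := B) l
        rw [map_div₀, map_div₀]
        refine div_mem ?_ ?_
        · apply Subfield.subset_closure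
          left
          exact ⟨AdjoinRoot.of _ b1, by rw [hBeof, IsScalarTower.algebraMap_apply B L F]; rfl⟩
        · apply Subfield.subset_closure
          left
          exact ⟨AdjoinRoot.of _ b2, by rw [hBeof, IsScalarTower.algebraMap_apply B L F]; rfl⟩
      · apply Subfield.subset_closure
        right
        exact ⟨algebraMap K' K'' x, (hjcomp x).symm⟩
    · exact Subfield.subset_closure (Or.inr ⟨k, rfl⟩)
    · rw [Set.mem_singleton_iff] at hx
      rw [hx]
      exact Subfield.subset_closure (Or.inl ⟨AdjoinRoot.root _, hBeroot⟩)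
  have heκB : ((e : ℕ) : ResidueField B) ≠ 0 := by
    have := ((heA.map (algebraMap A B)).map (residue B))
    rw [map_natCast, map_natCast] at this
    exact this.ne_zero
  exact tame_of_unramified_over_root πB hπB e he0 heκB F'' jF hcompB
    (core (K := K) πA hπA πB hπB e he0 heκ hcompA hunr F'' hcompat hgen)

end Groth.Agent.H14.TameBC3
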