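import Mathlib
import Groth.Agent.H14.TameBC3

/-!
# Composita and Galois closures of unramified / tamely ramified extensions
-/

set_option autoImplicit false
set_option linter.style.haveILetI false
universe u

namespace Groth.Agent.H14.TameComp

open IsLocalRing Polynomial TensorProduct Groth.Agent.H14.Abhyankar Groth.Agent.H78.ValExt

section TwoGen

variable (A K : Type u) [CommRing A] [IsDomain A] [IsDiscreteValuationRing A] [Field K]
  [Algebra A K] [IsFractionRing A K]
  (L₁ L₂ M : Type u) [Field L₁] [Field L₂] [Field M] [Algebra K L₁] [Algebra K L₂] [Algebra K M]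
  [FiniteDimensional K L₁] [FiniteDimensional K L₂] [FiniteDimensional K M]
  [Algebra.IsSeparable K L₁] [Algebra.IsSeparable K L₂] [Algebra.IsSeparable K M]
  [Algebra A L₁] [Algebra A L₂] [Algebra A M] [IsScalarTower A K L₁] [IsScalarTower A K L₂]
  [IsScalarTower A K M]
  [Algebra L₁ M] [Algebra L₂ M] [IsScalarTower K L₁ M] [IsScalarTower K L₂ M]

include K in
set_option maxHeartbeats 1600000 in
theorem comp_tame
    (hgen : ∀ z : M, z ∈ Subfield.closure
      (Set.range (algebraMap L₂ M) ∪ Set.range (algebraMap L₁ M)))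
    (h₁ : EtRam.IsTamelyRamified A (algebraMap A L₁))
    (h₂ : EtRam.IsTamelyRamified A (algebraMap A L₂)) :
    EtRam.IsTamelyRamified A (algebraMap A M) := by
  classical
  intro W hW hlocW
  letI algAW : Algebra A W := (RingHom.codRestrict (algebraMap A M) W hW.1).toAlgebra
  haveI : IsLocalHom (algebraMap A W) := hlocW
  haveI : IsScalarTower A L₂ M := IsScalarTower.of_algebraMap_eq (fun a => by
    rw [IsScalarTower.algebraMap_apply A K M, IsScalarTower.algebraMap_apply K L₂ M,
      ← IsScalarTower.algebraMap_apply A K L₂])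
  obtain ⟨πA, hπA'⟩ := IsDiscreteValuationRing.exists_irreducible A
  have hπA := hπA'.maximalIdeal_eq
  obtain ⟨B, hBdef⟩ : ∃ B : ValuationSubring L₂, B = W.comap (algebraMap L₂ M) := ⟨_, rfl⟩
  have hB : EtRam.Dominates A (algebraMap A L₂) B := by
    rw [hBdef, dominates_comap_iff, ← IsScalarTower.algebraMap_eq A L₂ M]
    exact hW
  have hBK : EtRam.Dominates A ((algebraMap K L₂).comp (algebraMap A K)) B := by
    rw [← IsScalarTower.algebraMap_eq A K L₂]
    exact hB
  haveI : IsDiscreteValuationRing B := isDVR_of_dominates A K L₂ B hBK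
  have hWK : EtRam.Dominates A ((algebraMap K M).comp (algebraMap A K)) W := by
    rw [← IsScalarTower.algebraMap_eq A K M]
    exact hW
  haveI : IsDiscreteValuationRing W := isDVR_of_dominates A K M W hWK
  letI algAB : Algebra A B := (RingHom.codRestrict (algebraMap A L₂) B hB.1).toAlgebra
  haveI : IsLocalHom (algebraMap A B) := isLocalHom_of_dominates _ B hB
  haveI : IsScalarTower A B L₂ := IsScalarTower.of_algebraMap_eq (fun _ => rfl)
  letI algBM : Algebra B M := ((algebraMap L₂ M).comp (algebraMap B L₂)).toAlgebra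
  haveI : IsScalarTower B L₂ M := IsScalarTower.of_algebraMap_eq (fun _ => rfl)
  haveI : FiniteDimensional L₂ M := FiniteDimensional.right K L₂ M
  haveI : Algebra.IsSeparable L₂ M := Algebra.isSeparable_tower_top_of_isSeparable K L₂ M
  have htB : EtRam.IsTamelyRamified B (algebraMap B M) :=
    Groth.Agent.H14.TameBC3.tame_bc A B K L₂ L₁ M h₁ hgen
  have hWB : EtRam.Dominates B (algebraMap B M) W := by
    refine ⟨fun b => ?_, fun b hb => ?_⟩
    · have h3 : (b : L₂) ∈ W.comap (algebraMap L₂ M) := hBdef ▸ b.2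
      exact h3
    · have h4 : B.valuation (b : L₂) < 1 := (B.valuation_lt_one_iff b).mp hb
      have h5 : ∀ x : L₂, B.valuation x < 1 → W.valuation (algebraMap L₂ M x) < 1 := by
        rw [hBdef]
        intro x hx
        exact (comap_valuation_lt_one_iff W x).mp hx
      exact h5 _ h4
  letI algBW : Algebra B W := (RingHom.codRestrict (algebraMap B M) W hWB.1).toAlgebra
  haveI : IsLocalHom (algebraMap B W) := isLocalHom_of_dominates _ W hWB
  obtain ⟨hsepBW, hramBW⟩ := htB W hWB
  obtain ⟨hsepAB, hramAB⟩ := h₂ B hB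
  haveI : IsScalarTower A B W := IsScalarTower.of_algebraMap_eq (fun a =>
    Subtype.ext (IsScalarTower.algebraMap_apply A L₂ M a))
  haveI := hsepAB
  haveI := hsepBW
  refine ⟨?_, ?_⟩
  · exact Algebra.IsSeparable.trans (F := ResidueField A) (E := ResidueField B)
      (K := ResidueField W)
  · intro p hp hchar hdvd
    have hinjAL₂ : Function.Injective (algebraMap A L₂) := by
      rw [IsScalarTower.algebraMap_eq A K L₂]
      exact (algebraMap K L₂).injective.comp (IsFractionRing.injective A K)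
    have hπB : algebraMap A B πA ≠ 0 := by
      intro h0
      exact hπA'.ne_zero (hinjAL₂ (by rw [map_zero]; exact congrArg Subtype.val h0))
    have hinjBW : Function.Injective (algebraMap B W) := by
      intro d₁ d₂ hd
      have h2 := congrArg Subtype.val hd
      exact Subtype.ext ((algebraMap L₂ M).injective h2)
    have hmul := ram_mul (A := A) (V := B) (W := W) πA hπA hπB hinjBW
    rw [hmul] at hdvd
    rcases (Nat.Prime.dvd_mul hp).mp hdvd with h | h
    · exact hramAB p hp hchar h
    · haveI : CharP (ResidueField B) p :=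
        charP_of_injective_algebraMap (algebraMap (ResidueField A) (ResidueField B)).injective p
      exact hramBW p hp inferInstance h

include K in
set_option maxHeartbeats 1600000 in
theorem comp_unram
    (hgen : ∀ z : M, z ∈ Subfield.closure
      (Set.range (algebraMap L₂ M) ∪ Set.range (algebraMap L₁ M)))
    (h₁ : EtRam.IsUnramifiedExt A (algebraMap A L₁))
    (h₂ : EtRam.IsUnramifiedExt A (algebraMap A L₂)) :
    EtRam.IsUnramifiedExt A (algebraMap A M) := by
  classical
  intro W hW hlocW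
  letI algAW : Algebra A W := (RingHom.codRestrict (algebraMap A M) W hW.1).toAlgebra
  haveI : IsLocalHom (algebraMap A W) := hlocW
  haveI : IsScalarTower A L₂ M := IsScalarTower.of_algebraMap_eq (fun a => by
    rw [IsScalarTower.algebraMap_apply A K M, IsScalarTower.algebraMap_apply K L₂ M,
      ← IsScalarTower.algebraMap_apply A K L₂])
  haveI : IsScalarTower A L₁ M := IsScalarTower.of_algebraMap_eq (fun a => by
    rw [IsScalarTower.algebraMap_apply A K M, IsScalarTower.algebraMap_apply K L₁ M,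
      ← IsScalarTower.algebraMap_apply A K L₁])
  -- `B ⊆ L₂`
  obtain ⟨B, hBdef⟩ : ∃ B : ValuationSubring L₂, B = W.comap (algebraMap L₂ M) := ⟨_, rfl⟩
  have hB : EtRam.Dominates A (algebraMap A L₂) B := by
    rw [hBdef, dominates_comap_iff, ← IsScalarTower.algebraMap_eq A L₂ M]
    exact hW
  have hBK : EtRam.Dominates A ((algebraMap K L₂).comp (algebraMap A K)) B := by
    rw [← IsScalarTower.algebraMap_eq A K L₂]
    exact hB
  haveI : IsDiscreteValuationRing B := isDVR_of_dominates A K L₂ B hBK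
  letI algAB : Algebra A B := (RingHom.codRestrict (algebraMap A L₂) B hB.1).toAlgebra
  haveI : IsLocalHom (algebraMap A B) := isLocalHom_of_dominates _ B hB
  obtain ⟨hwuB, hsepB⟩ := h₂ B hB
  haveI := hsepB
  haveI hessB : Algebra.EssFiniteType A B :=
    Groth.Agent.H10.UnramExt.essFiniteType_of_dominates A K L₂ B hB
  haveI hfuB : Algebra.FormallyUnramified A B :=
    Algebra.FormallyUnramified.iff_map_maximalIdeal_eq.mpr ⟨hsepB, hwuB⟩
  -- `V ⊆ L₁`
  obtain ⟨V, hVdef⟩ : ∃ V : ValuationSubring L₁, V = W.comap (algebraMap L₁ M) := ⟨_, rfl⟩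
  have hV : EtRam.Dominates A (algebraMap A L₁) V := by
    rw [hVdef, dominates_comap_iff, ← IsScalarTower.algebraMap_eq A L₁ M]
    exact hW
  letI algAV : Algebra A V := (RingHom.codRestrict (algebraMap A L₁) V hV.1).toAlgebra
  haveI : IsLocalHom (algebraMap A V) := isLocalHom_of_dominates _ V hV
  obtain ⟨hwuV, hsepV⟩ := h₁ V hV
  haveI := hsepV
  haveI hessV : Algebra.EssFiniteType A V :=
    Groth.Agent.H10.UnramExt.essFiniteType_of_dominates A K L₁ V hV
  haveI hfuV : Algebra.FormallyUnramified A V :=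
    Algebra.FormallyUnramified.iff_map_maximalIdeal_eq.mpr ⟨hsepV, hwuV⟩
  -- algebra structures on `W`
  have hBW : ∀ b : B, algebraMap L₂ M (b : L₂) ∈ W := by
    intro b
    have h3 : (b : L₂) ∈ W.comap (algebraMap L₂ M) := hBdef ▸ b.2
    exact h3
  have hVW : ∀ v : V, algebraMap L₁ M (v : L₁) ∈ W := by
    intro v
    have h3 : (v : L₁) ∈ W.comap (algebraMap L₁ M) := hVdef ▸ v.2
    exact h3
  letI algBW : Algebra B W :=
    (RingHom.codRestrict ((algebraMap L₂ M).comp B.subtype) W hBW).toAlgebra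
  letI algVW : Algebra V W :=
    (RingHom.codRestrict ((algebraMap L₁ M).comp V.subtype) W hVW).toAlgebra
  have hBlt : ∀ b : B, b ∈ maximalIdeal B → W.valuation (algebraMap L₂ M (b : L₂)) < 1 := by
    intro b hb
    have h4 : B.valuation (b : L₂) < 1 := (B.valuation_lt_one_iff b).mp hb
    have h5 : ∀ x : L₂, B.valuation x < 1 → W.valuation (algebraMap L₂ M x) < 1 := by
      rw [hBdef]
      intro x hx
      exact (comap_valuation_lt_one_iff W x).mp hx
    exact h5 _ h4
  haveI : IsLocalHom (algebraMap B W) :=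
    isLocalHom_of_dominates ((algebraMap L₂ M).comp B.subtype) W ⟨hBW, hBlt⟩
  haveI : IsScalarTower A B W := IsScalarTower.of_algebraMap_eq (fun a =>
    Subtype.ext (IsScalarTower.algebraMap_apply A L₂ M a))
  haveI : IsScalarTower A V W := IsScalarTower.of_algebraMap_eq (fun a =>
    Subtype.ext (IsScalarTower.algebraMap_apply A L₁ M a))
  have hgen' : ∀ z : M, z ∈ Subfield.closure
      (Set.range ((algebraMap W M).comp (algebraMap B W)) ∪
        Set.range ((algebraMap W M).comp (algebraMap V W))) := by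
    intro z
    refine Subfield.closure_le.mpr ?_ (hgen z)
    rintro x (⟨y, rfl⟩ | ⟨y, rfl⟩)
    · have hmem : ∀ v : L₂, v ∈ B → algebraMap L₂ M v ∈ Subfield.closure
          (Set.range ((algebraMap W M).comp (algebraMap B W)) ∪
            Set.range ((algebraMap W M).comp (algebraMap V W))) := by
        intro v hv
        exact Subfield.subset_closure (Or.inl ⟨⟨v, hv⟩, rfl⟩)
      rcases B.mem_or_inv_mem y with hy | hy
      · exact hmem y hy
      · have h1 := hmem y⁻¹ hy
        rw [map_inv₀] at h1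
        have h2 := inv_mem h1
        rwa [inv_inv] at h2
    · have hmem : ∀ v : L₁, v ∈ V → algebraMap L₁ M v ∈ Subfield.closure
          (Set.range ((algebraMap W M).comp (algebraMap B W)) ∪
            Set.range ((algebraMap W M).comp (algebraMap V W))) := by
        intro v hv
        exact Subfield.subset_closure (Or.inr ⟨⟨v, hv⟩, rfl⟩)
      rcases V.mem_or_inv_mem y with hy | hy
      · exact hmem y hy
      · have h1 := hmem y⁻¹ hy
        rw [map_inv₀] at h1
        have h2 := inv_mem h1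
        rwa [inv_inv] at h2
  obtain ⟨hfuW, hessW⟩ := Groth.Agent.H10.UnramExt.key A V W M hgen'
  haveI := hfuW
  haveI := hessW
  haveI : Algebra.FormallyUnramified A W := Algebra.FormallyUnramified.comp A B W
  haveI : Algebra.EssFiniteType A W := Algebra.EssFiniteType.comp A B W
  obtain ⟨h1, h2⟩ := Algebra.FormallyUnramified.iff_map_maximalIdeal_eq (R := A) (S := W) |>.mp
    inferInstance
  exact ⟨h2, h1⟩

end TwoGen

section Wrap

variable (A K : Type u) [CommRing A] [IsDomain A] [IsDiscreteValuationRing A] [Field K]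
  [Algebra A K] [IsFractionRing A K]

/-- A field generated by the images of two unramified (resp. tame) extensions is unramified
(resp. tame). -/
theorem two_gen (L₁ L₂ M : Type u) [Field L₁] [Field L₂] [Field M] [Algebra K L₁] [Algebra K L₂]
    [Algebra K M] [FiniteDimensional K L₁] [FiniteDimensional K L₂] [FiniteDimensional K M]
    [Algebra.IsSeparable K L₁] [Algebra.IsSeparable K L₂] [Algebra.IsSeparable K M]
    (j₁ : L₁ →ₐ[K] M) (j₂ : L₂ →ₐ[K] M)
    (hgen : ∀ z : M, z ∈ Subfield.closure (Set.range j₂ ∪ Set.range j₁)) :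
    (EtRam.IsUnramifiedExt A ((algebraMap K L₁).comp (algebraMap A K)) →
      EtRam.IsUnramifiedExt A ((algebraMap K L₂).comp (algebraMap A K)) →
      EtRam.IsUnramifiedExt A ((algebraMap K M).comp (algebraMap A K))) ∧
    (EtRam.IsTamelyRamified A ((algebraMap K L₁).comp (algebraMap A K)) →
      EtRam.IsTamelyRamified A ((algebraMap K L₂).comp (algebraMap A K)) →
      EtRam.IsTamelyRamified A ((algebraMap K M).comp (algebraMap A K))) := by
  letI : Algebra A L₁ := ((algebraMap K L₁).comp (algebraMap A K)).toAlgebra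
  haveI : IsScalarTower A K L₁ := IsScalarTower.of_algebraMap_eq (fun _ => rfl)
  letI : Algebra A L₂ := ((algebraMap K L₂).comp (algebraMap A K)).toAlgebra
  haveI : IsScalarTower A K L₂ := IsScalarTower.of_algebraMap_eq (fun _ => rfl)
  letI : Algebra A M := ((algebraMap K M).comp (algebraMap A K)).toAlgebra
  haveI : IsScalarTower A K M := IsScalarTower.of_algebraMap_eq (fun _ => rfl)
  letI : Algebra L₁ M := j₁.toRingHom.toAlgebra
  haveI : IsScalarTower K L₁ M := IsScalarTower.of_algebraMap_eq (fun k => (j₁.commutes k).symm)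
  letI : Algebra L₂ M := j₂.toRingHom.toAlgebra
  haveI : IsScalarTower K L₂ M := IsScalarTower.of_algebraMap_eq (fun k => (j₂.commutes k).symm)
  exact ⟨fun h₁ h₂ => comp_unram A K L₁ L₂ M hgen h₁ h₂,
    fun h₁ h₂ => comp_tame A K L₁ L₂ M hgen h₁ h₂⟩

set_option maxHeartbeats 800000 in
/-- A common finite separable overfield, unramified (resp. tame) if both fields are. -/
theorem part2 (L₁ L₂ : Type u) [Field L₁] [Field L₂] [Algebra K L₁] [Algebra K L₂]
    [FiniteDimensional K L₁] [FiniteDimensional K L₂]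
    [Algebra.IsSeparable K L₁] [Algebra.IsSeparable K L₂] :
    ∃ (M : Type u) (_ : Field M) (_ : Algebra K M) (_ : FiniteDimensional K M)
      (_ : Algebra.IsSeparable K M) (_ : L₁ →ₐ[K] M) (_ : L₂ →ₐ[K] M),
      (EtRam.IsUnramifiedExt A ((algebraMap K L₁).comp (algebraMap A K)) →
        EtRam.IsUnramifiedExt A ((algebraMap K L₂).comp (algebraMap A K)) →
        EtRam.IsUnramifiedExt A ((algebraMap K M).comp (algebraMap A K))) ∧
      (EtRam.IsTamelyRamified A ((algebraMap K L₁).comp (algebraMap A K)) →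
        EtRam.IsTamelyRamified A ((algebraMap K L₂).comp (algebraMap A K)) →
        EtRam.IsTamelyRamified A ((algebraMap K M).comp (algebraMap A K))) := by
  classical
  haveI : Nontrivial (L₁ ⊗[K] L₂) :=
    Module.nontrivial_of_finrank_pos (R := L₁) (by
      rw [Module.finrank_baseChange]; exact Module.finrank_pos)
  obtain ⟨𝔪, h𝔪⟩ := Ideal.exists_maximal (L₁ ⊗[K] L₂)
  haveI := h𝔪
  letI fld : Field ((L₁ ⊗[K] L₂) ⧸ 𝔪) := Ideal.Quotient.field 𝔪
  haveI : Algebra.FormallyUnramified K L₁ := Algebra.FormallyUnramified.of_isSeparable K L₁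
  haveI : Algebra.FormallyUnramified K L₂ := Algebra.FormallyUnramified.of_isSeparable K L₂
  haveI : Algebra.FormallyUnramified K (L₁ ⊗[K] L₂) :=
    Algebra.FormallyUnramified.comp K L₁ (L₁ ⊗[K] L₂)
  have hsurj : Function.Surjective (Ideal.Quotient.mkₐ K 𝔪) := Ideal.Quotient.mkₐ_surjective K 𝔪
  haveI hfu : Algebra.FormallyUnramified K ((L₁ ⊗[K] L₂) ⧸ 𝔪) :=
    Algebra.FormallyUnramified.of_surjective (Ideal.Quotient.mkₐ K 𝔪) hsurj
  haveI hfin : Module.Finite K ((L₁ ⊗[K] L₂) ⧸ 𝔪) :=
    Module.Finite.of_surjective (Ideal.Quotient.mkₐ K 𝔪).toLinearMap hsurj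
  haveI hsep : Algebra.IsSeparable K ((L₁ ⊗[K] L₂) ⧸ 𝔪) :=
    Algebra.FormallyUnramified.isSeparable K _
  refine ⟨(L₁ ⊗[K] L₂) ⧸ 𝔪, fld, inferInstance, hfin, hsep,
    (Ideal.Quotient.mkₐ K 𝔪).comp Algebra.TensorProduct.includeLeft,
    (Ideal.Quotient.mkₐ K 𝔪).comp Algebra.TensorProduct.includeRight, ?_⟩
  refine two_gen A K L₁ L₂ ((L₁ ⊗[K] L₂) ⧸ 𝔪)
    ((Ideal.Quotient.mkₐ K 𝔪).comp Algebra.TensorProduct.includeLeft)
    ((Ideal.Quotient.mkₐ K 𝔪).comp Algebra.TensorProduct.includeRight) ?_
  intro z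
  obtain ⟨t, rfl⟩ := Ideal.Quotient.mk_surjective z
  induction t using TensorProduct.induction_on with
  | zero => rw [map_zero]; exact zero_mem _
  | add x y hx hy => rw [map_add]; exact add_mem hx hy
  | tmul x y =>
    have hxy : x ⊗ₜ[K] y = (x ⊗ₜ[K] (1 : L₂)) * ((1 : L₁) ⊗ₜ[K] y) := by
      rw [Algebra.TensorProduct.tmul_mul_tmul, mul_one, one_mul]
    rw [hxy, map_mul]
    exact mul_mem (Subfield.subset_closure (Or.inr ⟨x, rfl⟩))
      (Subfield.subset_closure (Or.inl ⟨y, rfl⟩))

end Wrap

/-- Generation of a compositum of intermediate fields by the two factors. -/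
theorem sup_gen {K Ω : Type u} [Field K] [Field Ω] [Algebra K Ω] (E₁ E₂ : IntermediateField K Ω) :
    ∀ z : ↥(E₁ ⊔ E₂), z ∈ Subfield.closure
      (Set.range (IntermediateField.inclusion (le_sup_right : E₂ ≤ E₁ ⊔ E₂)) ∪
        Set.range (IntermediateField.inclusion (le_sup_left : E₁ ≤ E₁ ⊔ E₂))) := by
  have key : ∀ x (_ : x ∈ IntermediateField.adjoin K ((E₁ : Set Ω) ∪ (E₂ : Set Ω))),
      ∀ hxT : x ∈ E₁ ⊔ E₂, (⟨x, hxT⟩ : ↥(E₁ ⊔ E₂)) ∈ Subfield.closure
        (Set.range (IntermediateField.inclusion (le_sup_right : E₂ ≤ E₁ ⊔ E₂)) ∪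
          Set.range (IntermediateField.inclusion (le_sup_left : E₁ ≤ E₁ ⊔ E₂))) := by
    intro x hx
    induction hx using IntermediateField.adjoin_induction with
    | mem x hx =>
      intro hxT
      rcases hx with hx | hx
      · exact Subfield.subset_closure (Or.inr ⟨⟨x, hx⟩, rfl⟩)
      · exact Subfield.subset_closure (Or.inl ⟨⟨x, hx⟩, rfl⟩)
    | algebraMap k =>
      intro hxT
      exact Subfield.subset_closure (Or.inr ⟨algebraMap K E₁ k, rfl⟩)
    | add x y hx hy ihx ihy =>
      intro hxT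
      have hx' : x ∈ E₁ ⊔ E₂ := hx
      have hy' : y ∈ E₁ ⊔ E₂ := hy
      have : (⟨x + y, hxT⟩ : ↥(E₁ ⊔ E₂)) = ⟨x, hx'⟩ + ⟨y, hy'⟩ := rfl
      rw [this]
      exact add_mem (ihx hx') (ihy hy')
    | inv x hx ihx =>
      intro hxT
      have hx' : x ∈ E₁ ⊔ E₂ := hx
      have : (⟨x⁻¹, hxT⟩ : ↥(E₁ ⊔ E₂)) = (⟨x, hx'⟩ : ↥(E₁ ⊔ E₂))⁻¹ := rfl
      rw [this]
      exact inv_mem (ihx hx')
    | mul x y hx hy ihx ihy =>
      intro hxT
      have hx' : x ∈ E₁ ⊔ E₂ := hx
      have hy' : y ∈ E₁ ⊔ E₂ := hy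
      have : (⟨x * y, hxT⟩ : ↥(E₁ ⊔ E₂)) = ⟨x, hx'⟩ * ⟨y, hy'⟩ := rfl
      rw [this]
      exact mul_mem (ihx hx') (ihy hy')
  intro z
  exact key z.1 z.2 z.2

section Wrap1

variable (A K : Type u) [CommRing A] [IsDomain A] [IsDiscreteValuationRing A] [Field K]
  [Algebra A K] [IsFractionRing A K]

set_option maxHeartbeats 800000 in
/-- A finite Galois overfield, unramified (resp. tame) if the field is. -/
theorem part1 (L : Type u) [Field L] [Algebra K L] [FiniteDimensional K L]
    [Algebra.IsSeparable K L] :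
    ∃ (M : Type u) (_ : Field M) (_ : Algebra K M) (_ : FiniteDimensional K M)
      (_ : IsGalois K M) (_ : L →ₐ[K] M),
      (EtRam.IsUnramifiedExt A ((algebraMap K L).comp (algebraMap A K)) →
        EtRam.IsUnramifiedExt A ((algebraMap K M).comp (algebraMap A K))) ∧
      (EtRam.IsTamelyRamified A ((algebraMap K L).comp (algebraMap A K)) →
        EtRam.IsTamelyRamified A ((algebraMap K M).comp (algebraMap A K))) := by
  classical
  obtain ⟨P, hPdef⟩ : ∃ P : IntermediateField K (AlgebraicClosure K) → Prop,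
      P = fun E : IntermediateField K (AlgebraicClosure K) =>
        FiniteDimensional K ↥E ∧ Algebra.IsSeparable K ↥E ∧
      (EtRam.IsUnramifiedExt A ((algebraMap K L).comp (algebraMap A K)) →
        EtRam.IsUnramifiedExt A ((algebraMap K ↥E).comp (algebraMap A K))) ∧
      (EtRam.IsTamelyRamified A ((algebraMap K L).comp (algebraMap A K)) →
        EtRam.IsTamelyRamified A ((algebraMap K ↥E).comp (algebraMap A K))) := ⟨_, rfl⟩
  have hsup : ∀ E₁, P E₁ → ∀ E₂, P E₂ → P (E₁ ⊔ E₂) := by
    rw [hPdef]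
    rintro E₁ ⟨hfd₁, hsep₁, hu₁, ht₁⟩ E₂ ⟨hfd₂, hsep₂, hu₂, ht₂⟩
    haveI := hfd₁
    haveI := hfd₂
    haveI := hsep₁
    haveI := hsep₂
    obtain ⟨hu, ht⟩ := two_gen A K E₁ E₂ ↥(E₁ ⊔ E₂)
      (IntermediateField.inclusion le_sup_left) (IntermediateField.inclusion le_sup_right)
      (sup_gen E₁ E₂)
    exact ⟨inferInstance, inferInstance, fun h => hu (hu₁ h) (hu₂ h),
      fun h => ht (ht₁ h) (ht₂ h)⟩
  have hbase : ∀ f : L →ₐ[K] AlgebraicClosure K, P f.fieldRange := by
    rw [hPdef]
    intro f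
    let ef : L ≃ₐ[K] f.fieldRange := AlgEquiv.ofInjectiveField f
    haveI : FiniteDimensional K f.fieldRange := LinearEquiv.finiteDimensional ef.toLinearEquiv
    haveI : Algebra.IsSeparable K f.fieldRange := AlgEquiv.Algebra.isSeparable ef
    obtain ⟨hu, ht⟩ := two_gen A K L L ↥f.fieldRange ef.toAlgHom ef.toAlgHom (fun z =>
      Subfield.subset_closure (Or.inl ⟨ef.symm z, ef.apply_symm_apply z⟩))
    exact ⟨inferInstance, inferInstance, fun h => hu h h, fun h => ht h h⟩
  haveI : Algebra.IsAlgebraic K L := Algebra.IsAlgebraic.of_finite K L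
  have hne : (Finset.univ : Finset (L →ₐ[K] AlgebraicClosure K)).Nonempty :=
    ⟨IsAlgClosed.lift, Finset.mem_univ _⟩
  have hP : P (IntermediateField.normalClosure K L (AlgebraicClosure K)) := by
    have h1 : IntermediateField.normalClosure K L (AlgebraicClosure K) =
        Finset.univ.sup' hne (fun f : L →ₐ[K] AlgebraicClosure K => f.fieldRange) := by
      rw [Finset.sup'_eq_sup, Finset.sup_univ_eq_iSup]
      rfl
    rw [h1]
    exact Finset.sup'_induction hne _ hsup (fun f _ => hbase f)
  rw [hPdef] at hP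
  obtain ⟨hfd, hsep, hu, ht⟩ := hP
  haveI := hsep
  exact ⟨↥(IntermediateField.normalClosure K L (AlgebraicClosure K)), inferInstance, inferInstance,
    hfd, ⟨⟩, (normalClosure.algHomEquiv K L (AlgebraicClosure K)).symm
      IsAlgClosed.lift, hu, ht⟩

end Wrap1

end Groth.Agent.H14.TameComp
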