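import Mathlib

set_option autoImplicit false
universe u

namespace Groth.Agent.H14

open KaehlerDifferential TensorProduct

section LemmaA

variable {k₀ P A : Type u} [CommRing k₀] [CommRing P] [CommRing A]
  [Algebra k₀ P] [Algebra P A] [Algebra k₀ A] [IsScalarTower k₀ P A]

omit [Algebra k₀ P] [Algebra k₀ A] in
theorem smul_cotangent_eq_zero (I : Ideal P) (x : P) (hx : x ∈ I) (n : I.Cotangent) :
    x • n = 0 := by
  obtain ⟨z, rfl⟩ := Ideal.toCotangent_surjective _ n
  rw [← map_smul, Ideal.toCotangent_eq_zero]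
  show x * z.1 ∈ I ^ 2
  rw [pow_two]
  exact Ideal.mul_mem_mul hx z.2

/-- Jacobian criterion, sufficiency: if the kernel of `P → A` is generated by `x₁, …, x_m` and there
are `m` linear forms on `Ω[P⁄k₀]` whose matrix against `dx_i` is invertible, then `A` is formally
smooth. -/
theorem formallySmooth_of_jacobian [Algebra.FormallySmooth k₀ P]
    (hsurj : Function.Surjective (algebraMap P A)) {m : ℕ} (x : Fin m → P)
    (hx : RingHom.ker (algebraMap P A) = Ideal.span (Set.range x))
    (ρ : Fin m → (Ω[P⁄k₀] →ₗ[P] P))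
    (hdet : IsUnit (Matrix.of fun i j => ρ j (D k₀ P (x i))).det) :
    Algebra.FormallySmooth k₀ A := by
  classical
  rw [Algebra.FormallySmooth.iff_split_injection hsurj]
  have hxI : ∀ i, x i ∈ RingHom.ker (algebraMap P A) := fun i => by
    rw [hx]; exact Ideal.subset_span ⟨i, rfl⟩
  let n : Fin m → (RingHom.ker (algebraMap P A)).Cotangent :=
    fun i => (RingHom.ker (algebraMap P A)).toCotangent ⟨x i, hxI i⟩
  obtain ⟨M, hMdef⟩ : ∃ M : Matrix (Fin m) (Fin m) P,
      M = Matrix.of fun i j => ρ j (D k₀ P (x i)) := ⟨_, rfl⟩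
  rw [← hMdef] at hdet
  have hMinv : M * M⁻¹ = 1 := Matrix.mul_nonsing_inv M hdet
  let Θ : Ω[P⁄k₀] →ₗ[P] (Fin m → P) := LinearMap.pi ρ
  let G : (Fin m → P) →ₗ[P] (RingHom.ker (algebraMap P A)).Cotangent :=
    Fintype.linearCombination P n
  let l₀ : Ω[P⁄k₀] →ₗ[P] (RingHom.ker (algebraMap P A)).Cotangent :=
    G ∘ₗ (Matrix.vecMulLinear M⁻¹) ∘ₗ Θ
  have hl₀x : ∀ i, l₀ (D k₀ P (x i)) = n i := by
    intro i
    have h1 : Θ (D k₀ P (x i)) = M i := by
      ext j; rw [hMdef]; rfl
    have h2 : Matrix.vecMul (M i) M⁻¹ = Pi.single i 1 := by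
      have : Matrix.vecMul (M i) M⁻¹ = (M * M⁻¹) i := by
        ext j; simp [Matrix.vecMul, Matrix.mul_apply, dotProduct]
      rw [this, hMinv]
      ext j
      simp [Matrix.one_apply, Pi.single_apply, eq_comm]
    show G (Matrix.vecMulLinear M⁻¹ (Θ (D k₀ P (x i)))) = n i
    rw [h1, Matrix.vecMulLinear_apply, h2]
    simp [G]
  -- the action of `A` through `P`
  let γ : P →ₗ[P] (Ω[P⁄k₀] →ₗ[P] (RingHom.ker (algebraMap P A)).Cotangent) :=
    LinearMap.toSpanSingleton P _ l₀
  have hγ : LinearMap.ker (Algebra.linearMap P A) ≤ LinearMap.ker γ := by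
    intro a ha
    rw [LinearMap.mem_ker] at ha ⊢
    apply LinearMap.ext
    intro ω
    show (a • l₀) ω = 0
    rw [LinearMap.smul_apply]
    exact smul_cotangent_eq_zero _ a ((RingHom.mem_ker (f := algebraMap P A)).mpr ha) _
  let β : A →ₗ[P] (Ω[P⁄k₀] →ₗ[P] (RingHom.ker (algebraMap P A)).Cotangent) :=
    (Submodule.liftQ _ γ hγ) ∘ₗ
      (LinearMap.quotKerEquivOfSurjective (Algebra.linearMap P A) hsurj).symm.toLinearMap
  have hβ : ∀ a : P, β (algebraMap P A a) = a • l₀ := by
    intro a
    have : (LinearMap.quotKerEquivOfSurjective (Algebra.linearMap P A) hsurj).symm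
        (algebraMap P A a) = Submodule.Quotient.mk a := by
      rw [LinearEquiv.symm_apply_eq]
      rfl
    show Submodule.liftQ _ γ hγ
      ((LinearMap.quotKerEquivOfSurjective (Algebra.linearMap P A) hsurj).symm
        (algebraMap P A a)) = _
    rw [this, Submodule.liftQ_apply]
    rfl
  refine ⟨TensorProduct.lift β, ?_⟩
  apply LinearMap.ext
  intro t
  obtain ⟨y, rfl⟩ := Ideal.toCotangent_surjective _ t
  rw [LinearMap.comp_apply, kerCotangentToTensor_toCotangent, TensorProduct.lift.tmul,
    LinearMap.id_apply]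
  have h1 : β 1 = l₀ := by
    have := hβ 1
    rwa [map_one, one_smul] at this
  rw [h1]
  obtain ⟨c, hc⟩ := (Ideal.mem_span_range_iff_exists_fun (R := P)).mp
    (show y.1 ∈ Ideal.span (Set.range x) by rw [← hx]; exact y.2)
  have hy : y = ∑ i, c i • (⟨x i, hxI i⟩ : RingHom.ker (algebraMap P A)) := by
    apply Subtype.ext
    rw [← hc, Submodule.coe_sum]
    simp [smul_eq_mul]
  have hD : D k₀ P y.1 = ∑ i, (c i • D k₀ P (x i) + x i • D k₀ P (c i)) := by
    rw [← hc, map_sum]
    refine Finset.sum_congr rfl fun i _ => ?_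
    rw [Derivation.leibniz]
  rw [hD, map_sum]
  conv_rhs => rw [hy, map_sum]
  refine Finset.sum_congr rfl fun i _ => ?_
  rw [map_add, map_smul, map_smul, hl₀x, smul_cotangent_eq_zero _ (x i) (hxI i), add_zero, map_smul]

end LemmaA


section LemmaB

variable {k₀ P A : Type u} [CommRing k₀] [CommRing P] [CommRing A]
  [Algebra k₀ P] [Algebra P A] [Algebra k₀ A] [IsScalarTower k₀ P A]

/-- Jacobian criterion, necessity (local form): if `P` is a noetherian local ring, formally smooth
over `k₀`, and `A = P/I` is formally smooth over `k₀`, then `I` is generated by `x₁, …, x_m`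
such that there are linear forms `ρ_j` on `Ω[P⁄k₀]` with `ρ_j (d x_i) ≡ δ_ij` modulo the maximal
ideal. -/
theorem exists_jacobian_of_formallySmooth [IsLocalRing P] [IsNoetherianRing P] [Nontrivial A]
    [Algebra.FormallySmooth k₀ P] [Algebra.FormallySmooth k₀ A]
    (hsurj : Function.Surjective (algebraMap P A)) :
    ∃ (m : ℕ) (x : Fin m → P) (ρ : Fin m → (Ω[P⁄k₀] →ₗ[P] P)),
      RingHom.ker (algebraMap P A) = Ideal.span (Set.range x) ∧
      ∀ i j, IsLocalRing.residue P (ρ j (D k₀ P (x i))) = if i = j then 1 else 0 := by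
  classical
  obtain ⟨l, hl⟩ := (Algebra.FormallySmooth.iff_split_injection (R := k₀) hsurj).mp inferInstance
  obtain ⟨I, hI⟩ : ∃ I : Ideal P, I = RingHom.ker (algebraMap P A) := ⟨_, rfl⟩
  have hItop : I ≠ ⊤ := by rw [hI]; exact RingHom.ker_ne_top _
  have hIfg : I.FG := (isNoetherianRing_iff_ideal_fg P).mp inferInstance I
  haveI : Module.Finite P I := Module.Finite.iff_fg.mpr hIfg
  haveI : Module.Finite P I.Cotangent :=
    Module.Finite.of_surjective I.toCotangent (Ideal.toCotangent_surjective I)
  let b := Module.finBasis (IsLocalRing.ResidueField P)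
    (IsLocalRing.ResidueField P ⊗[P] I.Cotangent)
  have hmk : Function.Surjective (TensorProduct.mk P (IsLocalRing.ResidueField P) I.Cotangent 1) :=
    TensorProduct.mk_surjective P I.Cotangent (IsLocalRing.ResidueField P)
      Ideal.Quotient.mk_surjective
  obtain ⟨v, hv⟩ := hmk.comp_left b
  have hspan : Submodule.span P (Set.range v) = ⊤ :=
    IsLocalRing.span_eq_top_of_tmul_eq_basis v b (fun i => congr_fun hv i)
  choose x' hx' using fun i => Ideal.toCotangent_surjective I (v i)
  refine ⟨_, fun i => (x' i).1, ?_⟩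
  -- generation
  have hgen : I = Ideal.span (Set.range fun i => (x' i).1) := by
    apply le_antisymm
    · refine Submodule.le_of_le_smul_of_le_jacobson_bot (I := I) hIfg ?_ ?_
      · rw [IsLocalRing.jacobson_eq_maximalIdeal ⊥ bot_ne_top]
        exact IsLocalRing.le_maximalIdeal hItop
      · intro y hy
        have hmem : I.toCotangent ⟨y, hy⟩ ∈ Submodule.span P (Set.range v) := by
          rw [hspan]; trivial
        obtain ⟨c, hc⟩ := (Submodule.mem_span_range_iff_exists_fun P).mp hmem
        have h1 : I.toCotangent ⟨y, hy⟩ = I.toCotangent (∑ i, c i • x' i) := by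
          rw [map_sum, ← hc]
          refine Finset.sum_congr rfl fun i _ => ?_
          rw [map_smul, hx']
        rw [Ideal.toCotangent_eq] at h1
        have h2 : y = (∑ i, c i * (x' i).1) + (y - ∑ i, c i * (x' i).1) := by ring
        rw [h2]
        refine Submodule.add_mem_sup ?_ ?_
        · refine Submodule.sum_mem _ fun i _ => ?_
          exact Ideal.mul_mem_left _ _ (Ideal.subset_span ⟨i, rfl⟩)
        · have h3 : ((∑ i, c i • x' i : I) : P) = ∑ i, c i * (x' i).1 := by
            rw [Submodule.coe_sum]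
            simp [smul_eq_mul]
          rw [h3] at h1
          rw [smul_eq_mul, ← pow_two]
          exact h1
    · rw [Ideal.span_le]
      rintro _ ⟨i, rfl⟩
      exact (x' i).2
  -- the linear forms
  have hψ : ∀ j, ∃ ψ : Ω[P⁄k₀] →ₗ[P] IsLocalRing.ResidueField P,
      ∀ i, ψ (D k₀ P (x' i).1) = if i = j then 1 else 0 := by
    intro j
    subst hI
    refine ⟨((b.coord j).restrictScalars P) ∘ₗ
      (TensorProduct.mk P (IsLocalRing.ResidueField P) _ 1) ∘ₗ l ∘ₗ
      (TensorProduct.mk P A (Ω[P⁄k₀]) 1), fun i => ?_⟩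
    have h1 : l ((1 : A) ⊗ₜ[P] D k₀ P (x' i).1) = v i := by
      have := LinearMap.congr_fun hl ((RingHom.ker (algebraMap P A)).toCotangent (x' i))
      rw [LinearMap.comp_apply, kerCotangentToTensor_toCotangent, LinearMap.id_apply, hx'] at this
      exact this
    have h2 : (1 : IsLocalRing.ResidueField P) ⊗ₜ[P] v i = b i := congr_fun hv i
    show b.coord j ((1 : IsLocalRing.ResidueField P) ⊗ₜ[P] l ((1 : A) ⊗ₜ[P] D k₀ P (x' i).1)) = _
    rw [h1, h2, Module.Basis.coord_apply, Module.Basis.repr_self, Finsupp.single_apply]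
  choose ψ hψ' using hψ
  have hρ : ∀ j, ∃ ρ : Ω[P⁄k₀] →ₗ[P] P,
      (Algebra.linearMap P (IsLocalRing.ResidueField P)) ∘ₗ ρ = ψ j := fun j =>
    Module.projective_lifting_property _ _ IsLocalRing.residue_surjective
  choose ρ hρ' using hρ
  refine ⟨ρ, ?_, fun i j => ?_⟩
  · rw [← hI]; exact hgen
  · rw [← hψ' j i, ← hρ' j]
    rfl

end LemmaB


section LemmaC

/-- Clearing denominators of a linear form on a projective module along finitely many vectors. -/
theorem exists_linearMap_of_projective {B P M : Type*} [CommRing B] [CommRing P] [Algebra B P]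
    (S : Submonoid B) [IsLocalization S P] [AddCommGroup M] [Module B M] [Module.Projective B M]
    (σ : M →ₗ[B] P) (ω : Finset M) :
    ∃ (s : S) (τ : M →ₗ[B] B), ∀ w ∈ ω, algebraMap B P (τ w) = algebraMap B P s * σ w := by
  classical
  obtain ⟨ι, hι⟩ := (Module.projective_def' (R := B) (P := M)).mp inferInstance
  let Λ : Finset M := ω.biUnion fun w => (ι w).support
  obtain ⟨s, hs⟩ := IsLocalization.exist_integer_multiples_of_finset S (Λ.image σ)
  have hg : ∀ e : M, ∃ b : B, e ∈ Λ → algebraMap B P b = algebraMap B P s * σ e := by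
    intro e
    by_cases he : e ∈ Λ
    · obtain ⟨b, hb⟩ := hs (σ e) (Finset.mem_image_of_mem σ he)
      exact ⟨b, fun _ => by rw [hb, Algebra.smul_def]⟩
    · exact ⟨0, fun h => absurd h he⟩
  choose g hg using hg
  refine ⟨s, Finsupp.linearCombination B g ∘ₗ ι, fun w hw => ?_⟩
  have hw1 : w = Finsupp.linearCombination B id (ι w) := (LinearMap.congr_fun hι w).symm
  have hσ : σ w = ∑ e ∈ (ι w).support, (ι w) e • σ e := by
    conv_lhs => rw [hw1]
    rw [Finsupp.linearCombination_apply, Finsupp.sum, map_sum]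
    refine Finset.sum_congr rfl fun e _ => ?_
    rw [map_smul]; rfl
  rw [LinearMap.comp_apply, Finsupp.linearCombination_apply, Finsupp.sum, map_sum, hσ,
    Finset.mul_sum]
  refine Finset.sum_congr rfl fun e he => ?_
  have heΛ : e ∈ Λ := Finset.mem_biUnion.mpr ⟨w, hw, he⟩
  rw [smul_eq_mul, map_mul, hg e heΛ, Algebra.smul_def]
  ring

variable {k₀ B P : Type u} [CommRing k₀] [CommRing B] [CommRing P] [Algebra k₀ B] [Algebra B P]
  [Algebra k₀ P] [IsScalarTower k₀ B P]

/-- Descent of the local Jacobian data on a localization `P = B_q` to global data on `B`. -/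
theorem exists_derivations_of_jacobian (q : Ideal B) [q.IsPrime] [IsLocalization.AtPrime P q]
    [IsLocalRing P] [Module.Projective B Ω[B⁄k₀]] (J : Ideal B) (hJq : J ≤ q) {m : ℕ}
    (x : Fin m → P) (ρ : Fin m → (Ω[P⁄k₀] →ₗ[P] P))
    (hx : J.map (algebraMap B P) = Ideal.span (Set.range x))
    (hρ : ∀ i j, IsLocalRing.residue P (ρ j (D k₀ P (x i))) = if i = j then 1 else 0) :
    ∃ (f : Fin m → B) (Dv : Fin m → Derivation k₀ B B), (∀ i, f i ∈ J) ∧
      J.map (algebraMap B P) = Ideal.span (Set.range fun i => algebraMap B P (f i)) ∧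
      Matrix.det (Matrix.of fun i j => Dv j (f i)) ∉ q := by
  classical
  have hxJ : ∀ i, x i ∈ J.map (algebraMap B P) := fun i => by
    rw [hx]; exact Ideal.subset_span ⟨i, rfl⟩
  have hxm : ∀ i, x i ∈ IsLocalRing.maximalIdeal P := fun i => by
    rw [← IsLocalization.AtPrime.map_eq_maximalIdeal q P]
    exact Ideal.map_mono hJq (hxJ i)
  have hfs : ∀ i, ∃ (f : B) (s : B), f ∈ J ∧ s ∉ q ∧
      x i * algebraMap B P s = algebraMap B P f := by
    intro i
    obtain ⟨⟨f, s⟩, h⟩ := (IsLocalization.mem_map_algebraMap_iff q.primeCompl P).mp (hxJ i)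
    exact ⟨f.1, s.1, f.2, s.2, h⟩
  choose f s hfJ hsq hfs using hfs
  have hsu : ∀ i, IsUnit (algebraMap B P (s i)) := fun i =>
    (IsLocalization.AtPrime.isUnit_to_map_iff P q (s i)).mpr (hsq i)
  -- span equality
  have hspan : Ideal.span (Set.range x) =
      Ideal.span (Set.range fun i => algebraMap B P (f i)) := by
    apply le_antisymm
    · rw [Ideal.span_le]
      rintro _ ⟨i, rfl⟩
      obtain ⟨u, hu⟩ := hsu i
      have : x i = algebraMap B P (f i) * ↑u⁻¹ := by
        rw [← hfs i, ← hu, mul_assoc, Units.mul_inv, mul_one]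
      rw [this]
      exact Ideal.mul_mem_right _ _ (Ideal.subset_span ⟨i, rfl⟩)
    · rw [Ideal.span_le]
      rintro _ ⟨i, rfl⟩
      show algebraMap B P (f i) ∈ _
      rw [← hfs i]
      exact Ideal.mul_mem_right _ _ (Ideal.subset_span ⟨i, rfl⟩)
  -- residues
  have hres : ∀ i j, IsLocalRing.residue P (ρ j (D k₀ P (algebraMap B P (f i)))) =
      if i = j then IsLocalRing.residue P (algebraMap B P (s i)) else 0 := by
    intro i j
    rw [← hfs i, Derivation.leibniz, map_add, map_smul, map_smul, smul_eq_mul, smul_eq_mul,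
      map_add, map_mul, map_mul, hρ i j,
      (IsLocalRing.residue_eq_zero_iff _).mpr (hxm i), zero_mul, zero_add]
    split_ifs <;> simp
  -- the matrix over P
  obtain ⟨M', hM'⟩ : ∃ M' : Matrix (Fin m) (Fin m) P,
      M' = Matrix.of fun i j => ρ j (D k₀ P (algebraMap B P (f i))) := ⟨_, rfl⟩
  have hM'det : IsUnit M'.det := by
    have h1 : (IsLocalRing.residue P) M'.det =
        ∏ i, IsLocalRing.residue P (algebraMap B P (s i)) := by
      rw [RingHom.map_det]
      have : (IsLocalRing.residue P).mapMatrix M' =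
          Matrix.diagonal fun i => IsLocalRing.residue P (algebraMap B P (s i)) := by
        ext i j
        rw [RingHom.mapMatrix_apply, Matrix.map_apply, hM', Matrix.of_apply, hres,
          Matrix.diagonal_apply]
      rw [this, Matrix.det_diagonal]
    have h2 : IsUnit ((IsLocalRing.residue P) M'.det) := by
      rw [h1]
      exact IsUnit.prod_univ_iff.mpr fun i => (hsu i).map _
    exact (isUnit_map_iff (IsLocalRing.residue P) _).mp h2
  -- descend
  have hτ : ∀ j, ∃ (t : q.primeCompl) (τ : Ω[B⁄k₀] →ₗ[B] B), ∀ i,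
      algebraMap B P (τ (D k₀ B (f i))) =
        algebraMap B P t * ρ j (D k₀ P (algebraMap B P (f i))) := by
    intro j
    obtain ⟨t, τ, h⟩ := exists_linearMap_of_projective (P := P) q.primeCompl
      (((ρ j).restrictScalars B) ∘ₗ (KaehlerDifferential.map k₀ k₀ B P))
      (Finset.univ.image fun i => D k₀ B (f i))
    refine ⟨t, τ, fun i => ?_⟩
    rw [h _ (Finset.mem_image_of_mem _ (Finset.mem_univ i)), LinearMap.comp_apply,
      KaehlerDifferential.map_D]
    rfl
  choose t τ hτ using hτ
  refine ⟨f, fun j => (τ j).compDer (D k₀ B), hfJ, hx.trans hspan, ?_⟩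
  rw [← Ideal.mem_primeCompl_iff, ← IsLocalization.AtPrime.isUnit_to_map_iff P q, RingHom.map_det]
  have : (algebraMap B P).mapMatrix (Matrix.of fun i j => ((τ j).compDer (D k₀ B)) (f i)) =
      Matrix.of fun i j => algebraMap B P (t j) * M' i j := by
    ext i j
    rw [RingHom.mapMatrix_apply, Matrix.map_apply, Matrix.of_apply, Matrix.of_apply, hM',
      Matrix.of_apply, ← hτ]
    rfl
  rw [this, Matrix.det_mul_row]
  refine IsUnit.mul ?_ hM'det
  exact IsUnit.prod_univ_iff.mpr fun j =>
    (IsLocalization.AtPrime.isUnit_to_map_iff P q (t j)).mpr (t j).2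

end LemmaC


section Main

/-- Zariski's Jacobian criterion for a localization of a quotient of a noetherian formally smooth
algebra. -/
theorem formallySmooth_localization_quotient_iff {k₀ B : Type u} [CommRing k₀] [CommRing B]
    [Algebra k₀ B] [Algebra.FormallySmooth k₀ B] [IsNoetherianRing B]
    (J q : Ideal B) [q.IsPrime] (hJq : J ≤ q) [(q.map (Ideal.Quotient.mk J)).IsPrime] :
    Algebra.FormallySmooth k₀ (Localization.AtPrime (q.map (Ideal.Quotient.mk J))) ↔
      ∃ (m : ℕ) (f : Fin m → B) (Dv : Fin m → Derivation k₀ B B),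
        (∀ i, f i ∈ J) ∧
        J.map (algebraMap B (Localization.AtPrime q)) =
          Ideal.span (Set.range fun i => algebraMap B (Localization.AtPrime q) (f i)) ∧
        Matrix.det (Matrix.of fun i j => Dv j (f i)) ∉ q := by
  classical
  have hcomap : q = (q.map (Ideal.Quotient.mk J)).comap (Ideal.Quotient.mk J) :=
    (Ideal.comap_map_mk hJq).symm
  obtain ⟨φ', hφ'⟩ : ∃ φ' : Localization.AtPrime q →+*
      Localization.AtPrime (q.map (Ideal.Quotient.mk J)),
      φ' = Localization.localRingHom q _ (Ideal.Quotient.mk J) hcomap := ⟨_, rfl⟩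
  have hφ'map : ∀ b : B, φ' (algebraMap B _ b) =
      algebraMap (B ⧸ J) _ (Ideal.Quotient.mk J b) := fun b => by
    rw [hφ']; exact Localization.localRingHom_to_map _ _ _ _ _
  have hφ'surj : Function.Surjective φ' := by
    intro y
    obtain ⟨c, t, rfl⟩ := IsLocalization.exists_mk'_eq (q.map (Ideal.Quotient.mk J)).primeCompl y
    obtain ⟨b, rfl⟩ := Ideal.Quotient.mk_surjective c
    obtain ⟨s, hs⟩ := Ideal.Quotient.mk_surjective t.1
    have hsq : s ∈ q.primeCompl := by
      intro hsq
      apply t.2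
      rw [← hs]
      exact Ideal.mem_map_of_mem _ hsq
    refine ⟨IsLocalization.mk' _ b ⟨s, hsq⟩, ?_⟩
    rw [hφ', Localization.localRingHom_mk']
    congr 1
    exact Subtype.ext hs
  have hφ'ker : RingHom.ker φ' = J.map (algebraMap B (Localization.AtPrime q)) := by
    rw [hφ']
    have hT : Submonoid.map (Ideal.Quotient.mk J) q.primeCompl =
        (q.map (Ideal.Quotient.mk J)).primeCompl := by
      ext y
      constructor
      · rintro ⟨b, hb, rfl⟩
        intro h
        apply hb
        have : b ∈ (q.map (Ideal.Quotient.mk J)).comap (Ideal.Quotient.mk J) := h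
        rwa [← hcomap] at this
      · intro hy
        obtain ⟨b, rfl⟩ := Ideal.Quotient.mk_surjective y
        exact ⟨b, fun hb => hy (Ideal.mem_map_of_mem _ hb), rfl⟩
    have := IsLocalization.ker_map (S := Localization.AtPrime q)
      (Localization.AtPrime (q.map (Ideal.Quotient.mk J))) (Ideal.Quotient.mk J) hT
    rw [Ideal.mk_ker] at this
    exact this
  letI : Algebra (Localization.AtPrime q) (Localization.AtPrime (q.map (Ideal.Quotient.mk J))) :=
    φ'.toAlgebra
  haveI : IsScalarTower k₀ (Localization.AtPrime q)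
      (Localization.AtPrime (q.map (Ideal.Quotient.mk J))) := by
    refine IsScalarTower.of_algebraMap_eq fun c => ?_
    show _ = φ' _
    rw [IsScalarTower.algebraMap_apply k₀ B (Localization.AtPrime q), hφ'map,
      IsScalarTower.algebraMap_apply k₀ (B ⧸ J) (Localization.AtPrime _)]
    rfl
  have hsurj : Function.Surjective (algebraMap (Localization.AtPrime q)
      (Localization.AtPrime (q.map (Ideal.Quotient.mk J)))) := hφ'surj
  have hker : RingHom.ker (algebraMap (Localization.AtPrime q)
      (Localization.AtPrime (q.map (Ideal.Quotient.mk J)))) =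
      J.map (algebraMap B (Localization.AtPrime q)) := hφ'ker
  haveI : IsNoetherianRing (Localization.AtPrime q) :=
    IsLocalization.isNoetherianRing q.primeCompl _ inferInstance
  haveI : Algebra.FormallyEtale B (Localization.AtPrime q) :=
    Algebra.FormallyEtale.of_isLocalization q.primeCompl
  constructor
  · intro hsm
    obtain ⟨m, x, ρ, hx, hρ⟩ := exists_jacobian_of_formallySmooth (k₀ := k₀) hsurj
    rw [hker] at hx
    exact ⟨m, exists_derivations_of_jacobian q J hJq x ρ hx hρ⟩
  · rintro ⟨m, f, Dv, hfJ, hspan, hdet⟩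
    have hbc := KaehlerDifferential.isBaseChange_of_formallyEtale k₀ B (Localization.AtPrime q)
    let δ : Fin m → (Ω[B⁄k₀] →ₗ[B] Localization.AtPrime q) := fun j =>
      (Algebra.linearMap B (Localization.AtPrime q)) ∘ₗ (Dv j).liftKaehlerDifferential
    let ρ : Fin m → (Ω[Localization.AtPrime q⁄k₀] →ₗ[Localization.AtPrime q]
        Localization.AtPrime q) := fun j => hbc.lift (δ j)
    have hρ : ∀ j b, ρ j (D k₀ _ (algebraMap B _ b)) = algebraMap B _ (Dv j b) := by
      intro j b
      rw [← KaehlerDifferential.map_D k₀ k₀ B (Localization.AtPrime q)]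
      show hbc.lift (δ j) _ = _
      rw [hbc.lift_eq]
      show algebraMap B _ ((Dv j).liftKaehlerDifferential (D k₀ B b)) = _
      rw [Derivation.liftKaehlerDifferential_comp_D]
    refine formallySmooth_of_jacobian (k₀ := k₀) hsurj (fun i => algebraMap B _ (f i))
      (hker.trans hspan) ρ ?_
    have : (Matrix.of fun i j => ρ j (D k₀ _ (algebraMap B (Localization.AtPrime q) (f i)))) =
        (algebraMap B (Localization.AtPrime q)).mapMatrix (Matrix.of fun i j => Dv j (f i)) := by
      ext i j
      rw [Matrix.of_apply, hρ]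
      rfl
    rw [this, ← RingHom.map_det]
    exact (IsLocalization.AtPrime.isUnit_to_map_iff _ q _).mpr hdet

end Main

end Groth.Agent.H14
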