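import Groth.Agent.H14.ZarJac

set_option autoImplicit false
universe u

namespace Groth.Agent.H14

open KaehlerDifferential TensorProduct

section Criterion

variable {k₀ P A : Type u} [CommRing k₀] [CommRing P] [CommRing A]
  [Algebra k₀ P] [Algebra P A] [Algebra k₀ A] [IsScalarTower k₀ P A]

/-- If `P` is formally smooth, `P → A` is surjective with kernel `I`, and there is a `P`-linear map
`l₀ : Ω[P⁄k₀] → I/I²` with `l₀ (d y) = [y]` for `y ∈ I`, then `A` is formally smooth. -/
theorem formallySmooth_of_retraction_D [Algebra.FormallySmooth k₀ P]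
    (hsurj : Function.Surjective (algebraMap P A))
    (l₀ : Ω[P⁄k₀] →ₗ[P] (RingHom.ker (algebraMap P A)).Cotangent)
    (hl₀ : ∀ y : RingHom.ker (algebraMap P A),
      l₀ (D k₀ P y.1) = (RingHom.ker (algebraMap P A)).toCotangent y) :
    Algebra.FormallySmooth k₀ A := by
  rw [Algebra.FormallySmooth.iff_split_injection hsurj]
  let γ : P →ₗ[P] (Ω[P⁄k₀] →ₗ[P] (RingHom.ker (algebraMap P A)).Cotangent) :=
    LinearMap.toSpanSingleton P _ l₀
  have hγ : LinearMap.ker (Algebra.linearMap P A) ≤ LinearMap.ker γ := by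
    intro a ha
    rw [LinearMap.mem_ker] at ha ⊢
    apply LinearMap.ext
    intro ω
    show (a • l₀) ω = 0
    rw [LinearMap.smul_apply]
    exact smul_cotangent_eq_zero _ a ((RingHom.mem_ker (f := algebraMap P A)).mpr ha) _
  let β : A →ₗ[P] (Ω[P⁄k₀] →ₗ[P] (RingHom.ker (algebraMap P A)).Cotangent) :=
    (Submodule.liftQ _ γ hγ) ∘ₗ
      (LinearMap.quotKerEquivOfSurjective (Algebra.linearMap P A) hsurj).symm.toLinearMap
  have hβ : ∀ a : P, β (algebraMap P A a) = a • l₀ := by
    intro a
    have : (LinearMap.quotKerEquivOfSurjective (Algebra.linearMap P A) hsurj).symm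
        (algebraMap P A a) = Submodule.Quotient.mk a := by
      rw [LinearEquiv.symm_apply_eq]
      rfl
    show Submodule.liftQ _ γ hγ
      ((LinearMap.quotKerEquivOfSurjective (Algebra.linearMap P A) hsurj).symm
        (algebraMap P A a)) = _
    rw [this, Submodule.liftQ_apply]
    rfl
  refine ⟨TensorProduct.lift β, ?_⟩
  apply LinearMap.ext
  intro t
  obtain ⟨y, rfl⟩ := Ideal.toCotangent_surjective _ t
  rw [LinearMap.comp_apply, kerCotangentToTensor_toCotangent, TensorProduct.lift.tmul,
    LinearMap.id_apply]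
  have h1 : β 1 = l₀ := by
    have := hβ 1
    rwa [map_one, one_smul] at this
  rw [h1, hl₀]

theorem exists_retraction_D_of_formallySmooth [Algebra.FormallySmooth k₀ P]
    [Algebra.FormallySmooth k₀ A] (hsurj : Function.Surjective (algebraMap P A)) :
    ∃ l₀ : Ω[P⁄k₀] →ₗ[P] (RingHom.ker (algebraMap P A)).Cotangent,
      ∀ y : RingHom.ker (algebraMap P A),
        l₀ (D k₀ P y.1) = (RingHom.ker (algebraMap P A)).toCotangent y := by
  obtain ⟨l, hl⟩ := (Algebra.FormallySmooth.iff_split_injection (R := k₀) hsurj).mp inferInstance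
  refine ⟨l ∘ₗ (TensorProduct.mk P A (Ω[P⁄k₀]) 1), fun y => ?_⟩
  have := LinearMap.congr_fun hl ((RingHom.ker (algebraMap P A)).toCotangent y)
  rw [LinearMap.comp_apply, kerCotangentToTensor_toCotangent, LinearMap.id_apply] at this
  exact this

omit [Algebra P A] [Algebra k₀ A] [IsScalarTower k₀ P A] in
/-- It suffices to check `L₀ (d j) = s • [j]` on elements whose classes span the cotangent module. -/
theorem retraction_D_of_generators (I : Ideal P) (L₀ : Ω[P⁄k₀] →ₗ[P] I.Cotangent) (s : P)
    (G : Set I) (hG : Submodule.span P (I.toCotangent '' G) = ⊤)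
    (h : ∀ j ∈ G, L₀ (D k₀ P (j : I).1) = s • I.toCotangent j) :
    ∀ j : I, L₀ (D k₀ P j.1) = s • I.toCotangent j := by
  have hsq : ∀ z ∈ I ^ 2, L₀ (D k₀ P z) = 0 := by
    intro z hz
    rw [pow_two] at hz
    refine Submodule.mul_induction_on hz ?_ ?_
    · intro x hx y hy
      rw [Derivation.leibniz, map_add, map_smul, map_smul, smul_cotangent_eq_zero I x hx,
        smul_cotangent_eq_zero I y hy, add_zero]
    · intro x y hx hy
      rw [map_add, map_add, hx, hy, add_zero]
  have key : ∀ t ∈ Submodule.span P (I.toCotangent '' G), ∀ j : I, I.toCotangent j = t →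
      L₀ (D k₀ P j.1) = s • t := by
    intro t ht
    induction ht using Submodule.span_induction with
    | mem t ht =>
      obtain ⟨g, hg, rfl⟩ := ht
      intro j hj
      have h1 : (j.1 - g.1) ∈ I ^ 2 := (Ideal.toCotangent_eq I).mp hj
      have h2 : D k₀ P j.1 = D k₀ P g.1 + D k₀ P (j.1 - g.1) := by
        rw [← map_add]; congr 1; ring
      rw [h2, map_add, hsq _ h1, add_zero, h g hg]
    | zero =>
      intro j hj
      rw [smul_zero]
      exact hsq _ ((Ideal.toCotangent_eq_zero _ _).mp hj)
    | add t₁ t₂ _ _ ih₁ ih₂ =>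
      intro j hj
      obtain ⟨j₁, rfl⟩ := Ideal.toCotangent_surjective _ t₁
      obtain ⟨j₂, rfl⟩ := Ideal.toCotangent_surjective _ t₂
      have h1 : (j.1 - (j₁ + j₂ : I).1) ∈ I ^ 2 :=
        (Ideal.toCotangent_eq I).mp (by rw [hj, map_add])
      have h2 : D k₀ P j.1 = D k₀ P j₁.1 + D k₀ P j₂.1 + D k₀ P (j.1 - (j₁ + j₂ : I).1) := by
        rw [← map_add, ← map_add]; congr 1
        show j.1 = j₁.1 + j₂.1 + (j.1 - (j₁.1 + j₂.1))
        ring
      rw [h2, map_add, map_add, hsq _ h1, add_zero, ih₁ j₁ rfl, ih₂ j₂ rfl, smul_add]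
    | smul a t _ ih =>
      intro j hj
      obtain ⟨j₁, rfl⟩ := Ideal.toCotangent_surjective _ t
      have h1 : (j.1 - (a • j₁ : I).1) ∈ I ^ 2 :=
        (Ideal.toCotangent_eq I).mp (by rw [hj, map_smul])
      have h2 : D k₀ P j.1 = D k₀ P (a * j₁.1) + D k₀ P (j.1 - (a • j₁ : I).1) := by
        rw [← map_add]; congr 1
        show j.1 = a * j₁.1 + (j.1 - a * j₁.1)
        ring
      rw [h2, map_add, hsq _ h1, add_zero, Derivation.leibniz, map_add, map_smul, map_smul,
        ih j₁ rfl, smul_cotangent_eq_zero I j₁.1 j₁.2, add_zero, smul_comm]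
  intro j
  exact key _ (by rw [hG]; trivial) j rfl

end Criterion

section LocCotangent

variable {B P : Type u} [CommRing B] [CommRing P] [Algebra B P] (S : Submonoid B)
  [IsLocalization S P] (J : Ideal B) (I' : Ideal P)

/-- The canonical map `J/J² → I'/I'²` for `I' = J P`. -/
noncomputable def canCot (hI' : I' = J.map (algebraMap B P)) : J.Cotangent →ₗ[B] I'.Cotangent :=
  Ideal.mapCotangent J I' (Algebra.ofId B P) (by rw [hI']; exact Ideal.le_comap_map)

theorem canCot_toCotangent (hI' : I' = J.map (algebraMap B P)) (j : J) :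
    canCot J I' hI' (J.toCotangent j) =
      I'.toCotangent ⟨algebraMap B P j.1, by rw [hI']; exact Ideal.mem_map_of_mem _ j.2⟩ := rfl

theorem isLocalizedModule_canCot (hI' : I' = J.map (algebraMap B P)) :
    IsLocalizedModule S (canCot J I' hI') where
  map_units := (isLocalizedModule_id S I'.Cotangent P).map_units
  surj := by
    intro y
    obtain ⟨y, rfl⟩ := Ideal.toCotangent_surjective _ y
    have hy : y.1 ∈ J.map (algebraMap B P) := hI' ▸ y.2
    obtain ⟨⟨j, s⟩, h⟩ := (IsLocalization.mem_map_algebraMap_iff S P).mp hy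
    refine ⟨(J.toCotangent j, s), ?_⟩
    rw [canCot_toCotangent]
    show (s : B) • I'.toCotangent y = _
    rw [← algebraMap_smul P (s : B) (I'.toCotangent y), ← map_smul]
    congr 1
    apply Subtype.ext
    show algebraMap B P s * y.1 = algebraMap B P j.1
    rw [mul_comm]; exact h
  exists_of_eq := by
    intro x₁ x₂ h
    obtain ⟨j₁, rfl⟩ := Ideal.toCotangent_surjective _ x₁
    obtain ⟨j₂, rfl⟩ := Ideal.toCotangent_surjective _ x₂
    rw [canCot_toCotangent, canCot_toCotangent, Ideal.toCotangent_eq] at h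
    have h2 : algebraMap B P (j₁.1 - j₂.1) ∈ (J ^ 2).map (algebraMap B P) := by
      rw [Ideal.map_pow, ← hI', map_sub]; exact h
    obtain ⟨⟨z, s⟩, hz⟩ := (IsLocalization.mem_map_algebraMap_iff S P).mp h2
    rw [← map_mul] at hz
    obtain ⟨c, hc⟩ := (IsLocalization.eq_iff_exists S P).mp hz
    refine ⟨c * s, ?_⟩
    rw [← sub_eq_zero, ← smul_sub, ← map_sub]
    show ((c * s : S) : B) • J.toCotangent (j₁ - j₂) = 0
    rw [← map_smul, Ideal.toCotangent_eq_zero]
    show ((c * s : S) : B) * (j₁.1 - j₂.1) ∈ J ^ 2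
    have : ((c * s : S) : B) * (j₁.1 - j₂.1) = c * z.1 := by
      rw [← hc, Submonoid.coe_mul]; ring
    rw [this]
    exact Ideal.mul_mem_left _ _ z.2

/-- Clearing denominators of a linear map from a projective module into a localized module along
finitely many vectors. -/
theorem exists_linearMap_of_projective' {B M M' N : Type*} [CommRing B] (S : Submonoid B)
    [AddCommGroup M] [Module B M] [AddCommGroup M'] [Module B M'] (f : M →ₗ[B] M')
    [IsLocalizedModule S f] [AddCommGroup N] [Module B N] [Module.Projective B N]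
    (σ : N →ₗ[B] M') (ω : Finset N) :
    ∃ (s : S) (τ : N →ₗ[B] M), ∀ w ∈ ω, f (τ w) = (s : B) • σ w := by
  classical
  obtain ⟨ι, hι⟩ := (Module.projective_def' (R := B) (P := N)).mp inferInstance
  let Λ : Finset N := ω.biUnion fun w => (ι w).support
  obtain ⟨s, hs⟩ := IsLocalizedModule.exist_integer_multiples_of_finset S f (Λ.image σ)
  have hg : ∀ e : N, ∃ b : M, e ∈ Λ → f b = (s : B) • σ e := by
    intro e
    by_cases he : e ∈ Λ
    · obtain ⟨b, hb⟩ := hs (σ e) (Finset.mem_image_of_mem σ he)
      exact ⟨b, fun _ => hb⟩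
    · exact ⟨0, fun h => absurd h he⟩
  choose g hg using hg
  refine ⟨s, Finsupp.linearCombination B g ∘ₗ ι, fun w hw => ?_⟩
  have hw1 : w = Finsupp.linearCombination B id (ι w) := (LinearMap.congr_fun hι w).symm
  have hσ : σ w = ∑ e ∈ (ι w).support, (ι w) e • σ e := by
    conv_lhs => rw [hw1]
    rw [Finsupp.linearCombination_apply, Finsupp.sum, map_sum]
    refine Finset.sum_congr rfl fun e _ => ?_
    rw [map_smul]; rfl
  rw [LinearMap.comp_apply, Finsupp.linearCombination_apply, Finsupp.sum, map_sum, hσ,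
    Finset.smul_sum]
  refine Finset.sum_congr rfl fun e he => ?_
  have heΛ : e ∈ Λ := Finset.mem_biUnion.mpr ⟨w, hw, he⟩
  rw [map_smul, hg e heΛ, smul_comm]

end LocCotangent

section Loc

/-- `g ∈ B` is *good* if there is a linear map `L₀ : Ω[B⁄A] → J/J²` (with `J = ker (B → C)`) such
that `L₀ (d j) = g • [j]` for all `j ∈ J`. -/
def Good (A : Type u) {B : Type u} (C : Type u) [CommRing A] [CommRing B] [CommRing C]
    [Algebra A B] [Algebra B C] (g : B) : Prop :=
  ∃ L₀ : Ω[B⁄A] →ₗ[B] (RingHom.ker (algebraMap B C)).Cotangent,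
    ∀ j : RingHom.ker (algebraMap B C),
      L₀ (D A B j.1) = g • (RingHom.ker (algebraMap B C)).toCotangent j

variable {A B C : Type u} [CommRing A] [CommRing B] [CommRing C] [Algebra A B] [Algebra B C]
  [Algebra A C] [IsScalarTower A B C]

theorem exists_good_of_formallySmooth_localization [Algebra.FormallySmooth A B]
    (hsurj : Function.Surjective (algebraMap B C))
    [Module.Finite B (RingHom.ker (algebraMap B C)).Cotangent]
    (T : Submonoid C) [Algebra.FormallySmooth A (Localization T)] :
    ∃ s : B, algebraMap B C s ∈ T ∧ Good A C s := by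
  classical
  obtain ⟨S, hS⟩ : ∃ S : Submonoid B, S = T.comap (algebraMap B C) := ⟨_, rfl⟩
  have hST : Submonoid.map (algebraMap B C) S = T := by
    rw [hS]; exact Submonoid.map_comap_eq_of_surjective hsurj T
  have hSle : S ≤ T.comap (algebraMap B C) := hS.le
  obtain ⟨φ', hφ'⟩ : ∃ φ' : Localization S →+* Localization T,
      φ' = IsLocalization.map (Localization T) (algebraMap B C) hSle := ⟨_, rfl⟩
  have hφ'map : ∀ b : B, φ' (algebraMap B _ b) = algebraMap C _ (algebraMap B C b) := fun b => by
    rw [hφ']; exact IsLocalization.map_eq _ _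
  have hφ'surj : Function.Surjective φ' := by
    intro y
    obtain ⟨c, t, rfl⟩ := IsLocalization.exists_mk'_eq T y
    obtain ⟨b, rfl⟩ := hsurj c
    obtain ⟨s, hs⟩ := hsurj t.1
    have hsS : s ∈ S := by rw [hS]; show algebraMap B C s ∈ T; rw [hs]; exact t.2
    refine ⟨IsLocalization.mk' _ b ⟨s, hsS⟩, ?_⟩
    rw [hφ', IsLocalization.map_mk']
    congr 1
    exact Subtype.ext hs
  have hφ'ker : RingHom.ker φ' =
      (RingHom.ker (algebraMap B C)).map (algebraMap B (Localization S)) := by
    rw [hφ']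
    exact IsLocalization.ker_map (S := Localization S) (Localization T) (algebraMap B C) hST
  letI : Algebra (Localization S) (Localization T) := φ'.toAlgebra
  haveI : IsScalarTower A (Localization S) (Localization T) := by
    refine IsScalarTower.of_algebraMap_eq fun c => ?_
    show _ = φ' _
    rw [IsScalarTower.algebraMap_apply A B (Localization S), hφ'map,
      IsScalarTower.algebraMap_apply A C (Localization T), IsScalarTower.algebraMap_apply A B C]
  have hsurj' : Function.Surjective (algebraMap (Localization S) (Localization T)) := hφ'surj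
  have hker : RingHom.ker (algebraMap (Localization S) (Localization T)) =
      (RingHom.ker (algebraMap B C)).map (algebraMap B (Localization S)) := hφ'ker
  obtain ⟨l₀', hl₀'⟩ := exists_retraction_D_of_formallySmooth (k₀ := A) hsurj'
  haveI := isLocalizedModule_canCot S (RingHom.ker (algebraMap B C)) _ hker
  obtain ⟨gens, hgens⟩ :=
    (Module.Finite.fg_top : (⊤ : Submodule B (RingHom.ker (algebraMap B C)).Cotangent).FG)
  choose lift hlift using fun m =>
    Ideal.toCotangent_surjective (RingHom.ker (algebraMap B C)) m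
  let σ : Ω[B⁄A] →ₗ[B] (RingHom.ker (algebraMap (Localization S) (Localization T))).Cotangent :=
    (l₀'.restrictScalars B) ∘ₗ (KaehlerDifferential.map A A B (Localization S))
  obtain ⟨s₁, τ, hτ⟩ := exists_linearMap_of_projective' S (canCot _ _ hker) σ
    (gens.image fun m => D A B (lift m).1)
  have h1 : ∀ m ∈ gens, canCot _ _ hker (τ (D A B (lift m).1)) =
      canCot _ _ hker ((s₁ : B) • m) := by
    intro m hm
    rw [hτ _ (Finset.mem_image_of_mem _ hm), map_smul]
    congr 1
    show l₀' (KaehlerDifferential.map A A B (Localization S) (D A B (lift m).1)) = _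
    rw [KaehlerDifferential.map_D]
    conv_rhs => rw [← hlift m, canCot_toCotangent]
    exact hl₀' ⟨algebraMap B _ (lift m).1, _⟩
  have h2 : ∀ m : (RingHom.ker (algebraMap B C)).Cotangent, ∃ c : S, m ∈ gens →
      (c : B) • τ (D A B (lift m).1) = (c : B) • (s₁ : B) • m := by
    intro m
    by_cases hm : m ∈ gens
    · obtain ⟨c, hc⟩ := IsLocalizedModule.exists_of_eq (S := S) (h1 m hm)
      exact ⟨c, fun _ => hc⟩
    · exact ⟨1, fun h => absurd h hm⟩
  choose c hc using h2
  obtain ⟨s₂, hs₂⟩ : ∃ s₂ : S, s₂ = ∏ m ∈ gens, c m := ⟨_, rfl⟩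
  refine ⟨(s₂ : B) * (s₁ : B), ?_, (s₂ : B) • τ, ?_⟩
  · exact hSle (s₂ * s₁).2
  · refine retraction_D_of_generators _ _ _ ((fun m => lift m) '' (gens : Set _)) ?_ ?_
    · rw [Set.image_image]
      simp only [hlift, Set.image_id']
      exact hgens
    · rintro _ ⟨m, hm, rfl⟩
      rw [LinearMap.smul_apply, hlift, mul_smul]
      obtain ⟨r, hr⟩ : ∃ r : B, (s₂ : B) = r * (c m : B) := by
        refine ⟨∏ m' ∈ gens.erase m, (c m' : B), ?_⟩
        rw [hs₂, Submonoid.coe_finsetProd, ← Finset.mul_prod_erase gens _ hm, mul_comm]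
      rw [hr, mul_smul, hc m hm, ← mul_smul, ← mul_smul]

end Loc

end Groth.Agent.H14
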